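import Cfsg.Agent.Lib.Coprime
import Cfsg.Agent.Lib.CoprimeAbelian
import Cfsg.Agent.Lib.PSolvable
import Cfsg.Agent.Lib.Isolated.Core
import Cfsg.Agent.Lib.PowerGraph

/-!
# Groups whose Sylow subgroups are cyclic, or cyclic up to index two for the prime two
-/

set_option autoImplicit false
set_option linter.style.haveILetI false
set_option linter.unusedSectionVars false

namespace CfsgLib.AlmostCyclic

open Subgroup Cfsg

universe u

variable {G : Type u} [Group G] [Finite G]

/-- The group has an element generating a subgroup of index at most two. -/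
def Half (Q : Type*) [Group Q] : Prop := ∃ g : Q, Nat.card Q ≤ 2 * orderOf g

theorem half_of_cyclic_index {Q : Type*} [Group Q] [Finite Q]
    (h : ∃ C : Subgroup Q, IsCyclic C ∧ C.index ∣ 2) : Half Q := by
  obtain ⟨C, hC, hi⟩ := h
  obtain ⟨g, hg⟩ := hC.exists_generator
  refine ⟨g, ?_⟩
  have h1 := C.card_mul_index
  have h2 := Nat.le_of_dvd two_pos hi
  rw [Subgroup.orderOf_coe, orderOf_eq_card_of_forall_mem_zpowers hg]
  calc Nat.card Q = Nat.card C * C.index := h1.symm
    _ ≤ Nat.card C * 2 := Nat.mul_le_mul_left _ h2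
    _ = 2 * Nat.card C := mul_comm _ _

theorem cyclic_index_of_half {Q : Type*} [Group Q] [Finite Q] (h : Half Q) :
    ∃ C : Subgroup Q, IsCyclic C ∧ C.index ∣ 2 := by
  obtain ⟨g, hg⟩ := h
  refine ⟨Subgroup.zpowers g, inferInstance, ?_⟩
  have h1 := (Subgroup.zpowers g).card_mul_index
  rw [Nat.card_zpowers] at h1
  have h0 : 0 < orderOf g := orderOf_pos g
  have h2 : (Subgroup.zpowers g).index ≤ 2 := by
    by_contra hc
    have := Nat.mul_le_mul_left (orderOf g) (show 3 ≤ (Subgroup.zpowers g).index by omega)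
    omega
  have h3 : (Subgroup.zpowers g).index ≠ 0 := Subgroup.index_ne_zero_of_finite
  interval_cases hh : (Subgroup.zpowers g).index <;> simp_all

theorem Half.of_injective {A B : Type*} [Group A] [Group B] [Finite A] [Finite B] (f : A →* B)
    (hf : Function.Injective f) (h : Half B) : Half A := by
  obtain ⟨C, hC, hi⟩ := cyclic_index_of_half h
  refine half_of_cyclic_index ⟨C.comap f, ?_, ?_⟩
  · refine isCyclic_of_injective ((f.comp (C.comap f).subtype).codRestrict C fun x => x.2) ?_
    intro x y hxy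
    exact Subtype.ext (hf (congrArg Subtype.val hxy))
  · rw [Subgroup.index_comap]
    rcases (Nat.dvd_prime Nat.prime_two).mp hi with h1 | h2
    · rw [Subgroup.index_eq_one.mp h1, Subgroup.relIndex_top_left]; exact one_dvd _
    · haveI := Subgroup.normal_of_index_eq_two h2
      exact (Subgroup.relIndex_dvd_index_of_normal C _).trans hi

theorem Half.of_surjective {A B : Type*} [Group A] [Group B] [Finite A] [Finite B] (f : A →* B)
    (hf : Function.Surjective f) (h : Half A) : Half B := by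
  obtain ⟨C, hC, hi⟩ := cyclic_index_of_half h
  refine half_of_cyclic_index ⟨C.map f, ?_, (C.index_map_dvd hf).trans hi⟩
  exact isCyclic_of_surjective (f.subgroupMap C) (f.subgroupMap_surjective C)

/-- Cyclic odd Sylow subgroups and a cyclic subgroup of index at most two in the Sylow two-subgroups. -/
structure AC (G : Type u) [Group G] : Prop where
  odd : ∀ p : ℕ, p.Prime → p ≠ 2 → ∀ P : Sylow p G, IsCyclic P
  two : ∀ S : Sylow 2 G, Half ↥(S : Subgroup G)

theorem AC.isCyclic_pGroup (h : AC G) {p : ℕ} (hp : p.Prime) (h2 : p ≠ 2) {Q : Subgroup G}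
    (hQ : IsPGroup p Q) : IsCyclic Q := by
  haveI := Fact.mk hp
  obtain ⟨P, hP⟩ := hQ.exists_le_sylow
  haveI := h.odd p hp h2 P
  exact isCyclic_of_injective (Subgroup.inclusion hP) (Subgroup.inclusion_injective hP)

theorem AC.half_twoGroup (h : AC G) {Q : Subgroup G} (hQ : IsPGroup 2 Q) : Half ↥Q := by
  haveI := Fact.mk Nat.prime_two
  obtain ⟨P, hP⟩ := hQ.exists_le_sylow
  exact (h.two P).of_injective (Subgroup.inclusion hP) (Subgroup.inclusion_injective hP)

theorem AC.of_injective {A : Type u} [Group A] [Finite A] (f : A →* G) (hf : Function.Injective f)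
    (h : AC G) : AC A := by
  refine ⟨fun p hp h2 P => ?_, fun S => ?_⟩
  · haveI := h.isCyclic_pGroup hp h2 (P.2.map f)
    exact isCyclic_of_injective ((P : Subgroup A).equivMapOfInjective f hf).toMonoidHom
      ((P : Subgroup A).equivMapOfInjective f hf).injective
  · exact (h.half_twoGroup (S.2.map f)).of_injective
      ((S : Subgroup A).equivMapOfInjective f hf).toMonoidHom
      ((S : Subgroup A).equivMapOfInjective f hf).injective

theorem AC.subgroup (h : AC G) (H : Subgroup G) : AC ↥H := h.of_injective H.subtype H.subtype_injective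

theorem AC.of_surjective {B : Type u} [Group B] [Finite B] (f : G →* B) (hf : Function.Surjective f)
    (h : AC G) : AC B := by
  refine ⟨fun p hp h2 P => ?_, fun S => ?_⟩
  · haveI := Fact.mk hp
    obtain ⟨Q, rfl⟩ := Sylow.mapSurjective_surjective hf p P
    haveI := h.odd p hp h2 Q
    rw [Sylow.coe_mapSurjective]
    exact isCyclic_of_surjective (f.subgroupMap Q) (f.subgroupMap_surjective Q)
  · haveI := Fact.mk Nat.prime_two
    obtain ⟨Q, rfl⟩ := Sylow.mapSurjective_surjective hf 2 S
    rw [Sylow.coe_mapSurjective]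
    exact (h.two Q).of_surjective (f.subgroupMap Q) (f.subgroupMap_surjective Q)

theorem AC.isZGroup (h : AC G) {X : Subgroup G} (hX : Odd (Nat.card X)) : IsZGroup ↥X := by
  refine ⟨fun p hp P => ?_⟩
  by_cases h2 : p = 2
  · subst h2
    haveI := Fact.mk hp
    haveI : Subsingleton ↥(P : Subgroup X) := by
      obtain ⟨n, hn⟩ := P.2.exists_card_eq
      refine (Nat.card_eq_one_iff_unique.mp ?_).1
      rcases n with _ | n
      · simpa using hn
      · exfalso
        have hd : 2 ∣ Nat.card X := (Dvd.intro (2 ^ n) (by rw [hn, pow_succ']) : 2 ∣ Nat.card (P : Subgroup X)).trans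
          (Subgroup.card_subgroup_dvd_card _)
        exact Nat.not_even_iff_odd.mpr hX (even_iff_two_dvd.mpr hd)
    exact isCyclic_of_subsingleton
  · exact (h.subgroup X).odd p hp h2 P

/-- Commuting elements of the same odd prime order generate the same subgroup. -/
theorem AC.zpowers_eq (h : AC G) {p : ℕ} (hp : p.Prime) (h2 : p ≠ 2) {x y : G} (hx : orderOf x = p)
    (hy : orderOf y = p) (hc : Commute x y) : Subgroup.zpowers x = Subgroup.zpowers y := by
  haveI := Fact.mk hp
  have hQ : IsPGroup p ↥(Subgroup.zpowers x ⊔ Subgroup.zpowers y) := by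
    refine IsPGroup.to_sup_of_normal_left'
      (IsPGroup.of_card (n := 1) (by rw [Nat.card_zpowers, hx, pow_one]))
      (IsPGroup.of_card (n := 1) (by rw [Nat.card_zpowers, hy, pow_one])) ?_
    rw [Subgroup.zpowers_le]
    refine Subgroup.centralizer_le_normalizer _ ?_
    rintro z ⟨i, rfl⟩
    exact (hc.zpow_left i).eq
  haveI := h.isCyclic_pGroup hp h2 hQ
  have e := CfsgLib.PowerGraph.subgroup_eq_of_card
    (A := (Subgroup.zpowers x).subgroupOf (Subgroup.zpowers x ⊔ Subgroup.zpowers y))
    (B := (Subgroup.zpowers y).subgroupOf (Subgroup.zpowers x ⊔ Subgroup.zpowers y))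
    (by rw [Nat.card_congr (Subgroup.subgroupOfEquivOfLe le_sup_left).toEquiv,
      Nat.card_congr (Subgroup.subgroupOfEquivOfLe le_sup_right).toEquiv, Nat.card_zpowers,
      Nat.card_zpowers, hx, hy])
  have e' := congrArg (fun K => K.map (Subgroup.zpowers x ⊔ Subgroup.zpowers y).subtype) e
  simp only [Subgroup.subgroupOf_map_subtype] at e'
  rwa [inf_eq_left.mpr le_sup_left, inf_eq_left.mpr le_sup_right] at e'

section Fitting

variable (X : Subgroup G)

/-- The Fitting subgroup of a subgroup, as a subgroup of the whole group. -/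
noncomputable def fit : Subgroup G := (fittingSubgroup ↥X).map X.subtype

theorem fit_le : fit X ≤ X := Subgroup.map_subtype_le _

theorem fit_isCyclic [IsZGroup ↥X] : IsCyclic ↥(fit X) := by
  haveI : Group.IsNilpotent (fittingSubgroup ↥X) := CfsgLib.isNilpotent_fittingSubgroup
  haveI : IsCyclic (fittingSubgroup ↥X) := inferInstance
  exact isCyclic_of_surjective (X.subtype.subgroupMap (fittingSubgroup ↥X))
    (X.subtype.subgroupMap_surjective _)

theorem normalizer_le_fit : Subgroup.normalizer (X : Set G) ≤ Subgroup.normalizer (fit X : Set G) := by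
  haveI := CfsgLib.Isolated.fitting_char (↥X)
  intro g hg
  have key : ∀ g ∈ Subgroup.normalizer (X : Set G), ∀ x ∈ fit X, g * x * g⁻¹ ∈ fit X := by
    rintro g hg _ ⟨y, hy, rfl⟩
    let e : ↥X ≃* ↥X := X.normalizerMonoidHom ⟨g, hg⟩
    refine ⟨e y, ?_, rfl⟩
    have := Subgroup.characteristic_iff_map_eq.mp (CfsgLib.Isolated.fitting_char ↥X) e
    rw [← this]
    exact Subgroup.mem_map_of_mem _ hy
  rw [Subgroup.mem_normalizer_iff]
  refine fun x => ⟨key g hg x, fun hx => ?_⟩
  simpa [mul_assoc] using key g⁻¹ (inv_mem hg) _ hx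

theorem centralizer_fit_le [Group.IsSolvable ↥X] :
    X ⊓ Subgroup.centralizer (fit X : Set G) ≤ fit X := by
  rintro x ⟨hxX, hx⟩
  refine ⟨⟨x, hxX⟩, CfsgLib.centralizer_fitting_le ?_, rfl⟩
  intro y hy
  exact Subtype.ext (hx y.1 ⟨y, hy, rfl⟩)

/-- A coprime group centralising the Fitting subgroup of a solvable group centralises it. -/
theorem centralizes_of_fit [Group.IsSolvable ↥X] {A : Subgroup G}
    (hAX : A ≤ Subgroup.normalizer (X : Set G)) (hcop : (Nat.card A).Coprime (Nat.card X))
    (hA : A ≤ Subgroup.centralizer (fit X : Set G)) : X ≤ Subgroup.centralizer (A : Set G) := by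
  intro k hk
  have hkF : X ≤ Subgroup.normalizer (fit X : Set G) :=
    (Subgroup.le_normalizer).trans (normalizer_le_fit X)
  have hfix : ∀ a ∈ A, a * k * a⁻¹ * k⁻¹ ∈ fit X := by
    intro a ha
    have hak : a * k * a⁻¹ ∈ X := (Subgroup.mem_normalizer_iff.mp (hAX ha) k).mp hk
    refine centralizer_fit_le X ⟨X.mul_mem hak (X.inv_mem hk), ?_⟩
    intro f hf
    have ha' := hA ha
    have h1 : k⁻¹ * f * k ∈ fit X := by
      have := (Subgroup.mem_normalizer_iff.mp (hkF (X.inv_mem hk)) f).mp hf
      rwa [inv_inv] at this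
    have c2 : a * (k⁻¹ * f * k) = k⁻¹ * f * k * a := (ha' _ h1).symm
    have c1 : a * f = f * a := (ha' _ hf).symm
    calc f * (a * k * a⁻¹ * k⁻¹) = a * f * k * a⁻¹ * k⁻¹ := by rw [c1]; group
      _ = a * k * (k⁻¹ * f * k) * a⁻¹ * k⁻¹ := by group
      _ = a * k * (a⁻¹ * (a * (k⁻¹ * f * k))) * a⁻¹ * k⁻¹ := by group
      _ = (a * k * a⁻¹ * k⁻¹) * f := by rw [c2]; group
  obtain ⟨c, hc, hkc⟩ := CfsgLib.coprime_fixed_quotient hAX hcop (Or.inr inferInstance)
    (fit_le X) hkF (hAX.trans (normalizer_le_fit X)) hk hfix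
  intro a ha
  have hc' : a * c = c * a := hc.2 a ha
  have hmem : c⁻¹ * k ∈ fit X := by simpa [mul_inv_rev] using (fit X).inv_mem hkc
  have h3 : a * (c⁻¹ * k) = c⁻¹ * k * a := (hA ha _ hmem).symm
  have h4 : a * c⁻¹ = c⁻¹ * a := (Commute.inv_right (show Commute a c from hc')).eq
  rw [← mul_assoc, h4, mul_assoc, mul_assoc] at h3
  exact mul_left_cancel h3

/-- A coprime group not centralising `X` moves a subgroup of prime order of its Fitting subgroup. -/
theorem exists_prime_sub [IsZGroup ↥X] [Group.IsSolvable ↥X] {A : Subgroup G}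
    (hAX : A ≤ Subgroup.normalizer (X : Set G)) (hcop : (Nat.card A).Coprime (Nat.card X))
    (hne : ¬ X ≤ Subgroup.centralizer (A : Set G)) :
    ∃ (r : ℕ) (y : G), r.Prime ∧ orderOf y = r ∧ y ∈ fit X ∧
      y ∉ Subgroup.centralizer (A : Set G) ∧
      Subgroup.normalizer (X : Set G) ≤ Subgroup.normalizer (Subgroup.zpowers y : Set G) := by
  haveI := fit_isCyclic X
  letI : IsMulCommutative ↥(fit X) := inferInstance
  have hAF : A ≤ Subgroup.normalizer (fit X : Set G) := hAX.trans (normalizer_le_fit X)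
  have hcopF : (Nat.card A).Coprime (Nat.card (fit X)) :=
    hcop.coprime_dvd_right (Subgroup.card_dvd_of_le (fit_le X))
  have hFne : ⁅fit X, A⁆ ≠ ⊥ := by
    intro h
    refine hne (centralizes_of_fit X hAX hcop ?_)
    rw [Subgroup.commutator_comm, Subgroup.commutator_eq_bot_iff_le_centralizer] at h
    exact h
  obtain ⟨r, hr, hrd⟩ := Nat.exists_prime_and_dvd (n := Nat.card ↥⁅fit X, A⁆) fun h =>
    hFne (Subgroup.eq_bot_of_card_eq _ h)
  haveI := Fact.mk hr
  obtain ⟨y, hy⟩ := exists_prime_orderOf_dvd_card' r hrd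
  have hyF : (y : G) ∈ fit X := CfsgLib.commutator_le_of_le_normalizer hAF y.2
  refine ⟨r, y, hr, by rw [Subgroup.orderOf_coe, hy], hyF, fun hc => ?_, fun g hg => ?_⟩
  · have h1 : (y : G) ∈ (fit X ⊓ Subgroup.centralizer (A : Set G)) ⊓ ⁅fit X, A⁆ := ⟨⟨hyF, hc⟩, y.2⟩
    rw [CfsgLib.coprime_abelian_disjoint A (fit X) hAF hcopF, Subgroup.mem_bot] at h1
    rw [show y = 1 from Subtype.ext h1, orderOf_one] at hy
    exact hr.one_lt.ne hy
  · have hgF := normalizer_le_fit X hg
    have hle : Subgroup.zpowers (y : G) ≤ fit X := Subgroup.zpowers_le.mpr hyF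
    have key : ∀ g ∈ Subgroup.normalizer (fit X : Set G), g * (y : G) * g⁻¹ ∈ Subgroup.zpowers (y : G) := by
      intro g hg
      let e : ↥(fit X) ≃* ↥(fit X) := (fit X).normalizerMonoidHom ⟨g, hg⟩
      have e1 : Subgroup.zpowers (e ⟨y, hyF⟩) = Subgroup.zpowers (⟨y, hyF⟩ : ↥(fit X)) :=
        CfsgLib.PowerGraph.subgroup_eq_of_card (by rw [Nat.card_zpowers, Nat.card_zpowers,
          MulEquiv.orderOf_eq])
      obtain ⟨i, hi⟩ := (e1 ▸ Subgroup.mem_zpowers (e ⟨y, hyF⟩) :
        e ⟨y, hyF⟩ ∈ Subgroup.zpowers (⟨y, hyF⟩ : ↥(fit X)))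
      exact ⟨i, congrArg Subtype.val hi⟩
    have key' : ∀ g ∈ Subgroup.normalizer (fit X : Set G), ∀ x ∈ Subgroup.zpowers (y : G),
        g * x * g⁻¹ ∈ Subgroup.zpowers (y : G) := by
      rintro g hg _ ⟨i, rfl⟩
      rw [← conj_zpow]
      exact zpow_mem (key g hg) i
    rw [Subgroup.mem_normalizer_iff]
    refine fun x => ⟨key' g hgF x, fun hx => ?_⟩
    simpa [mul_assoc] using key' g⁻¹ (inv_mem hgF) _ hx

end Fitting

end CfsgLib.AlmostCyclic
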