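import Cfsg.Agent.Lib.AlmostCyclic.DFinal
import Cfsg.Agent.Lib.StSL.Two

/-!
# Normal covers of `PSL₂(p)` in groups with almost cyclic Sylow subgroups
-/

set_option autoImplicit false
set_option linter.style.haveILetI false
set_option linter.unusedSectionVars false
set_option maxHeartbeats 400000

namespace CfsgLib.AlmostCyclic

open Cfsg
open scoped commutatorElement

universe u

/-- A perfect group which is `PSL₂(p)` or `SL₂(p)` for some prime `p ≥ 5`. -/
def Cov (K : Type u) [Group K] : Prop :=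
  commutator K = ⊤ ∧ ∃ (p : ℕ) (_ : Fact p.Prime), 5 ≤ p ∧
    (Nonempty (K ≃* Matrix.ProjectiveSpecialLinearGroup (Fin 2) (ZMod p)) ∨
      Nonempty (K ≃* Matrix.SpecialLinearGroup (Fin 2) (ZMod p)))

section Maps

variable {p : ℕ} [Fact p.Prime]

local notation "PSLp" => Matrix.ProjectiveSpecialLinearGroup (Fin 2) (ZMod p)
local notation "SLp" => Matrix.SpecialLinearGroup (Fin 2) (ZMod p)

/-- The projection onto `PSL₂(p)`. -/
theorem exists_proj (hp : p ≠ 2) {K : Type u} [Group K] [Finite K]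
    (h : Nonempty (K ≃* PSLp) ∨ Nonempty (K ≃* SLp)) :
    ∃ ψ : K →* PSLp, Function.Surjective ψ ∧ ψ.ker ≤ Subgroup.center K ∧ Nat.card ψ.ker ∣ 2 := by
  rcases h with ⟨⟨e⟩⟩ | ⟨⟨e⟩⟩
  · refine ⟨e.toMonoidHom, e.surjective, ?_, ?_⟩
    · intro a ha
      have : a = 1 := e.injective ((MonoidHom.mem_ker.mp ha).trans e.map_one.symm)
      rw [this]; exact one_mem _
    · rw [(MonoidHom.ker_eq_bot_iff _).mpr e.injective, Subgroup.card_bot]
      exact one_dvd 2
  · refine ⟨(QuotientGroup.mk' (Subgroup.center SLp)).comp e.toMonoidHom,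
      (QuotientGroup.mk'_surjective _).comp e.surjective, fun a ha => ?_, ?_⟩
    · have h1 : e a ∈ Subgroup.center SLp := (QuotientGroup.eq_one_iff _).mp ha
      exact Subgroup.mem_center_iff.mpr fun b => e.injective (by
        rw [map_mul, map_mul]; exact Subgroup.mem_center_iff.mp h1 (e b))
    · refine Dvd.dvd.trans ?_ (dvd_of_eq (card_center_SLp (p := p) hp))
      exact Subgroup.card_dvd_of_injective
        ((e.toMonoidHom.comp ((QuotientGroup.mk' (Subgroup.center SLp)).comp e.toMonoidHom).ker.subtype).codRestrict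
          (Subgroup.center SLp) fun x => (QuotientGroup.eq_one_iff _).mp x.2)
        fun x y h => Subtype.ext (e.injective (congrArg Subtype.val h))

theorem three_dvd_psl (hp : p ≠ 2) : 3 ∣ Nat.card PSLp := by
  have h := card_psl_two (p := p) hp
  have hp2 := (Fact.out : p.Prime).two_le
  have h3 : 3 ∣ (p + 1) * p * (p - 1) := by
    rcases (by omega : p % 3 = 0 ∨ p % 3 = 1 ∨ p % 3 = 2) with e | e | e
    · exact Dvd.dvd.mul_right (Dvd.dvd.mul_left (Nat.dvd_of_mod_eq_zero e) _) _
    · exact Dvd.dvd.mul_left ⟨(p - 1) / 3, by omega⟩ _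
    · exact Dvd.dvd.mul_right (Dvd.dvd.mul_right ⟨(p + 1) / 3, by omega⟩ _) _
  rw [← h] at h3
  exact (Nat.Coprime.dvd_of_dvd_mul_left (by norm_num) h3)

/-- A perfect central extension of `PSL₂(p)` is `PSL₂(p)` or `SL₂(p)`. -/
theorem cov_of_central (hp5 : 5 ≤ p) {L : Type u} [Group L] [Finite L] (hperf : commutator L = ⊤)
    (ρ : L →* PSLp) (hρ : Function.Surjective ρ) (hc : ρ.ker ≤ Subgroup.center L) : Cov L := by
  classical
  refine ⟨hperf, p, inferInstance, hp5, ?_⟩
  let mk := QuotientGroup.mk' (Subgroup.center SLp)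
  let S : Subgroup (L × SLp) := (ρ.comp (MonoidHom.fst _ _)).eqLocus (mk.comp (MonoidHom.snd _ _))
  let π : S →* SLp := (MonoidHom.snd _ _).comp S.subtype
  have hπ : Function.Surjective π := fun d => by
    obtain ⟨a, ha⟩ := hρ (mk d)
    exact ⟨⟨(a, d), ha⟩, rfl⟩
  have hπc : π.ker ≤ Subgroup.center S := by
    rintro ⟨⟨a, d⟩, hm⟩ hk
    have hd : d = 1 := hk
    subst hd
    have ha : a ∈ ρ.ker := by
      have h' : ρ a = mk 1 := hm
      rw [map_one] at h'
      exact h'
    refine Subgroup.mem_center_iff.mpr fun b => Subtype.ext (Prod.ext ?_ ?_)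
    · exact Subgroup.mem_center_iff.mp (hc ha) _
    · show b.1.2 * 1 = 1 * b.1.2
      rw [mul_one, one_mul]
  have h9 : p ≠ 9 := fun e => by
    have := (Fact.out : p.Prime); rw [e] at this; norm_num at this
  obtain ⟨H, hinj, hsurj⟩ := CfsgLib.StSL.exists_lift (F := ZMod p) (E := S) (π := π)
    (by rw [ZMod.card]; omega) (by rw [ZMod.card]; omega) (by rw [ZMod.card]; exact h9) hπ hπc
  let e : H ≃* SLp := MulEquiv.ofBijective (π.comp H.subtype)
    ⟨(injective_iff_map_eq_one _).mpr fun g hg => Subtype.ext (hinj g.1 g.2 hg), fun y => by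
      obtain ⟨x, hx, rfl⟩ : y ∈ H.map π := by rw [hsurj]; trivial
      exact ⟨⟨x, hx⟩, rfl⟩⟩
  let τ : SLp →* L := (MonoidHom.fst _ _).comp (S.subtype.comp (H.subtype.comp e.symm.toMonoidHom))
  have hτ : ∀ A, ρ (τ A) = mk A := fun A => by
    have h1 : π ((e.symm A : H) : S) = A := e.apply_symm_apply A
    have h2 : ρ (τ A) = mk (π ((e.symm A : H) : S)) := ((e.symm A : H) : S).2
    rw [h1] at h2
    exact h2
  have hτs : Function.Surjective τ := by
    rw [← MonoidHom.range_eq_top, ← top_le_iff, ← hperf, commutator_def, Subgroup.commutator_le]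
    intro a _ b _
    obtain ⟨A, hA⟩ := QuotientGroup.mk'_surjective (Subgroup.center SLp) (ρ a)
    obtain ⟨B, hB⟩ := QuotientGroup.mk'_surjective (Subgroup.center SLp) (ρ b)
    refine ⟨⁅A, B⁆, ?_⟩
    rw [map_commutatorElement]
    exact CfsgLib.StSL.comm_congr hc ((hτ A).trans hA) ((hτ B).trans hB)
  have hker : τ.ker ≤ Subgroup.center SLp := fun A hA => by
    rw [← QuotientGroup.eq_one_iff]
    show mk A = 1
    rw [← hτ A, MonoidHom.mem_ker.mp hA, map_one]
  have hp2 : p ≠ 2 := by omega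
  have hdvd := Subgroup.card_dvd_of_le hker
  rw [card_center_SLp hp2] at hdvd
  rcases (Nat.dvd_prime Nat.prime_two).mp hdvd with h1 | h2
  · refine Or.inr ⟨(MulEquiv.ofBijective τ ⟨?_, hτs⟩).symm⟩
    exact (MonoidHom.ker_eq_bot_iff τ).mp (Subgroup.eq_bot_of_card_eq _ h1)
  · have e2 : τ.ker = Subgroup.center SLp :=
      Subgroup.eq_of_le_of_card_ge hker (le_of_eq (by rw [h2, card_center_SLp hp2]))
    exact Or.inl ⟨(QuotientGroup.quotientKerEquivOfSurjective τ hτs).symm.trans
      (QuotientGroup.quotientMulEquivOfEq e2)⟩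

end Maps

variable {G : Type u} [Group G] [Finite G]

theorem perfect_commutator_top {K : Subgroup G} (hK : ⁅K, K⁆ = K) : commutator K = ⊤ := by
  refine Subgroup.map_injective K.subtype_injective ?_
  rw [Subgroup.map_subtype_commutator, hK, ← MonoidHom.range_eq_map, Subgroup.range_subtype]

/-- A perfect group has only the trivial homomorphism to an abelian group. -/
theorem perfect_hom_trivial {K : Type*} [Group K] (hK : commutator K = ⊤) {A : Type*} [Group A]
    (f : K →* A) (hA : ∀ a b : K, Commute (f a) (f b)) (k : K) : f k = 1 := by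
  have h : commutator K ≤ f.ker := by
    rw [commutator_def, Subgroup.commutator_le]
    intro a _ b _
    rw [MonoidHom.mem_ker, map_commutatorElement, commutatorElement_eq_one_iff_mul_comm]
    exact (hA a b).eq
  rw [hK] at h
  exact h (Subgroup.mem_top k)

/-- A perfect group centralises its cyclic normal subgroups. -/
theorem cyclic_normal_le_center (hG : commutator G = ⊤) (C : Subgroup G) [C.Normal] [IsCyclic C] :
    C ≤ Subgroup.center G := by
  intro c hc
  refine Subgroup.mem_center_iff.mpr fun g => ?_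
  have h := perfect_hom_trivial hG (MulAut.conjNormal (H := C))
    (fun a b => SDat.mulAut_comm _ _) g
  have h1 := congrArg Subtype.val (DFunLike.congr_fun h ⟨c, hc⟩)
  rw [MulAut.conjNormal_apply] at h1
  exact mul_inv_eq_iff_eq_mul.mp h1

section Normal

variable {p : ℕ} [Fact p.Prime]

local notation "PSLp" => Matrix.ProjectiveSpecialLinearGroup (Fin 2) (ZMod p)

/-- A normal perfect cover of `PSL₂(p)` and its centraliser have index at most two. -/
theorem index_sup_centralizer (hp5 : 5 ≤ p) (K : Subgroup G) [K.Normal] (hK : commutator K = ⊤)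
    (ψ : K →* PSLp) (hψ : Function.Surjective ψ) (hker : ψ.ker ≤ Subgroup.center K) :
    (K ⊔ Subgroup.centralizer (K : Set G)).index ∣ 2 := by
  classical
  haveI : IsSimpleGroup PSLp :=
    Matrix.ProjectiveSpecialLinearGroup.rank_two_simple (by rw [Nat.card_zmod]; omega)
  have hZ : Subgroup.center PSLp = ⊥ :=
    ((inferInstance : (Subgroup.center PSLp).Normal).eq_bot_or_eq_top).resolve_right fun h =>
      psl_not_solvable hp5 (IsSimpleGroup.comm_iff_isSolvable.mp fun a b =>
        Subgroup.mem_center_iff.mp (show b ∈ Subgroup.center PSLp by rw [h]; trivial) a)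
  have hkc : ψ.ker = Subgroup.center K := by
    refine le_antisymm hker fun z hz => ?_
    rw [MonoidHom.mem_ker, ← Subgroup.mem_bot, ← hZ]
    refine Subgroup.mem_center_iff.mpr fun b => ?_
    obtain ⟨b, rfl⟩ := hψ b
    rw [← map_mul, ← map_mul, Subgroup.mem_center_iff.mp hz b]
  let e : (K ⧸ Subgroup.center K) ≃* PSLp :=
    (QuotientGroup.quotientMulEquivOfEq hkc.symm).trans (QuotientGroup.quotientKerEquivOfSurjective ψ hψ)
  let Φ : G →* MulAut PSLp :=
    (MulAut.congr e).toMonoidHom.comp ((PSL2.centreQuotAut K).comp (MulAut.conjNormal (H := K)))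
  have hΦ : ∀ (a : G) (k : K), Φ a (ψ k) = ψ (MulAut.conjNormal a k) := by
    intro a k
    have he : ∀ k : K, e (k : K ⧸ Subgroup.center K) = ψ k := fun k => rfl
    rw [← he, ← he]
    show e ((PSL2.centreQuotAut K (MulAut.conjNormal a)) (e.symm (e (k : K ⧸ Subgroup.center K)))) = _
    rw [e.symm_apply_apply]
    rfl
  have hker' : ∀ a : G, Φ a = 1 → a ∈ Subgroup.centralizer (K : Set G) := by
    intro a ha
    have hmem : ∀ k : K, MulAut.conjNormal a k * k⁻¹ ∈ Subgroup.center K := by
      intro k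
      rw [← hkc, MonoidHom.mem_ker, map_mul, map_inv, ← hΦ, ha, MulAut.one_apply, mul_inv_cancel]
    let f : K →* Subgroup.center K :=
      { toFun := fun k => ⟨MulAut.conjNormal a k * k⁻¹, hmem k⟩
        map_one' := Subtype.ext (by simp)
        map_mul' := fun x y => Subtype.ext (by
          have hz := Subgroup.mem_center_iff.mp (hmem y) x⁻¹
          simp only [map_mul, _root_.mul_inv_rev, Subgroup.coe_mul]
          rw [mul_assoc (MulAut.conjNormal a x), mul_assoc (MulAut.conjNormal a x) x⁻¹, hz, mul_assoc]) }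
    intro l hl
    have h1 := congrArg Subtype.val (perfect_hom_trivial hK f
      (fun x y => Subtype.ext (Subgroup.mem_center_iff.mp (f y).2 _)) ⟨l, hl⟩)
    have h2 : MulAut.conjNormal a (⟨l, hl⟩ : K) = ⟨l, hl⟩ := mul_inv_eq_one.mp h1
    have h3 := congrArg Subtype.val h2
    rw [MulAut.conjNormal_apply] at h3
    exact (mul_inv_eq_iff_eq_mul.mp h3).symm
  set I := (MulAut.conj : PSLp →* MulAut PSLp).range with hI
  haveI : I.Normal := ⟨by
    rintro _ ⟨b, rfl⟩ φ
    exact ⟨φ b, MulEquiv.ext fun x => by simp [MulAut.conj_apply]⟩⟩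
  have hcomap : I.comap Φ ≤ K ⊔ Subgroup.centralizer (K : Set G) := by
    intro a ha
    obtain ⟨b, hb⟩ := ha
    obtain ⟨k, rfl⟩ := hψ b
    have hk : Φ (k : G) = MulAut.conj (ψ k) := MulEquiv.ext fun x => by
      obtain ⟨l, rfl⟩ := hψ x
      rw [hΦ, MulAut.conj_apply, ← map_inv, ← map_mul, ← map_mul]
      exact congrArg ψ (Subtype.ext (MulAut.conjNormal_apply _ _))
    have h1 : (k : G)⁻¹ * a ∈ Subgroup.centralizer (K : Set G) :=
      hker' _ (by rw [map_mul, map_inv, hk, hb, inv_mul_cancel])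
    have := mul_mem (Subgroup.mem_sup_left (T := Subgroup.centralizer (K : Set G)) k.2)
      (Subgroup.mem_sup_right (S := K) h1)
    rwa [mul_inv_cancel_left] at this
  refine (Subgroup.index_dvd_of_le hcomap).trans ?_
  rw [Subgroup.index_comap]
  refine (Subgroup.relIndex_dvd_index_of_normal I Φ.range).trans ?_
  have h1 := I.card_mul_index
  obtain ⟨Θ⟩ := exists_autEquiv (p := p)
  rw [← Nat.card_congr Θ.toEquiv, card_PG, ZMod.card] at h1
  have hIc : Nat.card I = Nat.card PSLp :=
    (Nat.card_congr (MonoidHom.ofInjective (f := (MulAut.conj : PSLp →* MulAut PSLp))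
      ((injective_iff_map_eq_one _).mpr fun b hb => by
        rw [← Subgroup.mem_bot, ← hZ]
        refine Subgroup.mem_center_iff.mpr fun x => ?_
        have := DFunLike.congr_fun hb x
        rw [MulAut.conj_apply, MulAut.one_apply] at this
        exact (mul_inv_eq_iff_eq_mul.mp this).symm)).toEquiv).symm
  rw [hIc, ← card_psl_two (p := p) (by omega), mul_comm 2] at h1
  rw [Nat.eq_of_mul_eq_mul_left Nat.card_pos h1]

/-- The orders of a normal perfect cover of `PSL₂(p)` and of its centraliser share no odd prime. -/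
theorem no_common_prime (hG : AC G) (K : Subgroup G)
    (ψ : K →* PSLp) (hcard : Nat.card ψ.ker ∣ 2) (hcenter : Subgroup.center K ≤ ψ.ker)
    {r : ℕ} (hr : r.Prime) (hr2 : r ≠ 2) (hrK : r ∣ Nat.card K)
    (hrC : r ∣ Nat.card (Subgroup.centralizer (K : Set G))) : False := by
  haveI := Fact.mk hr
  obtain ⟨a, ha⟩ := exists_prime_orderOf_dvd_card' (G := K) r hrK
  obtain ⟨c, hc⟩ := exists_prime_orderOf_dvd_card' (G := Subgroup.centralizer (K : Set G)) r hrC
  have hao : orderOf (a : G) = r := by rw [Subgroup.orderOf_coe, ha]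
  have hco : orderOf (c : G) = r := by rw [Subgroup.orderOf_coe, hc]
  have e := hG.zpowers_eq hr hr2 hco hao (c.2 a a.2).symm
  have hcK : (c : G) ∈ K := Subgroup.zpowers_le.mpr a.2 (e ▸ Subgroup.mem_zpowers (c : G))
  have hcz : (⟨c, hcK⟩ : K) ∈ ψ.ker :=
    hcenter (Subgroup.mem_center_iff.mpr fun k => Subtype.ext (c.2 k k.2))
  have h1 := (Subgroup.orderOf_dvd_natCard _ hcz).trans hcard
  rw [Subgroup.orderOf_mk, hco] at h1
  exact hr2 ((Nat.prime_dvd_prime_iff_eq hr Nat.prime_two).mp h1)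

/-- The two-elements of the centraliser of a normal perfect cover lie in it. -/
theorem two_elements_mem (hG : AC G) (hp : p ≠ 2) (K : Subgroup G)
    (ψ : K →* PSLp) (hψ : Function.Surjective ψ) (hcard : Nat.card ψ.ker ∣ 2)
    (hcenter : Subgroup.center K ≤ ψ.ker) {c : G} {j : ℕ} (hc : c ∈ Subgroup.centralizer (K : Set G))
    (hj : c ^ (2 ^ j) ∈ K) : c ∈ K := by
  classical
  haveI := Fact.mk Nat.prime_two
  induction j generalizing c with
  | zero => rwa [pow_zero, pow_one] at hj
  | succ j ih =>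
    have hc2 : c ^ 2 ∈ K := ih (pow_mem hc 2) (by rwa [← pow_mul, ← pow_succ'])
    by_contra hcK
    set e : ℕ := 2 * Nat.card ψ.ker with he
    have hker : ∀ v : K, v ∈ ψ.ker → (v : G) ^ Nat.card ψ.ker = 1 := fun v hv => by
      have : (⟨v, hv⟩ : ψ.ker) ^ Nat.card ψ.ker = 1 := pow_card_eq_one'
      exact congrArg (fun w : ψ.ker => ((w : K) : G)) this
    have hce : c ^ e = 1 := by
      rw [he, pow_mul]
      exact hker ⟨c ^ 2, hc2⟩ (hcenter (Subgroup.mem_center_iff.mpr fun k => Subtype.ext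
        ((pow_mem hc 2 : c ^ 2 ∈ Subgroup.centralizer (K : Set G)) k k.2)))
    obtain ⟨⟨V, hV⟩⟩ : Nonempty {V : Subgroup PSLp // IsKleinFour V} := by
      haveI : Finite {V : Subgroup PSLp // IsKleinFour V} := inferInstance
      by_contra h
      have h1 := PSL2Klein.twelve_mul_card (F := ZMod p) (zmod_two_ne hp)
      rw [not_nonempty_iff] at h
      rw [Nat.card_of_isEmpty, mul_zero] at h1
      exact Nat.card_pos.ne' h1.symm
    haveI := hV
    set Q : Subgroup G := (V.comap ψ).map K.subtype with hQ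
    have hQcard : Nat.card Q = 2 * e := by
      rw [hQ, Subgroup.card_map_of_injective K.subtype_injective]
      have h1 := Subgroup.card_eq_card_quotient_mul_card_subgroup (ψ.subgroupComap V).ker
      rw [Nat.card_congr (QuotientGroup.quotientKerEquivOfSurjective _
        (ψ.subgroupComap_surjective_of_surjective V hψ)).toEquiv, hV.card_four] at h1
      rw [h1, he, ← mul_assoc]
      congr 1
      refine Nat.card_congr
        { toFun := fun z => ⟨((z : V.comap ψ) : K), congrArg Subtype.val z.2⟩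
          invFun := fun w => ⟨⟨(w : K), by
            rw [Subgroup.mem_comap, MonoidHom.mem_ker.mp w.2]; exact one_mem _⟩, Subtype.ext w.2⟩
          left_inv := fun _ => rfl
          right_inv := fun _ => rfl }
    have hQe : ∀ q ∈ Q, q ^ e = 1 ∧ Commute q c := by
      rintro _ ⟨q, hq, rfl⟩
      refine ⟨?_, ?_⟩
      · rw [← map_pow, he, pow_mul, map_pow]
        refine hker (q ^ 2) ?_
        rw [MonoidHom.mem_ker, map_pow, pow_two]
        exact congrArg Subtype.val (IsKleinFour.mul_self (⟨ψ q, hq⟩ : V))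
      · exact hc q q.2
    have hQn : Subgroup.zpowers c ≤ Subgroup.normalizer (Q : Set G) := by
      rintro _ ⟨i, rfl⟩
      exact Subgroup.centralizer_le_normalizer _ fun q hq => ((hQe q hq).2.zpow_right i).eq
    set H : Subgroup G := Subgroup.zpowers c ⊔ Q with hH
    have hHe : ∀ a ∈ H, a ^ e = 1 := by
      intro a ha
      rw [hH, ← SetLike.mem_coe, Subgroup.coe_mul_of_left_le_normalizer_right _ Q hQn] at ha
      obtain ⟨_, ⟨i, rfl⟩, q, hq, rfl⟩ := ha
      show (c ^ i * q) ^ e = 1
      rw [((hQe q hq).2.symm.zpow_left i).mul_pow, (hQe q hq).1, mul_one, ← zpow_natCast, ← zpow_mul,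
        mul_comm, zpow_mul, zpow_natCast, hce, one_zpow]
    have h4 : e ∣ 2 ^ 2 := by rw [he]; exact Nat.mul_dvd_mul_left 2 hcard
    have hH2 : IsPGroup 2 H := fun a => ⟨2, Subtype.ext (by
      obtain ⟨m, hm⟩ := h4
      rw [Subgroup.coe_pow, hm, pow_mul, hHe a a.2, one_pow, Subgroup.coe_one])⟩
    obtain ⟨g, hg⟩ := hG.half_twoGroup hH2
    have he0 : 0 < e := by
      have : 0 < Nat.card ψ.ker := Nat.card_pos
      omega
    have hle : orderOf g ≤ e := Nat.le_of_dvd he0 (orderOf_dvd_of_pow_eq_one (Subtype.ext (by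
      rw [Subgroup.coe_pow, hHe g g.2, Subgroup.coe_one])))
    have heq : Q = H := Subgroup.eq_of_le_of_card_ge le_sup_right (by rw [hQcard]; omega)
    have hcQ : c ∈ Q := heq ▸ Subgroup.mem_sup_left (Subgroup.mem_zpowers c)
    exact hcK (Subgroup.map_subtype_le _ hcQ)

end Normal

/-- The asserted structure follows from a perfect normal cover of `PSL₂(p)`. -/
theorem str_of_cov (hG : AC G) (K : Subgroup G) [K.Normal] (h : Cov K) : Str G := by
  classical
  obtain ⟨hK, p, hp, hp5, hiso⟩ := h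
  have hp2 : p ≠ 2 := by omega
  obtain ⟨ψ, hψ, hker, hcard⟩ := exists_proj hp2 hiso
  have hidx := index_sup_centralizer hp5 K hK ψ hψ hker
  have hcenter : Subgroup.center K ≤ ψ.ker := by
    intro z hz
    haveI : IsSimpleGroup (Matrix.ProjectiveSpecialLinearGroup (Fin 2) (ZMod p)) :=
      Matrix.ProjectiveSpecialLinearGroup.rank_two_simple (by rw [Nat.card_zmod]; omega)
    have hmem : ψ z ∈ Subgroup.center (Matrix.ProjectiveSpecialLinearGroup (Fin 2) (ZMod p)) := by
      refine Subgroup.mem_center_iff.mpr fun b => ?_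
      obtain ⟨b, rfl⟩ := hψ b
      rw [← map_mul, ← map_mul, Subgroup.mem_center_iff.mp hz b]
    rcases (inferInstance : (Subgroup.center (Matrix.ProjectiveSpecialLinearGroup (Fin 2) (ZMod p))).Normal).eq_bot_or_eq_top
      with e | e
    · rw [e, Subgroup.mem_bot] at hmem
      exact hmem
    · exact absurd (IsSimpleGroup.comm_iff_isSolvable.mp fun a b =>
        Subgroup.mem_center_iff.mp (show b ∈ Subgroup.center _ by rw [e]; trivial) a) (psl_not_solvable hp5)
  set C := Subgroup.centralizer (K : Set G) with hC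
  haveI : C.Normal := inferInstance
  set Z : Subgroup C := K.subgroupOf C with hZ
  have hZc : Z ≤ Subgroup.center C := fun z hz =>
    Subgroup.mem_center_iff.mpr fun b => Subtype.ext (b.2 (z : G) hz).symm
  have hZcard : Nat.card Z ∣ 2 := by
    refine (Subgroup.card_dvd_of_injective
      ({ toFun := fun z => ⟨⟨((z : C) : G), z.2⟩, hcenter (Subgroup.mem_center_iff.mpr fun k =>
            Subtype.ext ((z : C).2 (k : G) k.2))⟩
         map_one' := rfl
         map_mul' := fun _ _ => rfl } : Z →* ψ.ker)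
      fun x y h => Subtype.ext (Subtype.ext
        (congrArg (fun w : ψ.ker => ((w : K) : G)) h))).trans hcard
  have hZidx : ¬ 2 ∣ Z.index := by
    haveI := Fact.mk Nat.prime_two
    obtain ⟨T⟩ : Nonempty (Sylow 2 C) := inferInstance
    have hT : (T : Subgroup C) ≤ Z := by
      intro c hcT
      obtain ⟨j, hj⟩ := IsPGroup.iff_orderOf.mp T.isPGroup' ⟨c, hcT⟩
      rw [Subgroup.orderOf_mk] at hj
      refine two_elements_mem hG hp2 K ψ hψ hcard hcenter (c := (c : G)) (j := j) c.2 ?_
      rw [← Subgroup.coe_pow, ← hj, pow_orderOf_eq_one]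
      exact one_mem _
    exact fun h => T.not_dvd_index (h.trans (Subgroup.index_dvd_of_le hT))
  have hcop : (Nat.card Z).Coprime Z.index :=
    ((Nat.prime_two.coprime_iff_not_dvd.mpr hZidx).coprime_dvd_left hZcard)
  haveI : Z.Normal := by rw [hZ]; infer_instance
  obtain ⟨Xc, hXc⟩ := Subgroup.exists_right_complement'_of_coprime hcop
  set X : Subgroup G := Xc.map C.subtype with hX
  have hXC : X ≤ C := Subgroup.map_subtype_le _
  have hXodd : Odd (Nat.card X) := by
    rw [hX, Subgroup.card_map_of_injective C.subtype_injective, ← hXc.symm.index_eq_card]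
    exact Nat.odd_iff.mpr (Nat.two_dvd_ne_zero.mp hZidx)
  have hXn : C ≤ Subgroup.normalizer (X : Set G) := by
    have key : ∀ c ∈ C, ∀ x ∈ X, c * x * c⁻¹ ∈ X := by
      intro c hc x hx
      obtain ⟨xc, hxc, rfl⟩ := hx
      obtain ⟨⟨z, y⟩, hzy, -⟩ := hXc.existsUnique ⟨c, hc⟩
      have hz := Subgroup.mem_center_iff.mp (hZc z.2)
      refine ⟨(y : C) * xc * (y : C)⁻¹, mul_mem (mul_mem y.2 hxc) (inv_mem y.2), ?_⟩
      have e : (⟨c, hc⟩ : C) * xc * (⟨c, hc⟩ : C)⁻¹ = (y : C) * xc * (y : C)⁻¹ := by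
        rw [← show (z : C) * (y : C) = ⟨c, hc⟩ from hzy,
          show (z : C) * y * xc * ((z : C) * y)⁻¹ = (z : C) * ((y : C) * xc * (y : C)⁻¹) * (z : C)⁻¹ by
            group, ← hz ((y : C) * xc * (y : C)⁻¹), mul_inv_cancel_right]
      exact (congrArg Subtype.val e).symm
    intro c hc
    refine Subgroup.mem_normalizer_iff.mpr fun x => ⟨key c hc x, fun h => ?_⟩
    simpa [mul_assoc] using key c⁻¹ (inv_mem hc) _ h
  set G₀ : Subgroup G := K ⊔ C with hG₀
  have hXG : X ≤ G₀ := hXC.trans le_sup_right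
  have hKG : K ≤ G₀ := le_sup_left
  have hG₀X : G₀ ≤ Subgroup.normalizer (X : Set G) := by
    refine sup_le (fun k hk => Subgroup.centralizer_le_normalizer _ ?_) hXn
    intro x hx
    exact ((hXC hx) k hk).symm
  refine ⟨G₀, inferInstance, hidx, X.subgroupOf G₀, K.subgroupOf G₀,
    Subgroup.normal_subgroupOf_of_le_normalizer hG₀X, inferInstance, ?_, ?_, ?_, ?_, ?_, p, hp, hp5, ?_⟩
  · rw [Subgroup.eq_bot_iff_forall]
    intro a ha
    obtain ⟨⟨xc, hxc, hxe⟩, haK⟩ := ha
    have hxe' : (xc : G) = (a : G) := hxe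
    have hxZ : xc ∈ Z := by
      show (xc : G) ∈ K
      rw [hxe']
      exact haK
    have h1 : xc ∈ (⊥ : Subgroup C) := hXc.disjoint.le_bot ⟨hxZ, hxc⟩
    rw [Subgroup.mem_bot] at h1
    exact Subtype.ext (hxe'.symm.trans (by rw [h1]; rfl))
  · rw [← Subgroup.subgroupOf_sup hXG hKG, Subgroup.subgroupOf_eq_top]
    refine sup_le le_sup_right fun c hc => ?_
    obtain ⟨⟨z, y⟩, hzy, -⟩ := hXc.existsUnique ⟨c, hc⟩
    rw [← show ((z : C) : G) * ((y : C) : G) = c from congrArg Subtype.val hzy]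
    exact mul_mem (Subgroup.mem_sup_right z.2) (Subgroup.mem_sup_left ⟨y, y.2, rfl⟩)
  · rw [Nat.card_congr (Subgroup.subgroupOfEquivOfLe hXG).toEquiv,
      Nat.card_congr (Subgroup.subgroupOfEquivOfLe hKG).toEquiv]
    by_contra hne
    obtain ⟨r, hr, h1, h2⟩ := Nat.Prime.not_coprime_iff_dvd.mp hne
    have hr2 : r ≠ 2 := by
      rintro rfl
      exact Nat.two_dvd_ne_zero.mpr (Nat.odd_iff.mp hXodd) h1
    exact no_common_prime hG K ψ hcard hcenter hr hr2 h2 (h1.trans (Subgroup.card_dvd_of_le hXC))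
  · rw [Nat.card_congr (Subgroup.subgroupOfEquivOfLe hXG).toEquiv]
    exact hXodd
  · haveI : IsZGroup ↥(X.subgroupOf G₀) := (hG.subgroup G₀).isZGroup (by
      rw [Nat.card_congr (Subgroup.subgroupOfEquivOfLe hXG).toEquiv]; exact hXodd)
    exact ⟨commutator _, inferInstance, IsZGroup.isCyclic_commutator _,
      (inferInstance : IsCyclic (Abelianization ↥(X.subgroupOf G₀)))⟩
  · rcases hiso with ⟨⟨e⟩⟩ | ⟨⟨e⟩⟩
    · exact Or.inl ⟨(Subgroup.subgroupOfEquivOfLe hKG).trans e⟩
    · exact Or.inr ⟨(Subgroup.subgroupOfEquivOfLe hKG).trans e⟩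

end CfsgLib.AlmostCyclic
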