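import Mathlib

/-!
# Centralisers of involutions in the alternating group of degree five
-/

set_option autoImplicit false
set_option maxRecDepth 100000
set_option synthInstance.maxSize 2000

namespace CfsgLib.AlmostCyclic

theorem perm_five_cent : ∀ a : Equiv.Perm (Fin 5), Equiv.Perm.sign a = 1 → a * a = 1 → a ≠ 1 →
    ∀ b : Equiv.Perm (Fin 5), a * b = b * a → Equiv.Perm.sign b = 1 → b * b = 1 := by
  decide +kernel

theorem a5_cent (a b : alternatingGroup (Fin 5)) (ha : a * a = 1) (ha1 : a ≠ 1) (hc : a * b = b * a) :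
    b * b = 1 :=
  Subtype.ext (perm_five_cent a.1 (Equiv.Perm.mem_alternatingGroup.mp a.2) (congrArg Subtype.val ha)
    (fun h => ha1 (Subtype.ext h)) b.1 (congrArg Subtype.val hc) (Equiv.Perm.mem_alternatingGroup.mp b.2))

end CfsgLib.AlmostCyclic
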