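import Cfsg.Agent.Lib.AlmostCyclic.DBasic

/-!
# Actions on subgroups of prime order
-/

set_option autoImplicit false
set_option linter.style.haveILetI false
set_option linter.unusedSectionVars false

namespace CfsgLib.AlmostCyclic

open Cfsg

universe u

variable {G : Type u} [Group G] [Finite G]

/-- The subgroups of the cyclic Fitting subgroup are invariant under the normaliser. -/
theorem fit_zpowers_normalizer (X : Subgroup G) [IsZGroup ↥X] {y : G} (hy : y ∈ fit X) :
    Subgroup.normalizer (X : Set G) ≤ Subgroup.normalizer (Subgroup.zpowers y : Set G) := by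
  haveI := fit_isCyclic X
  have key : ∀ g ∈ Subgroup.normalizer (fit X : Set G), ∀ v ∈ Subgroup.zpowers y,
      g * v * g⁻¹ ∈ Subgroup.zpowers y := by
    intro g hg
    let e : ↥(fit X) ≃* ↥(fit X) := (fit X).normalizerMonoidHom ⟨g, hg⟩
    have e1 : Subgroup.zpowers (e ⟨y, hy⟩) = Subgroup.zpowers (⟨y, hy⟩ : ↥(fit X)) :=
      CfsgLib.PowerGraph.subgroup_eq_of_card (by rw [Nat.card_zpowers, Nat.card_zpowers,
        MulEquiv.orderOf_eq])
    obtain ⟨i, hi⟩ := (e1 ▸ Subgroup.mem_zpowers (e ⟨y, hy⟩) :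
      e ⟨y, hy⟩ ∈ Subgroup.zpowers (⟨y, hy⟩ : ↥(fit X)))
    have hi' : y ^ i = g * y * g⁻¹ := congrArg Subtype.val hi
    rintro _ ⟨k, rfl⟩
    show g * y ^ k * g⁻¹ ∈ Subgroup.zpowers y
    rw [← conj_zpow, ← hi', ← zpow_mul]
    exact ⟨_, rfl⟩
  intro g hg
  have hgF := normalizer_le_fit X hg
  refine Subgroup.mem_normalizer_iff.mpr fun v => ⟨key g hgF v, fun hv => ?_⟩
  simpa [mul_assoc] using key g⁻¹ (inv_mem hgF) _ hv

variable {y : G} {r : ℕ}

/-- An involution normalising a subgroup of prime order fixes or inverts it. -/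
theorem inv_or_comm (hr : r.Prime) (hy : orderOf y = r) {a : G} (ha : a * a = 1)
    (haN : a ∈ Subgroup.normalizer (Subgroup.zpowers y : Set G)) :
    Commute a y ∨ a * y * a⁻¹ = y⁻¹ := by
  obtain ⟨i, hi⟩ := (Subgroup.mem_normalizer_iff.mp haN y).mp (Subgroup.mem_zpowers y)
  have hi' : y ^ i = a * y * a⁻¹ := hi
  have hai : a⁻¹ = a := inv_eq_of_mul_eq_one_right ha
  have h2 : y ^ (i * i) = y := by
    rw [zpow_mul, hi', conj_zpow, hi', hai,
      show a * (a * y * a) * a = (a * a) * y * (a * a) by group, ha, one_mul, mul_one]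
  have h3 : (r : ℤ) ∣ (i - 1) * (i + 1) := by
    rw [← hy, orderOf_dvd_iff_zpow_eq_one, show (i - 1) * (i + 1) = i * i - 1 by ring, zpow_sub, h2,
      zpow_one, mul_inv_cancel]
  rcases Int.Prime.dvd_mul' hr h3 with h | h
  · left
    rw [← hy, orderOf_dvd_iff_zpow_eq_one, zpow_sub, zpow_one, mul_inv_eq_one] at h
    exact mul_inv_eq_iff_eq_mul.mp (hi'.symm.trans h)
  · right
    rw [← hy, orderOf_dvd_iff_zpow_eq_one, zpow_add, zpow_one, mul_eq_one_iff_eq_inv] at h
    exact hi'.symm.trans h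

/-- Centralising is invariant inside the normaliser. -/
theorem commute_conj {g a : G} (hg : g ∈ Subgroup.normalizer (Subgroup.zpowers y : Set G))
    (h : Commute a y) : Commute (g * a * g⁻¹) y := by
  obtain ⟨i, hi⟩ := (Subgroup.mem_normalizer_iff.mp (inv_mem hg) y).mp (Subgroup.mem_zpowers y)
  have hi' : y ^ i = g⁻¹ * y * g := by
    have : y ^ i = g⁻¹ * y * g⁻¹⁻¹ := hi
    rwa [inv_inv] at this
  have := (Commute.conj_iff g).mpr (hi' ▸ h.zpow_right i)
  rwa [show g * (g⁻¹ * y * g) * g⁻¹ = y by group] at this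

/-- The involutions of a four-group permuted cyclically centralise. -/
theorem three_fixed (hr : r.Prime) (hr2 : r ≠ 2) (hy : orderOf y = r) {a b g : G} (ha : a * a = 1)
    (hb : b * b = 1) (hgN : g ∈ Subgroup.normalizer (Subgroup.zpowers y : Set G))
    (haN : a ∈ Subgroup.normalizer (Subgroup.zpowers y : Set G))
    (hab : g * a * g⁻¹ = b) (hbc : g * (a * b) * g⁻¹ = a) : Commute a y ∧ Commute b y := by
  have hbN : b ∈ Subgroup.normalizer (Subgroup.zpowers y : Set G) :=
    hab ▸ mul_mem (mul_mem hgN haN) (inv_mem hgN)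
  suffices h : Commute a y from ⟨h, hab ▸ commute_conj hgN h⟩
  by_contra hc
  have hai := (inv_or_comm hr hy ha haN).resolve_left hc
  rcases inv_or_comm hr hy hb hbN with hbc' | hbi
  · refine hc ?_
    have := commute_conj (inv_mem hgN) hbc'
    rwa [← hab, show g⁻¹ * (g * a * g⁻¹) * g⁻¹⁻¹ = a by group] at this
  · have h1 : Commute (a * b) y := by
      refine mul_inv_eq_iff_eq_mul.mp ?_
      calc a * b * y * (a * b)⁻¹ = a * (b * y * b⁻¹) * a⁻¹ := by group
        _ = (a * y * a⁻¹)⁻¹ := by rw [hbi]; group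
        _ = y := by rw [hai, inv_inv]
    exact hc (hbc ▸ commute_conj hgN h1)

/-- In a simple group no subgroup of odd prime order is normal. -/
theorem normalizer_zpowers_ne_top [IsSimpleGroup G] (h2 : 2 ∣ Nat.card G) (hr : r.Prime) (hr2 : r ≠ 2)
    (hy : orderOf y = r) : Subgroup.normalizer (Subgroup.zpowers y : Set G) ≠ ⊤ := by
  intro h
  haveI := Subgroup.normalizer_eq_top_iff.mp h
  rcases (inferInstance : (Subgroup.zpowers y).Normal).eq_bot_or_eq_top with e | e
  · rw [Subgroup.zpowers_eq_bot] at e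
    rw [e, orderOf_one] at hy
    exact hr.one_lt.ne hy
  · rw [← Subgroup.card_top, ← e, Nat.card_zpowers, hy] at h2
    exact hr2 ((Nat.prime_dvd_prime_iff_eq Nat.prime_two hr).mp h2).symm

namespace DDat

variable (D : DDat G)

theorem two_dvd_card (D : DDat G) : 2 ∣ Nat.card G := D.ht2 ▸ orderOf_dvd_natCard D.t

/-- The order of the centraliser. -/
theorem card_C : Nat.card D.C = Nat.card D.O * Nat.card (D.S : Subgroup G) := by
  rw [← Nat.card_prod]
  refine (Nat.card_congr (Equiv.ofBijective (fun z : D.O × (D.S : Subgroup G) =>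
    (⟨(z.1 : G) * (z.2 : G), mul_mem (D.hOC z.1.2) (D.S_le z.2.2)⟩ : D.C)) ⟨?_, ?_⟩)).symm
  · rintro ⟨o, s⟩ ⟨o', s'⟩ h
    have h1 : (o : G) * s = o' * s' := congrArg Subtype.val h
    have h2 : (o' : G)⁻¹ * o = s' * (s : G)⁻¹ := by
      rw [eq_mul_inv_iff_mul_eq, mul_assoc, h1, inv_mul_cancel_left]
    have h3 := D.O_inf_S (mul_mem (inv_mem o'.2) o.2) (h2 ▸ mul_mem s'.2 (inv_mem s.2))
    rw [h3, eq_comm, mul_inv_eq_one] at h2
    rw [inv_mul_eq_one] at h3
    exact Prod.ext (Subtype.ext h3.symm) (Subtype.ext h2.symm)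
  · rintro ⟨c, hc⟩
    obtain ⟨o, ho, s, hs, rfl⟩ := D.hfac c hc
    exact ⟨⟨⟨o, ho⟩, ⟨s, hs⟩⟩, rfl⟩

theorem O_isZGroup (hG : AC G) : IsZGroup ↥D.O := hG.isZGroup D.hOodd

theorem C_le_normalizer (hG : AC G) {z : G} (hz : z ∈ fit D.O) :
    D.C ≤ Subgroup.normalizer (Subgroup.zpowers z : Set G) := by
  haveI := D.O_isZGroup hG
  exact D.hOn.trans (fit_zpowers_normalizer D.O hz)

theorem prime_ne_two {z : G} (hz : z ∈ D.O) (ho : orderOf z = r) : r ≠ 2 :=
  fun e => D.odd_order hz (by rw [ho, e])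

/-- The rotating element normalises a central subgroup of prime order of the core of a four-group. -/
theorem rotate_normalizes (hG : AC G) (hr : r.Prime) (hyO : y ∈ D.O) (hy : orderOf y = r)
    (hn : D.C ≤ Subgroup.normalizer (Subgroup.zpowers y : Set G)) {x g : G}
    (hxy : Commute x y) (hgo : ¬ 2 ∣ orderOf g) (hgt : g * D.t * g⁻¹ = x)
    (hgx : g * x * g⁻¹ = D.t * x) (hgtx : g * (D.t * x) * g⁻¹ = D.t) :
    g ∈ Subgroup.normalizer (Subgroup.zpowers y : Set G) := by
  haveI := Fact.mk hr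
  have hty : Commute D.t y := (Subgroup.mem_centralizer_singleton_iff.mp (D.hOC hyO)).symm
  set z := g * y * g⁻¹ with hz
  have hzo : orderOf z = r := by rw [hz, CfsgLib.Involutions.orderOf_conj, hy]
  have hzt : Commute z D.t := hgtx ▸ (Commute.conj_iff g).mpr (hty.mul_left hxy).symm
  have hzO : z ∈ D.O := D.odd_mem (Subgroup.mem_centralizer_singleton_iff.mpr hzt.eq)
    (fun h => D.prime_ne_two hyO hy ((Nat.prime_dvd_prime_iff_eq Nat.prime_two hr).mp (hzo ▸ h)).symm)
  have hzN := hn (D.hOC hzO)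
  -- an element of the same prime order in the normaliser generates the same subgroup
  have hcomm : Commute z y := by
    obtain ⟨i, hi⟩ := (Subgroup.mem_normalizer_iff.mp hzN y).mp (Subgroup.mem_zpowers y)
    have hi' : y ^ i = z * y * z⁻¹ := hi
    set Z := Subgroup.zpowers y
    set f := Z.normalizerMonoidHom
    have h1 : orderOf (f ⟨z, hzN⟩) ∣ r := hzo ▸ (by
      have := orderOf_map_dvd f ⟨z, hzN⟩
      rwa [Subgroup.orderOf_mk] at this)
    have h2 : orderOf (f ⟨z, hzN⟩) ∣ r - 1 := by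
      have h := orderOf_dvd_natCard (f ⟨z, hzN⟩)
      rwa [IsCyclic.card_mulAut, show Nat.card Z = r from (Nat.card_zpowers y).trans hy,
        Nat.totient_prime hr] at h
    have h3 := orderOf_eq_one_iff.mp (Nat.eq_one_of_dvd_coprimes
      ((hr.coprime_iff_not_dvd).mpr fun h => by
        have h5 := hr.two_le
        have := Nat.le_of_dvd (by omega) h
        omega) h1 h2)
    have h4 := congrArg Subtype.val (DFunLike.congr_fun h3 ⟨y, Subgroup.mem_zpowers y⟩)
    exact mul_inv_eq_iff_eq_mul.mp h4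
  have e := hG.zpowers_eq hr (D.prime_ne_two hyO hy) hzo hy hcomm
  have key : ∀ v ∈ Subgroup.zpowers y, g * v * g⁻¹ ∈ Subgroup.zpowers y := by
    rintro _ ⟨k, rfl⟩
    show g * y ^ k * g⁻¹ ∈ Subgroup.zpowers y
    rw [← conj_zpow, ← e]
    exact ⟨k, rfl⟩
  have key' : ∀ v, v ∈ Subgroup.zpowers y → ∀ n : ℕ, g ^ n * v * (g ^ n)⁻¹ ∈ Subgroup.zpowers y := by
    intro v hv n
    induction n with
    | zero => simpa using hv
    | succ n ih =>
      have := key _ ih
      rwa [show g * (g ^ n * v * (g ^ n)⁻¹) * g⁻¹ = g ^ (n + 1) * v * (g ^ (n + 1))⁻¹ by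
        rw [pow_succ']; group] at this
  refine Subgroup.mem_normalizer_iff.mpr fun v => ⟨key v, fun hv => ?_⟩
  have hpos := orderOf_pos g
  have := key' _ hv (orderOf g - 1)
  have e1 : g ^ (orderOf g - 1) * g = 1 := by
    rw [← pow_succ, Nat.sub_add_cancel hpos, pow_orderOf_eq_one]
  rw [eq_inv_of_mul_eq_one_left e1] at this
  simpa [mul_assoc] using this

end DDat

end CfsgLib.AlmostCyclic
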