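import Cfsg.Agent.Lib.AlmostCyclic.SDLocal
import Cfsg.Agent.Lib.BSW.Dihedral
import Cfsg.Agent.S0514

/-!
# The dihedral configuration
-/

set_option autoImplicit false
set_option linter.style.haveILetI false
set_option linter.unusedSectionVars false

namespace CfsgLib.AlmostCyclic

open Cfsg

universe u

/-- The data of a simple group with dihedral Sylow two-subgroups. -/
structure DDat (G : Type u) [Group G] where
  S : Sylow 2 G
  m : ℕ
  hm : 2 ≤ m
  hm2 : ∃ k, m = 2 ^ (k + 1)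
  σ : G
  w : G
  t : G
  hσS : σ ∈ (S : Subgroup G)
  hwS : w ∈ (S : Subgroup G)
  hσ : orderOf σ = m
  hw : orderOf w = 2
  hwσ : w * σ * w⁻¹ = σ⁻¹
  hwne : w ∉ Subgroup.zpowers σ
  hScases : ∀ s ∈ (S : Subgroup G), ∃ i : ℤ, s = σ ^ i ∨ s = σ ^ i * w
  hcard : Nat.card (S : Subgroup G) = 2 * m
  ht : t = σ ^ (m / 2)
  ht2 : orderOf t = 2
  hone : ∀ a b : G, orderOf a = 2 → orderOf b = 2 → IsConj a b
  hnl : ∀ U : Subgroup G, U ≤ (S : Subgroup G) → IsKleinFour U →
    ¬ CfsgLib.DihedralFusion.Lacking U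
  O : Subgroup G
  hO : O = (oddCore (Subgroup.centralizer ({t} : Set G))).map (Subgroup.centralizer ({t} : Set G)).subtype
  hOC : O ≤ Subgroup.centralizer ({t} : Set G)
  hOn : Subgroup.centralizer ({t} : Set G) ≤ Subgroup.normalizer (O : Set G)
  hOodd : Odd (Nat.card O)
  hfac : ∀ c ∈ Subgroup.centralizer ({t} : Set G), ∃ o ∈ O, ∃ s ∈ (S : Subgroup G), c = o * s

variable {G : Type u} [Group G] [Finite G]

theorem exists_DDat [IsSimpleGroup G] (S : Sylow 2 G) {m : ℕ} (hm : 2 ≤ m)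
    (eS : (S : Subgroup G) ≃* DihedralGroup m) : ∃ D : DDat G, D.S = S ∧ D.m = m := by
  haveI : Fact (Nat.Prime 2) := ⟨Nat.prime_two⟩
  haveI : NeZero m := ⟨by omega⟩
  obtain ⟨k, hk, -⟩ := CfsgLib.DihedralFusion.exists_pow_index hm eS
  obtain ⟨heven, -⟩ := CfsgLib.DihedralFusion.even_shape eS hm
  set σ : G := CfsgLib.DihedralFusion.pt eS (DihedralGroup.r 1) with hσd
  set w : G := CfsgLib.DihedralFusion.pt eS (DihedralGroup.sr 0) with hwd
  have hσi : ∀ i : ℤ, σ ^ i = CfsgLib.DihedralFusion.pt eS (DihedralGroup.r (i : ZMod m)) := fun i => by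
    have h : eS.symm (DihedralGroup.r (i : ZMod m)) = eS.symm (DihedralGroup.r 1) ^ i := by
      rw [← map_zpow, DihedralGroup.r_one_zpow]
    show σ ^ i = ((eS.symm _ : (S : Subgroup G)) : G)
    rw [h, Subgroup.coe_zpow]
    rfl
  have hσ : orderOf σ = m := by
    rw [hσd, CfsgLib.DihedralFusion.pt, Subgroup.orderOf_coe, MulEquiv.orderOf_eq,
      DihedralGroup.orderOf_r_one]
  have hw : orderOf w = 2 := by
    rw [hwd, CfsgLib.DihedralFusion.pt, Subgroup.orderOf_coe, MulEquiv.orderOf_eq,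
      DihedralGroup.orderOf_sr]
  have hwσ : w * σ * w⁻¹ = σ⁻¹ := by
    rw [hwd, hσd, ← CfsgLib.DihedralFusion.pt_inv, ← CfsgLib.DihedralFusion.pt_inv,
      ← CfsgLib.DihedralFusion.pt_mul, ← CfsgLib.DihedralFusion.pt_mul]
    congr 1
    simp [DihedralGroup.inv_sr, DihedralGroup.sr_mul_r, DihedralGroup.sr_mul_sr, DihedralGroup.inv_r]
  have hwne : w ∉ Subgroup.zpowers σ := by
    rintro ⟨i, hi⟩
    have hi' : σ ^ i = w := hi
    rw [hσi, hwd] at hi'
    have := CfsgLib.DihedralFusion.pt_injective eS hi'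
    cases this
  have hScases : ∀ s ∈ (S : Subgroup G), ∃ i : ℤ, s = σ ^ i ∨ s = σ ^ i * w := by
    intro s hs
    rcases hd : eS ⟨s, hs⟩ with j | j
    · refine ⟨(j.val : ℤ), Or.inl ?_⟩
      rw [hσi, ← CfsgLib.DihedralFusion.pt_eq eS hs, hd]
      congr 1
      simp
    · refine ⟨-(j.val : ℤ), Or.inr ?_⟩
      rw [hσi, hwd, ← CfsgLib.DihedralFusion.pt_mul, ← CfsgLib.DihedralFusion.pt_eq eS hs, hd]
      congr 1
      simp [DihedralGroup.r_mul_sr]
  have hcard : Nat.card (S : Subgroup G) = 2 * m :=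
    (Nat.card_congr eS.toEquiv).trans DihedralGroup.nat_card
  set t := σ ^ (m / 2) with htd
  have ht2 : orderOf t = 2 := by
    have e : m = m / 2 * 2 := by omega
    rw [htd, orderOf_pow' _ (by omega), hσ, Nat.gcd_eq_right ⟨2, e⟩]
    exact Nat.div_eq_of_eq_mul_left (by omega) (by omega)
  have htS : t ∈ (S : Subgroup G) := pow_mem (CfsgLib.DihedralFusion.pt_mem eS _) _
  have htinv : t⁻¹ = t := CfsgLib.Involutions.inv_eq_self_of_orderOf ht2
  have htw : w * t * w⁻¹ = t := by rw [htd, ← conj_pow, hwσ, inv_pow, ← htd, htinv]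
  have htZ : ∀ s ∈ (S : Subgroup G), s * t = t * s := by
    intro s hs
    have h1 : ∀ i : ℤ, Commute (σ ^ i) t := fun i => by
      rw [htd]; exact ((Commute.refl σ).zpow_left i).pow_right _
    have h2 : Commute w t := mul_inv_eq_iff_eq_mul.mp htw
    obtain ⟨i, rfl | rfl⟩ := hScases s hs
    · exact (h1 i).eq
    · exact ((h1 i).mul_left h2).eq
  have h4G : 4 ≤ Nat.card G := by
    have := Nat.le_of_dvd Nat.card_pos ((S : Subgroup G).card_subgroup_dvd_card)
    omega
  have hnl : ∀ U : Subgroup G, U ≤ (S : Subgroup G) → IsKleinFour U →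
      ¬ CfsgLib.DihedralFusion.Lacking U := by
    intro U hU hK hL
    obtain ⟨H, hH⟩ := CfsgLib.DihedralFusion.exists_index_two_of_lacking eS hm hU hK hL
    haveI := Subgroup.normal_of_index_eq_two hH
    rcases (inferInstance : H.Normal).eq_bot_or_eq_top with e | e
    · rw [e, Subgroup.index_bot] at hH
      omega
    · rw [e, Subgroup.index_top] at hH
      norm_num at hH
  set C := Subgroup.centralizer ({t} : Set G) with hC
  have hSC : (S : Subgroup G) ≤ C := fun s hs => Subgroup.mem_centralizer_singleton_iff.mpr (htZ s hs)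
  obtain ⟨N, hN, hNodd, j, hNidx⟩ :=
    Cfsg.Agent.S0514.result S m hm ⟨eS⟩ t ht2
  haveI := hN
  let S' : Sylow 2 C := S.subtype hSC
  have hsup : N ⊔ (S' : Subgroup C) = ⊤ := by
    rw [← Subgroup.index_eq_one]
    have h1 : (N ⊔ (S' : Subgroup C)).index ∣ 2 ^ j := hNidx ▸ Subgroup.index_dvd_of_le le_sup_left
    have h2 : ¬ 2 ∣ (N ⊔ (S' : Subgroup C)).index := fun h =>
      S'.not_dvd_index (h.trans (Subgroup.index_dvd_of_le le_sup_right))
    exact Nat.eq_one_of_dvd_coprimes ((Nat.prime_two.coprime_iff_not_dvd.mpr h2).pow_left j) h1 dvd_rfl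
  refine ⟨⟨S, m, hm, ⟨k, hk⟩, σ, w, t, CfsgLib.DihedralFusion.pt_mem eS _,
    CfsgLib.DihedralFusion.pt_mem eS _, hσ, hw, hwσ, hwne, hScases, hcard, htd, ht2,
    CfsgLib.DihedralFusion.all_conj_of_not_lacking eS hm hnl, hnl, _, rfl,
    Subgroup.map_subtype_le _, ?_, ?_, ?_⟩, rfl, rfl⟩
  · intro c hc
    rw [Subgroup.mem_normalizer_iff]
    intro x
    constructor
    · rintro ⟨a, ha, rfl⟩
      exact ⟨⟨c, hc⟩ * a * ⟨c, hc⟩⁻¹, Subgroup.Normal.conj_mem inferInstance a ha _, rfl⟩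
    · rintro ⟨a, ha, hax⟩
      refine ⟨⟨c, hc⟩⁻¹ * a * ⟨c, hc⟩, ?_, ?_⟩
      · simpa using Subgroup.Normal.conj_mem (inferInstance : (oddCore C).Normal) a ha (⟨c, hc⟩ : C)⁻¹
      · show c⁻¹ * (a : G) * c = x
        rw [show (a : G) = c * x * c⁻¹ from hax]
        group
  · rw [Subgroup.card_map_of_injective C.subtype_injective]
    exact CfsgLib.odd_card_oddCore
  · intro c hc
    obtain ⟨a, ha, b, hb, hab⟩ := Subgroup.mem_sup_of_normal_left.mp
      (show (⟨c, hc⟩ : C) ∈ N ⊔ (S' : Subgroup C) by rw [hsup]; trivial)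
    exact ⟨a, ⟨a, CfsgLib.le_oddCore hNodd ha, rfl⟩, b, hb, (congrArg Subtype.val hab).symm⟩

/-- The four-group generated by two commuting involutions. -/
def four (t x : G) (ht : t * t = 1) (hx : x * x = 1) (hc : Commute t x) : Subgroup G where
  carrier := {1, t, x, t * x}
  one_mem' := by simp
  mul_mem' := by
    have h1 : x * t = t * x := hc.eq.symm
    have h2 : t * (t * x) = x := by rw [← mul_assoc, ht, one_mul]
    have h3 : x * (t * x) = t := by rw [← mul_assoc, h1, mul_assoc, hx, mul_one]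
    have h4 : t * x * t = x := by rw [mul_assoc, h1, h2]
    have h5 : t * x * x = t := by rw [mul_assoc, hx, mul_one]
    have h6 : t * x * (t * x) = 1 := by rw [← mul_assoc, h4, hx]
    intro a b ha hb
    simp only [Set.mem_insert_iff, Set.mem_singleton_iff] at ha hb ⊢
    rcases ha with rfl | rfl | rfl | rfl <;> rcases hb with rfl | rfl | rfl | rfl <;>
      simp [ht, hx, h1, h2, h3, h4, h5, h6]
  inv_mem' := by
    intro a ha
    simp only [Set.mem_insert_iff, Set.mem_singleton_iff] at ha ⊢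
    rcases ha with rfl | rfl | rfl | rfl
    · simp
    · exact Or.inr (Or.inl (inv_eq_of_mul_eq_one_right ht))
    · exact Or.inr (Or.inr (Or.inl (inv_eq_of_mul_eq_one_right hx)))
    · exact Or.inr (Or.inr (Or.inr (by
        rw [mul_inv_rev, inv_eq_of_mul_eq_one_right ht, inv_eq_of_mul_eq_one_right hx, hc.eq])))

theorem isKleinFour_four {t x : G} (ht : orderOf t = 2) (hx : orderOf x = 2) (hc : Commute t x)
    (hne : t ≠ x) :
    IsKleinFour (four t x (CfsgLib.Involutions.mul_self_eq_one_of_orderOf ht)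
      (CfsgLib.Involutions.mul_self_eq_one_of_orderOf hx) hc) := by
  have ht1 := (CfsgLib.Involutions.orderOf_eq_two_iff'.mp ht)
  have hx1 := (CfsgLib.Involutions.orderOf_eq_two_iff'.mp hx)
  set V := four t x ht1.1 hx1.1 hc with hV
  have hcard : Nat.card V = 4 := by
    classical
    haveI := Fintype.ofFinite G
    show Nat.card ({1, t, x, t * x} : Set G) = 4
    rw [Nat.card_coe_set_eq, Set.ncard_insert_of_notMem, Set.ncard_insert_of_notMem,
      Set.ncard_insert_of_notMem, Set.ncard_singleton]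
    · simp only [Set.mem_singleton_iff]
      exact fun e => ht1.2 (mul_eq_right.mp e.symm)
    · simp only [Set.mem_insert_iff, Set.mem_singleton_iff, not_or]
      exact ⟨hne, fun e => hx1.2 (mul_eq_left.mp e.symm)⟩
    · simp only [Set.mem_insert_iff, Set.mem_singleton_iff, not_or]
      exact ⟨Ne.symm ht1.2, Ne.symm hx1.2, fun e => hne (by
        rw [← inv_eq_of_mul_eq_one_right ht1.1]; exact inv_eq_of_mul_eq_one_right e.symm)⟩
  refine CfsgLib.DihedralFusion.isKleinFour_of_sq hcard fun v => Subtype.ext ?_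
  have hv : (v : G) = 1 ∨ (v : G) = t ∨ (v : G) = x ∨ (v : G) = t * x := v.2
  show (v : G) * v = 1
  rcases hv with e | e | e | e <;> rw [e]
  · exact one_mul 1
  · exact ht1.1
  · exact hx1.1
  · rw [mul_assoc, ← mul_assoc x t x, ← hc.eq, mul_assoc t x x, hx1.1, mul_one, ht1.1]

/-- Burnside's transfer criterion at an element of prime order. -/
theorem burnside_false [IsSimpleGroup G] (hG : AC G) {r : ℕ} (hr : r.Prime) (hr2 : r ≠ 2) {z t : G}
    (hzo : orderOf z = r) (ht : orderOf t = 2)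
    (hN : ∀ g ∈ Subgroup.normalizer (Subgroup.zpowers z : Set G), Commute g z) : False := by
  haveI := Fact.mk hr
  obtain ⟨P, hP⟩ := (IsPGroup.of_card (n := 1) (show Nat.card (Subgroup.zpowers z) = r ^ 1 by
    rw [Nat.card_zpowers, hzo, pow_one])).exists_le_sylow
  haveI := hG.isCyclic_pGroup hr hr2 P.isPGroup'
  have hzP : z ∈ (P : Subgroup G) := hP (Subgroup.mem_zpowers z)
  have hNle : ∀ x ∈ Subgroup.normalizer (P : Set G), x ∈ Subgroup.normalizer (Subgroup.zpowers z : Set G) := by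
    have hgM : ∀ x ∈ Subgroup.normalizer (P : Set G), x * z * x⁻¹ ∈ Subgroup.zpowers z := by
      intro x hx
      let e : ↥(P : Subgroup G) ≃* ↥(P : Subgroup G) := (P : Subgroup G).normalizerMonoidHom ⟨x, hx⟩
      have e1 : Subgroup.zpowers (e ⟨z, hzP⟩) = Subgroup.zpowers (⟨z, hzP⟩ : ↥(P : Subgroup G)) :=
        CfsgLib.PowerGraph.subgroup_eq_of_card (by
          rw [Nat.card_zpowers, Nat.card_zpowers, MulEquiv.orderOf_eq])
      obtain ⟨i, hi⟩ := (e1 ▸ Subgroup.mem_zpowers (e ⟨z, hzP⟩) :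
        e ⟨z, hzP⟩ ∈ Subgroup.zpowers (⟨z, hzP⟩ : ↥(P : Subgroup G)))
      exact ⟨i, congrArg Subtype.val hi⟩
    have key' : ∀ x ∈ Subgroup.normalizer (P : Set G), ∀ v ∈ Subgroup.zpowers z,
        x * v * x⁻¹ ∈ Subgroup.zpowers z := by
      rintro x hx _ ⟨i, rfl⟩
      show x * z ^ i * x⁻¹ ∈ Subgroup.zpowers z
      rw [← conj_zpow]
      exact zpow_mem (hgM x hx) i
    intro x hx
    refine Subgroup.mem_normalizer_iff.mpr fun v => ⟨key' x hx v, fun hv => ?_⟩
    simpa [mul_assoc] using key' x⁻¹ (inv_mem hx) _ hv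
  have hPC : Subgroup.normalizer (P : Set G) ≤ Subgroup.centralizer (P : Set G) := by
    intro g hg
    obtain ⟨g1, g2, hg12, -, ⟨j, hj⟩, hg2, hg1g, hg2g⟩ := CfsgLib.Blocks.exists_pPart hr g
    have hg2N : g2 ∈ Subgroup.normalizer (P : Set G) := (Subgroup.zpowers_le.mpr hg) hg2g
    have hg1P : g1 ∈ (P : Subgroup G) := by
      have hg1N : g1 ∈ Subgroup.normalizer (P : Set G) := (Subgroup.zpowers_le.mpr hg) hg1g
      have hR : IsPGroup r ↥(Subgroup.zpowers g1 ⊔ (P : Subgroup G)) :=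
        IsPGroup.to_sup_of_normal_right' (IsPGroup.of_card (n := j) (by rw [Nat.card_zpowers, hj]))
          P.isPGroup' (Subgroup.zpowers_le.mpr hg1N)
      exact P.3 hR le_sup_right ▸ Subgroup.mem_sup_left (Subgroup.mem_zpowers g1)
    rw [← hg12]
    letI : IsMulCommutative ↥(P : Subgroup G) := inferInstance
    refine mul_mem (Subgroup.le_centralizer (P : Subgroup G) hg1P) ?_
    set A := Subgroup.zpowers g2 with hA
    have hAP : A ≤ Subgroup.normalizer ((P : Subgroup G) : Set G) := Subgroup.zpowers_le.mpr hg2N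
    obtain ⟨n, hn⟩ := P.isPGroup'.exists_card_eq
    have hcop : (Nat.card A).Coprime (Nat.card (P : Subgroup G)) := by
      rw [hA, Nat.card_zpowers, hn]
      exact ((hr.coprime_iff_not_dvd.mpr hg2).symm).pow_right n
    have hbot : ⁅(P : Subgroup G), A⁆ = ⊥ := by
      by_contra hne'
      obtain ⟨l, hl, hld⟩ := Nat.exists_prime_and_dvd (n := Nat.card ↥⁅(P : Subgroup G), A⁆) fun h =>
        hne' (Subgroup.eq_bot_of_card_eq _ h)
      have hle := CfsgLib.commutator_le_of_le_normalizer hAP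
      have hlr : l = r := by
        have h1 := hld.trans (Subgroup.card_dvd_of_le hle)
        rw [hn] at h1
        exact (Nat.prime_dvd_prime_iff_eq hl hr).mp (hl.dvd_of_dvd_pow h1)
      subst hlr
      obtain ⟨v, hv⟩ := exists_prime_orderOf_dvd_card' _ hld
      have e1 : Subgroup.zpowers (⟨z, hzP⟩ : ↥(P : Subgroup G)) = Subgroup.zpowers ⟨v, hle v.2⟩ :=
        CfsgLib.PowerGraph.subgroup_eq_of_card (by
          rw [Nat.card_zpowers, Nat.card_zpowers, Subgroup.orderOf_mk, Subgroup.orderOf_mk, hzo,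
            Subgroup.orderOf_coe, hv])
      have hzc : z ∈ ⁅(P : Subgroup G), A⁆ := by
        obtain ⟨i, hi⟩ := (e1 ▸ Subgroup.mem_zpowers _ :
          (⟨z, hzP⟩ : ↥(P : Subgroup G)) ∈ Subgroup.zpowers ⟨(v : G), hle v.2⟩)
        have hi' : (v : G) ^ i = z := congrArg Subtype.val hi
        rw [← hi']
        exact zpow_mem v.2 i
      have h2' : z ∈ ((P : Subgroup G) ⊓ Subgroup.centralizer (A : Set G)) ⊓ ⁅(P : Subgroup G), A⁆ :=
        ⟨⟨hzP, fun a ha => ((hN a (hNle a (hAP ha)))).eq⟩, hzc⟩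
      rw [CfsgLib.coprime_abelian_disjoint A _ hAP hcop, Subgroup.mem_bot] at h2'
      rw [h2', orderOf_one] at hzo
      exact hr.one_lt.ne hzo
    rw [Subgroup.commutator_eq_bot_iff_le_centralizer] at hbot
    intro x hx
    exact (hbot hx g2 (Subgroup.mem_zpowers g2)).symm
  have h1 := (MonoidHom.ker_transferSylow_isComplement' P hPC).card_mul
  rcases (inferInstance : (MonoidHom.transferSylow P hPC).ker.Normal).eq_bot_or_eq_top with h | h
  · rw [h, Subgroup.card_bot, one_mul] at h1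
    obtain ⟨n, hn⟩ := P.isPGroup'.exists_card_eq
    have h2' : 2 ∣ Nat.card G := ht ▸ orderOf_dvd_natCard t
    rw [← h1, hn] at h2'
    exact hr2 ((Nat.prime_dvd_prime_iff_eq Nat.prime_two hr).mp (Nat.prime_two.dvd_of_dvd_pow h2')).symm
  · rw [h, Subgroup.card_top] at h1
    have h2' : Nat.card (P : Subgroup G) = 1 := (Nat.mul_eq_left Nat.card_pos.ne').mp h1
    have h3 := Subgroup.orderOf_dvd_natCard _ hzP
    rw [h2', hzo] at h3
    exact hr.not_dvd_one h3

namespace DDat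

variable (D : DDat G)

/-- The centraliser of the central involution. -/
abbrev C : Subgroup G := Subgroup.centralizer ({D.t} : Set G)

theorem t_sq : D.t * D.t = 1 := CfsgLib.Involutions.mul_self_eq_one_of_orderOf D.ht2

theorem t_ne : D.t ≠ 1 := (CfsgLib.Involutions.orderOf_eq_two_iff'.mp D.ht2).2

theorem w_sq : D.w * D.w = 1 := CfsgLib.Involutions.mul_self_eq_one_of_orderOf D.hw

theorem even_m : 2 * (D.m / 2) = D.m := by
  obtain ⟨k, hk⟩ := D.hm2
  rw [hk, pow_succ']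
  omega

theorem w_zpow (i : ℤ) : D.w * D.σ ^ i * D.w⁻¹ = D.σ ^ (-i) := by
  rw [← conj_zpow, D.hwσ, inv_zpow, zpow_neg]

theorem commute_t_σ (i : ℤ) : Commute (D.σ ^ i) D.t := by
  rw [D.ht]; exact ((Commute.refl D.σ).zpow_left i).pow_right _

theorem commute_t_w : Commute D.w D.t := by
  refine mul_inv_eq_iff_eq_mul.mp ?_
  rw [D.ht, ← conj_pow, D.hwσ, inv_pow, ← D.ht,
    CfsgLib.Involutions.inv_eq_self_of_orderOf D.ht2]

theorem S_le : (D.S : Subgroup G) ≤ D.C := by
  intro s hs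
  refine Subgroup.mem_centralizer_singleton_iff.mpr ?_
  obtain ⟨i, rfl | rfl⟩ := D.hScases s hs
  · exact (D.commute_t_σ i).eq
  · exact ((D.commute_t_σ i).mul_left D.commute_t_w).eq

theorem commute_S {s : G} (hs : s ∈ (D.S : Subgroup G)) : Commute s D.t :=
  Subgroup.mem_centralizer_singleton_iff.mp (D.S_le hs)

theorem t_mem : D.t ∈ (D.S : Subgroup G) := by rw [D.ht]; exact pow_mem D.hσS _

/-- The rotations of square one. -/
theorem zpow_sq_cases {a : ℤ} (h : D.σ ^ a * D.σ ^ a = 1) : D.σ ^ a = 1 ∨ D.σ ^ a = D.t := by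
  rw [← zpow_add, ← orderOf_dvd_iff_zpow_eq_one, D.hσ] at h
  have he : (2 : ℤ) * ((D.m / 2 : ℕ) : ℤ) = (D.m : ℤ) := by exact_mod_cast D.even_m
  have h' : ((D.m / 2 : ℕ) : ℤ) ∣ a := by
    rw [← he, ← two_mul] at h
    exact Int.dvd_of_mul_dvd_mul_left two_ne_zero h
  obtain ⟨c, rfl⟩ := h'
  rw [zpow_mul, zpow_natCast, ← D.ht]
  rcases Int.even_or_odd' c with ⟨l, rfl | rfl⟩
  · left
    rw [zpow_mul, zpow_two, D.t_sq, one_zpow]
  · right
    rw [zpow_add, zpow_mul, zpow_two, D.t_sq, one_zpow, one_mul, zpow_one]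

/-- An element of the Sylow subgroup is a reflection when it lies outside the rotations. -/
theorem refl_form {x : G} (hx : x ∈ (D.S : Subgroup G)) (hxσ : x ∉ Subgroup.zpowers D.σ) :
    ∃ j : ℤ, x = D.σ ^ j * D.w := by
  obtain ⟨j, rfl | rfl⟩ := D.hScases x hx
  · exact absurd ⟨j, rfl⟩ hxσ
  · exact ⟨j, rfl⟩

theorem refl_order (j : ℤ) : orderOf (D.σ ^ j * D.w) = 2 := by
  refine CfsgLib.Involutions.orderOf_eq_two_iff'.mpr ⟨?_, fun e => ?_⟩
  · calc D.σ ^ j * D.w * (D.σ ^ j * D.w) = D.σ ^ j * (D.w * D.σ ^ j * D.w⁻¹) * (D.w * D.w) := by group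
      _ = 1 := by rw [D.w_zpow, D.w_sq, mul_one, ← zpow_add, add_neg_cancel, zpow_zero]
  · refine D.hwne ⟨-j, ?_⟩
    show D.σ ^ (-j) = D.w
    rw [zpow_neg]
    exact inv_eq_of_mul_eq_one_right e

theorem refl_not_rot (j : ℤ) : D.σ ^ j * D.w ∉ Subgroup.zpowers D.σ := fun h =>
  D.hwne ((Subgroup.mul_mem_cancel_left (Subgroup.zpowers D.σ) (zpow_mem (Subgroup.mem_zpowers D.σ) j)).mp h)

theorem refl_ne_t {x : G} (hxσ : x ∉ Subgroup.zpowers D.σ) : D.t ≠ x := fun e =>
  hxσ (e ▸ by rw [D.ht]; exact Subgroup.npow_mem_zpowers _ _)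

theorem refl_two {x : G} (hx : x ∈ (D.S : Subgroup G)) (hxσ : x ∉ Subgroup.zpowers D.σ) :
    orderOf x = 2 := by
  obtain ⟨j, rfl⟩ := D.refl_form hx hxσ
  exact D.refl_order j

/-- A reflection centralises only its four-group. -/
theorem cent_refl {x s : G} (hx : x ∈ (D.S : Subgroup G)) (hxσ : x ∉ Subgroup.zpowers D.σ)
    (hs : s ∈ (D.S : Subgroup G)) (hc : Commute s x) :
    s = 1 ∨ s = D.t ∨ s = x ∨ s = D.t * x := by
  obtain ⟨j, rfl⟩ := D.refl_form hx hxσ
  have hrot : ∀ i : ℤ, Commute (D.σ ^ i) (D.σ ^ j * D.w) → D.σ ^ i = 1 ∨ D.σ ^ i = D.t := by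
    intro i h
    refine D.zpow_sq_cases ?_
    have h1 : D.σ ^ j * (D.w * D.σ ^ i * D.w⁻¹) * D.w = D.σ ^ i * (D.σ ^ j * D.w) := by
      rw [h.eq]; group
    rw [D.w_zpow, ← zpow_add, ← mul_assoc, ← zpow_add, mul_left_inj] at h1
    rw [← zpow_add, show i + i = i + j - (j + -i) by ring, zpow_sub, h1, mul_inv_cancel]
  obtain ⟨i, rfl | rfl⟩ := D.hScases s hs
  · rcases hrot i hc with e | e
    · exact Or.inl e
    · exact Or.inr (Or.inl e)
  · have e : D.σ ^ i * D.w = D.σ ^ (i - j) * (D.σ ^ j * D.w) := by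
      rw [← mul_assoc, ← zpow_add, sub_add_cancel]
    rw [e] at hc ⊢
    have hc' : Commute (D.σ ^ (i - j)) (D.σ ^ j * D.w) := by
      have := hc.mul_left ((Commute.refl (D.σ ^ j * D.w)).inv_left)
      rwa [mul_inv_cancel_right] at this
    rcases hrot _ hc' with e' | e' <;> rw [e']
    · exact Or.inr (Or.inr (Or.inl (one_mul _)))
    · exact Or.inr (Or.inr (Or.inr rfl))

/-- Elements of odd order in the centraliser lie in the core. -/
theorem odd_mem {c : G} (hc : c ∈ D.C) (ho : ¬ 2 ∣ orderOf c) : c ∈ D.O := by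
  obtain ⟨o, hoO, s, hs, rfl⟩ := D.hfac c hc
  haveI : ((D.O).subgroupOf D.C).Normal := Subgroup.normal_subgroupOf_of_le_normalizer D.hOn
  set q := QuotientGroup.mk' ((D.O).subgroupOf D.C)
  have hosC : o * s ∈ D.C := hc
  have hsC : s ∈ D.C := D.S_le hs
  have h1 : q ⟨o * s, hosC⟩ = q ⟨s, hsC⟩ := by
    rw [show (⟨o * s, hosC⟩ : D.C) = ⟨o, D.hOC hoO⟩ * ⟨s, hsC⟩ from rfl, map_mul,
      show q ⟨o, D.hOC hoO⟩ = 1 from (QuotientGroup.eq_one_iff _).mpr hoO, one_mul]
  haveI := Fact.mk Nat.prime_two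
  obtain ⟨e, he⟩ := IsPGroup.iff_orderOf.mp D.S.isPGroup' ⟨s, hs⟩
  rw [Subgroup.orderOf_mk] at he
  have h2 : q ⟨s, hsC⟩ = 1 := by
    refine orderOf_eq_one_iff.mp (Nat.eq_one_of_dvd_coprimes
      ((Nat.prime_two.coprime_iff_not_dvd.mpr ho).pow_left e) ?_ ?_)
    · rw [← he, ← Subgroup.orderOf_mk s hsC]; exact orderOf_map_dvd q _
    · rw [← h1, ← Subgroup.orderOf_mk (o * s) hosC]; exact orderOf_map_dvd q _
  have hsO : s ∈ D.O := (QuotientGroup.eq_one_iff (⟨s, hsC⟩ : D.C)).mp h2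
  exact mul_mem hoO hsO

theorem odd_order {o : G} (ho : o ∈ D.O) : ¬ 2 ∣ orderOf o := fun h =>
  Nat.two_dvd_ne_zero.mpr (Nat.odd_iff.mp D.hOodd) (h.trans (Subgroup.orderOf_dvd_natCard _ ho))

theorem O_inf_S {o : G} (ho : o ∈ D.O) (hs : o ∈ (D.S : Subgroup G)) : o = 1 := by
  haveI := Fact.mk Nat.prime_two
  obtain ⟨e, he⟩ := IsPGroup.iff_orderOf.mp D.S.isPGroup' ⟨o, hs⟩
  rw [Subgroup.orderOf_mk] at he
  refine orderOf_eq_one_iff.mp (Nat.eq_one_of_dvd_coprimes
    ((Nat.prime_two.coprime_iff_not_dvd.mpr (D.odd_order ho)).pow_left e) he.dvd dvd_rfl)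

/-- A Sylow element normalises the core. -/
theorem S_normalizes {s : G} (hs : s ∈ (D.S : Subgroup G)) {o : G} (ho : o ∈ D.O) :
    s * o * s⁻¹ ∈ D.O :=
  (Subgroup.mem_normalizer_iff.mp (D.hOn (D.S_le hs)) o).mp ho

/-- The decomposition of an element of the centraliser of `t` commuting with a reflection. -/
theorem cent_two {x c : G} (hx : x ∈ (D.S : Subgroup G)) (hxσ : x ∉ Subgroup.zpowers D.σ)
    (hc : c ∈ D.C) (hcx : Commute c x) :
    ∃ o ∈ D.O, Commute o x ∧ (c = o ∨ c = o * D.t ∨ c = o * x ∨ c = o * (D.t * x)) := by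
  obtain ⟨o, ho, s, hs, rfl⟩ := D.hfac c hc
  have h1 : x * o * x⁻¹ * (x * s * x⁻¹) = o * s := by
    calc x * o * x⁻¹ * (x * s * x⁻¹) = x * (o * s) * x⁻¹ := by group
      _ = o * s := by rw [← hcx.eq, mul_inv_cancel_right]
  have hO' : o⁻¹ * (x * o * x⁻¹) = s * (x * s * x⁻¹)⁻¹ := by
    rw [eq_mul_inv_iff_mul_eq, mul_assoc, h1, inv_mul_cancel_left]
  have h2 : s * (x * s * x⁻¹)⁻¹ = 1 := D.O_inf_S
    (hO' ▸ mul_mem (inv_mem ho) (D.S_normalizes hx ho))
    (mul_mem hs (inv_mem (mul_mem (mul_mem hx hs) (inv_mem hx))))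
  rw [h2, inv_mul_eq_one] at hO'
  rw [mul_inv_eq_one] at h2
  have hsx : Commute s x := (show Commute x s from mul_inv_eq_iff_eq_mul.mp h2.symm).symm
  have hox : Commute o x := (show Commute x o from mul_inv_eq_iff_eq_mul.mp hO'.symm).symm
  refine ⟨o, ho, hox, ?_⟩
  rcases D.cent_refl hx hxσ hs hsx with rfl | rfl | rfl | rfl
  · exact Or.inl (mul_one o)
  · exact Or.inr (Or.inl rfl)
  · exact Or.inr (Or.inr (Or.inl rfl))
  · exact Or.inr (Or.inr (Or.inr rfl))

/-- Odd elements centralising `t` and a reflection lie in the core. -/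
theorem odd_cent_two {x c : G} (hc : c ∈ D.C) (hcx : Commute c x) (ho : ¬ 2 ∣ orderOf c) :
    c ∈ D.O ∧ Commute c x := ⟨D.odd_mem hc ho, hcx⟩

/-- An odd element normalising the four-group of a reflection moves `t` to it. -/
theorem exists_rotate {x : G} (hx : x ∈ (D.S : Subgroup G)) (hxσ : x ∉ Subgroup.zpowers D.σ) :
    ∃ g : G, ¬ 2 ∣ orderOf g ∧ g * D.t * g⁻¹ = x ∧ g * x * g⁻¹ = D.t * x ∧
      g * (D.t * x) * g⁻¹ = D.t := by
  have hxo := D.refl_two hx hxσ
  have hne := D.refl_ne_t hxσ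
  have hcomm : Commute D.t x := (D.commute_S hx).symm
  have hx2 : x * x = 1 := CfsgLib.Involutions.mul_self_eq_one_of_orderOf hxo
  set V := four D.t x D.t_sq hx2 hcomm with hV
  have hK : IsKleinFour V := isKleinFour_four D.ht2 hxo hcomm hne
  have hVS : V ≤ (D.S : Subgroup G) := by
    rintro v (rfl | rfl | rfl | rfl)
    exacts [one_mem _, D.t_mem, hx, mul_mem D.t_mem hx]
  have hnl := D.hnl V hVS hK
  rw [CfsgLib.DihedralFusion.Lacking] at hnl
  push Not at hnl
  obtain ⟨g, hgN, hgo, hgC⟩ := hnl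
  have hgo' : ¬ 2 ∣ orderOf g := Nat.two_dvd_ne_zero.mpr (Nat.odd_iff.mp hgo)
  have hne' : D.t ≠ D.t * x := fun e =>
    (CfsgLib.Involutions.orderOf_eq_two_iff'.mp hxo).2 (mul_eq_left.mp e.symm)
  have hne'' : x ≠ D.t * x := fun e => D.t_ne (mul_eq_right.mp e.symm)
  have himg : ∀ a, a = D.t ∨ a = x ∨ a = D.t * x →
      g * a * g⁻¹ = D.t ∨ g * a * g⁻¹ = x ∨ g * a * g⁻¹ = D.t * x := by
    intro a ha
    have hmem : a ∈ V := by rcases ha with rfl | rfl | rfl <;> simp [hV, four]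
    have h1 : g * a * g⁻¹ ∈ V := (Subgroup.mem_normalizer_iff.mp hgN a).mp hmem
    have h1' : g * a * g⁻¹ = 1 ∨ g * a * g⁻¹ = D.t ∨ g * a * g⁻¹ = x ∨ g * a * g⁻¹ = D.t * x := h1
    refine h1'.resolve_left fun e => ?_
    rw [conj_eq_one_iff] at e
    rcases ha with rfl | rfl | rfl
    · exact D.t_ne e
    · exact (CfsgLib.Involutions.orderOf_eq_two_iff'.mp hxo).2 e
    · exact hne (by
        rw [← CfsgLib.Involutions.inv_eq_self_of_orderOf D.ht2]; exact inv_eq_of_mul_eq_one_right e)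
  have hfix2 : ∀ a : G, g * (g * a * g⁻¹) * g⁻¹ = a → g * a * g⁻¹ = a := by
    intro a h
    obtain ⟨n, hn⟩ := exists_pow_eq_self_of_coprime (Nat.prime_two.coprime_iff_not_dvd.2 hgo') (x := g)
    have hc : Commute (g ^ 2) a := mul_inv_eq_iff_eq_mul.mp (by rw [pow_two]; simpa [mul_assoc] using h)
    have hc' := hc.pow_left n
    rw [hn] at hc'
    rw [hc'.eq, mul_inv_cancel_right]
  have inj : ∀ a b : G, g * a * g⁻¹ = g * b * g⁻¹ → a = b := fun a b e =>
    mul_left_cancel (mul_right_cancel e)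
  have ht1 : g * D.t * g⁻¹ ≠ D.t := by
    intro e
    refine hgC (Subgroup.mem_centralizer_iff.mpr ?_)
    have hx' : g * x * g⁻¹ = x := by
      rcases himg x (Or.inr (Or.inl rfl)) with e' | e' | e'
      · exact absurd (inj x D.t (e'.trans e.symm)).symm hne
      · exact e'
      · refine hfix2 x ?_
        rw [e', show g * (D.t * x) * g⁻¹ = g * D.t * g⁻¹ * (g * x * g⁻¹) by group, e, e', ← mul_assoc,
          D.t_sq, one_mul]
    have c1 : Commute g D.t := mul_inv_eq_iff_eq_mul.mp e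
    have c2 : Commute g x := mul_inv_eq_iff_eq_mul.mp hx'
    rintro v (rfl | rfl | rfl | rfl)
    · rw [one_mul, mul_one]
    · exact c1.eq.symm
    · exact c2.eq.symm
    · exact (c1.mul_right c2).eq.symm
  rcases himg D.t (Or.inl rfl) with e | e | e
  · exact absurd e ht1
  · have hx' : g * x * g⁻¹ = D.t * x := by
      rcases himg x (Or.inr (Or.inl rfl)) with e' | e' | e'
      · exact absurd (hfix2 D.t (by rw [e, e'])) ht1
      · exact absurd (inj D.t x (e.trans e'.symm)) hne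
      · exact e'
    refine ⟨g, hgo', e, hx', ?_⟩
    rw [show g * (D.t * x) * g⁻¹ = g * D.t * g⁻¹ * (g * x * g⁻¹) by group, e, hx', hcomm.eq,
      ← mul_assoc, hx2, one_mul]
  · have htx : g * (D.t * x) * g⁻¹ = x := by
      rcases himg (D.t * x) (Or.inr (Or.inr rfl)) with e' | e' | e'
      · exact absurd (hfix2 D.t (by rw [e, e'])) ht1
      · exact e'
      · exact absurd (inj D.t (D.t * x) (e.trans e'.symm)) hne'
    have hx' : g * x * g⁻¹ = D.t := by
      rcases himg x (Or.inr (Or.inl rfl)) with e' | e' | e'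
      · exact e'
      · exact absurd (inj (D.t * x) x (htx.trans e'.symm)).symm hne''
      · exact absurd (inj D.t x (e.trans e'.symm)) hne
    refine ⟨g⁻¹, by rwa [orderOf_inv], ?_, ?_, ?_⟩
    · rw [← hx']; group
    · conv_lhs => rw [← htx]
      group
    · rw [← e]; group

/-- The core of a four-group: a reflection centralises `t`. -/
theorem refl_mem_C {x : G} (hx : x ∈ (D.S : Subgroup G)) : x ∈ D.C := D.S_le hx

/-- The reflection `w` times a rotation, as a new choice of generators. -/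
def twist : DDat G where
  S := D.S
  m := D.m
  hm := D.hm
  hm2 := D.hm2
  σ := D.σ
  w := D.σ * D.w
  t := D.t
  hσS := D.hσS
  hwS := mul_mem D.hσS D.hwS
  hσ := D.hσ
  hw := by have := D.refl_order 1; rwa [zpow_one] at this
  hwσ := by
    calc D.σ * D.w * D.σ * (D.σ * D.w)⁻¹ = D.σ * (D.w * D.σ * D.w⁻¹) * D.σ⁻¹ := by group
      _ = _ := by rw [D.hwσ, mul_inv_cancel, one_mul]
  hwne := by have := D.refl_not_rot 1; rwa [zpow_one] at this
  hScases := by
    intro s hs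
    obtain ⟨i, rfl | rfl⟩ := D.hScases s hs
    · exact ⟨i, Or.inl rfl⟩
    · exact ⟨i - 1, Or.inr (by rw [← mul_assoc, ← zpow_add_one, sub_add_cancel])⟩
  hcard := D.hcard
  ht := D.ht
  ht2 := D.ht2
  hone := D.hone
  hnl := D.hnl
  O := D.O
  hO := D.hO
  hOC := D.hOC
  hOn := D.hOn
  hOodd := D.hOodd
  hfac := D.hfac

/-- An element of the normaliser of the Sylow subgroup fixes `t` once the order is at least eight. -/
theorem fix_t (hm4 : 4 ≤ D.m) {g : G}
    (hg : ∀ s, s ∈ (D.S : Subgroup G) ↔ g * s * g⁻¹ ∈ (D.S : Subgroup G)) : g ∈ D.C := by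
  have hmem : g * D.t * g⁻¹ ∈ (D.S : Subgroup G) := (hg _).mp D.t_mem
  have hcent : ∀ s ∈ (D.S : Subgroup G), Commute (g * D.t * g⁻¹) s := by
    intro s hs
    have h1 : g⁻¹ * s * g ∈ (D.S : Subgroup G) := (hg _).mpr (by simpa [mul_assoc] using hs)
    have h2 := (Commute.conj_iff g).mpr (D.commute_S h1)
    rw [show g * (g⁻¹ * s * g) * g⁻¹ = s by group] at h2
    exact h2.symm
  have hσw : ∀ j : ℤ, D.σ ^ j * D.w ∈ (D.S : Subgroup G) := fun j =>
    mul_mem (zpow_mem D.hσS j) D.hwS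
  have hne1 : g * D.t * g⁻¹ ≠ 1 := fun e => D.t_ne (conj_eq_one_iff.mp e)
  refine Subgroup.mem_centralizer_singleton_iff.mpr (mul_inv_eq_iff_eq_mul.mp ?_)
  have hr : ∀ j : ℤ, ¬ Commute (D.σ ^ j * D.w) D.σ := by
    intro j h
    have h1 : D.σ ^ j * (D.w * D.σ * D.w⁻¹) * D.w = D.σ * (D.σ ^ j * D.w) := by rw [← h.eq]; group
    rw [D.hwσ, ← mul_assoc, mul_left_inj, ← zpow_neg_one, ← zpow_add] at h1
    rw [← zpow_one_add, zpow_eq_zpow_iff_modEq, D.hσ, Int.modEq_iff_dvd] at h1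
    rw [show 1 + j - (j + -1) = (2 : ℤ) by ring] at h1
    have := Nat.le_of_dvd two_pos (by exact_mod_cast h1 : D.m ∣ 2)
    omega
  rcases D.cent_refl (x := D.σ ^ (0 : ℤ) * D.w) (hσw 0) (D.refl_not_rot 0) hmem (hcent _ (hσw 0))
    with e | e | e | e
  · exact absurd e hne1
  · exact e
  · exact absurd (e ▸ hcent _ D.hσS) (hr 0)
  · have := hcent _ D.hσS
    rw [e, D.ht, zpow_zero, one_mul, ← zpow_natCast D.σ (D.m / 2)] at this
    exact absurd this (hr _)

/-- A reflection whose centraliser in the core is nontrivial and centralised by the whole Sylow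
subgroup leads to a contradiction. -/
theorem fixed_false [IsSimpleGroup G] (hG : AC G) (hm4 : 4 ≤ D.m) {x : G} (hx : x ∈ (D.S : Subgroup G))
    (hxσ : x ∉ Subgroup.zpowers D.σ)
    (hfix : ∀ o ∈ D.O, Commute x o → ∀ s ∈ (D.S : Subgroup G), Commute s o)
    (hne : ∃ o ∈ D.O, o ≠ 1 ∧ Commute x o) : False := by
  haveI : Fact (Nat.Prime 2) := ⟨Nat.prime_two⟩
  set X := D.O ⊓ Subgroup.centralizer ({x} : Set G) with hX
  have hXne : Nat.card X ≠ 1 := by
    intro h
    obtain ⟨o, ho, ho1, hox⟩ := hne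
    have := Subgroup.eq_bot_of_card_eq X h
    exact ho1 (by
      rw [← Subgroup.mem_bot, ← this]
      exact ⟨ho, Subgroup.mem_centralizer_singleton_iff.mpr hox.eq.symm⟩)
  set r := (Nat.card X).minFac with hr
  have hrp : r.Prime := Nat.minFac_prime hXne
  haveI := Fact.mk hrp
  obtain ⟨z0, hz0⟩ := exists_prime_orderOf_dvd_card' (G := X) r (Nat.minFac_dvd _)
  set z : G := (z0 : G) with hz
  have hzo : orderOf z = r := by rw [hz, Subgroup.orderOf_coe, hz0]
  have hr2 : r ≠ 2 := fun e => D.odd_order z0.2.1 (by rw [← hz, hzo, e])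
  have hSz : ∀ s ∈ (D.S : Subgroup G), Commute s z :=
    hfix z z0.2.1 (Subgroup.mem_centralizer_singleton_iff.mp z0.2.2).symm
  set Z := Subgroup.zpowers z with hZ
  set Nz := Subgroup.normalizer (Z : Set G) with hNz
  set f := Z.normalizerMonoidHom with hf
  have hfker : ∀ a : Nz, f a = 1 ↔ Commute (a : G) z := by
    intro a
    have e : Subgroup.centralizer (Z : Set G) = Subgroup.centralizer ({z} : Set G) := by
      rw [hZ, Subgroup.zpowers_eq_closure, Subgroup.centralizer_closure]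
    rw [← MonoidHom.mem_ker, hf, Subgroup.normalizerMonoidHom_ker, Subgroup.mem_subgroupOf, e,
      Subgroup.mem_centralizer_singleton_iff]
    rfl
  haveI : IsCyclic Z := inferInstance
  have hcardf : ∀ a : Nz, orderOf (f a) ∣ r - 1 := fun a => by
    have h := orderOf_dvd_natCard (f a)
    rwa [IsCyclic.card_mulAut, show Nat.card Z = r from (Nat.card_zpowers z).trans hzo,
      Nat.totient_prime hrp] at h
  have hxN : x ∈ Nz := Subgroup.centralizer_le_normalizer _ (by
    rintro _ ⟨i, rfl⟩; exact ((hSz x hx).zpow_right i).eq.symm)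
  -- the normaliser inside the core centralises `z`
  have hOz : ∀ a : Nz, (a : G) ∈ D.O → f a = 1 := by
    intro a ha
    have hx2 := CfsgLib.Involutions.mul_self_eq_one_of_orderOf (D.refl_two hx hxσ)
    have hxi : x⁻¹ = x := inv_eq_of_mul_eq_one_right hx2
    set xN : Nz := ⟨x, hxN⟩ with hxN'
    set c : Nz := (xN * a * xN⁻¹)⁻¹ * a with hc
    have hcO : (c : G) ∈ D.O := mul_mem (inv_mem (D.S_normalizes hx ha)) ha
    obtain ⟨n, hn⟩ := exists_pow_eq_self_of_coprime
      (Nat.prime_two.coprime_iff_not_dvd.2 (D.odd_order hcO)) (x := (c : G))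
    have hxc : x * (c : G) * x⁻¹ = (c : G)⁻¹ := by
      simp only [hc, hxN', Subgroup.coe_mul, Subgroup.coe_inv]
      rw [hxi]
      simp [mul_assoc, hxi, ← mul_assoc x x, hx2]
    set d : Nz := c ^ n with hd
    have hd2 : d ^ 2 = c := Subtype.ext (by
      show ((c : G) ^ n) ^ 2 = c
      rw [← pow_mul, mul_comm, pow_mul, hn])
    have hdO : (d : G) ∈ D.O := pow_mem hcO n
    set k : Nz := a * d⁻¹ with hk
    have hfx : f xN = 1 := (hfker _).mpr (hSz x hx)
    have hfd : f d = 1 := by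
      have h1 : f c = 1 := by
        rw [hc, map_mul, map_inv, map_mul, map_mul, map_inv, hfx, one_mul, inv_one, mul_one,
          inv_mul_cancel]
      rw [hd, map_pow, h1, one_pow]
    have hkO : (k : G) ∈ D.O := mul_mem ha (inv_mem hdO)
    have hkx : x * (k : G) * x⁻¹ = (k : G) := by
      have hdx : x * (d : G) * x⁻¹ = (d : G)⁻¹ := by
        show x * (c : G) ^ n * x⁻¹ = ((c : G) ^ n)⁻¹
        rw [← conj_pow, hxc, inv_pow]
      have e2 : (c : G) = (x * (a : G) * x⁻¹)⁻¹ * a := rfl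
      have hd2' : (d : G) ^ 2 = (c : G) := congrArg Subtype.val hd2
      show x * ((a : G) * (d : G)⁻¹) * x⁻¹ = (a : G) * (d : G)⁻¹
      calc x * ((a : G) * (d : G)⁻¹) * x⁻¹ = (x * a * x⁻¹) * (x * d * x⁻¹)⁻¹ := by group
        _ = (x * a * x⁻¹) * d := by rw [hdx, inv_inv]
        _ = a * (c : G)⁻¹ * d := by rw [e2]; group
        _ = a * (d : G)⁻¹ := by rw [← hd2']; group
    have hkX : (k : G) ∈ X :=
      ⟨hkO, Subgroup.mem_centralizer_singleton_iff.mpr (mul_inv_eq_iff_eq_mul.mp hkx).symm⟩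
    have hfk : f k = 1 := by
      refine orderOf_eq_one_iff.mp (Nat.eq_one_of_dvd_coprimes (a := Nat.card X) (b := r - 1) ?_
        ((orderOf_map_dvd f k).trans (by
          rw [← Subgroup.orderOf_coe]; exact Subgroup.orderOf_dvd_natCard _ hkX)) (hcardf k))
      refine Nat.coprime_of_dvd' fun l hl hlo hlr => ?_
      have h1 : r ≤ l := Nat.minFac_le_of_dvd hl.two_le hlo
      have h4 := hrp.two_le
      have h3 := Nat.le_of_dvd (by omega) hlr
      omega
    rw [show a = k * d by rw [hk, inv_mul_cancel_right], map_mul, hfk, hfd, one_mul]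
  -- Frattini argument inside the centraliser
  refine burnside_false hG hrp hr2 hzo D.ht2 fun g hg => ?_
  set H := Subgroup.centralizer ({z} : Set G) with hH
  have hSH : (D.S : Subgroup G) ≤ H := fun s hs => Subgroup.mem_centralizer_singleton_iff.mpr (hSz s hs).eq
  let SH : Sylow 2 H := D.S.subtype hSH
  have hconjH : ∀ h ∈ H, g * h * g⁻¹ ∈ H := by
    intro h hh
    have hgi : g⁻¹ ∈ Nz := inv_mem hg
    have h1 : g⁻¹ * z * g ∈ Z := by
      have := (Subgroup.mem_normalizer_iff.mp hgi z).mp (Subgroup.mem_zpowers z)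
      rwa [inv_inv] at this
    obtain ⟨i, hi⟩ := h1
    have hi' : z ^ i = g⁻¹ * z * g := hi
    have h2 : Commute h (g⁻¹ * z * g) := by
      rw [← hi']; exact (show Commute h z from Subgroup.mem_centralizer_singleton_iff.mp hh).zpow_right i
    have h3 := (Commute.conj_iff g).mpr h2
    rw [show g * (g⁻¹ * z * g) * g⁻¹ = z by group] at h3
    exact Subgroup.mem_centralizer_singleton_iff.mpr h3.eq
  have hgS : (D.S : Subgroup G).map (MulAut.conj g).toMonoidHom ≤ H := by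
    rintro _ ⟨s, hs, rfl⟩
    exact hconjH s (hSH hs)
  have hP : IsPGroup 2 ↥(((D.S : Subgroup G).map (MulAut.conj g).toMonoidHom).subgroupOf H) :=
    (D.S.isPGroup'.map _).of_equiv (Subgroup.subgroupOfEquivOfLe hgS).symm
  obtain ⟨T, hT⟩ := hP.exists_le_sylow
  obtain ⟨h, hh⟩ := MulAction.exists_smul_eq H T SH
  have hin : ∀ s ∈ (D.S : Subgroup G), (h : G) * g * s * ((h : G) * g)⁻¹ ∈ (D.S : Subgroup G) := by
    intro s hs
    have hm : (⟨g * s * g⁻¹, hconjH s (hSH hs)⟩ : H) ∈ (T : Subgroup H) :=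
      hT (Subgroup.mem_subgroupOf.mpr ⟨s, hs, rfl⟩)
    have h1 : h * ⟨g * s * g⁻¹, hconjH s (hSH hs)⟩ * h⁻¹ ∈ (SH : Subgroup H) := by
      rw [← hh, Sylow.coe_subgroup_smul]
      exact Subgroup.smul_mem_pointwise_smul _ (MulAut.conj h) _ hm
    have h2 : ((h * ⟨g * s * g⁻¹, hconjH s (hSH hs)⟩ * h⁻¹ : H) : G) ∈ (D.S : Subgroup G) := h1
    simpa [mul_assoc] using h2
  have hiff : ∀ s, s ∈ (D.S : Subgroup G) ↔
      (h : G) * g * s * ((h : G) * g)⁻¹ ∈ (D.S : Subgroup G) := by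
    intro s
    refine ⟨hin s, fun hs' => ?_⟩
    have e : (D.S : Subgroup G).map (MulAut.conj ((h : G) * g)).toMonoidHom = (D.S : Subgroup G) := by
      refine Subgroup.eq_of_le_of_card_ge ?_ (by
        rw [← Nat.card_congr ((D.S : Subgroup G).equivMapOfInjective _
          (MulAut.conj ((h : G) * g)).injective).toEquiv])
      rintro _ ⟨v, hv, rfl⟩
      exact hin v hv
    rw [← e] at hs'
    obtain ⟨v, hv, hve⟩ := hs'
    have hve' : (h : G) * g * v * ((h : G) * g)⁻¹ = (h : G) * g * s * ((h : G) * g)⁻¹ := hve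
    rwa [← mul_left_cancel (mul_right_cancel hve')]
  have hfix' := D.fix_t hm4 hiff
  obtain ⟨o, ho, s, hs, e⟩ := D.hfac _ hfix'
  have hhN : (h : G) ∈ Nz := Subgroup.centralizer_le_normalizer _ (by
    rintro _ ⟨i, rfl⟩
    exact ((show Commute (h : G) z from Subgroup.mem_centralizer_singleton_iff.mp h.2).zpow_right i).eq.symm)
  have hsN : s ∈ Nz := Subgroup.centralizer_le_normalizer _ (by
    rintro _ ⟨i, rfl⟩; exact ((hSz s hs).zpow_right i).eq.symm)
  have hoN : o ∈ Nz := by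
    rw [show o = (h : G) * g * s⁻¹ by rw [e, mul_inv_cancel_right]]
    exact mul_mem (mul_mem hhN hg) (inv_mem hsN)
  have hoz : Commute o z := (hfker ⟨o, hoN⟩).mp (hOz ⟨o, hoN⟩ ho)
  have hgeq : g = (h : G)⁻¹ * (o * s) := by rw [← e, inv_mul_cancel_left]
  rw [hgeq]
  exact ((show Commute (h : G) z from Subgroup.mem_centralizer_singleton_iff.mp h.2).inv_left).mul_left
    (hoz.mul_left (hSz s hs))

end DDat

end CfsgLib.AlmostCyclic
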