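import Cfsg.Agent.Lib.AlmostCyclic.SDMain
import Cfsg.Agent.Lib.RankTwoSylow.Main
import Cfsg.Agent.Lib.ZStar.Main

/-!
# The Sylow two-subgroups of a simple group of this kind are dihedral
-/

set_option autoImplicit false
set_option linter.style.haveILetI false
set_option linter.unusedSectionVars false

namespace CfsgLib.AlmostCyclic

open Cfsg

universe u

variable {G : Type u} [Group G] [Finite G]

theorem AC.even_of_not_solvable (hG : AC G) (hns : ¬ Group.IsSolvable G) : 2 ∣ Nat.card G := by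
  by_contra h
  refine hns ?_
  haveI : IsZGroup ↥(⊤ : Subgroup G) := hG.isZGroup (by
    rw [Subgroup.card_top]; exact Nat.odd_iff.mpr (Nat.two_dvd_ne_zero.mp h))
  haveI : Group.IsSolvable ↥(⊤ : Subgroup G) := inferInstance
  exact Group.isSolvable_of_surjective (f := (Subgroup.topEquiv (G := G)).toMonoidHom)
    (Subgroup.topEquiv (G := G)).surjective

theorem AC.rank_le_two (hG : AC G) : Cfsg.PRankLE 2 2 G := by
  intro A _ hA2
  obtain ⟨g, hg⟩ := hG.half_twoGroup (Q := A) fun a => ⟨1, Subtype.ext (by simpa using hA2 a a.2)⟩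
  have h : orderOf g ≤ 2 :=
    Nat.le_of_dvd two_pos (orderOf_dvd_of_pow_eq_one (Subtype.ext (by simpa using hA2 g g.2)))
  calc Nat.card A ≤ 2 * orderOf g := hg
    _ ≤ 2 * 2 := Nat.mul_le_mul_left 2 h
    _ = 2 ^ 2 := rfl

/-- A simple nonsolvable group has no isolated involution. -/
theorem no_isolated [IsSimpleGroup G] (hns : ¬ Group.IsSolvable G) (z : G) :
    ¬ Cfsg.IsIsolatedInvolution z := by
  rintro ⟨hz, hiso⟩
  haveI := Fact.mk Nat.prime_two
  have hO : pPrimeCore 2 G = ⊥ := by
    rcases (inferInstance : (pPrimeCore 2 G).Normal).eq_bot_or_eq_top with h | h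
    · exact h
    · exfalso
      refine CfsgLib.not_dvd_card_pPrimeCore (G := G) Nat.prime_two ?_
      rw [h, Subgroup.card_top]
      exact hz ▸ orderOf_dvd_natCard z
  have hc : z ∈ Subgroup.center G := Subgroup.mem_center_iff.mpr fun g => by
    have h := CfsgLib.ZStar.main_aux _ G rfl z hz hiso g
    rw [hO, Subgroup.mem_bot] at h
    calc g * z = (z * g * z⁻¹ * g⁻¹) * (g * z) := by rw [h, one_mul]
      _ = z * g := by group
  rcases (inferInstance : (Subgroup.center G).Normal).eq_bot_or_eq_top with h | h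
  · rw [h, Subgroup.mem_bot] at hc
    rw [hc, orderOf_one] at hz
    norm_num at hz
  · exact hns (IsSimpleGroup.comm_iff_isSolvable.mp fun a b =>
      Subgroup.mem_center_iff.mp (show b ∈ Subgroup.center G by rw [h]; trivial) a)

theorem not_rank_one [IsSimpleGroup G] (hG : AC G) (hns : ¬ Group.IsSolvable G) :
    ¬ Cfsg.PRankLE 2 1 G := by
  intro h1
  haveI := Fact.mk Nat.prime_two
  obtain ⟨z, hz⟩ := exists_prime_orderOf_dvd_card' (G := G) 2 (hG.even_of_not_solvable hns)
  refine no_isolated hns z ⟨hz, fun g hg => ?_⟩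
  set w := g * z * g⁻¹ with hw
  by_contra hne
  have hz1 : z * z = 1 := CfsgLib.Involutions.mul_self_eq_one_of_orderOf hz
  have hwo : orderOf w = 2 := by rw [hw, CfsgLib.Involutions.orderOf_conj, hz]
  have hw1 : w * w = 1 := CfsgLib.Involutions.mul_self_eq_one_of_orderOf hwo
  set A := Subgroup.closure ({z, w} : Set G) with hA
  have hcomm : IsMulCommutative A := Subgroup.isMulCommutative_closure (by
    simp only [Set.mem_insert_iff, Set.mem_singleton_iff]
    rintro a (rfl | rfl) b (rfl | rfl)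
    exacts [rfl, hg.eq, hg.eq.symm, rfl])
  have hexp : ∀ a ∈ A, a ^ 2 = 1 := by
    intro a ha
    letI := hcomm
    induction ha using Subgroup.closure_induction with
    | mem x hx =>
      rcases hx with rfl | rfl
      · rw [pow_two, hz1]
      · rw [pow_two, hw1]
    | one => exact one_pow 2
    | mul x y hx hy ex ey =>
      rw [(show Commute x y from congrArg Subtype.val (hcomm.is_comm.comm (⟨x, hx⟩ : A) ⟨y, hy⟩)).mul_pow,
        ex, ey, one_mul]
    | inv x hx ex => rw [inv_pow, ex, inv_one]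
  have h2 := h1 A hcomm hexp
  have h3 : ({(1 : A), ⟨z, Subgroup.subset_closure (by simp)⟩, ⟨w, Subgroup.subset_closure (by simp)⟩} :
      Set A).ncard = 3 := by
    rw [Set.ncard_eq_three]
    refine ⟨_, _, _, ?_, ?_, ?_, rfl⟩
    · intro e
      rw [← show (1 : G) = z from congrArg Subtype.val e, orderOf_one] at hz
      norm_num at hz
    · intro e
      rw [← show (1 : G) = w from congrArg Subtype.val e, orderOf_one] at hwo
      norm_num at hwo
    · exact fun e => hne (congrArg Subtype.val e).symm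
  have h4 := Set.ncard_le_ncard (t := (Set.univ : Set A))
    (s := {(1 : A), ⟨z, Subgroup.subset_closure (by simp)⟩, ⟨w, Subgroup.subset_closure (by simp)⟩})
    (Set.subset_univ _)
  rw [h3, Set.ncard_univ] at h4
  omega

theorem not_wreathed {S : Type u} [Group S] [Finite S] (h : Half S) : ¬ Cfsg.IsWreathed S := by
  rintro ⟨n, hn, -, x, y, z, hx, hxy, hdis, -, hzy⟩
  have hy : orderOf y = 2 ^ n := by
    rw [← hzy, CfsgLib.Involutions.orderOf_conj, hx]
  have hcomm : ∀ (a : Subgroup.zpowers x) (b : Subgroup.zpowers y),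
      Commute (a : S) (b : S) := by
    rintro ⟨_, i, rfl⟩ ⟨_, j, rfl⟩
    exact (show Commute x y from hxy).zpow_zpow i j
  let f : Subgroup.zpowers x × Subgroup.zpowers y →* S :=
    MonoidHom.noncommCoprod (Subgroup.zpowers x).subtype (Subgroup.zpowers y).subtype hcomm
  have hf : Function.Injective f := by
    rw [injective_iff_map_eq_one]
    rintro ⟨a, b⟩ hab
    have hab' : (a : S) * (b : S) = 1 := hab
    have ha : (a : S) ∈ Subgroup.zpowers x ⊓ Subgroup.zpowers y := by
      refine Subgroup.mem_inf.mpr ⟨a.2, ?_⟩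
      rw [eq_inv_of_mul_eq_one_left hab']
      exact inv_mem b.2
    rw [hdis, Subgroup.mem_bot] at ha
    rw [ha, one_mul] at hab'
    exact Prod.ext (Subtype.ext ha) (Subtype.ext hab')
  obtain ⟨g, hg⟩ := h.of_injective f hf
  rw [Nat.card_prod, Nat.card_zpowers, Nat.card_zpowers, hx, hy] at hg
  have hgo : orderOf g ≤ 2 ^ n := Nat.le_of_dvd (by positivity) (orderOf_dvd_of_pow_eq_one (by
    refine Prod.ext (Subtype.ext ?_) (Subtype.ext ?_)
    · obtain ⟨i, hi⟩ := g.1.2
      simp only [Prod.pow_fst, Subgroup.coe_pow, Prod.fst_one, Subgroup.coe_one]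
      rw [← hi]
      show (x ^ i) ^ 2 ^ n = 1
      rw [← zpow_natCast, ← zpow_mul, mul_comm, zpow_mul, zpow_natCast, ← hx, pow_orderOf_eq_one,
        one_zpow]
    · obtain ⟨i, hi⟩ := g.2.2
      simp only [Prod.pow_snd, Subgroup.coe_pow, Prod.snd_one, Subgroup.coe_one]
      rw [← hi]
      show (y ^ i) ^ 2 ^ n = 1
      rw [← zpow_natCast, ← zpow_mul, mul_comm, zpow_mul, zpow_natCast, ← hy, pow_orderOf_eq_one,
        one_zpow]))
  have h4 : 4 ≤ 2 ^ n := le_trans (by norm_num) (Nat.pow_le_pow_right two_pos hn)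
  nlinarith

/-- An automorphism permuting the involutions transitively leaves only the four-group. -/
theorem card_le_four_of_transitive {S : Type u} [Group S] [Finite S] (hS : IsPGroup 2 S) (h : Half S)
    (hr : ¬ Cfsg.PRankLE 2 1 S) (φ : MulAut S)
    (htr : ∀ s t : S, orderOf s = 2 → orderOf t = 2 → ∃ k : ℕ, (φ ^ k) s = t) :
    Nat.card S ≤ 4 := by
  haveI := Fact.mk Nat.prime_two
  obtain ⟨C, hC, hi⟩ := cyclic_index_of_half h
  have hsq : ∀ a : S, a ^ 2 ∈ C := by
    intro a
    rcases (Nat.dvd_prime Nat.prime_two).mp hi with h1 | h2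
    · rw [Subgroup.index_eq_one.mp h1]; trivial
    · exact Subgroup.sq_mem_of_index_two h2 a
  by_contra hlt
  -- an involution of `C` that is a square
  obtain ⟨g, hg⟩ := hC.exists_generator
  have hgc : orderOf (g : S) = Nat.card C := by
    rw [Subgroup.orderOf_coe, orderOf_eq_card_of_forall_mem_zpowers hg]
  have hcard : Nat.card S ≤ 2 * Nat.card C := by
    rw [← C.card_mul_index, mul_comm]
    exact Nat.mul_le_mul_right _ (Nat.le_of_dvd two_pos hi)
  obtain ⟨m, hm⟩ := hS.to_subgroup C |>.exists_card_eq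
  obtain ⟨e, rfl⟩ : ∃ e, m = e + 2 := ⟨m - 2, by
    rcases m with _ | _ | m
    · rw [hm] at hcard; norm_num at hcard; omega
    · rw [hm] at hcard; norm_num at hcard; omega
    · omega⟩
  set s := ((g : S) ^ 2 ^ e) ^ 2 with hs
  have hso : orderOf s = 2 := by
    rw [hs, ← pow_mul, ← pow_succ, orderOf_pow' _ (by positivity), hgc, hm,
      Nat.gcd_eq_right (pow_dvd_pow 2 (by omega)), Nat.pow_div (by omega) two_pos,
      show e + 2 - (e + 1) = 1 by omega, pow_one]
  -- every involution is that one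
  have huniq : ∀ t : S, orderOf t = 2 → t = s := by
    intro t ht
    obtain ⟨j, hj⟩ := htr s t hso ht
    have htC : t ∈ C := by rw [← hj, hs, map_pow]; exact hsq _
    have hsC : s ∈ C := hsq _
    haveI := hC
    have e1 : Subgroup.zpowers (⟨t, htC⟩ : C) = Subgroup.zpowers (⟨s, hsC⟩ : C) :=
      CfsgLib.PowerGraph.subgroup_eq_of_card (by
        rw [Nat.card_zpowers, Nat.card_zpowers, Subgroup.orderOf_mk, Subgroup.orderOf_mk, ht, hso])
    obtain ⟨l, hl⟩ := (e1 ▸ Subgroup.mem_zpowers _ : (⟨t, htC⟩ : C) ∈ Subgroup.zpowers ⟨s, hsC⟩)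
    have hl' : s ^ l = t := congrArg Subtype.val hl
    rcases Int.even_or_odd' l with ⟨i, rfl | rfl⟩
    · exfalso
      rw [zpow_mul, show s ^ (2 : ℤ) = 1 from by
        rw [zpow_two]; exact CfsgLib.Involutions.mul_self_eq_one_of_orderOf hso, one_zpow] at hl'
      rw [← hl', orderOf_one] at ht
      norm_num at ht
    · rw [← hl', zpow_add, zpow_mul, show s ^ (2 : ℤ) = 1 from by
        rw [zpow_two]; exact CfsgLib.Involutions.mul_self_eq_one_of_orderOf hso, one_zpow, one_mul,
        zpow_one]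
  refine hr fun A _ hA2 => ?_
  have hA : ∀ a ∈ A, a ∈ Subgroup.zpowers s := by
    intro a ha
    by_cases h1 : a = 1
    · rw [h1]; exact one_mem _
    · rw [huniq a (CfsgLib.Involutions.orderOf_eq_two_iff'.mpr ⟨by rw [← pow_two]; exact hA2 a ha, h1⟩)]
      exact Subgroup.mem_zpowers _
  refine (Subgroup.card_le_of_le hA).trans ?_
  rw [Nat.card_zpowers, hso, pow_one]

/-- The Sylow two-subgroups of a simple group of this kind are dihedral. -/
theorem dihedral_sylow [IsSimpleGroup G] (hG : AC G) (hns : ¬ Group.IsSolvable G) (hind : Ind G)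
    (S : Sylow 2 G) : ∃ m : ℕ, 2 ≤ m ∧ Nonempty (↥(S : Subgroup G) ≃* DihedralGroup m) := by
  obtain ⟨hr2, hr1, hshape | ⟨φ, hφ⟩⟩ :=
    CfsgLib.RankTwoSylow.main hG.rank_le_two (not_rank_one hG hns) (no_isolated hns) S
  · rcases hshape with hd | hq | hw
    · exact hd
    · exact (no_quasidihedral hG hind S hq).elim
    · exact absurd hw (not_wreathed (hG.two S))
  · have h4 := card_le_four_of_transitive S.2 (hG.two S) hr1 φ hφ
    obtain ⟨A, hA, hA2, hA4⟩ : ∃ A : Subgroup ↥(S : Subgroup G), IsMulCommutative A ∧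
        (∀ a ∈ A, a ^ 2 = 1) ∧ ¬ Nat.card A ≤ 2 ^ 1 := by
      simp only [Cfsg.PRankLE, not_forall] at hr1
      obtain ⟨A, h1, h2, h3⟩ := hr1
      exact ⟨A, h1, h2, h3⟩
    haveI := Fact.mk Nat.prime_two
    have hle : Nat.card A ≤ Nat.card ↥(S : Subgroup G) := Nat.card_le_card_of_injective _ A.subtype_injective
    obtain ⟨a, ha⟩ := (S.2.to_subgroup A).exists_card_eq
    have hA4' : Nat.card A = 4 := by
      rw [ha] at hA4 hle ⊢
      rcases a with _ | _ | _ | a
      · norm_num at hA4
      · norm_num at hA4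
      · norm_num
      · exfalso
        have : 8 ≤ 2 ^ (a + 1 + 1 + 1) := le_trans (by norm_num) (Nat.pow_le_pow_right two_pos (show 3 ≤ a + 1 + 1 + 1 by omega))
        omega
    have hS4 : Nat.card ↥(S : Subgroup G) = 4 := by omega
    have hAtop : A = ⊤ := Subgroup.eq_top_of_card_eq A (by rw [hA4', hS4])
    have hexp : ∀ a : ↥(S : Subgroup G), a ^ 2 = 1 := fun a => hA2 a (by rw [hAtop]; trivial)
    haveI hK : IsKleinFour ↥(S : Subgroup G) := by
      refine ⟨hS4, ((Nat.dvd_prime Nat.prime_two).mp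
        (Monoid.exponent_dvd_of_forall_pow_eq_one hexp)).resolve_left fun h => ?_⟩
      haveI := Monoid.exp_eq_one_iff.mp h
      rw [Nat.card_of_subsingleton (1 : ↥(S : Subgroup G))] at hS4
      norm_num at hS4
    exact ⟨2, le_rfl, IsKleinFour.nonempty_mulEquiv⟩

end CfsgLib.AlmostCyclic
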