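import Cfsg.Agent.Lib.AlmostCyclic.DX
import Cfsg.Agent.Lib.AlmostCyclic.SylowTypes
import Cfsg.Agent.Lib.CharTheory.Burnside
import Cfsg.Agent.Lib.PSL2.Aut

/-!
# The simple groups with almost cyclic Sylow subgroups
-/

set_option autoImplicit false
set_option linter.style.haveILetI false
set_option linter.unusedSectionVars false
set_option maxHeartbeats 400000

namespace CfsgLib.AlmostCyclic

open Cfsg

universe u

/-- An isomorphism of fields gives one of the projective special linear groups. -/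
theorem psl_two_map {F K : Type*} [Field F] [Field K] (r : F ≃+* K) :
    Nonempty (Matrix.ProjectiveSpecialLinearGroup (Fin 2) F ≃*
      Matrix.ProjectiveSpecialLinearGroup (Fin 2) K) := by
  let e : Matrix.SpecialLinearGroup (Fin 2) F ≃* Matrix.SpecialLinearGroup (Fin 2) K :=
    { Matrix.SpecialLinearGroup.map (r : F →+* K) with
      invFun := Matrix.SpecialLinearGroup.map (r.symm : K →+* F)
      left_inv := fun A => Subtype.ext (Matrix.ext fun i j => r.symm_apply_apply _)
      right_inv := fun A => Subtype.ext (Matrix.ext fun i j => r.apply_symm_apply _) }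
  refine ⟨QuotientGroup.congr _ _ e ?_⟩
  ext x
  rw [Subgroup.mem_map]
  constructor
  · rintro ⟨y, hy, rfl⟩
    refine Subgroup.mem_center_iff.mpr fun g => e.symm.injective ?_
    simp only [map_mul]
    erw [e.symm_apply_apply]
    exact Subgroup.mem_center_iff.mp hy _
  · intro hx
    refine ⟨e.symm x, Subgroup.mem_center_iff.mpr fun g => e.injective ?_, e.apply_symm_apply x⟩
    simp only [map_mul, e.apply_symm_apply]
    exact Subgroup.mem_center_iff.mp hx _

variable {G : Type u} [Group G] [Finite G]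

namespace DDat

/-- The dihedral configuration is `PSL(2,q)`. -/
theorem psl2 [IsSimpleGroup G] (hG : AC G) (hind : Ind G) (D : DDat G)
    (eS : (D.S : Subgroup G) ≃* DihedralGroup D.m) :
    ∃ (F : Type) (_ : Field F) (_ : Fintype F), Odd (Fintype.card F) ∧
      Nonempty (G ≃* Matrix.ProjectiveSpecialLinearGroup (Fin 2) F) := by
  haveI := D.O_isZGroup hG
  have hX := D.X_bot hG hind
  have hfit : fit D.O = D.O := by
    refine Subgroup.eq_of_le_of_card_ge (fit_le _) ?_
    rw [← D.card_O hG hind, hX, Subgroup.card_bot, one_mul]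
  haveI : IsCyclic ↥D.O := hfit ▸ fit_isCyclic D.O
  letI : IsMulCommutative ↥D.O := inferInstance
  have hinv : ∀ s ∈ (D.S : Subgroup G), s ∉ Subgroup.zpowers D.σ → ∀ y ∈ D.O, s * y * s⁻¹ = y⁻¹ :=
    fun s hs hsσ y hy => D.refl_inverts hG hind hs hsσ y (hfit.symm ▸ hy)
  have hσO : Subgroup.zpowers D.σ ≤ Subgroup.centralizer (D.O : Set G) :=
    Subgroup.zpowers_le.mpr fun o ho => (D.sigma_comm hG hind o ho).eq.symm
  refine CfsgLib.BSW.psl2_of_dihedral D.S D.m D.hm eS D.t D.ht2 D.t_mem
    (fun s hs => (D.commute_S hs).eq) D.O D.hO (fun hne => ?_) ?_ ?_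
  · obtain ⟨o, ho, ho1⟩ := (Subgroup.bot_or_exists_ne_one D.O).resolve_left hne
    have heq : (D.S : Subgroup G) ⊓ Subgroup.centralizer (D.O : Set G) = Subgroup.zpowers D.σ := by
      refine le_antisymm (fun s ⟨hs, hsc⟩ => ?_)
        (le_inf (Subgroup.zpowers_le.mpr D.hσS) hσO)
      by_contra hsσ
      have h := hinv s hs hsσ o ho
      rw [← hsc o ho, mul_inv_cancel_right] at h
      exact ho1 (orderOf_eq_one_iff.mp (Nat.eq_one_of_dvd_coprimes
        (Nat.prime_two.coprime_iff_not_dvd.mpr (D.odd_order ho))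
        (orderOf_dvd_of_pow_eq_one (by rw [pow_two]; exact mul_eq_one_iff_eq_inv.mpr h)) dvd_rfl))
    rw [heq]
    refine ⟨inferInstance, ?_⟩
    have h := Subgroup.card_mul_index ((Subgroup.zpowers D.σ).subgroupOf (D.S : Subgroup G))
    rw [Nat.card_congr (Subgroup.subgroupOfEquivOfLe (Subgroup.zpowers_le.mpr D.hσS)).toEquiv,
      Nat.card_zpowers, D.hσ, D.hcard, mul_comm 2] at h
    exact Nat.eq_of_mul_eq_mul_left (by have := D.hm; omega) h
  · exact fun s hs hsc y hy => hinv s hs (fun h => hsc (hσO h)) y hy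
  · intro Y hY hne n hn
    obtain ⟨r, hr, hrd⟩ := Nat.exists_prime_and_dvd (n := Nat.card Y) fun e =>
      hne (Subgroup.eq_bot_of_card_eq _ e)
    haveI := Fact.mk hr
    obtain ⟨y0, hy0⟩ := exists_prime_orderOf_dvd_card' (G := Y) r hrd
    set y : G := (y0 : G) with hyd
    have hyo : orderOf y = r := by rw [hyd, Subgroup.orderOf_coe, hy0]
    refine D.fit_normalizer hG hind hr (hfit.symm ▸ hY y0.2) hyo ?_
    have key : ∀ a ∈ Subgroup.normalizer (Y : Set G),
        Subgroup.zpowers (a * y * a⁻¹) = Subgroup.zpowers y := by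
      intro a ha
      have hy' := hY ((Subgroup.mem_normalizer_iff.mp ha y).mp y0.2)
      exact hG.zpowers_eq hr (D.prime_ne_two (hY y0.2) hyo)
        (by rw [CfsgLib.Involutions.orderOf_conj, hyo]) hyo
        (congrArg Subtype.val (mul_comm' (⟨_, hy'⟩ : D.O) ⟨y, hY y0.2⟩))
    refine Subgroup.mem_normalizer_iff.mpr fun v => ⟨?_, fun hv => ?_⟩
    · rintro ⟨i, rfl⟩
      rw [← key n hn]
      exact ⟨i, conj_zpow⟩
    · rw [← key n hn] at hv
      obtain ⟨i, hi⟩ := hv
      have hi' : (n * y * n⁻¹) ^ i = n * v * n⁻¹ := hi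
      rw [conj_zpow] at hi'
      exact ⟨i, mul_left_cancel (mul_right_cancel hi')⟩

end DDat

/-- A simple group with almost cyclic Sylow subgroups is `PSL(2,p)`. -/
theorem simple_psl [IsSimpleGroup G] (hG : AC G) (hns : ¬ Group.IsSolvable G) (hind : Ind G) :
    ∃ (p : ℕ) (_ : Fact p.Prime), 5 ≤ p ∧
      Nonempty (G ≃* Matrix.ProjectiveSpecialLinearGroup (Fin 2) (ZMod p)) := by
  classical
  haveI := Fact.mk Nat.prime_two
  obtain ⟨S⟩ : Nonempty (Sylow 2 G) := inferInstance
  obtain ⟨m, hm, ⟨eS⟩⟩ := dihedral_sylow hG hns hind S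
  obtain ⟨D, rfl, rfl⟩ := exists_DDat S hm eS
  obtain ⟨F, _, _, hodd, ⟨e⟩⟩ := D.psl2 hG hind eS
  obtain ⟨p, hchar⟩ := CharP.exists F
  haveI := hchar
  haveI hp : Fact p.Prime := ⟨CharP.char_is_prime F p⟩
  -- the unipotent subgroup is cyclic
  let P : Sylow p (Matrix.ProjectiveSpecialLinearGroup (Fin 2) F) := PSL2.uSylow p
  obtain ⟨n, -, hcardF⟩ := FiniteField.card F p
  have hp2 : p ≠ 2 := by
    rintro rfl
    rw [hcardF, Nat.odd_pow_iff n.ne_zero] at hodd
    exact Nat.not_odd_iff_even.mpr even_two hodd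
  let u : Multiplicative F →* G := e.symm.toMonoidHom.comp PSL2.uHom
  have hu : Function.Injective u := e.symm.injective.comp fun a b h =>
    Multiplicative.toAdd.injective (PSL2.uu_injective (F := F) (a₁ := Multiplicative.toAdd a) (a₂ := Multiplicative.toAdd b) h)
  have hF1 : Fintype.card F = p := by
    have hpg : IsPGroup p ↥u.range := IsPGroup.of_card (n := (n : ℕ)) (by
      rw [← Nat.card_congr (MonoidHom.ofInjective hu).toEquiv, Nat.card_eq_fintype_card,
        Fintype.card_multiplicative, hcardF])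
    haveI := hG.isCyclic_pGroup hp.out hp2 hpg
    haveI : IsCyclic (Multiplicative F) := isCyclic_of_injective (MonoidHom.ofInjective hu).toMonoidHom
      (MonoidHom.ofInjective hu).injective
    obtain ⟨a, ha⟩ := IsCyclic.exists_generator (α := Multiplicative F)
    have h := orderOf_eq_card_of_forall_mem_zpowers ha
    rw [Nat.card_eq_fintype_card, Fintype.card_multiplicative] at h
    have hdvd : orderOf a ∣ p := orderOf_dvd_of_pow_eq_one (Multiplicative.toAdd.injective (by
      rw [toAdd_pow, toAdd_one, nsmul_eq_mul, CharP.cast_eq_zero F p, zero_mul]))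
    rw [h] at hdvd
    exact (hp.out.eq_one_or_self_of_dvd _ hdvd).resolve_left Fintype.one_lt_card.ne'
  let r : ZMod p ≃+* F := ZMod.ringEquivOfPrime F hp.out hF1
  obtain ⟨e'⟩ := psl_two_map r.symm
  refine ⟨p, hp, ?_, ⟨e.trans e'⟩⟩
  by_contra hlt
  have h3 : p = 3 := by
    have := hp.out.two_le
    interval_cases p
    · exact absurd rfl hp2
    · rfl
    · exact absurd hp.out (by norm_num)
  subst h3
  have hc := card_psl_two (p := 3) (by norm_num)
  rw [← Nat.card_congr (e.trans e').toEquiv] at hc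
  exact hns (CfsgLib.CharTheory.isSolvable_of_card_two_primes (p := 2) (q := 3) (a := 2) (b := 1)
    Nat.prime_two Nat.prime_three (by omega))

end CfsgLib.AlmostCyclic
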