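import Mathlib

/-!
# The arithmetic of the dihedral configuration of order eight
-/

set_option autoImplicit false
set_option maxHeartbeats 400000

namespace CfsgLib.AlmostCyclic

set_option synthInstance.maxHeartbeats 200000 in
set_option synthInstance.maxSize 2000 in
theorem four_check : ∀ F < 51, ∀ g < 52, F % 2 = 1 → 1 < F → g % 2 = 1 → (F + 1) % g = 0 →
    ∀ e ∈ ([1, -1] : List ℤ),
      (9 * (1 + 4 * e * (((F + 1) / g : ℕ) : ℤ))) %
          ((2 * ((F : ℤ) + 1) + e * (g : ℤ)) ^ 2 - 16 * (F : ℤ)) = 0 →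
        (F = 3 ∧ g = 1 ∧ e = -1) ∨ (F = 5 ∧ g = 3 ∧ e = -1) := by
  decide +kernel

theorem four_arith {F : ℕ} {N a b c : ℤ} (hF : Odd F) (hF1 : 1 < F) (hN : Odd N)
    (ha : a % 4 = 1) (hb : b ≠ 0) (hc : c ≠ 0)
    (E1 : N * (a - 1) ^ 2 = 8 * (1 + (F : ℤ)) ^ 2 * a * (a + 1))
    (E2 : b + c = -1 - a)
    (E3 : 32 * (F : ℤ) * (a * b * c) = N * (a * b * c + b * c + a * c + a * b))
    (E4 : ∀ r : ℕ, r.Prime → r ∣ F → ∃ i : ℕ, N = 3 * (i : ℤ) ∧ i % r = 1) : False := by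
  have hF0 : (0 : ℤ) ≤ (F : ℤ) := Int.natCast_nonneg F
  have ha0 : a ≠ 0 := by omega
  have ha1 : a - 1 ≠ 0 := by
    intro h
    rw [show a = 1 by omega] at E1
    nlinarith
  obtain ⟨s, hs⟩ : ∃ s, a + 1 = 2 * s := ⟨(a + 1) / 2, by omega⟩
  have hsodd : s % 2 = 1 := by omega
  have hcop : IsCoprime ((a - 1) ^ 2) (a * s) := by
    refine IsCoprime.pow_left (IsCoprime.mul_right ⟨-1, 1, by ring⟩ ?_)
    obtain ⟨k, hk⟩ : ∃ k, s = 2 * k + 1 := ⟨s / 2, by omega⟩
    have hk' : a - 1 = 4 * k := by omega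
    exact ⟨k, 1 - 2 * k, by rw [hk', hk]; ring⟩
  have hdvd : (a - 1) ∣ 4 * (1 + (F : ℤ)) := by
    rw [← Int.pow_dvd_pow_iff (two_ne_zero : (2 : ℕ) ≠ 0)]
    refine hcop.dvd_of_dvd_mul_right ⟨N, ?_⟩
    rw [mul_comm ((a - 1) ^ 2) N, E1, hs]
    ring
  obtain ⟨g, hg⟩ := hdvd
  have hNg : N = g ^ 2 * a * s := by
    refine mul_right_cancel₀ (pow_ne_zero 2 ha1) ?_
    rw [E1, hs, show g ^ 2 * a * s * (a - 1) ^ 2 = ((a - 1) * g) ^ 2 * (a * s) by ring, ← hg]
    ring
  set A := g * s with hA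
  have hA' : A = 2 * (1 + (F : ℤ)) + g := by
    have h : g * (a + 1) = (a - 1) * g + 2 * g := by ring
    rw [hs, ← hg] at h
    linarith [show g * (2 * s) = 2 * A by rw [hA]; ring]
  have hNA : N = g * a * A := by rw [hNg, hA]; ring
  have hgodd : Odd g := by
    rw [hNA] at hN
    exact (Int.odd_mul.mp (Int.odd_mul.mp hN).1).1
  have hAodd : Odd A := by rw [hNA] at hN; exact (Int.odd_mul.mp hN).2
  have hbc : b * c * (A ^ 2 - 16 * (F : ℤ)) = a * A ^ 2 := by
    have h1 : a * b * c + b * c + a * c + a * b = (a + 1) * (b * c - a) := by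
      linear_combination a * E2
    rw [h1, hNA] at E3
    have h2 : g * (a + 1) = 2 * A := by rw [hA, hs]; ring
    have h3 : 2 * a * (16 * (F : ℤ) * (b * c)) = 2 * a * (A ^ 2 * (b * c - a)) := by
      linear_combination E3 + a * A * (b * c - a) * h2
    have h4 := mul_left_cancel₀ (mul_ne_zero two_ne_zero ha0) h3
    linear_combination -h4
  set D := A ^ 2 - 16 * (F : ℤ) with hD
  have hD0 : D ≠ 0 := by
    intro h
    obtain ⟨k, hk⟩ := hAodd
    rw [hD, hk] at h
    have : (2 * k + 1) ^ 2 = 4 * (k * k + k) + 1 := by ring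
    omega
  have hA0 : A ≠ 0 := by obtain ⟨k, hk⟩ := hAodd; omega
  -- the common part
  have hgcd : Int.gcd D (A ^ 2) ∣ 9 := by
    set d := Int.gcd D (A ^ 2) with hd
    have h1 : (d : ℤ) ∣ A ^ 2 := Int.gcd_dvd_right D (A ^ 2)
    have h2 : (d : ℤ) ∣ 16 * (F : ℤ) := by
      have h := dvd_sub h1 (Int.gcd_dvd_left D (A ^ 2))
      rwa [hD, sub_sub_cancel] at h
    have hdodd : Odd d := by
      have := (hAodd.pow (n := 2))
      exact Int.natAbs_natCast d ▸ Int.natAbs_odd.mpr (Int.odd_iff.mpr (by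
        obtain ⟨k, hk⟩ := h1
        have h3 := Int.odd_mul.mp (hk ▸ this)
        exact Int.odd_iff.mp h3.1))
    have hdF : d ∣ F := by
      have h2' : d ∣ 16 * F := by exact_mod_cast h2
      exact ((Nat.coprime_two_right.mpr hdodd).pow_right 4).dvd_of_dvd_mul_left h2'
    have hdA : d ∣ A.natAbs ^ 2 := by
      rw [← Int.natAbs_pow]; exact Int.natCast_dvd.mp h1
    have hd0 : d ≠ 0 := by obtain ⟨k, hk⟩ := hdodd; omega
    have key : ∀ {r : ℕ}, r.Prime → r ∣ d → r = 3 := by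
      intro r hr hrd
      obtain ⟨i, hi, hir⟩ := E4 r hr (hrd.trans hdF)
      have h3 : (r : ℤ) ∣ N := by
        rw [hNA]
        exact dvd_mul_of_dvd_right (Int.natCast_dvd.mpr (hr.dvd_of_dvd_pow (hrd.trans hdA))) _
      rw [hi] at h3
      have h3' : r ∣ 3 * i := by exact_mod_cast h3
      rcases hr.dvd_mul.mp h3' with h | h
      · exact (Nat.prime_dvd_prime_iff_eq hr Nat.prime_three).mp h
      · rw [Nat.mod_eq_zero_of_dvd h] at hir; omega
    have he := Nat.eq_prime_pow_of_unique_prime_dvd hd0 key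
    have hle : d.primeFactorsList.length ≤ 2 := by
      by_contra hcon
      have h27 : 3 ^ 3 ∣ d := by rw [he]; exact pow_dvd_pow 3 (by omega)
      have h9 : 9 ∣ A.natAbs := by
        have h : 3 ^ 3 ∣ A.natAbs ^ 2 := h27.trans hdA
        have h3 : 3 ∣ A.natAbs := Nat.prime_three.dvd_of_dvd_pow ((dvd_pow_self 3 (by norm_num)).trans h)
        obtain ⟨k, hk⟩ := h3
        rw [hk, mul_pow] at h
        have : 3 ∣ k ^ 2 := Nat.dvd_of_mul_dvd_mul_left (show 0 < 3 ^ 2 by norm_num) (by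
          rw [← pow_succ]; exact h)
        rw [hk]
        exact mul_dvd_mul_left 3 (Nat.prime_three.dvd_of_dvd_pow this)
      obtain ⟨i, hi, hir⟩ := E4 3 Nat.prime_three
        (((dvd_pow_self 3 (by norm_num)).trans h27).trans hdF)
      have h3 : (9 : ℤ) ∣ N := by
        rw [hNA]; exact dvd_mul_of_dvd_right (Int.natCast_dvd.mpr h9) _
      rw [hi] at h3
      omega
    rw [he]
    exact (pow_dvd_pow 3 hle).trans (by norm_num)
  have hD9 : D ∣ 9 * a := by
    have h1 : D ∣ a * A ^ 2 := ⟨b * c, by rw [← hbc]; ring⟩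
    have h2 : D ∣ a * (Int.gcd D (A ^ 2) : ℤ) := by
      rw [Int.gcd_eq_gcd_ab, mul_add]
      exact dvd_add (dvd_mul_of_dvd_right (dvd_mul_right _ _) _)
        (by rw [← mul_assoc]; exact dvd_mul_of_dvd_left h1 _)
    obtain ⟨k, hk⟩ := hgcd
    refine h2.trans ⟨(k : ℤ), ?_⟩
    rw [mul_assoc, ← Int.natCast_mul, ← hk]
    push_cast
    ring
  -- the bound
  have hg1 : g ≠ 0 := by rintro rfl; omega
  have hgF : g.natAbs ∣ F + 1 := by
    have h : g.natAbs ∣ 4 * (F + 1) := by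
      have h' : g ∣ 4 * (1 + (F : ℤ)) := Dvd.intro_left _ hg.symm
      have h'' := Int.natAbs_dvd_natAbs.mpr h'
      rwa [show 4 * (1 + (F : ℤ)) = ((4 * (F + 1) : ℕ) : ℤ) by push_cast; ring, Int.natAbs_natCast] at h''
    exact ((Nat.coprime_two_right.mpr (Int.natAbs_odd.mpr hgodd)).pow_right 2).dvd_of_dvd_mul_left h
  obtain ⟨e, he, hge⟩ : ∃ e ∈ ([1, -1] : List ℤ), g = e * (g.natAbs : ℤ) := by
    rcases Int.natAbs_eq g with h | h
    · exact ⟨1, by simp, by omega⟩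
    · exact ⟨-1, by simp, by omega⟩
  have hk : a - 1 = 4 * e * (((F + 1) / g.natAbs : ℕ) : ℤ) := by
    obtain ⟨k, hk⟩ := hgF
    have hpos : 0 < g.natAbs := Int.natAbs_pos.mpr hg1
    rw [hk, Nat.mul_div_cancel_left _ hpos]
    refine mul_right_cancel₀ hg1 ?_
    rw [← hg]
    have h2 : (F : ℤ) + 1 = (g.natAbs : ℤ) * (k : ℤ) := by exact_mod_cast hk
    have h3 : e * e = 1 := by
      simp only [List.mem_cons, List.not_mem_nil, or_false] at he
      rcases he with rfl | rfl <;> norm_num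
    rw [hge, add_comm, h2]
    linear_combination (-4 * ((g.natAbs : ℤ) * (k : ℤ))) * h3
  have hbound : F ≤ 50 := by
    have h1 : |D| ≤ |9 * a| := by
      obtain ⟨k, hk'⟩ := hD9
      rw [hk', abs_mul]
      refine le_mul_of_one_le_right (abs_nonneg _) (Int.one_le_abs fun h => ?_)
      rw [h, mul_zero] at hk'
      omega
    have hgle : (g.natAbs : ℤ) ≤ (F : ℤ) + 1 := by exact_mod_cast Nat.le_of_dvd (by omega) hgF
    have hd : (((F + 1) / g.natAbs : ℕ) : ℤ) ≤ (F : ℤ) + 1 := by exact_mod_cast Nat.div_le_self _ _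
    have hd0 : (0 : ℤ) ≤ (((F + 1) / g.natAbs : ℕ) : ℤ) := Int.natCast_nonneg _
    have h2 : |9 * a| ≤ 9 * (4 * ((F : ℤ) + 1) + 1) := by
      rw [abs_le]
      simp only [List.mem_cons, List.not_mem_nil, or_false] at he
      rcases he with rfl | rfl <;> constructor <;> linarith
    have h3 : ((F : ℤ) + 1) ^ 2 ≤ A ^ 2 := by
      refine pow_le_pow_left₀ (by omega) ?_ 2
      rw [hA']
      omega
    have h4 := le_abs_self D
    by_contra hcon
    push Not at hcon
    have h5 : (51 : ℤ) ≤ (F : ℤ) := by exact_mod_cast hcon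
    nlinarith
  have hfin := four_check F (by omega) g.natAbs (by have := Nat.le_of_dvd (by omega) hgF; omega)
    (Nat.odd_iff.mp hF) hF1 (Nat.odd_iff.mp (Int.natAbs_odd.mpr hgodd))
    (Nat.mod_eq_zero_of_dvd hgF) e he (by
      apply Int.emod_eq_zero_of_dvd
      rw [← hge, ← hk, show 1 + (a - 1) = a by ring, show 2 * ((F : ℤ) + 1) + g = A by rw [hA']; ring]
      exact hD9)
  rcases hfin with ⟨rfl, hgv, rfl⟩ | ⟨rfl, hgv, rfl⟩
  · obtain ⟨i, hi, hir⟩ := E4 3 Nat.prime_three dvd_rfl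
    rw [hgv] at hge hk
    norm_num at hge hk
    rw [hge] at hA'
    norm_num at hA'
    rw [hNA, hge, hA', show a = -15 by omega] at hi
    norm_num at hi
    omega
  · obtain ⟨i, hi, hir⟩ := E4 5 (by norm_num) dvd_rfl
    rw [hgv] at hge hk
    norm_num at hge hk
    rw [hge] at hA'
    norm_num at hA'
    rw [hNA, hge, hA', show a = -7 by omega] at hi
    norm_num at hi
    omega

end CfsgLib.AlmostCyclic
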