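import Cfsg.Agent.Lib.AlmostCyclic.DAction
import Cfsg.Agent.Lib.PSolvable

/-!
# A reflection fused to the central involution inside a solvable subgroup
-/

set_option autoImplicit false
set_option linter.style.haveILetI false
set_option linter.unusedSectionVars false
set_option maxHeartbeats 400000

namespace CfsgLib.AlmostCyclic

open Cfsg

universe u

namespace DDat

variable {G : Type u} [Group G] [Finite G] (D : DDat G)

/-- The structure of a solvable overgroup of `C` fusing a reflection to `t`. -/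
theorem solv_struct (hG : AC G) {M : Subgroup G} (hsol : Group.IsSolvable M) (hCM : D.C ≤ M) {x g : G}
    (hx : x ∈ (D.S : Subgroup G)) (hxσ : x ∉ Subgroup.zpowers D.σ) (hgM : g ∈ M)
    (hgo : ¬ 2 ∣ orderOf g) (hgt : g * D.t * g⁻¹ = x) (hgtx : g * (D.t * x) * g⁻¹ = D.t) :
    D.m ∣ 4 ∧ (∀ o ∈ D.O, Commute o x) ∧ Nat.card M = 3 * Nat.card D.C := by
  classical
  haveI := Fact.mk Nat.prime_two
  haveI := hsol
  set Km : Subgroup M := oddCore M with hKm
  haveI hKn : Km.Normal := by rw [hKm]; infer_instance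
  have hKodd : Odd (Nat.card Km) := CfsgLib.odd_card_oddCore
  set q : M →* M ⧸ Km := QuotientGroup.mk' Km with hq
  haveI : Group.IsSolvable (M ⧸ Km) :=
    Group.isSolvable_of_surjective (f := q) (QuotientGroup.mk'_surjective Km)
  have hQcore : pPrimeCore 2 (M ⧸ Km) = ⊥ := CfsgLib.pPrimeCore_quotient_eq_bot 2
  set F := pCore 2 (M ⧸ Km) with hF
  haveI hFn : F.Normal := by rw [hF]; infer_instance
  have hCF : Subgroup.centralizer (F : Set (M ⧸ Km)) ≤ F := CfsgLib.centralizer_pCore_le Nat.prime_two hQcore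
  have hx2 := D.refl_two hx hxσ
  have hSM : (D.S : Subgroup G) ≤ M := D.S_le.trans hCM
  set SM : Subgroup M := (D.S : Subgroup G).subgroupOf M with hSM'
  have hSK : ∀ s : M, (s : G) ∈ (D.S : Subgroup G) → q s = 1 → s = 1 := by
    intro s hs h
    have hsK : s ∈ Km := (QuotientGroup.eq_one_iff s).mp h
    obtain ⟨e, he⟩ := IsPGroup.iff_orderOf.mp D.S.isPGroup' ⟨(s : G), hs⟩
    rw [Subgroup.orderOf_mk, Subgroup.orderOf_coe] at he
    refine orderOf_eq_one_iff.mp (Nat.eq_one_of_dvd_coprimes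
      ((Nat.Prime.coprime_iff_not_dvd Nat.prime_two).mpr
        (fun h2 => Nat.not_even_iff_odd.mpr hKodd (even_iff_two_dvd.mpr h2)) |>.pow_left e)
      he.dvd (Subgroup.orderOf_dvd_natCard _ hsK))
  set SQ := SM.map q with hSQ
  have hSQc : Nat.card SQ = 2 * D.m := by
    rw [hSQ, ← D.hcard]
    refine (Nat.card_congr (Equiv.ofBijective
      (fun s : (D.S : Subgroup G) => (⟨q ⟨s, hSM s.2⟩, ⟨s, hSM s.2⟩, s.2, rfl⟩ : SM.map q)) ⟨?_, ?_⟩)).symm
    · intro a b h
      have h1 : q ⟨a, hSM a.2⟩ = q ⟨b, hSM b.2⟩ := congrArg Subtype.val h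
      have h2 := hSK (⟨a, hSM a.2⟩ * ⟨b, hSM b.2⟩⁻¹) (mul_mem a.2 (inv_mem b.2))
        (by rw [map_mul, map_inv, h1, mul_inv_cancel])
      exact Subtype.ext (mul_inv_eq_one.mp (congrArg Subtype.val h2))
    · rintro ⟨_, s, hs, rfl⟩
      exact ⟨⟨s, hs⟩, rfl⟩
  have hQdvd : Nat.card (M ⧸ Km) ∣ Nat.card G :=
    (Subgroup.card_quotient_dvd_card Km).trans M.card_subgroup_dvd_card
  obtain ⟨P, hP⟩ := ((D.S.isPGroup'.comap_of_injective _ M.subtype_injective).map q : IsPGroup 2 SQ).exists_le_sylow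
  have hPeq : SQ = (P : Subgroup (M ⧸ Km)) := by
    refine Subgroup.eq_of_le_of_card_ge hP ?_
    obtain ⟨a, ha⟩ := P.isPGroup'.exists_card_eq
    have h1 : 2 ^ a ∣ (D.S : Subgroup G).index * Nat.card (D.S : Subgroup G) := by
      rw [Subgroup.index_mul_card, ← ha]
      exact (Subgroup.card_subgroup_dvd_card _).trans hQdvd
    have h2 : 2 ^ a ∣ Nat.card (D.S : Subgroup G) :=
      ((Nat.prime_two.coprime_iff_not_dvd.mpr D.S.not_dvd_index).pow_left a).dvd_of_dvd_mul_left h1
    rw [ha, hSQc, ← D.hcard]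
    exact Nat.le_of_dvd Nat.card_pos h2
  have hFS : F ≤ SQ := hPeq ▸ CfsgLib.pCore_le_sylow P
  set tM : M := ⟨D.t, hSM D.t_mem⟩ with htM
  set xM : M := ⟨x, hSM hx⟩ with hxM
  set gM : M := ⟨g, hgM⟩ with hgMd
  have eg1 : q gM * q tM * (q gM)⁻¹ = q xM := by
    rw [← map_inv, ← map_mul, ← map_mul]; exact congrArg q (Subtype.ext hgt)
  have eg2 : q gM * (q tM * q xM) * (q gM)⁻¹ = q tM := by
    rw [← map_mul, ← map_inv, ← map_mul, ← map_mul]; exact congrArg q (Subtype.ext hgtx)
  have ht1 : q tM ≠ 1 := fun h => D.t_ne (congrArg Subtype.val (hSK tM D.t_mem h))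
  -- the central involution lies in `F`
  have hFne : F ≠ ⊥ := by
    intro h
    have : q tM ∈ F := hCF (by rw [h]; intro z hz; rw [Subgroup.mem_bot.mp hz, one_mul, mul_one])
    rw [h, Subgroup.mem_bot] at this
    exact ht1 this
  obtain ⟨a, ha, ha1⟩ := (Subgroup.bot_or_exists_ne_one F).resolve_left hFne
  obtain ⟨sM, hsS, rfl⟩ := hFS ha
  have hsS' : (sM : G) ∈ (D.S : Subgroup G) := hsS
  have htF : q tM ∈ F := by
    by_cases hsσ : (sM : G) ∈ Subgroup.zpowers D.σ
    · obtain ⟨i, hi⟩ := hsσ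
      have hi' : D.σ ^ i = (sM : G) := hi
      obtain ⟨e, he⟩ := IsPGroup.iff_orderOf.mp D.S.isPGroup' ⟨(sM : G), hsS'⟩
      rw [Subgroup.orderOf_mk] at he
      rcases e with _ | e
      · exfalso
        rw [pow_zero, orderOf_eq_one_iff] at he
        exact ha1 (by rw [show sM = 1 from Subtype.ext he, map_one])
      · set v := (sM : G) ^ (2 ^ e) with hv
        have hvo : orderOf v = 2 := by
          rw [hv, orderOf_pow' _ (by positivity), he, Nat.gcd_eq_right (pow_dvd_pow 2 (by omega)),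
            pow_succ, Nat.mul_div_cancel_left _ (by positivity)]
        have hvσ : v = D.σ ^ (i * ((2 ^ e : ℕ) : ℤ)) := by rw [hv, zpow_mul, hi', zpow_natCast]
        have h := D.zpow_sq_cases (a := i * ((2 ^ e : ℕ) : ℤ))
          (hvσ ▸ CfsgLib.Involutions.mul_self_eq_one_of_orderOf hvo)
        rw [← hvσ] at h
        rcases h with h | h
        · rw [h, orderOf_one] at hvo; omega
        · rw [show tM = sM ^ (2 ^ e) from Subtype.ext h.symm, map_pow]
          exact pow_mem ha _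
    · obtain ⟨j, hj⟩ := D.refl_form hsS' hsσ
      by_cases hm2 : D.m = 2
      · have hcx : Commute (sM : G) x := by
          have hS4 : Nat.card (D.S : Subgroup G) = 2 ^ 2 := by rw [D.hcard, hm2]; norm_num
          letI := IsPGroup.commGroupOfCardEqPrimeSq hS4
          exact congrArg Subtype.val (mul_comm (⟨_, hsS'⟩ : (D.S : Subgroup G)) ⟨x, hx⟩)
        rcases D.cent_refl hx hxσ hsS' hcx with h | h | h | h
        · exact absurd (by rw [h]; exact one_mem _) hsσ
        · exact absurd (by rw [h, D.ht]; exact Subgroup.npow_mem_zpowers _ _) hsσ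
        · rw [show sM = xM from Subtype.ext h] at ha
          have := hFn.conj_mem _ ha (q gM)⁻¹
          rwa [inv_inv, ← eg1, show (q gM)⁻¹ * (q gM * q tM * (q gM)⁻¹) * q gM = q tM by group] at this
        · rw [show sM = tM * xM from Subtype.ext h, map_mul] at ha
          exact eg2 ▸ hFn.conj_mem _ ha (q gM)
      · -- a commutator with the rotation
        set σM : M := ⟨D.σ, hSM D.hσS⟩ with hσM
        have hcomm : q (σM * sM * σM⁻¹ * sM⁻¹) ∈ F := by
          rw [map_mul, map_mul, map_mul, map_inv, map_inv]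
          exact mul_mem (hFn.conj_mem _ ha _) (inv_mem ha)
        have hval : ((σM * sM * σM⁻¹ * sM⁻¹ : M) : G) = D.σ ^ (2 : ℤ) := by
          show D.σ * (sM : G) * D.σ⁻¹ * (sM : G)⁻¹ = _
          rw [hj]
          calc D.σ * (D.σ ^ j * D.w) * D.σ⁻¹ * (D.σ ^ j * D.w)⁻¹
              = D.σ * D.σ ^ j * (D.w * D.σ ^ (-1 : ℤ) * D.w⁻¹) * (D.σ ^ j)⁻¹ := by group
            _ = D.σ * D.σ ^ j * D.σ ^ (1 : ℤ) * (D.σ ^ j)⁻¹ := by rw [D.w_zpow, neg_neg]
            _ = D.σ ^ (2 : ℤ) := by group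
        obtain ⟨k, hk⟩ := D.hm2
        have hm4 : D.m / 2 = 2 * 2 ^ (k - 1) := by
          rcases k with _ | k
          · exact absurd hk hm2
          · rw [hk, Nat.add_sub_cancel]
            have e : 2 ^ (k + 1 + 1) = 2 * (2 * 2 ^ k) := by rw [pow_succ, pow_succ]; ring
            omega
        rw [show tM = (σM * sM * σM⁻¹ * sM⁻¹) ^ (2 ^ (k - 1)) from Subtype.ext (by
          rw [Subgroup.coe_pow, hval]
          show D.t = _
          rw [zpow_ofNat, ← pow_mul, D.ht, hm4]), map_pow]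
        exact pow_mem hcomm _
  have hxF : q xM ∈ F := eg1 ▸ hFn.conj_mem _ htF (q gM)
  -- `F` is the image of the four-group
  have hFfour : ∀ v ∈ F, v = 1 ∨ v = q tM ∨ v = q xM ∨ v = q tM * q xM := by
    intro v hv
    obtain ⟨s, hs, rfl⟩ := hFS hv
    have hs' : (s : G) ∈ (D.S : Subgroup G) := hs
    have hct : ∀ u ∈ F, Commute u (q tM) := by
      intro u hu
      obtain ⟨z, hz, rfl⟩ := hFS hu
      exact (show Commute z tM from Subtype.ext (D.commute_S hz).eq).map q
    have hcx : Commute (q s) (q xM) := by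
      rw [← eg1]
      have h := hct _ (hFn.conj_mem _ hv (q gM)⁻¹)
      rw [inv_inv] at h
      have h' := (Commute.conj_iff (q gM)).mpr h
      rwa [show q gM * ((q gM)⁻¹ * q s * q gM) * (q gM)⁻¹ = q s by group] at h'
    have h1 := hSK (s * xM * s⁻¹ * xM⁻¹) (mul_mem (mul_mem (mul_mem hs' hx) (inv_mem hs')) (inv_mem hx))
      (by rw [map_mul, map_mul, map_mul, map_inv, map_inv, hcx.eq, mul_inv_cancel_right, mul_inv_cancel])
    have h2 : Commute (s : G) x :=
      mul_inv_eq_iff_eq_mul.mp (mul_inv_eq_one.mp (congrArg Subtype.val h1))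
    rcases D.cent_refl hx hxσ hs' h2 with h | h | h | h
    · exact Or.inl (by rw [show s = 1 from Subtype.ext h, map_one])
    · exact Or.inr (Or.inl (by rw [show s = tM from Subtype.ext h]))
    · exact Or.inr (Or.inr (Or.inl (by rw [show s = xM from Subtype.ext h])))
    · exact Or.inr (Or.inr (Or.inr (by rw [show s = tM * xM from Subtype.ext h, map_mul])))
  -- the quotient embeds in the permutations of three points
  set T : Finset (M ⧸ Km) := {q tM, q xM, q tM * q xM} with hT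
  have hTmem : ∀ v, v ∈ T ↔ v ∈ F ∧ v ≠ 1 := by
    intro v
    simp only [hT, Finset.mem_insert, Finset.mem_singleton]
    constructor
    · have hx1 : q xM ≠ 1 := fun h => (CfsgLib.Involutions.orderOf_eq_two_iff'.mp hx2).2
        (congrArg Subtype.val (hSK xM hx h))
      have htx1 : q tM * q xM ≠ 1 := fun h => by
        rw [← map_mul] at h
        have h' : D.t * x = 1 := congrArg Subtype.val (hSK (tM * xM) (mul_mem D.t_mem hx) h)
        exact D.refl_ne_t hxσ (by
          rw [← inv_eq_of_mul_eq_one_right h', CfsgLib.Involutions.inv_eq_self_of_orderOf D.ht2])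
      rintro (rfl | rfl | rfl)
      · exact ⟨htF, ht1⟩
      · exact ⟨hxF, hx1⟩
      · exact ⟨mul_mem htF hxF, htx1⟩
    · rintro ⟨hv, hv1⟩
      exact (hFfour v hv).resolve_left hv1
  let act : (M ⧸ Km) → T ≃ T := fun z =>
    { toFun := fun v => ⟨z * v * z⁻¹, (hTmem _).mpr ⟨hFn.conj_mem _ ((hTmem _).mp v.2).1 z,
        fun h => ((hTmem _).mp v.2).2 (conj_eq_one_iff.mp h)⟩⟩
      invFun := fun v => ⟨z⁻¹ * v * z⁻¹⁻¹, (hTmem _).mpr ⟨hFn.conj_mem _ ((hTmem _).mp v.2).1 z⁻¹,
        fun h => ((hTmem _).mp v.2).2 (conj_eq_one_iff.mp h)⟩⟩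
      left_inv := fun v => Subtype.ext (by show z⁻¹ * (z * (v : M ⧸ Km) * z⁻¹) * z⁻¹⁻¹ = v; group)
      right_inv := fun v => Subtype.ext (by show z * (z⁻¹ * (v : M ⧸ Km) * z⁻¹⁻¹) * z⁻¹ = v; group) }
  let φ : (M ⧸ Km) →* Equiv.Perm T :=
    MonoidHom.mk' act fun a b => Equiv.ext fun v => Subtype.ext (by
      show a * b * (v : M ⧸ Km) * (a * b)⁻¹ = a * (b * v * b⁻¹) * a⁻¹
      group)
  have hker : φ.ker ≤ F := by
    intro z hz
    refine hCF ?_
    intro v hv
    by_cases hv1 : v = 1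
    · rw [hv1, one_mul, mul_one]
    · have h := congrArg Subtype.val (Equiv.congr_fun (MonoidHom.mem_ker.mp hz) ⟨v, (hTmem v).mpr ⟨hv, hv1⟩⟩)
      exact (mul_inv_eq_iff_eq_mul.mp h).symm
  have hkerF : Nat.card φ.ker ∣ 4 := by
    refine (Subgroup.card_dvd_of_le hker).trans ?_
    obtain ⟨e, he⟩ := (CfsgLib.isPGroup_pCore (G := M ⧸ Km) 2).exists_card_eq
    have hle : (F : Set (M ⧸ Km)).ncard ≤ 4 := by
      calc (F : Set (M ⧸ Km)).ncard ≤ ({1, q tM, q xM, q tM * q xM} : Set (M ⧸ Km)).ncard :=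
            Set.ncard_le_ncard (fun v hv => by simpa using hFfour v hv) (Set.toFinite _)
        _ ≤ 4 := by
          refine (Set.ncard_insert_le _ _).trans ?_
          refine Nat.succ_le_succ ((Set.ncard_insert_le _ _).trans ?_)
          refine Nat.succ_le_succ ((Set.ncard_insert_le _ _).trans ?_)
          simp
    rw [← Nat.card_coe_set_eq] at hle
    have hF4 : Nat.card F ≤ 4 := hle
    rw [hF, he] at hF4 ⊢
    have : e ≤ 2 := by
      by_contra h
      have := Nat.pow_le_pow_right two_pos (show 3 ≤ e by omega)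
      omega
    exact (pow_dvd_pow 2 this : 2 ^ e ∣ 2 ^ 2)
  have hT3 : Nat.card (Equiv.Perm T) ∣ 6 := by
    rw [Nat.card_perm, Nat.card_eq_fintype_card, Fintype.card_coe]
    refine (Nat.factorial_dvd_factorial (?_ : T.card ≤ 3)).trans (by norm_num [Nat.factorial])
    rw [hT]; exact Finset.card_le_three
  have h24 : Nat.card (M ⧸ Km) ∣ 24 := by
    rw [← φ.ker.card_mul_index, Subgroup.index_ker]
    exact (mul_dvd_mul hkerF ((Subgroup.card_subgroup_dvd_card _).trans hT3))
  have hSdvd : 2 * D.m ∣ Nat.card (M ⧸ Km) := hSQc ▸ Subgroup.card_subgroup_dvd_card SQ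
  obtain ⟨k, hk⟩ := D.hm2
  have hk1 : k ≤ 1 := by
    by_contra h
    have h16 : 2 ^ 4 ∣ 24 := ((pow_dvd_pow 2 (show 4 ≤ k + 1 + 1 by omega)).trans
      (dvd_of_eq (by rw [hk]; ring))).trans (hSdvd.trans h24)
    norm_num at h16
  have h3 : 3 ∣ Nat.card (M ⧸ Km) := by
    by_contra h
    have h8 : Nat.card (M ⧸ Km) ∣ 8 :=
      (Nat.Coprime.dvd_of_dvd_mul_left (Nat.prime_three.coprime_iff_not_dvd.mpr h).symm
        (show Nat.card (M ⧸ Km) ∣ 3 * 8 from h24))
    have h1 : orderOf (q gM) = 1 := by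
      refine Nat.eq_one_of_dvd_coprimes ((Nat.prime_two.coprime_iff_not_dvd.mpr hgo).pow_left 3)
        ((orderOf_dvd_natCard _).trans h8) ((orderOf_map_dvd q gM).trans ?_)
      rw [hgMd, Subgroup.orderOf_mk]
    rw [orderOf_eq_one_iff] at h1
    rw [h1, one_mul, inv_one, mul_one] at eg1
    have h2 := hSK (tM * xM⁻¹) (mul_mem D.t_mem (inv_mem hx)) (by rw [map_mul, map_inv, eg1, mul_inv_cancel])
    exact D.refl_ne_t hxσ (mul_inv_eq_one.mp (congrArg Subtype.val h2))
  have hQc : Nat.card (M ⧸ Km) = 3 * (2 * D.m) := by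
    have hm : D.m = 2 ∨ D.m = 4 := by interval_cases k <;> simp [hk]
    obtain ⟨c, hc⟩ := hSdvd
    obtain ⟨a, ha⟩ := P.isPGroup'.exists_card_eq
    have hnd : ¬ 2 ∣ c := by
      intro h2
      have h4 := P.not_dvd_index
      have h5 := (P : Subgroup (M ⧸ Km)).card_mul_index
      rw [← hPeq] at h4 h5
      rw [hSQc, hc] at h5
      rw [Nat.eq_of_mul_eq_mul_left (by rcases hm with e | e <;> omega) h5] at h4
      exact h4 h2
    have hle := Nat.le_of_dvd (by norm_num) h24
    rcases hm with e | e <;> rw [e] at hc ⊢ <;> omega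
  -- the core centralises the four-group
  set KG : Subgroup G := Km.map M.subtype with hKG
  have hKGodd : Odd (Nat.card KG) := by
    rw [hKG, Subgroup.card_map_of_injective M.subtype_injective]; exact hKodd
  haveI : IsZGroup ↥KG := hG.isZGroup hKGodd
  haveI : Group.IsSolvable ↥KG :=
    Group.isSolvable_of_surjective (f := M.subtype.subgroupMap Km) (M.subtype.subgroupMap_surjective Km)
  have hMN : M ≤ Subgroup.normalizer (KG : Set G) := by
    intro a ha
    refine Subgroup.mem_normalizer_iff.mpr fun v => ?_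
    constructor
    · rintro ⟨b, hb, rfl⟩
      exact ⟨⟨a, ha⟩ * b * ⟨a, ha⟩⁻¹, hKn.conj_mem b hb _, rfl⟩
    · rintro ⟨b, hb, hbe⟩
      refine ⟨⟨a, ha⟩⁻¹ * b * ⟨a, ha⟩, by simpa using hKn.conj_mem b hb (⟨a, ha⟩⁻¹ : M), ?_⟩
      show a⁻¹ * (b : G) * a = v
      rw [show (b : G) = a * v * a⁻¹ from hbe]
      group
  set V := four D.t x D.t_sq (CfsgLib.Involutions.mul_self_eq_one_of_orderOf hx2)
    (D.commute_S hx).symm with hV
  have hVK := isKleinFour_four D.ht2 hx2 (D.commute_S hx).symm (D.refl_ne_t hxσ)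
  have hVM : V ≤ M := by
    rintro v (rfl | rfl | rfl | rfl)
    exacts [one_mem _, hSM D.t_mem, hSM hx, mul_mem (hSM D.t_mem) (hSM hx)]
  have hVcent : KG ≤ Subgroup.centralizer (V : Set G) := by
    by_contra hne
    obtain ⟨r, y, hr, hy, hyF, hyV, hyN⟩ := exists_prime_sub KG (hVM.trans hMN)
      (by rw [hVK.card_four]
          exact (show Nat.Coprime 4 (Nat.card KG) from
            (Nat.coprime_two_left.mpr hKGodd).pow_left 2)) hne
    have hr2 : r ≠ 2 := by
      rintro rfl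
      exact Nat.not_even_iff_odd.mpr hKGodd (even_iff_two_dvd.mpr
        (hy ▸ Subgroup.orderOf_dvd_natCard _ (fit_le KG hyF)))
    obtain ⟨h1, h2⟩ := three_fixed hr hr2 hy D.t_sq (CfsgLib.Involutions.mul_self_eq_one_of_orderOf hx2)
      (hyN (hMN hgM)) (hyN (hMN (hSM D.t_mem))) hgt hgtx
    refine hyV ?_
    rintro v (rfl | rfl | rfl | rfl)
    · rw [one_mul, mul_one]
    · exact h1.eq
    · exact h2.eq
    · exact (h1.mul_left h2).eq
  have hKO : KG ≤ D.O := by
    intro a ha
    refine D.odd_mem (Subgroup.mem_centralizer_singleton_iff.mpr ?_) fun h =>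
      Nat.not_even_iff_odd.mpr hKGodd (even_iff_two_dvd.mpr (h.trans (Subgroup.orderOf_dvd_natCard _ ha)))
    exact (hVcent ha D.t (Or.inr (Or.inl rfl))).symm
  have hOK : ∀ o ∈ D.O, o ∈ KG := by
    intro o ho
    set oM : M := ⟨o, hCM (D.hOC ho)⟩ with hoM
    refine ⟨oM, (QuotientGroup.eq_one_iff oM).mp ?_, rfl⟩
    set Ct := Subgroup.centralizer ({q tM} : Set (M ⧸ Km)) with hCt
    have hle : SQ ≤ Ct := by
      rintro _ ⟨s, hs, rfl⟩
      exact Subgroup.mem_centralizer_singleton_iff.mpr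
        ((show Commute s tM from Subtype.ext (D.commute_S hs).eq).map q).eq
    have hne : Ct ≠ ⊤ := by
      intro h
      have h1 := Subgroup.mem_centralizer_singleton_iff.mp (show q gM ∈ Ct by rw [h]; trivial)
      rw [h1, mul_inv_cancel_right] at eg1
      have h2 := hSK (tM * xM⁻¹) (mul_mem D.t_mem (inv_mem hx)) (by rw [map_mul, map_inv, eg1, mul_inv_cancel])
      exact D.refl_ne_t hxσ (mul_inv_eq_one.mp (congrArg Subtype.val h2))
    have hCtc : Ct = SQ := by
      refine (Subgroup.eq_of_le_of_card_ge hle ?_).symm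
      obtain ⟨c, hc⟩ := hSQc ▸ Subgroup.card_dvd_of_le hle
      have h1 := Ct.card_mul_index
      rw [hc, hQc, mul_comm 3, mul_assoc] at h1
      have h2 := Nat.eq_of_mul_eq_mul_left (by have := D.hm; omega) h1
      have h3 : Ct.index ≠ 1 := fun h => hne (Subgroup.index_eq_one.mp h)
      rcases (Nat.dvd_prime Nat.prime_three).mp (Dvd.intro _ h2 : c ∣ 3) with e | e
      · rw [hc, hSQc, e, mul_one]
      · rw [e] at h2
        omega
    have hmem : q oM ∈ SQ := hCtc ▸ Subgroup.mem_centralizer_singleton_iff.mpr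
      ((show Commute oM tM from Subtype.ext (Subgroup.mem_centralizer_singleton_iff.mp (D.hOC ho))).map q).eq
    refine orderOf_eq_one_iff.mp (Nat.eq_one_of_dvd_coprimes ?_ (Subgroup.orderOf_dvd_natCard _ hmem)
      (orderOf_map_dvd q oM))
    rw [hSQc, hoM, Subgroup.orderOf_mk, hk, ← pow_succ']
    exact (Nat.prime_two.coprime_iff_not_dvd.mpr (D.odd_order ho)).pow_left _
  have hKeq : KG = D.O := le_antisymm hKO hOK
  refine ⟨?_, fun o ho => ?_, ?_⟩
  · rw [hk]
    interval_cases k <;> norm_num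
  · exact (hVcent (hOK o ho) x (Or.inr (Or.inr (Or.inl rfl)))).symm
  · rw [Subgroup.card_eq_card_quotient_mul_card_subgroup Km, hQc,
      ← Subgroup.card_map_of_injective (f := M.subtype) (K := Km) M.subtype_injective, ← hKG, hKeq,
      D.card_C, D.hcard]
    ring

end DDat

end CfsgLib.AlmostCyclic
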