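import Cfsg.Agent.Lib.AlmostCyclic.DNonsolv
import Cfsg.Agent.Lib.AlmostCyclic.DSolv
import Cfsg.Agent.Lib.AlmostCyclic.DFourArith
import Cfsg.Agent.Lib.Blocks.Dihedral.Order
import Cfsg.Agent.Lib.Blocks.Vanishing

/-!
# The dihedral configuration of order eight with a centralising reflection
-/

set_option autoImplicit false
set_option linter.style.haveILetI false
set_option linter.unusedSectionVars false
set_option maxHeartbeats 400000

namespace CfsgLib.AlmostCyclic

open Cfsg CfsgLib.CharTheory CfsgLib.Blocks CfsgLib.Blocks.AbelianFree CfsgLib.Blocks.Dihedral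
open scoped ComplexConjugate

universe u

variable {G : Type u} [Group G] [Finite G]

/-- The number of conjugates of a subgroup of prime order is one modulo the prime. -/
theorem index_normalizer_mod (hG : AC G) {r : ℕ} (hr : r.Prime) (hr2 : r ≠ 2) {z : G}
    (hz : orderOf z = r) :
    (Subgroup.normalizer (Subgroup.zpowers z : Set G)).index % r = 1 := by
  classical
  haveI := Fact.mk hr
  set R := Subgroup.zpowers z with hR
  set N := Subgroup.normalizer (R : Set G) with hN
  obtain ⟨P, hP⟩ := (IsPGroup.of_card (n := 1) (show Nat.card R = r ^ 1 by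
    rw [hR, Nat.card_zpowers, hz, pow_one])).exists_le_sylow
  haveI := hG.isCyclic_pGroup hr hr2 P.isPGroup'
  have hfix : ∀ q : G ⧸ N, q ∈ MulAction.fixedPoints (P : Subgroup G) (G ⧸ N) ↔ q = QuotientGroup.mk 1 := by
    intro q
    constructor
    · intro hq
      obtain ⟨g, rfl⟩ := QuotientGroup.mk_surjective q
      have hPn : ∀ v ∈ (P : Subgroup G), g⁻¹ * v * g ∈ N := by
        intro v hv
        have h : v • (QuotientGroup.mk g : G ⧸ N) = QuotientGroup.mk g :=
          MulAction.mem_fixedPoints.mp hq ⟨v, hv⟩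
        rw [MulAction.Quotient.smul_mk, smul_eq_mul, QuotientGroup.eq] at h
        have h' := N.inv_mem h
        rwa [show ((v * g)⁻¹ * g)⁻¹ = g⁻¹ * v * g by group] at h'
      set z' := g * z * g⁻¹ with hz'
      have hPz : (P : Subgroup G) ≤ Subgroup.normalizer (Subgroup.zpowers z' : Set G) := by
        have key : ∀ v ∈ (P : Subgroup G), ∀ a ∈ Subgroup.zpowers z',
            v * a * v⁻¹ ∈ Subgroup.zpowers z' := by
          rintro v hv _ ⟨i, rfl⟩
          have h1 := (Subgroup.mem_normalizer_iff.mp (hPn v hv) (z ^ i)).mp ⟨i, rfl⟩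
          obtain ⟨j, hj⟩ := h1
          have hj' : z ^ j = g⁻¹ * v * g * z ^ i * (g⁻¹ * v * g)⁻¹ := hj
          refine ⟨j, ?_⟩
          show (g * z * g⁻¹) ^ j = v * (g * z * g⁻¹) ^ i * v⁻¹
          rw [conj_zpow, conj_zpow, hj']
          group
        intro v hv
        refine Subgroup.mem_normalizer_iff.mpr fun a => ⟨key v hv a, fun ha => ?_⟩
        simpa [mul_assoc] using key v⁻¹ (inv_mem hv) _ ha
      have hsup : IsPGroup r ↥(Subgroup.zpowers z' ⊔ (P : Subgroup G)) :=
        IsPGroup.to_sup_of_normal_left' (IsPGroup.of_card (n := 1) (by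
          rw [Nat.card_zpowers, hz', CfsgLib.Involutions.orderOf_conj, hz, pow_one])) P.isPGroup' hPz
      have hz'P : z' ∈ (P : Subgroup G) :=
        P.3 hsup le_sup_right ▸ Subgroup.mem_sup_left (Subgroup.mem_zpowers z')
      have hzP : z ∈ (P : Subgroup G) := hP (Subgroup.mem_zpowers z)
      have e : Subgroup.zpowers z' = R := by
        have e0 : Subgroup.zpowers (⟨z', hz'P⟩ : ↥(P : Subgroup G)) = Subgroup.zpowers ⟨z, hzP⟩ :=
          CfsgLib.PowerGraph.subgroup_eq_of_card (by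
            rw [Nat.card_zpowers, Nat.card_zpowers, Subgroup.orderOf_mk, Subgroup.orderOf_mk, hz',
              CfsgLib.Involutions.orderOf_conj])
        have e1 := congrArg (fun K => K.map (P : Subgroup G).subtype) e0
        simp only [MonoidHom.map_zpowers] at e1
        exact e1
      rw [QuotientGroup.eq, mul_one]
      refine N.inv_mem (Subgroup.mem_normalizer_iff.mpr fun v => ⟨?_, ?_⟩)
      · rintro ⟨i, rfl⟩
        rw [← e]
        exact ⟨i, conj_zpow⟩
      · intro hv
        rw [← e] at hv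
        obtain ⟨i, hi⟩ := hv
        have hi' : (g * z * g⁻¹) ^ i = g * v * g⁻¹ := hi
        rw [conj_zpow] at hi'
        exact ⟨i, mul_left_cancel (mul_right_cancel hi')⟩
    · rintro rfl
      refine MulAction.mem_fixedPoints.mpr fun v => ?_
      show (v : G) • (QuotientGroup.mk 1 : G ⧸ N) = QuotientGroup.mk 1
      rw [MulAction.Quotient.smul_mk, smul_eq_mul, mul_one, QuotientGroup.eq, mul_one]
      refine N.inv_mem (Subgroup.centralizer_le_normalizer _ ?_)
      letI : IsMulCommutative ↥(P : Subgroup G) := inferInstance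
      intro a ha
      exact (Subgroup.le_centralizer (P : Subgroup G) v.2) a (hP ha)
  have hmod := P.isPGroup'.card_modEq_card_fixedPoints (G ⧸ N)
  have hone : Nat.card (MulAction.fixedPoints (P : Subgroup G) (G ⧸ N)) = 1 :=
    Nat.card_eq_one_iff_unique.mpr ⟨⟨fun a b => Subtype.ext (((hfix a).mp a.2).trans ((hfix b).mp b.2).symm)⟩,
      ⟨⟨_, (hfix _).mpr rfl⟩⟩⟩
  rw [hone, ← Subgroup.index_eq_card] at hmod
  rw [hmod, Nat.mod_eq_of_lt hr.one_lt]

namespace DDat

variable (D : DDat G)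

/-- The core of the centraliser in the notation of the block library. -/
theorem core : Core D.S D.t D.O where
  comm := fun k hk => Subgroup.mem_centralizer_singleton_iff.mp (D.hOC hk)
  odd := Nat.two_dvd_ne_zero.mpr (Nat.odd_iff.mp D.hOodd)
  norm := fun c hc k hk =>
    (Subgroup.mem_normalizer_iff.mp (D.hOn (Subgroup.mem_centralizer_singleton_iff.mpr hc.eq)) k).mp hk
  dec := fun g hg => D.hfac g (Subgroup.mem_centralizer_singleton_iff.mpr hg.eq)
  card := by rw [mul_comm]; exact D.card_C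

theorem pair (hm4 : 4 ≤ D.m) : DihPair D.S D.σ D.w (D.m / 2) := by
  obtain ⟨k, hk⟩ := D.hm2
  refine DihPair.of_gen ⟨k - 1, ?_⟩ D.hσS D.hwS (by rw [D.even_m, D.hσ]) D.hw D.hwσ ?_
  · rcases k with _ | k
    · exfalso; rw [hk] at hm4; norm_num at hm4
    · rw [hk, pow_succ, Nat.mul_div_cancel _ two_pos, Nat.add_sub_cancel]
  · refine le_antisymm ((Subgroup.closure_le _).mpr ?_) fun s hs => ?_
    · rintro _ (rfl | rfl)
      exacts [D.hσS, D.hwS]
    · obtain ⟨i, rfl | rfl⟩ := D.hScases s hs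
      · exact zpow_mem (Subgroup.subset_closure (Set.mem_insert D.σ {D.w})) i
      · exact mul_mem (zpow_mem (Subgroup.subset_closure (Set.mem_insert D.σ {D.w})) i)
          (Subgroup.subset_closure (Set.mem_insert_of_mem D.σ (Set.mem_singleton D.w)))

/-- Order eight with a reflection centralising a nontrivial core is impossible. -/
theorem four_false [IsSimpleGroup G] (hG : AC G) (hind : Ind G) (hm : D.m = 4)
    (hwO : ∀ o ∈ D.O, Commute o D.w) (hne : ∃ o ∈ D.O, o ≠ 1) : False := by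
  classical
  haveI := Fintype.ofFinite G
  have ht : D.t = D.σ ^ 2 := by rw [D.ht, hm]
  have hwS : D.w ∈ (D.S : Subgroup G) := D.hwS
  have hw0 : D.w ∉ Subgroup.zpowers D.σ := D.hwne
  set u := D.σ * D.w with hu
  have huS : u ∈ (D.S : Subgroup G) := mul_mem D.hσS D.hwS
  have huσ : u ∉ Subgroup.zpowers D.σ := by have := D.refl_not_rot 1; rwa [zpow_one] at this
  have huo := D.refl_two huS huσ
  have hu2 : u * u = 1 := CfsgLib.Involutions.mul_self_eq_one_of_orderOf huo
  -- the other reflection inverts the core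
  have hfree : ∀ o ∈ D.O, Commute u o → o = 1 := by
    intro o ho hc
    by_contra ho1
    refine D.fixed_false hG (by omega) huS huσ ?_ ⟨o, ho, ho1, hc⟩
    intro o' ho' hc' s hs
    have hσo : Commute D.σ o' := by
      have h := hc'.mul_left (hwO o' ho').symm.inv_left
      rwa [hu, mul_inv_cancel_right] at h
    obtain ⟨i, rfl | rfl⟩ := D.hScases s hs
    · exact hσo.zpow_left i
    · exact (hσo.zpow_left i).mul_left (hwO o' ho').symm
  have hinv : ∀ o ∈ D.O, u * o * u⁻¹ = o⁻¹ := by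
    have hn : ∀ c ∈ D.O, u * c * u⁻¹ ∈ D.O := fun c hc => D.S_normalizes huS hc
    have h := card_invSet (fun c hc => D.odd_order hc) hu2 hn
    have h1 : Nat.card ↥(D.O ⊓ Subgroup.centralizer ({u} : Set G)) = 1 := by
      rw [Subgroup.card_eq_one, Subgroup.eq_bot_iff_forall]
      rintro o ⟨ho, hc⟩
      exact hfree o ho (Subgroup.mem_centralizer_singleton_iff.mp hc).symm
    rw [h1, one_mul] at h
    have heq : invSet D.O u = (D.O : Set G) := by
      refine Set.eq_of_subset_of_ncard_le (fun z hz => hz.1) ?_ (Set.toFinite _)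
      rw [← Nat.card_coe_set_eq, ← Nat.card_coe_set_eq, h]
      exact le_rfl
    intro o ho
    have : o ∈ invSet D.O u := by rw [heq]; exact ho
    exact this.2
  have hOcomm : IsMulCommutative D.O := by
    refine ⟨⟨fun a b => Subtype.ext ?_⟩⟩
    have h := hinv _ (mul_mem a.2 b.2)
    rw [show u * ((a : G) * b) * u⁻¹ = (u * a * u⁻¹) * (u * b * u⁻¹) by group, hinv a a.2, hinv b b.2,
      mul_inv_rev] at h
    show (a : G) * b = b * a
    calc (a : G) * b = ((b : G)⁻¹ * (a : G)⁻¹)⁻¹ := by group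
      _ = ((a : G)⁻¹ * (b : G)⁻¹)⁻¹ := by rw [h]
      _ = b * a := by group
  have hfit : ∀ z ∈ D.O, z ∈ fit D.O := by
    intro z hz
    haveI := hOcomm
    haveI : Group.IsNilpotent ↥D.O := by
      letI : CommGroup ↥D.O := { (inferInstance : Group ↥D.O) with mul_comm := mul_comm' }
      infer_instance
    refine ⟨⟨z, hz⟩, CfsgLib.le_fittingSubgroup (N := (⊤ : Subgroup ↥D.O)) ?_ (Subgroup.mem_top _), rfl⟩
    exact Group.nilpotent_of_mulEquiv Subgroup.topEquiv.symm
  -- the normalisers of the prime subgroups of the core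
  have E4 : ∀ r : ℕ, r.Prime → r ∣ Nat.card D.O →
      ∃ i : ℕ, (D.C.index : ℤ) = 3 * (i : ℤ) ∧ i % r = 1 := by
    intro r hr hrd
    haveI := Fact.mk hr
    obtain ⟨z0, hz0⟩ := exists_prime_orderOf_dvd_card' (G := D.O) r hrd
    set z : G := (z0 : G) with hzd
    have hz : orderOf z = r := by rw [hzd, Subgroup.orderOf_coe, hz0]
    have hr2 := D.prime_ne_two z0.2 hz
    set N := Subgroup.normalizer (Subgroup.zpowers z : Set G) with hN
    have hCN : D.C ≤ N := D.C_le_normalizer hG (hfit z z0.2)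
    obtain ⟨g, hgo, hgt, hgx, hgtx⟩ := D.exists_rotate hwS hw0
    have hgN : g ∈ N := D.rotate_normalizes hG hr z0.2 hz hCN (hwO z z0.2).symm hgo hgt hgx hgtx
    have hsol : Group.IsSolvable N := by
      by_contra hns
      exact D.no_refl_nonsolv hind (normalizer_zpowers_ne_top D.two_dvd_card hr hr2 hz) hns hCN hwS hw0
        hgN hgo hgt hgtx
    obtain ⟨-, -, hcard⟩ := D.solv_struct hG hsol hCN hwS hw0 hgN hgo hgt hgtx
    refine ⟨N.index, ?_, index_normalizer_mod hG hr hr2 hz⟩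
    have h1 := D.C.card_mul_index
    rw [← N.card_mul_index, hcard, mul_comm 3, mul_assoc] at h1
    exact_mod_cast Nat.eq_of_mul_eq_mul_left Nat.card_pos h1
  -- the characters
  have hp : DihPair D.S D.σ D.w 2 := by
    have := D.pair (by omega)
    rwa [hm] at this
  have hK : Core D.S (D.σ ^ 2) D.O := ht ▸ D.core
  obtain ⟨M, hM⟩ := CfsgLib.Blocks.exists_isPModular Nat.prime_two
  obtain ⟨ζ, hζ⟩ : ∃ ζ : ℂ, IsPrimitiveRoot ζ (2 * 2) :=
    ⟨_, Complex.isPrimitiveRoot_exp (2 * 2) (by norm_num)⟩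
  obtain ⟨U, V, W, s, eU, eV, eW, hU, hV, hW, hs, ⟨oU, oV, oW, UV, UW, VW⟩, hsne, hB, hv, hreg⟩ :=
    hp.toDih.exists_columns hM hζ
  have hc : IsConj (D.σ ^ 2) D.w ∧ IsConj (D.σ ^ 2) (D.σ * D.w) := by
    rw [← ht]
    exact ⟨D.hone _ _ D.ht2 D.hw, D.hone _ _ D.ht2 huo⟩
  obtain ⟨-, hord⟩ := order_formula hM hp hc ((hB W).2 (by tauto)) oW.symm hW
    (fun l h0 hl => (hv l h0 hl).1)
  set F := Nat.card D.O with hF
  have hFodd : Odd F := D.hOodd
  have hF1 : 1 < F := by
    obtain ⟨o, ho, ho1⟩ := hne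
    haveI : Nontrivial D.O := ⟨⟨o, ho⟩, 1, fun e => ho1 (congrArg Subtype.val e)⟩
    exact Finite.one_lt_card
  have hi0 : (inv' D.O D.σ D.w 0).card = 1 := by
    rw [Finset.card_eq_one]
    refine ⟨1, ?_⟩
    ext k
    rw [mem_inv', Finset.mem_singleton, pow_zero, one_mul]
    refine ⟨fun ⟨hk, h⟩ => ?_, fun e => by rw [e, one_mul]; exact ⟨one_mem _, D.w_sq⟩⟩
    rw [show k * D.w * (k * D.w) = k * (D.w * k) * D.w by group, ← (hwO k hk).eq,
      show k * (k * D.w) * D.w = k * k * (D.w * D.w) by group, D.w_sq, mul_one] at h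
    exact orderOf_eq_one_iff.mp (Nat.eq_one_of_dvd_coprimes
      (Nat.prime_two.coprime_iff_not_dvd.mpr (D.odd_order hk))
      (orderOf_dvd_of_pow_eq_one (by rw [pow_two, h])) dvd_rfl)
  have hi1 : (inv' D.O D.σ D.w 1).card = F := by
    rw [hF, Nat.card_eq_fintype_card, Fintype.card_subtype]
    congr 1
    ext k
    rw [mem_inv', pow_one, Finset.mem_filter, ← hu]
    refine ⟨fun h => ⟨Finset.mem_univ _, h.1⟩, fun ⟨_, hk⟩ => ⟨hk, ?_⟩⟩
    calc k * u * (k * u) = k * (u * k * u⁻¹) * (u * u) := by group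
      _ = 1 := by rw [hinv k hk, mul_inv_cancel, hu2, one_mul]
  rw [hp.card_invs hK, hi0, hi1] at hord
  have hcC : Nat.card (Subgroup.centralizer ({D.σ ^ 2} : Set G)) = 8 * F := by
    rw [← ht]
    show Nat.card D.C = _
    rw [D.card_C, D.hcard, hm, mul_comm]
  rw [hcC] at hord
  set N' := D.C.index with hN'
  have hGN : Nat.card G = 8 * F * N' := by
    rw [← D.C.card_mul_index, hN', D.card_C, D.hcard, hm]; ring
  -- the second count
  have hlm := (hp.toDih.pow_mem 1).1
  obtain ⟨Ky, hKy, hKo, hidx⟩ := hp.toDih.complement_rot hlm (fun e => by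
    have := Nat.le_of_dvd (by norm_num) (orderOf_dvd_of_pow_eq_one (x := D.σ) (n := 2)
      (by rw [sq]; simpa using e))
    rw [hp.ord] at this
    omega)
  obtain ⟨k2, hk2⟩ := hp.toDih.ord_pow
  have hsum := fun χ : IrrCharacter G => coset_sum (y := D.σ ^ 1) hM hK
    (Commute.pow_pow_self D.σ 1 2) (hp.toDih.pow_mem 1).2
    (fun y hy => by rw [pow_one] at hy; exact hy.pow_right 2) hKy hKo (hidx.trans hk2) χ
  have hclv : ∀ χ : IrrCharacter G, clv (D.σ ^ 2) χ * (χ : G → ℂ) (D.σ ^ 2) *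
      (Nat.card (Subgroup.centralizer ({D.σ ^ 2} : Set G)) : ℂ) =
      (Nat.card G : ℂ) * ((χ : G → ℂ) (D.σ ^ 2) ^ 2 / (χ : G → ℂ) 1) := by
    intro χ
    rw [clv, centralChar, ← Subgroup.index_mul_card (Subgroup.centralizer ({D.σ ^ 2} : Set G)),
      Nat.cast_mul]
    ring
  have hpairs : (((invs (D.σ ^ 2) ×ˢ invs (D.σ ^ 2)).filter
      fun y => y.1 * y.2 * (D.σ ^ 1)⁻¹ ∈ D.O).card : ℂ) = 4 * (F : ℂ) := by
    rw [hp.card_pairs hK 1]
    simp [Finset.sum_range_succ, hi0, hi1]
    ring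
  have hside : ((8 * F : ℕ) : ℂ) ^ 2 * (4 * (F : ℂ)) = (Nat.card G : ℂ) * (F : ℂ) *
      ∑ χ ∈ bset (principalBlock M G),
        (χ : G → ℂ) (D.σ ^ 2) ^ 2 / (χ : G → ℂ) 1 * (χ : G → ℂ) (D.σ ^ 1) := by
    rw [← hpairs, ← sum_pairCount hp hc hK (Or.inl rfl), Nat.cast_sum, Finset.mul_sum, ← hcC]
    set c := Nat.card (Subgroup.centralizer ({D.σ ^ 2} : Set G)) with hc'
    have e : ∀ g, (c : ℂ) ^ 2 * (pairCount (D.σ ^ 2) (D.σ ^ 2) g : ℂ) =
        (Nat.card G : ℂ) * ∑ χ : IrrCharacter G,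
          (χ : G → ℂ) (D.σ ^ 2) ^ 2 / (χ : G → ℂ) 1 * conj ((χ : G → ℂ) g) := by
      intro g
      rw [sq (c : ℂ), mul_assoc, mul_comm (c : ℂ) (pairCount _ _ _ : ℂ), hc', pairCount_mul,
        ← hc', Finset.mul_sum, Finset.mul_sum]
      exact Finset.sum_congr rfl fun χ _ => by rw [← mul_assoc (Nat.card G : ℂ), ← hclv χ]; ring
    rw [Finset.sum_congr rfl fun g _ => e g, ← Finset.mul_sum, Finset.sum_comm]
    have e2 : ∀ χ : IrrCharacter G, ∑ g ∈ Finset.univ.filter (fun g => g * (D.σ ^ 1)⁻¹ ∈ D.O),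
        (χ : G → ℂ) (D.σ ^ 2) ^ 2 / (χ : G → ℂ) 1 * conj ((χ : G → ℂ) g) =
        (F : ℂ) * (if χ ∈ bset (principalBlock M G) then
          (χ : G → ℂ) (D.σ ^ 2) ^ 2 / (χ : G → ℂ) 1 * (χ : G → ℂ) (D.σ ^ 1) else 0) := by
      intro χ
      rw [← Finset.mul_sum, ← map_sum, hsum χ, map_mul, map_mul, map_natCast, hp.toDih.value_real]
      by_cases hm' : χ ∈ principalBlock M G
      · rw [ind_of_mem hm', map_one, if_pos (mem_bset.2 hm')]; ring
      · rw [ind_of_notMem hm', map_zero, if_neg (fun h => hm' (mem_bset.1 h))]; ring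
    rw [Finset.sum_congr rfl fun χ _ => e2 χ, ← Finset.mul_sum, ← mul_assoc, ← Finset.sum_filter]
    congr 1
    exact Finset.sum_congr (by ext; simp) fun _ _ => rfl
  have hbs : bset (principalBlock M G) =
      insert (oneIrr G) (insert U (insert V (insert W (Finset.univ.image s)))) := by
    ext χ
    simp only [mem_bset, hB χ, Finset.mem_insert, Finset.mem_image, Finset.mem_univ, true_and,
      eq_comm]
  obtain ⟨hW2, hU2, hV2, hs2⟩ := hv 2 (by norm_num) (by norm_num)
  obtain ⟨hW1, hU1, hV1, hs1⟩ := hv 1 (by norm_num) (by norm_num)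
  have hhalf : ζ ^ 2 = -1 := IsPrimitiveRoot.eq_neg_one_of_two_right
    (hζ.pow (by norm_num) (by norm_num))
  have hs10 : ∀ j, (s j : G → ℂ) (D.σ ^ 1) = 0 := by
    intro j
    rw [hs1 j]
    have hj : (j : ℕ) = 0 := by have := j.2; omega
    rw [hj, zero_add, pow_one, pow_one]
    have hinv' : ζ⁻¹ = -ζ := inv_eq_of_mul_eq_one_right (by rw [mul_neg, ← pow_two, hhalf, neg_neg])
    rw [hinv', add_neg_cancel, mul_zero]
  rw [hbs, Finset.sum_insert (by
        simp only [Finset.mem_insert, Finset.mem_image, not_or, not_exists, not_and]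
        exact ⟨oU, oV, oW, fun k _ => (hsne k).1⟩),
    Finset.sum_insert (by
        simp only [Finset.mem_insert, Finset.mem_image, not_or, not_exists, not_and]
        exact ⟨UV, UW, fun k _ => (hsne k).2.1⟩),
    Finset.sum_insert (by
        simp only [Finset.mem_insert, Finset.mem_image, not_or, not_exists, not_and]
        exact ⟨VW, fun k _ => (hsne k).2.2.1⟩),
    Finset.sum_insert (by
        simp only [Finset.mem_image, not_exists, not_and]
        exact fun k _ => (hsne k).2.2.2), Finset.sum_image hs.injOn] at hside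
  have ho : ∀ g, (oneIrr G : G → ℂ) g = 1 := fun g => rfl
  simp only [ho, hW2, hU2, hV2, hW1, hU1, hV1, hs10, mul_zero, Finset.sum_const_zero, add_zero] at hside
  obtain ⟨hrel1, -⟩ := hreg 1 (by simp) ⟨0, by norm_num⟩
  set x1 : ℤ := (charDegree (W : G → ℂ) : ℤ) with hx1
  set a : ℤ := eW * x1 with ha
  set b : ℤ := eU * (charDegree (U : G → ℂ) : ℤ) with hb
  set c : ℤ := eV * (charDegree (V : G → ℂ) : ℤ) with hcd
  have hsq : ∀ {e : ℤ}, e = 1 ∨ e = -1 → e * e = 1 := by rintro e (rfl | rfl) <;> norm_num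
  have hsqc : ∀ {e : ℤ}, e = 1 ∨ e = -1 → (e : ℂ) * e = 1 := by rintro e (rfl | rfl) <;> norm_num
  have hdeg : ∀ {χ : IrrCharacter G} {e : ℤ}, e = 1 ∨ e = -1 →
      ((e * (charDegree (χ : G → ℂ) : ℤ) : ℤ) : ℂ) = (e : ℂ) * (χ : G → ℂ) 1 := fun {χ e} _ => by
    rw [Int.cast_mul, Int.cast_natCast, irr_charDegree_cast]
  have hne0 : ∀ {χ : IrrCharacter G} {e : ℤ}, e = 1 ∨ e = -1 →
      e * (charDegree (χ : G → ℂ) : ℤ) ≠ 0 := fun {χ e} he => by
    intro h
    have h' := hdeg (χ := χ) he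
    rw [h, Int.cast_zero] at h'
    rcases mul_eq_zero.mp h'.symm with h1 | h1
    · exact (by rcases he with rfl | rfl <;> norm_num : (e : ℂ) ≠ 0) h1
    · exact irr_one_ne_zero χ h1
  have E2 : b + c = -1 - a := by
    apply Int.cast_injective (α := ℂ)
    push_cast
    rw [hb, hcd, ha, hdeg hU, hdeg hV, hx1, Int.cast_mul, Int.cast_natCast, irr_charDegree_cast]
    linear_combination hrel1
  have ha4 : a % 4 = 1 := by
    obtain ⟨m, hm'⟩ := coef_int (N := 2 * 2) hζ
      (show D.σ ^ (2 * 2) = 1 by rw [← hp.ord, pow_orderOf_eq_one])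
      (isCharacter_of_irr W.2) (le_refl (2 * 2))
    rw [coef, Nat.sub_self, pow_zero, Finset.sum_range_succ'] at hm'
    simp only [one_pow, mul_one, pow_zero, Finset.sum_range_succ, Finset.sum_range_zero] at hm'
    obtain ⟨hW3, -⟩ := hv 3 (by norm_num) (by norm_num)
    rw [hW2, hW1, hW3, ← irr_charDegree_cast W] at hm'
    have h4 : (x1 : ℂ) + 3 * (eW : ℂ) = 4 * (m : ℂ) := by
      rw [hx1, Int.cast_natCast]
      field_simp at hm'
      push_cast at hm'
      linear_combination hm'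
    have h4' : x1 + 3 * eW = 4 * m := by exact_mod_cast h4
    rw [ha]
    rcases hW with rfl | rfl <;> omega
  have E1 : (N' : ℤ) * (a - 1) ^ 2 = 8 * (1 + (F : ℤ)) ^ 2 * a * (a + 1) := by
    rw [hGN] at hord
    push_cast at hord
    have hne8 : (8 : ℤ) * (F : ℤ) ≠ 0 := by
      have : (1 : ℤ) < (F : ℤ) := by exact_mod_cast hF1
      omega
    refine mul_left_cancel₀ hne8 ?_
    rw [ha]
    linear_combination hord + (8 * (F : ℤ) * (N' : ℤ) * x1 ^ 2 -
      64 * (F : ℤ) * (1 + (F : ℤ)) ^ 2 * x1 ^ 2) * hsq hW - (8 * (F : ℤ) * (N' : ℤ)) * hsq hW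
  have E3 : 32 * (F : ℤ) * (a * b * c) = (N' : ℤ) * (a * b * c + b * c + a * c + a * b) := by
    apply Int.cast_injective (α := ℂ)
    push_cast
    rw [hGN] at hside
    push_cast at hside
    rw [hb, hcd, ha, hdeg hU, hdeg hV, hx1, Int.cast_mul, Int.cast_natCast, irr_charDegree_cast]
    have hxW := irr_one_ne_zero W
    have hxU := irr_one_ne_zero U
    have hxV := irr_one_ne_zero V
    have hF0 : (F : ℂ) ≠ 0 := by exact_mod_cast (by omega : F ≠ 0)
    field_simp at hside
    rcases hW with rfl | rfl <;> rcases hU with rfl | rfl <;> rcases hV with rfl | rfl <;>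
      (push_cast at hside ⊢; first | linear_combination hside | linear_combination -hside)
  refine four_arith hFodd hF1 ?_ ha4 (hne0 hU) (hne0 hV) E1 E2 E3 E4
  have h2 : ¬ 2 ∣ N' := fun h => D.S.not_dvd_index
    (h.trans (Subgroup.index_dvd_of_le D.S_le))
  exact_mod_cast Nat.odd_iff.mpr (Nat.two_dvd_ne_zero.mp h2)

end DDat

end CfsgLib.AlmostCyclic
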