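import Cfsg.Agent.Lib.AlmostCyclic.DStruct
import Cfsg.Agent.Lib.ZStar.Main

/-!
# The normalisers of the subgroups of prime order of the Fitting subgroup of the core
-/

set_option autoImplicit false
set_option linter.style.haveILetI false
set_option linter.unusedSectionVars false
set_option maxHeartbeats 400000

namespace CfsgLib.AlmostCyclic

open Cfsg

universe u

/-- A nonabelian simple group has no cyclic Sylow two-subgroup. -/
theorem sylow_two_not_cyclic {L : Type u} [Group L] [Finite L] [IsSimpleGroup L]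
    (hns : ¬ Group.IsSolvable L) (h2 : 2 ∣ Nat.card L) (P : Sylow 2 L) :
    ¬ IsCyclic (P : Subgroup L) := by
  intro hc
  haveI := Fact.mk Nat.prime_two
  have hmin : (Nat.card L).minFac = 2 := by
    have hne : Nat.card L ≠ 1 := fun h => by rw [h] at h2; norm_num at h2
    have h1 := Nat.minFac_le_of_dvd le_rfl h2
    have h3 := (Nat.minFac_prime hne).two_le
    omega
  have hPC := IsCyclic.normalizer_le_centralizer hmin hc
  have h1 := (MonoidHom.ker_transferSylow_isComplement' P hPC).card_mul_card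
  rcases (inferInstance : (MonoidHom.transferSylow P hPC).ker.Normal).eq_bot_or_eq_top with h | h
  · rw [h, Subgroup.card_bot, one_mul] at h1
    refine hns ?_
    haveI : Group.IsNilpotent L := (IsPGroup.of_card (p := 2) (n := (Nat.card L).factorization 2)
      (h1.symm.trans P.card_eq_multiplicity)).isNilpotent
    infer_instance
  · rw [h, Subgroup.card_top] at h1
    have h2' := P.ne_bot_of_dvd_card h2
    exact h2' (Subgroup.eq_bot_of_card_eq _ ((Nat.mul_eq_left Nat.card_pos.ne').mp h1))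

/-- Two subgroups of the same odd prime order are conjugate. -/
theorem exists_conj_zpowers {G : Type u} [Group G] [Finite G] (hG : AC G) {r : ℕ} (hr : r.Prime)
    (hr2 : r ≠ 2) {a b : G} (ha : orderOf a = r) (hb : orderOf b = r) :
    ∃ c : G, ∃ i : ℤ, c * a * c⁻¹ = b ^ i := by
  haveI := Fact.mk hr
  obtain ⟨P, hP⟩ := (IsPGroup.of_card (n := 1) (show Nat.card (Subgroup.zpowers a) = r ^ 1 by
    rw [Nat.card_zpowers, ha, pow_one])).exists_le_sylow
  obtain ⟨Q, hQ⟩ := (IsPGroup.of_card (n := 1) (show Nat.card (Subgroup.zpowers b) = r ^ 1 by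
    rw [Nat.card_zpowers, hb, pow_one])).exists_le_sylow
  obtain ⟨c, hc⟩ := MulAction.exists_smul_eq G P Q
  haveI := hG.isCyclic_pGroup hr hr2 Q.isPGroup'
  have hca : c * a * c⁻¹ ∈ (Q : Subgroup G) := by
    rw [← hc, Sylow.coe_subgroup_smul]
    exact Subgroup.smul_mem_pointwise_smul a (MulAut.conj c) _ (hP (Subgroup.mem_zpowers a))
  have hbQ := hQ (Subgroup.mem_zpowers b)
  have e : Subgroup.zpowers (⟨_, hca⟩ : (Q : Subgroup G)) = Subgroup.zpowers ⟨b, hbQ⟩ :=
    CfsgLib.PowerGraph.subgroup_eq_of_card (by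
      rw [Nat.card_zpowers, Nat.card_zpowers, Subgroup.orderOf_mk, Subgroup.orderOf_mk,
        CfsgLib.Involutions.orderOf_conj, ha, hb])
  obtain ⟨i, hi⟩ := (e ▸ Subgroup.mem_zpowers _ :
    (⟨_, hca⟩ : (Q : Subgroup G)) ∈ Subgroup.zpowers ⟨b, hbQ⟩)
  exact ⟨c, i, (congrArg Subtype.val hi).symm⟩

namespace DDat

variable {G : Type u} [Group G] [Finite G] (D : DDat G)

/-- For a Sylow four-group no involution inverts a prime order element of the complement. -/
theorem no_inverting [IsSimpleGroup G] (hG : AC G) (hind : Ind G) {x i : G} {r : ℕ}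
    (hr : r.Prime) (hxX : x ∈ D.X) (hx : orderOf x = r) (hi : i * i = 1)
    (hix : i * x * i⁻¹ = x⁻¹) : False := by
  haveI := Fact.mk Nat.prime_two
  have hr2 := D.prime_ne_two hxX.1 hx
  have hx1 : x * x ≠ 1 := by
    intro h
    have h1 : r ∣ 2 := hx ▸ orderOf_dvd_of_pow_eq_one (by rw [pow_two, h])
    exact hr2 ((Nat.prime_dvd_prime_iff_eq hr Nat.prime_two).mp h1)
  set Z := Subgroup.zpowers x with hZ
  set N := Subgroup.normalizer (Z : Set G) with hN
  set f := Z.normalizerMonoidHom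
  have hker : ∀ a : N, f a = 1 ↔ Commute (a : G) x := by
    intro a
    have e : Subgroup.centralizer (Z : Set G) = Subgroup.centralizer ({x} : Set G) := by
      rw [hZ, Subgroup.zpowers_eq_closure, Subgroup.centralizer_closure]
    rw [← MonoidHom.mem_ker, Subgroup.normalizerMonoidHom_ker, Subgroup.mem_subgroupOf, e,
      Subgroup.mem_centralizer_singleton_iff]
    rfl
  have hiN : i ∈ N := by
    have key : ∀ a ∈ Z, i * a * i⁻¹ ∈ Z := by
      rintro _ ⟨j, rfl⟩
      show i * x ^ j * i⁻¹ ∈ Z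
      rw [← conj_zpow, hix, inv_zpow]
      exact inv_mem ⟨j, rfl⟩
    refine Subgroup.mem_normalizer_iff.mpr fun a => ⟨key a, fun ha => ?_⟩
    have := key _ ha
    rwa [inv_eq_of_mul_eq_one_right hi, show i * (i * a * i) * i = (i * i) * a * (i * i) by group, hi,
      one_mul, mul_one] at this
  have hSx : ∀ s ∈ (D.S : Subgroup G), Commute s x := by
    intro s hs
    have hσ := D.sigma_comm hG hind x hxX.1
    have hw : Commute D.w x := (Subgroup.mem_centralizer_singleton_iff.mp hxX.2).symm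
    obtain ⟨j, rfl | rfl⟩ := D.hScases s hs
    · exact hσ.zpow_left j
    · exact (hσ.zpow_left j).mul_left hw
  have hSN : (D.S : Subgroup G) ≤ N := fun s hs => Subgroup.centralizer_le_normalizer _ (by
    rintro _ ⟨j, rfl⟩
    exact ((hSx s hs).zpow_right j).eq.symm)
  have hSk : ((D.S : Subgroup G).subgroupOf N) ≤ f.ker := fun s hs => (hker s).mpr (hSx s hs)
  have hodd : ¬ 2 ∣ f.ker.index := fun h =>
    D.S.not_dvd_index ((h.trans (Subgroup.index_dvd_of_le hSk)).trans
      ((Subgroup.relIndex_dvd_index_of_le hSN)))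
  have hfi : f ⟨i, hiN⟩ = 1 := by
    refine orderOf_eq_one_iff.mp (Nat.eq_one_of_dvd_coprimes
      (Nat.prime_two.coprime_iff_not_dvd.mpr hodd) (orderOf_dvd_of_pow_eq_one ?_) ?_)
    · rw [← map_pow, show (⟨i, hiN⟩ : N) ^ 2 = 1 from Subtype.ext (by
        rw [Subgroup.coe_pow, pow_two]; exact hi), map_one]
    · rw [Subgroup.index_ker]
      exact Subgroup.orderOf_dvd_natCard _ (MonoidHom.mem_range.mpr ⟨_, rfl⟩)
  have hc : Commute i x := (hker _).mp hfi
  rw [hc.eq, mul_inv_cancel_right] at hix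
  exact hx1 (mul_eq_one_iff_eq_inv.mpr hix)

/-- The normalisers of the prime order subgroups of the Fitting subgroup centralise `t`. -/
theorem fit_normalizer [IsSimpleGroup G] (hG : AC G) (hind : Ind G) {y : G} {r : ℕ} (hr : r.Prime)
    (hyF : y ∈ fit D.O) (hy : orderOf y = r) :
    Subgroup.normalizer (Subgroup.zpowers y : Set G) ≤ D.C := by
  classical
  haveI := Fact.mk Nat.prime_two
  haveI hrF := Fact.mk hr
  have hyO := fit_le _ hyF
  have hr2 := D.prime_ne_two hyO hy
  set M := Subgroup.normalizer (Subgroup.zpowers y : Set G) with hM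
  have hCM : D.C ≤ M := D.C_le_normalizer hG hyF
  have hSM : (D.S : Subgroup G) ≤ M := D.S_le.trans hCM
  have hty : Commute D.t y := (Subgroup.mem_centralizer_singleton_iff.mp (D.hOC hyO)).symm
  have hMtop : M ≠ ⊤ := normalizer_zpowers_ne_top D.two_dvd_card hr hr2 hy
  have hrefl : ∀ s ∈ (D.S : Subgroup G), s ∉ Subgroup.zpowers D.σ → ¬ Commute s y := fun s hs hsσ =>
    D.refl_not_fixed hG hind hr hyO hy hCM hs hsσ
  by_cases hsol : Group.IsSolvable M
  swap
  · exfalso
    obtain ⟨E⟩ := (hind M hMtop hsol).dec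
    haveI := Fact.mk E.hp
    haveI := E.hL
    have hp5 := E.hp5
    have hp2 : E.p ≠ 2 := by omega
    -- a two-subgroup of `L` inside `S`
    obtain ⟨Q⟩ : Nonempty (Sylow 2 E.L) := inferInstance
    set SM : Sylow 2 M := D.S.subtype hSM
    obtain ⟨P, hP⟩ := (Q.isPGroup'.map E.L.subtype).exists_le_sylow
    obtain ⟨c, hc⟩ := MulAction.exists_smul_eq M P SM
    have hmem : ∀ q ∈ (Q : Subgroup E.L), ((c * (q : M) * c⁻¹ : M) : G) ∈ (D.S : Subgroup G) := by
      intro q hq
      have h : c * (q : M) * c⁻¹ ∈ (SM : Subgroup M) := by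
        rw [← hc, Sylow.coe_subgroup_smul]
        exact Subgroup.smul_mem_pointwise_smul _ (MulAut.conj c) _ (hP ⟨q, hq, rfl⟩)
      exact h
    have hnc : ∀ (ψ : ↥E.L →* Matrix.ProjectiveSpecialLinearGroup (Fin 2) (ZMod E.p)),
        Function.Surjective ψ → ¬ IsCyclic ((Q : Subgroup E.L).map ψ) := by
      intro ψ hψ h
      haveI : IsSimpleGroup (Matrix.ProjectiveSpecialLinearGroup (Fin 2) (ZMod E.p)) :=
        Matrix.ProjectiveSpecialLinearGroup.rank_two_simple (by rw [Nat.card_zmod]; omega)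
      refine sylow_two_not_cyclic (psl_not_solvable hp5) ?_ (Q.mapSurjective hψ) ?_
      · have h1 := card_psl_two (p := E.p) hp2
        have hodd : E.p % 2 = 1 := Nat.odd_iff.mp (E.hp.odd_of_ne_two hp2)
        have h4 : 4 ∣ (E.p + 1) * E.p * (E.p - 1) := by
          obtain ⟨k, hk⟩ : ∃ k, E.p = 2 * k + 1 := ⟨E.p / 2, by omega⟩
          rw [hk, Nat.add_sub_cancel]
          exact ⟨(k + 1) * (2 * k + 1) * k, by ring⟩
        rw [← h1] at h4
        obtain ⟨a, ha⟩ := h4
        exact ⟨a, by omega⟩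
      · exact h
    by_cases hex : ∃ q ∈ (Q : Subgroup E.L), ((c * (q : M) * c⁻¹ : M) : G) ∉ Subgroup.zpowers D.σ
    · obtain ⟨q, hq, hqσ⟩ := hex
      set sM : M := c * (q : M) * c⁻¹ with hsM
      have hs : (sM : G) ∈ (D.S : Subgroup G) := hmem q hq
      have hsL : sM ∈ E.L := E.hL.conj_mem _ q.2 c
      have hso := D.refl_two hs hqσ
      refine hrefl _ hs hqσ ?_
      rcases E.iso with ⟨⟨e⟩⟩ | ⟨⟨e⟩⟩
      · haveI : IsSimpleGroup (Matrix.ProjectiveSpecialLinearGroup (Fin 2) (ZMod E.p)) :=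
          Matrix.ProjectiveSpecialLinearGroup.rank_two_simple (by rw [Nat.card_zmod]; omega)
        set Z := Subgroup.zpowers y
        let ψ : Matrix.ProjectiveSpecialLinearGroup (Fin 2) (ZMod E.p) →* MulAut Z :=
          (Z.normalizerMonoidHom.comp E.L.subtype).comp e.symm.toMonoidHom
        have hψ : ψ.ker = ⊤ := by
          refine ((inferInstance : ψ.ker.Normal).eq_bot_or_eq_top).resolve_left fun h => ?_
          have hinj := (MonoidHom.ker_eq_bot_iff ψ).mp h
          refine psl_not_solvable hp5 (IsSimpleGroup.comm_iff_isSolvable.mp fun a b => hinj ?_)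
          rw [map_mul, map_mul, SDat.mulAut_comm]
        have h1 : ψ (e ⟨sM, hsL⟩) = 1 := MonoidHom.mem_ker.mp (hψ ▸ Subgroup.mem_top _)
        have h2 : Z.normalizerMonoidHom sM = 1 := by simpa [ψ] using h1
        have h3 := congrArg Subtype.val (DFunLike.congr_fun h2 ⟨y, Subgroup.mem_zpowers y⟩)
        exact mul_inv_eq_iff_eq_mul.mp h3
      · exfalso
        have hneg : ∀ a : E.L, a * a = 1 → e a = 1 ∨ e a = -1 := fun a ha =>
          SL2Orders.eq_one_or_neg_one_of_sq (zmod_two_ne hp2) _ (by rw [← map_mul, ha, map_one])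
        have hsq : e ⟨sM, hsL⟩ = -1 := by
          have hsMo : orderOf sM = 2 := by rw [← Subgroup.orderOf_coe]; exact hso
          refine (hneg ⟨sM, hsL⟩ (Subtype.ext
            (CfsgLib.Involutions.mul_self_eq_one_of_orderOf hsMo))).resolve_left fun h => ?_
          rw [EmbeddingLike.map_eq_one_iff] at h
          rw [show sM = 1 from congrArg Subtype.val h, orderOf_one] at hsMo
          omega
        have hcen : ∀ a : E.L, a * ⟨sM, hsL⟩ = ⟨sM, hsL⟩ * a := fun a => e.injective (by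
          rw [map_mul, map_mul, hsq, mul_neg, neg_mul, mul_one, one_mul])
        let ψ : ↥E.L →* Matrix.ProjectiveSpecialLinearGroup (Fin 2) (ZMod E.p) :=
          (PSL2.mk).comp e.toMonoidHom
        refine hnc ψ ((QuotientGroup.mk'_surjective _).comp e.surjective) ?_
        -- the image of `Q` is trivial
        have hQ : ∀ a ∈ (Q : Subgroup E.L), ψ a = 1 := by
          intro a ha
          set aM : M := c * (a : M) * c⁻¹ with haM
          have haS : (aM : G) ∈ (D.S : Subgroup G) := hmem a ha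
          have haL : aM ∈ E.L := E.hL.conj_mem _ a.2 c
          have hcom : Commute (aM : G) (sM : G) :=
            congrArg (fun v : E.L => ((v : M) : G)) (hcen ⟨aM, haL⟩)
          have hso' := CfsgLib.Involutions.mul_self_eq_one_of_orderOf hso
          have h2 : (aM : G) * aM = 1 := by
            rcases D.cent_refl hs hqσ haS hcom with h | h | h | h <;> rw [h]
            · rw [one_mul]
            · exact D.t_sq
            · exact hso'
            · rw [mul_assoc, ← mul_assoc (sM : G) D.t, (D.commute_S hs).eq, mul_assoc, hso', mul_one,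
                D.t_sq]
          have h3 : a * a = 1 := by
            refine Subtype.ext ?_
            have h4 : aM * aM = 1 := Subtype.ext h2
            rw [haM, show c * (a : M) * c⁻¹ * (c * (a : M) * c⁻¹) = c * ((a : M) * a) * c⁻¹ by group,
              conj_eq_one_iff] at h4
            exact h4
          show PSL2.mk (e a) = 1
          rw [← map_one (PSL2.mk : _ →* Matrix.ProjectiveSpecialLinearGroup (Fin 2) (ZMod E.p)),
            PSL2Klein.mk_eq_iff]
          rcases hneg a h3 with h | h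
          · exact Or.inl h.symm
          · exact Or.inr (by rw [h, neg_neg])
        have hbot : (Q : Subgroup E.L).map ψ = ⊥ := by
          rw [Subgroup.eq_bot_iff_forall]
          rintro _ ⟨a, ha, rfl⟩
          exact hQ a ha
        rw [hbot]
        infer_instance
    · push Not at hex
      obtain ⟨ψ, hψ⟩ : ∃ ψ : ↥E.L →* Matrix.ProjectiveSpecialLinearGroup (Fin 2) (ZMod E.p),
          Function.Surjective ψ := by
        rcases E.iso with ⟨⟨e⟩⟩ | ⟨⟨e⟩⟩
        · exact ⟨e.toMonoidHom, e.surjective⟩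
        · exact ⟨(PSL2.mk).comp e.toMonoidHom, (QuotientGroup.mk'_surjective _).comp e.surjective⟩
      haveI : IsCyclic (Q : Subgroup E.L) := by
        let F : (Q : Subgroup E.L) →* Subgroup.zpowers D.σ :=
          { toFun := fun q => ⟨((c * ((q : E.L) : M) * c⁻¹ : M) : G), hex q q.2⟩
            map_one' := Subtype.ext (by simp)
            map_mul' := fun a b => Subtype.ext (by simp [mul_assoc]) }
        refine isCyclic_of_injective F fun a b h => ?_
        exact Subtype.ext (Subtype.ext (mul_left_cancel (mul_right_cancel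
          (Subtype.ext (congrArg (fun v : Subgroup.zpowers D.σ => (v : G)) h) : c * ((a : E.L) : M) * c⁻¹ = c * ((b : E.L) : M) * c⁻¹))))
      exact hnc ψ hψ (isCyclic_of_surjective (ψ.subgroupMap _) (ψ.subgroupMap_surjective _))
  -- the solvable case: `t` is isolated in `M`
  haveI := hsol
  set tM : M := ⟨D.t, hSM D.t_mem⟩ with htM
  have htMo : orderOf tM = 2 := by rw [htM, Subgroup.orderOf_mk, D.ht2]
  have hiso : Cfsg.IsIsolated tM := by
    intro g hg
    set z := g * tM * g⁻¹ with hz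
    have hzo : orderOf (z : G) = 2 := by
      rw [Subgroup.orderOf_coe, hz, CfsgLib.Involutions.orderOf_conj, htMo]
    have hzC : (z : G) ∈ D.C := Subgroup.mem_centralizer_singleton_iff.mpr
      (congrArg Subtype.val hg.eq.symm)
    obtain ⟨T, hT⟩ := (IsPGroup.of_card (G := Subgroup.zpowers (⟨(z : G), hzC⟩ : D.C)) (p := 2) (n := 1)
      (by rw [Nat.card_zpowers, Subgroup.orderOf_mk, hzo, pow_one])).exists_le_sylow
    obtain ⟨c, hc⟩ := MulAction.exists_smul_eq D.C T (D.S.subtype D.S_le)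
    have hs : (c : G) * z * (c : G)⁻¹ ∈ (D.S : Subgroup G) := by
      have h : c * ⟨(z : G), hzC⟩ * c⁻¹ ∈ (D.S.subtype D.S_le : Subgroup D.C) := by
        rw [← hc, Sylow.coe_subgroup_smul]
        exact Subgroup.smul_mem_pointwise_smul _ (MulAut.conj c) _ (hT (Subgroup.mem_zpowers _))
      exact h
    set s := (c : G) * z * (c : G)⁻¹ with hsd
    have hso : orderOf s = 2 := by rw [hsd, CfsgLib.Involutions.orderOf_conj, hzo]
    have hsy : Commute s y := by
      have h1 : Commute (z : G) y := commute_conj (g := (g : G)) g.2 hty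
      exact commute_conj (hCM c.2) h1
    have hsσ : s ∈ Subgroup.zpowers D.σ := by
      by_contra h
      exact hrefl s hs h hsy
    obtain ⟨a, ha⟩ := hsσ
    have ha' : D.σ ^ a = s := ha
    have hst : s = D.t := by
      have h := D.zpow_sq_cases (a := a) (by rw [ha']; exact CfsgLib.Involutions.mul_self_eq_one_of_orderOf hso)
      rw [ha'] at h
      exact h.resolve_left (CfsgLib.Involutions.orderOf_eq_two_iff'.mp hso).2
    refine Subtype.ext ?_
    show (z : G) = D.t
    calc (z : G) = (c : G)⁻¹ * s * c := by rw [hsd]; group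
      _ = (c : G)⁻¹ * (D.t * c) := by rw [hst, mul_assoc]
      _ = D.t := by rw [← Subgroup.mem_centralizer_singleton_iff.mp c.2, inv_mul_cancel_left]
  set Km : Subgroup M := pPrimeCore 2 M with hKm
  haveI hKn : Km.Normal := by rw [hKm]; infer_instance
  have hcomm : ∀ g : M, tM * g * tM⁻¹ * g⁻¹ ∈ Km := fun g =>
    CfsgLib.ZStar.main_aux _ M rfl tM htMo hiso g
  have hKodd : Odd (Nat.card Km) := CfsgLib.odd_card_oddCore
  set KG : Subgroup G := Km.map M.subtype with hKG
  have hKGodd : Odd (Nat.card KG) := by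
    rw [hKG, Subgroup.card_map_of_injective M.subtype_injective]; exact hKodd
  haveI : IsZGroup ↥KG := hG.isZGroup hKGodd
  haveI : Group.IsSolvable ↥KG :=
    Group.isSolvable_of_surjective (f := M.subtype.subgroupMap Km) (M.subtype.subgroupMap_surjective Km)
  have hMN : M ≤ Subgroup.normalizer (KG : Set G) := by
    intro a ha
    refine Subgroup.mem_normalizer_iff.mpr fun v => ?_
    constructor
    · rintro ⟨b, hb, rfl⟩
      exact ⟨⟨a, ha⟩ * b * ⟨a, ha⟩⁻¹, hKn.conj_mem b hb _, rfl⟩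
    · rintro ⟨b, hb, hbe⟩
      refine ⟨⟨a, ha⟩⁻¹ * b * ⟨a, ha⟩, by simpa using hKn.conj_mem b hb (⟨a, ha⟩⁻¹ : M), ?_⟩
      show a⁻¹ * (b : G) * a = v
      rw [show (b : G) = a * v * a⁻¹ from hbe]
      group
  have hKt : KG ≤ Subgroup.centralizer (Subgroup.zpowers D.t : Set G) := by
    by_contra hne
    obtain ⟨r', z, hr', hz, hzF, hzt, hzN⟩ := exists_prime_sub KG
      ((Subgroup.zpowers_le.mpr (hSM D.t_mem)).trans hMN) (by
        rw [Nat.card_zpowers, D.ht2]; exact Nat.coprime_two_left.mpr hKGodd) hne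
    haveI := Fact.mk hr'
    have hr'2 : r' ≠ 2 := by
      rintro rfl
      exact Nat.not_even_iff_odd.mpr hKGodd (even_iff_two_dvd.mpr
        (hz ▸ Subgroup.orderOf_dvd_natCard _ (fit_le KG hzF)))
    set R := Subgroup.normalizer (Subgroup.zpowers z : Set G)
    have hCR : D.C ≤ R := fun c hc => hzN (hMN (hCM hc))
    have hzt' : ¬ Commute D.t z := fun h => hzt (by
      rintro _ ⟨i, rfl⟩; exact (h.zpow_left i).eq)
    have htz : D.t * z * D.t⁻¹ = z⁻¹ :=
      (inv_or_comm hr' hz D.t_sq (hCR (D.S_le D.t_mem))).resolve_left hzt'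
    have hzoo : ¬ 2 ∣ orderOf z := fun h => hr'2
      ((Nat.prime_dvd_prime_iff_eq Nat.prime_two hr').mp (hz ▸ h)).symm
    -- the rotations act as `±1`
    have hm2 : D.m = 2 := by
      obtain ⟨k, hk⟩ := D.hm2
      rcases k with _ | k
      · exact hk
      exfalso
      have hw2 := inv_or_comm hr' hz D.w_sq (hCR (D.S_le D.hwS))
      have hu2 := inv_or_comm hr' hz
        (CfsgLib.Involutions.mul_self_eq_one_of_orderOf (D.refl_order 1))
        (hCR (D.S_le (mul_mem (zpow_mem D.hσS 1) D.hwS)))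
      rw [zpow_one] at hu2
      have hσc : D.σ * z * D.σ⁻¹ = z ∨ D.σ * z * D.σ⁻¹ = z⁻¹ := by
        have e : D.σ * z * D.σ⁻¹ = (D.σ * D.w) * (D.w⁻¹ * z * D.w) * (D.σ * D.w)⁻¹ := by group
        have hwi : D.w⁻¹ = D.w := CfsgLib.Involutions.inv_eq_self_of_orderOf D.hw
        have hw' : D.w⁻¹ * z * D.w = z ∨ D.w⁻¹ * z * D.w = z⁻¹ := by
          rcases hw2 with h | h
          · exact Or.inl (by rw [hwi, h.eq, mul_assoc, D.w_sq, mul_one])
          · refine Or.inr ?_
            rw [← h, hwi]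
        rcases hu2 with h | h <;> rcases hw' with h' | h' <;> rw [e, h']
        · exact Or.inl (by rw [h.eq, mul_inv_cancel_right])
        · exact Or.inr (by
            rw [show D.σ * D.w * z⁻¹ * (D.σ * D.w)⁻¹ = (D.σ * D.w * z * (D.σ * D.w)⁻¹)⁻¹ by group, h.eq,
              mul_inv_cancel_right])
        · exact Or.inr h
        · exact Or.inl (by
            rw [show D.σ * D.w * z⁻¹ * (D.σ * D.w)⁻¹ = (D.σ * D.w * z * (D.σ * D.w)⁻¹)⁻¹ by group, h,
              inv_inv])
      have hσ2 : Commute (D.σ ^ 2) z := by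
        refine mul_inv_eq_iff_eq_mul.mp ?_
        rw [pow_two, show D.σ * D.σ * z * (D.σ * D.σ)⁻¹ = D.σ * (D.σ * z * D.σ⁻¹) * D.σ⁻¹ by group]
        rcases hσc with h | h
        · rw [h, h]
        · rw [h, show D.σ * z⁻¹ * D.σ⁻¹ = (D.σ * z * D.σ⁻¹)⁻¹ by group, h, inv_inv]
      refine hzt' ?_
      rw [D.ht, hk, pow_succ, Nat.mul_div_cancel _ two_pos, pow_succ', pow_mul]
      exact hσ2.pow_left _
    have hw2 := inv_or_comm hr' hz D.w_sq (hCR (D.S_le D.hwS))
    obtain ⟨u, huS, huσ, huz⟩ : ∃ u ∈ (D.S : Subgroup G), u ∉ Subgroup.zpowers D.σ ∧ Commute u z := by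
      rcases hw2 with h | h
      · exact ⟨D.w, D.hwS, D.hwne, h⟩
      · refine ⟨D.t * D.w, mul_mem D.t_mem D.hwS, fun h' => D.hwne
          ((Subgroup.mul_mem_cancel_left _ (show D.t ∈ Subgroup.zpowers D.σ by
            rw [D.ht]; exact Subgroup.npow_mem_zpowers _ _)).mp h'), mul_inv_eq_iff_eq_mul.mp ?_⟩
        rw [show D.t * D.w * z * (D.t * D.w)⁻¹ = D.t * (D.w * z * D.w⁻¹) * D.t⁻¹ by group, h,
          show D.t * z⁻¹ * D.t⁻¹ = (D.t * z * D.t⁻¹)⁻¹ by group, htz, inv_inv]
    obtain ⟨g, -, hgt, -, -⟩ := D.exists_rotate huS huσ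
    set z0 := g⁻¹ * z * g with hz0
    have hz0o : orderOf z0 = r' := by
      rw [hz0]
      conv_lhs => arg 1; arg 2; rw [← inv_inv g]
      rw [CfsgLib.Involutions.orderOf_conj, hz]
    have hz0t : Commute z0 D.t := by
      have h := (Commute.conj_iff g⁻¹).mpr huz.symm
      rwa [← hgt, show g⁻¹ * (g * D.t * g⁻¹) * g⁻¹⁻¹ = D.t by group, inv_inv] at h
    have hz0O : z0 ∈ D.O := D.odd_mem (Subgroup.mem_centralizer_singleton_iff.mpr hz0t.eq)
      (by rw [hz0o]; exact hz ▸ hzoo)
    haveI := D.O_isZGroup hG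
    haveI := fit_isCyclic D.O
    have hdvd : r' ∣ Nat.card D.X * Nat.card (fit D.O) := by
      rw [D.card_O hG hind, ← hz0o]; exact Subgroup.orderOf_dvd_natCard _ hz0O
    rcases hr'.dvd_mul.mp hdvd with hX | hF
    · obtain ⟨x, hx⟩ := exists_prime_orderOf_dvd_card' r' hX
      have hxo : orderOf (x : G) = r' := by rw [Subgroup.orderOf_coe, hx]
      obtain ⟨c, i, hci⟩ := exists_conj_zpowers hG hr' hr'2 hxo hz
      have htzi : D.t * z ^ i * D.t⁻¹ = (z ^ i)⁻¹ := by rw [← conj_zpow, htz, inv_zpow]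
      refine D.no_inverting hG hind hr' x.2 hxo (i := c⁻¹ * D.t * c) ?_ ?_
      · rw [show c⁻¹ * D.t * c * (c⁻¹ * D.t * c) = c⁻¹ * (D.t * D.t) * c by group, D.t_sq]; group
      · rw [show c⁻¹ * D.t * c * (x : G) * (c⁻¹ * D.t * c)⁻¹ = c⁻¹ * (D.t * (c * x * c⁻¹) * D.t⁻¹) * c by
          group, hci, htzi, ← hci]
        group
    · obtain ⟨f, hf⟩ := exists_prime_orderOf_dvd_card' r' hF
      have hfo : orderOf (f : G) = r' := by rw [Subgroup.orderOf_coe, hf]
      have hinv := D.refl_inverts hG hind D.hwS D.hwne f f.2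
      -- `f` is a commutator, so it fixes the subgroup of `z`
      have hwM : D.w ∈ R := hCR (D.S_le D.hwS)
      have hfM : (f : G) ∈ R := hCR (D.hOC (fit_le _ f.2))
      set φ := (Subgroup.zpowers z).normalizerMonoidHom
      have h1 : φ ⟨D.w, hwM⟩ * φ ⟨f, hfM⟩ * (φ ⟨D.w, hwM⟩)⁻¹ = (φ ⟨f, hfM⟩)⁻¹ := by
        rw [← map_inv, ← map_mul, ← map_mul, ← map_inv]
        exact congrArg φ (Subtype.ext hinv)
      rw [SDat.mulAut_comm, inv_mul_cancel_left] at h1
      have h2 : φ ⟨f, hfM⟩ = 1 := by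
        refine orderOf_eq_one_iff.mp (Nat.eq_one_of_dvd_coprimes
          (Nat.prime_two.coprime_iff_not_dvd.mpr (show ¬ 2 ∣ r' from hz ▸ hzoo))
          (orderOf_dvd_of_pow_eq_one (by rw [pow_two]; exact mul_eq_one_iff_eq_inv.mpr h1))
          ((orderOf_map_dvd φ _).trans ?_))
        rw [Subgroup.orderOf_mk, hfo]
      have h3 := congrArg Subtype.val (DFunLike.congr_fun h2 ⟨z, Subgroup.mem_zpowers z⟩)
      have hfz : Commute (f : G) z := mul_inv_eq_iff_eq_mul.mp h3
      have e := hG.zpowers_eq hr' hr'2 hfo hz hfz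
      obtain ⟨i, hi⟩ := (e ▸ Subgroup.mem_zpowers z : z ∈ Subgroup.zpowers (f : G))
      refine hzt' (hi ▸ Commute.zpow_right ?_ i)
      exact (Subgroup.mem_centralizer_singleton_iff.mp (D.hOC (fit_le _ f.2))).symm
  intro g hg
  obtain ⟨k, hk, hke⟩ : ∃ k ∈ KG, k = D.t * g * D.t⁻¹ * g⁻¹ := ⟨_, ⟨_, hcomm ⟨g, hg⟩, rfl⟩, rfl⟩
  have hkt : Commute D.t k := hKt hk D.t (Subgroup.mem_zpowers _)
  have hti : D.t⁻¹ = D.t := CfsgLib.Involutions.inv_eq_self_of_orderOf D.ht2
  have hgt : g * D.t * g⁻¹ = D.t * k := by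
    rw [hke, hti, show D.t * (D.t * g * D.t * g⁻¹) = D.t * D.t * (g * D.t * g⁻¹) by group, D.t_sq,
      one_mul]
  have hkk : k * k = 1 := by
    have h : (D.t * k) * (D.t * k) = 1 := by
      rw [← hgt, show g * D.t * g⁻¹ * (g * D.t * g⁻¹) = g * (D.t * D.t) * g⁻¹ by group, D.t_sq, mul_one,
        mul_inv_cancel]
    rwa [mul_assoc, ← mul_assoc k, ← hkt.eq, mul_assoc D.t k, ← mul_assoc, D.t_sq, one_mul] at h
  have hk1 : k = 1 := orderOf_eq_one_iff.mp (Nat.eq_one_of_dvd_coprimes
    (Nat.coprime_two_left.mpr hKGodd) (orderOf_dvd_of_pow_eq_one (by rw [pow_two, hkk]))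
    (Subgroup.orderOf_dvd_natCard _ hk))
  rw [hk1, mul_one] at hgt
  exact Subgroup.mem_centralizer_singleton_iff.mpr (mul_inv_eq_iff_eq_mul.mp hgt)

end DDat

end CfsgLib.AlmostCyclic
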