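import Cfsg.Agent.Lib.AlmostCyclic.DFour
import Cfsg.Agent.Lib.AlmostCyclic.DAFive
import Cfsg.Agent.S3278

/-!
# Reflections do not centralise the subgroups of prime order of the core
-/

set_option autoImplicit false
set_option linter.style.haveILetI false
set_option linter.unusedSectionVars false
set_option maxHeartbeats 400000

namespace CfsgLib.AlmostCyclic

open Cfsg

universe u

namespace DDat

variable {G : Type u} [Group G] [Finite G] (D : DDat G)

/-- Order four with a centralising reflection is impossible. -/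
theorem klein_false [IsSimpleGroup G] (hm : D.m = 2) {x : G} (hx : x ∈ (D.S : Subgroup G))
    (hxσ : x ∉ Subgroup.zpowers D.σ) (hxO : ∀ o ∈ D.O, Commute o x) (hne : ∃ o ∈ D.O, o ≠ 1) : False := by
  haveI := Fact.mk Nat.prime_two
  have hS4 : Nat.card (D.S : Subgroup G) = 4 := by rw [D.hcard, hm]
  have hx2 := D.refl_two hx hxσ
  have hVK := isKleinFour_four D.ht2 hx2 (D.commute_S hx).symm (D.refl_ne_t hxσ)
  set V := four D.t x D.t_sq (CfsgLib.Involutions.mul_self_eq_one_of_orderOf hx2) (D.commute_S hx).symm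
  have hVS : V ≤ (D.S : Subgroup G) := by
    rintro v (rfl | rfl | rfl | rfl)
    exacts [one_mem _, D.t_mem, hx, mul_mem D.t_mem hx]
  have hVeq : V = (D.S : Subgroup G) :=
    Subgroup.eq_of_le_of_card_ge hVS (by rw [hS4, hVK.card_four])
  haveI hK : IsKleinFour ↥(D.S : Subgroup G) := hVeq ▸ hVK
  have hScent : ∀ s ∈ (D.S : Subgroup G), ∀ o ∈ D.O, Commute s o := by
    intro s hs o ho
    have ht : Commute D.t o := (Subgroup.mem_centralizer_singleton_iff.mp (D.hOC ho)).symm
    rw [← hVeq] at hs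
    rcases hs with rfl | rfl | rfl | rfl
    exacts [Commute.one_left o, ht, (hxO o ho).symm, ht.mul_left (hxO o ho).symm]
  have hn : ((D.S : Subgroup G).subgroupOf D.C).Normal := by
    refine Subgroup.normal_subgroupOf_of_le_normalizer ?_
    intro c hc
    obtain ⟨o, ho, s, hs, rfl⟩ := D.hfac c hc
    refine mul_mem (Subgroup.centralizer_le_normalizer _ ?_) (Subgroup.le_normalizer hs)
    intro v hv
    exact (hScent v hv o ho).eq
  have hodd : ¬ 2 ∣ (D.S : Subgroup G).relIndex D.C := fun h =>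
    D.S.not_dvd_index (h.trans (Subgroup.relIndex_dvd_index_of_le D.S_le))
  obtain ⟨e⟩ := Cfsg.Agent.S3278.result D.t D.ht2 (D.S : Subgroup G) D.S_le hK hodd hn
  obtain ⟨o, ho, ho1⟩ := hne
  have h := a5_cent (e D.t) (e o) (by rw [← map_mul, D.t_sq, map_one])
    (fun h => D.t_ne (by rwa [EmbeddingLike.map_eq_one_iff] at h))
    (by rw [← map_mul, ← map_mul, ← Subgroup.mem_centralizer_singleton_iff.mp (D.hOC ho)])
  rw [← map_mul, EmbeddingLike.map_eq_one_iff] at h
  exact ho1 (orderOf_eq_one_iff.mp (Nat.eq_one_of_dvd_coprimes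
    (Nat.prime_two.coprime_iff_not_dvd.mpr (D.odd_order ho))
    (orderOf_dvd_of_pow_eq_one (by rw [pow_two, h])) dvd_rfl))

/-- No reflection centralises a normalised subgroup of prime order of the core. -/
theorem refl_not_fixed [IsSimpleGroup G] (hG : AC G) (hind : Ind G) {y : G} {r : ℕ} (hr : r.Prime)
    (hyO : y ∈ D.O) (hy : orderOf y = r)
    (hn : D.C ≤ Subgroup.normalizer (Subgroup.zpowers y : Set G)) {x : G}
    (hx : x ∈ (D.S : Subgroup G)) (hxσ : x ∉ Subgroup.zpowers D.σ) : ¬ Commute x y := by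
  intro hxy
  have hy1 : y ≠ 1 := fun e => by rw [e, orderOf_one] at hy; exact hr.one_lt.ne hy
  obtain ⟨g, hgo, hgt, hgx, hgtx⟩ := D.exists_rotate hx hxσ
  set M := Subgroup.normalizer (Subgroup.zpowers y : Set G)
  have hgM : g ∈ M := D.rotate_normalizes hG hr hyO hy hn hxy hgo hgt hgx hgtx
  by_cases hsol : Group.IsSolvable M
  · obtain ⟨hm, hxO, -⟩ := D.solv_struct hG hsol hn hx hxσ hgM hgo hgt hgtx
    have hm' : D.m = 2 ∨ D.m = 4 := by
      have := Nat.le_of_dvd (by norm_num) hm
      have := D.hm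
      interval_cases h : D.m <;> simp_all
    rcases hm' with hm2 | hm4
    · exact D.klein_false hm2 hx hxσ hxO ⟨y, hyO, hy1⟩
    · have hWT : ∀ (E : DDat G) (j : ℤ), E.m = 4 → Even j → x = E.σ ^ j * E.w →
          (∀ o ∈ E.O, Commute o x) → (∃ o ∈ E.O, o ≠ 1) → False := by
        rintro E j hE ⟨k, rfl⟩ hxe hxOE hneE
        refine E.four_false hG hind hE (fun o ho => ?_) hneE
        have ht : Commute o E.t := Subgroup.mem_centralizer_singleton_iff.mp (E.hOC ho)
        have hrot : Commute o (E.σ ^ (k + k)) := by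
          have h2 : E.σ ^ (2 : ℤ) = E.t := by rw [E.ht, hE, zpow_ofNat]
          rw [← two_mul, zpow_mul, h2]
          exact ht.zpow_right k
        have h := hrot.inv_right.mul_right (hxe ▸ hxOE o ho)
        rwa [inv_mul_cancel_left] at h
      obtain ⟨j, hj⟩ := D.refl_form hx hxσ
      rcases Int.even_or_odd j with he | ⟨k, hk⟩
      · exact hWT D j hm4 he hj hxO ⟨y, hyO, hy1⟩
      · refine hWT D.twist (2 * k) hm4 ⟨k, two_mul k⟩ ?_ hxO ⟨y, hyO, hy1⟩
        show x = D.σ ^ (2 * k) * (D.σ * D.w)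
        rw [hj, hk, zpow_add_one, mul_assoc]
  · exact D.no_refl_nonsolv hind (normalizer_zpowers_ne_top D.two_dvd_card hr (D.prime_ne_two hyO hy) hy)
      hsol hn hx hxσ hgM hgo hgt hgtx

end DDat

end CfsgLib.AlmostCyclic
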