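import Cfsg.Agent.Lib.AlmostCyclic.SDExact

/-!
# The involutions of `PG`
-/

set_option autoImplicit false
set_option linter.style.haveILetI false
set_option linter.unusedSectionVars false

namespace CfsgLib.AlmostCyclic

open Cfsg

universe u

/-- The involution of a cyclic group is unique. -/
theorem cyclic_invol_unique {P : Type u} [Group P] [Finite P] {T : Subgroup P} (hT : IsCyclic T)
    {a b : P} (ha : a ∈ T) (hb : b ∈ T) (hao : orderOf a = 2) (hbo : orderOf b = 2) : a = b := by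
  haveI := hT
  have e : Subgroup.zpowers (⟨a, ha⟩ : T) = Subgroup.zpowers ⟨b, hb⟩ :=
    CfsgLib.PowerGraph.subgroup_eq_of_card (by
      rw [Nat.card_zpowers, Nat.card_zpowers, Subgroup.orderOf_mk, Subgroup.orderOf_mk, hao, hbo])
  obtain ⟨i, hi⟩ := (e ▸ Subgroup.mem_zpowers _ : (⟨a, ha⟩ : T) ∈ Subgroup.zpowers ⟨b, hb⟩)
  have hi' : b ^ i = a := congrArg Subtype.val hi
  rcases Int.even_or_odd' i with ⟨k, rfl | rfl⟩
  · rw [zpow_mul, zpow_two, CfsgLib.Involutions.mul_self_eq_one_of_orderOf hbo, one_zpow] at hi'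
    rw [← hi', orderOf_one] at hao
    omega
  · rw [zpow_add, zpow_mul, zpow_two, CfsgLib.Involutions.mul_self_eq_one_of_orderOf hbo, one_zpow,
      one_mul, zpow_one] at hi'
    exact hi'.symm

variable {p : ℕ} [Fact p.Prime]

/-- The two classes of involutions of `PG` are told apart by their centralisers. -/
theorem pg_invol (hp : p ≠ 2) {a : PG (ZMod p)} (ha : orderOf a = 2) :
    (Nat.card (Subgroup.centralizer ({a} : Set (PG (ZMod p)))) = 2 * (p - 1) ∨
      Nat.card (Subgroup.centralizer ({a} : Set (PG (ZMod p)))) = 2 * (p + 1)) ∧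
    ∀ b : PG (ZMod p), orderOf b = 2 →
      Nat.card (Subgroup.centralizer ({b} : Set (PG (ZMod p)))) =
        Nat.card (Subgroup.centralizer ({a} : Set (PG (ZMod p)))) → IsConj a b := by
  have hpp : p.Prime := Fact.out
  have h3 : 3 ≤ p := by have := hpp.two_le; omega
  have hq : 3 ≤ Fintype.card (ZMod p) := by rwa [ZMod.card]
  have hodd : Odd (Fintype.card (ZMod p)) := by rw [ZMod.card]; exact hpp.odd_of_ne_two hp
  obtain ⟨te, Ne, hte, hcte, hcls, -⟩ := exists_tori (F := ZMod p) hq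
  obtain ⟨hcyc, hcts, hts⟩ := ts_isTorus (F := ZMod p) hq
  rw [ZMod.card] at hcts hcte
  set Ns := (tor_diag (F := ZMod p)).flip.map pm with hNs
  have key : ∀ b : PG (ZMod p), orderOf b = 2 → ∃ t,
      IsConj t b ∧ orderOf t = 2 ∧ ((t ∈ ts (F := ZMod p) ∧
        Nat.card (Subgroup.centralizer ({b} : Set (PG (ZMod p)))) = 2 * (p - 1)) ∨
      (t ∈ te ∧ Nat.card (Subgroup.centralizer ({b} : Set (PG (ZMod p)))) = 2 * (p + 1))) := by
    intro b hb
    have hb1 := (CfsgLib.Involutions.orderOf_eq_two_iff'.mp hb).2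
    have step : ∀ (T N : Subgroup (PG (ZMod p))) (t : PG (ZMod p)), IsTorus T N → t ∈ T →
        IsConj t b → orderOf t = 2 ∧
          Nat.card (Subgroup.centralizer ({b} : Set (PG (ZMod p)))) = 2 * Nat.card T := by
      intro T N t hT ht h
      have ho : orderOf t = 2 := by
        obtain ⟨x, rfl⟩ := isConj_iff.mp h
        rwa [CfsgLib.Involutions.orderOf_conj] at hb
      obtain ⟨h1, h2⟩ := CfsgLib.Involutions.orderOf_eq_two_iff'.mp ho
      exact ⟨ho, by rw [← card_cent_conj h, (hT.cent ht h2).2 h1, hT.card_N]⟩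
    rcases hcls b hb1 with ⟨t, ht, h⟩ | ⟨t, ht, h⟩ | h
    · obtain ⟨h1, h2⟩ := step _ _ t hts ht h
      exact ⟨t, h, h1, Or.inl ⟨ht, by rw [h2, hcts]⟩⟩
    · obtain ⟨h1, h2⟩ := step _ _ t hte ht h
      exact ⟨t, h, h1, Or.inr ⟨ht, by rw [h2, hcte]⟩⟩
    · exfalso
      obtain ⟨x, rfl⟩ := isConj_iff.mp h
      rw [CfsgLib.Involutions.orderOf_conj] at hb
      exact Nat.not_even_iff_odd.mpr (odd_u0 hodd (zmod_two_ne hp)) (by rw [hb]; exact even_two)
  obtain ⟨t, hta, hto, hcase⟩ := key a ha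
  refine ⟨hcase.imp And.right And.right, fun b hb he => ?_⟩
  obtain ⟨s, hsb, hso, hcase'⟩ := key b hb
  have e : t = s := by
    rcases hcase with ⟨ht, h1⟩ | ⟨ht, h1⟩ <;> rcases hcase' with ⟨hs, h2⟩ | ⟨hs, h2⟩
    · exact cyclic_invol_unique hcyc ht hs hto hso
    · omega
    · omega
    · exact cyclic_invol_unique hte.cyc ht hs hto hso
  exact (hta.symm.trans (e ▸ hsb))

end CfsgLib.AlmostCyclic
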