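import Cfsg.Agent.Lib.AlmostCyclic.SDExact

/-!
# Small local facts for the end of the quasi-dihedral case
-/

set_option autoImplicit false
set_option linter.style.haveILetI false
set_option linter.unusedSectionVars false

namespace CfsgLib.AlmostCyclic

open Cfsg CfsgLib.GL2Char

universe u

theorem psl_not_solvable {p : ℕ} [Fact p.Prime] (hp : 5 ≤ p) :
    ¬ Group.IsSolvable (Matrix.ProjectiveSpecialLinearGroup (Fin 2) (ZMod p)) := by
  haveI : IsSimpleGroup (Matrix.ProjectiveSpecialLinearGroup (Fin 2) (ZMod p)) :=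
    Matrix.ProjectiveSpecialLinearGroup.rank_two_simple (by rw [Nat.card_zmod]; omega)
  intro h
  have hc : ∀ a b : Matrix.ProjectiveSpecialLinearGroup (Fin 2) (ZMod p), a * b = b * a :=
    IsSimpleGroup.comm_iff_isSolvable.mpr h
  have ht : Subgroup.center (Matrix.ProjectiveSpecialLinearGroup (Fin 2) (ZMod p)) = ⊤ :=
    top_le_iff.mp fun a _ => Subgroup.mem_center_iff.mpr fun b => hc b a
  rw [psl_center_bot hp] at ht
  exact bot_ne_top ht

theorem pg_not_solvable {p : ℕ} [Fact p.Prime] (hp : 5 ≤ p) : ¬ Group.IsSolvable (PG (ZMod p)) := by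
  intro h
  obtain ⟨e⟩ := exists_autEquiv (p := p)
  refine psl_not_solvable hp ?_
  let f : Matrix.ProjectiveSpecialLinearGroup (Fin 2) (ZMod p) →* PG (ZMod p) :=
    e.symm.toMonoidHom.comp MulAut.conj
  have hf : Function.Injective f := by
    intro a b hab
    have h1 : MulAut.conj a = MulAut.conj b := e.symm.injective hab
    have h2 : a⁻¹ * b ∈ Subgroup.center (Matrix.ProjectiveSpecialLinearGroup (Fin 2) (ZMod p)) := by
      rw [Subgroup.mem_center_iff]
      intro x
      have h3 : a * x * a⁻¹ = b * x * b⁻¹ := DFunLike.congr_fun h1 x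
      calc x * (a⁻¹ * b) = a⁻¹ * (a * x * a⁻¹) * b := by group
        _ = a⁻¹ * (b * x * b⁻¹) * b := by rw [h3]
        _ = a⁻¹ * b * x := by group
    rw [psl_center_bot hp, Subgroup.mem_bot, inv_mul_eq_one] at h2
    exact h2
  exact solvable_of_solvable_injective hf

/-- Every element of `PG` is conjugate to its inverse. -/
theorem pg_real {p : ℕ} [Fact p.Prime] (hp : p ≠ 2) (g : PG (ZMod p)) : IsConj g g⁻¹ := by
  have h3 : 3 ≤ Fintype.card (ZMod p) := by
    rw [ZMod.card]; have := (Fact.out : p.Prime).two_le; omega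
  by_cases hg : g = 1
  · rw [hg, inv_one]
  obtain ⟨te, Ne, hte, -, hcls, -⟩ := exists_tori (F := ZMod p) h3
  obtain ⟨-, -, hts⟩ := ts_isTorus (F := ZMod p) h3
  have key : ∀ (T N : Subgroup (PG (ZMod p))), IsTorus T N → ∀ t ∈ T, IsConj t g → IsConj g g⁻¹ := by
    intro T N hT t ht h
    obtain ⟨x, hxN, hxT⟩ : ∃ x ∈ N, x ∉ T := by
      by_contra hc
      push Not at hc
      have := Subgroup.card_dvd_of_le (show N ≤ T from hc)
      rw [hT.card_N] at this
      have := Nat.le_of_dvd Nat.card_pos this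
      have := Nat.card_pos (α := T)
      omega
    have h1 : IsConj t t⁻¹ := isConj_iff.mpr ⟨x, hT.inv x hxN hxT t ht⟩
    have h2 : IsConj t⁻¹ g⁻¹ := by
      obtain ⟨c, rfl⟩ := isConj_iff.mp h
      exact isConj_iff.mpr ⟨c, conj_inv.symm⟩
    exact (h.symm.trans h1).trans h2
  rcases hcls g hg with ⟨t, ht, h⟩ | ⟨t, ht, h⟩ | h
  · exact key _ _ hts t ht h
  · exact key _ _ hte t ht h
  · have hu : (u0 (F := ZMod p))⁻¹ = pm (bor 1 1 (-1 : ZMod p)) := by
      refine inv_eq_of_mul_eq_one_right ?_
      show pm (bor 1 1 (1 : ZMod p)) * pm (bor 1 1 (-1)) = 1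
      rw [← map_mul, bor_mul]
      simp [bor_one]
    have h1 : IsConj (u0 (F := ZMod p)) (u0 (F := ZMod p))⁻¹ := by
      rw [hu]
      exact pm.map_isConj (unip_conj (neg_ne_zero.mpr one_ne_zero))
    have h2 : IsConj (u0 (F := ZMod p))⁻¹ g⁻¹ := by
      obtain ⟨c, rfl⟩ := isConj_iff.mp h
      exact isConj_iff.mpr ⟨c, conj_inv.symm⟩
    exact (h.symm.trans h1).trans h2

variable {G : Type u} [Group G] [Finite G]

/-- Conjugation of a normalising element on a subgroup, as an automorphism. -/
theorem card_normalizer_zpowers {z : G} {r : ℕ} (hr : r.Prime) (hz : orderOf z = r) :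
    ∃ j : ℕ, j ∣ r - 1 ∧ Nat.card ↥(Subgroup.normalizer (Subgroup.zpowers z : Set G)) =
      Nat.card ↥(Subgroup.centralizer ({z} : Set G)) * j := by
  set Z := Subgroup.zpowers z with hZ
  set f := Z.normalizerMonoidHom with hf
  have hker : f.ker.map (Subgroup.normalizer (Z : Set G)).subtype = Subgroup.centralizer ({z} : Set G) := by
    rw [hf, Subgroup.normalizerMonoidHom_ker, Subgroup.map_subgroupOf_eq_of_le
      (Subgroup.centralizer_le_normalizer _), hZ, Subgroup.zpowers_eq_closure,
      Subgroup.centralizer_closure]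
  refine ⟨Nat.card f.range, ?_, ?_⟩
  · have h := Subgroup.card_subgroup_dvd_card f.range
    rw [IsCyclic.card_mulAut, show Nat.card Z = r from (Nat.card_zpowers z).trans hz,
      Nat.totient_prime hr] at h
    exact h
  · rw [← f.ker.card_mul_index, Subgroup.index_ker, ← hker,
      Subgroup.card_map_of_injective (Subgroup.subtype_injective _)]

/-- A normaliser of a Sylow subgroup covers the quotient by a normal subgroup containing it. -/
theorem index_dvd_card_normalizer {r : ℕ} [Fact r.Prime] {M : Subgroup G} (H : Subgroup M) [H.Normal]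
    (P : Sylow r H) :
    H.index ∣ Nat.card ↥(Subgroup.normalizer (((P : Subgroup H).map H.subtype : Subgroup M) : Set M)) := by
  set Nm := Subgroup.normalizer (((P : Subgroup H).map H.subtype : Subgroup M) : Set M) with hNm
  have h := P.normalizer_sup_eq_top
  have hs : Function.Surjective ((QuotientGroup.mk' H).comp Nm.subtype) := by
    intro q
    obtain ⟨m, rfl⟩ := QuotientGroup.mk'_surjective H q
    obtain ⟨a, ha, b, hb, rfl⟩ := Subgroup.mem_sup_of_normal_right.mp
      (show m ∈ Nm ⊔ H by rw [hNm, h]; trivial)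
    refine ⟨⟨a, ha⟩, ?_⟩
    show (QuotientGroup.mk' H) a = (QuotientGroup.mk' H) (a * b)
    rw [map_mul, show (QuotientGroup.mk' H) b = 1 from (QuotientGroup.eq_one_iff b).mpr hb, mul_one]
  rw [Subgroup.index_eq_card]
  exact Subgroup.card_dvd_of_surjective _ hs

theorem isCyclic_mulAut_prime {z : G} {r : ℕ} (hr : r.Prime) (hz : orderOf z = r) :
    IsCyclic (MulAut ↥(Subgroup.zpowers z)) := by
  haveI := Fact.mk hr
  haveI : IsCyclic (ZMod (Nat.card ↥(Subgroup.zpowers z)))ˣ := by
    rw [Nat.card_zpowers, hz]; infer_instance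
  exact isCyclic_of_injective (IsCyclic.mulAutMulEquiv ↥(Subgroup.zpowers z)).toMonoidHom
    (IsCyclic.mulAutMulEquiv ↥(Subgroup.zpowers z)).injective

/-- A normal centraliser of index four: the normaliser of a subgroup of prime order in it has order
divisible by four. -/
theorem quarter_dvd (_ : SDat G) (hGc : Nat.card G = 85680) {z : G} {r : ℕ}
    (hM : Nat.card ↥(Subgroup.normalizer (Subgroup.zpowers z : Set G)) =
      Nat.card ↥(Subgroup.centralizer ({z} : Set G)) * 4)
    (hr : r.Prime) {x : G} (hx : orderOf x = r) (hxz : x ∈ Subgroup.centralizer ({z} : Set G))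
    (hsq : ¬ r ^ 2 ∣ 85680) :
    4 ∣ Nat.card ↥(Subgroup.normalizer (Subgroup.zpowers x : Set G)) := by
  haveI := Fact.mk hr
  set M := Subgroup.normalizer (Subgroup.zpowers z : Set G) with hMdef
  set H := Subgroup.centralizer ({z} : Set G) with hHdef
  have hker : H.subgroupOf M = (Subgroup.zpowers z).normalizerMonoidHom.ker := by
    have e : Subgroup.centralizer (Subgroup.zpowers z : Set G) = H := by
      rw [hHdef, Subgroup.zpowers_eq_closure, Subgroup.centralizer_closure]
    rw [Subgroup.normalizerMonoidHom_ker, e]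
  haveI : (H.subgroupOf M).Normal := hker ▸ MonoidHom.normal_ker _
  have hHM : H ≤ M := by
    refine le_trans (le_of_eq ?_) (Subgroup.centralizer_le_normalizer _)
    rw [hHdef, Subgroup.zpowers_eq_closure, Subgroup.centralizer_closure]
  have hidx : (H.subgroupOf M).index = 4 := by
    have h := (H.subgroupOf M).card_mul_index
    rw [Nat.card_congr (Subgroup.subgroupOfEquivOfLe hHM).toEquiv, hM] at h
    exact Nat.eq_of_mul_eq_mul_left Nat.card_pos h
  set xH : H.subgroupOf M := ⟨⟨x, hHM hxz⟩, Subgroup.mem_subgroupOf.mpr hxz⟩ with hxH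
  have hxo : orderOf xH = r := by rw [← Subgroup.orderOf_coe, ← Subgroup.orderOf_coe]; exact hx
  obtain ⟨P, hP⟩ := (IsPGroup.of_card (n := 1) (show Nat.card (Subgroup.zpowers xH) = r ^ 1 by
    rw [Nat.card_zpowers, hxo, pow_one])).exists_le_sylow
  have hPeq : Subgroup.zpowers xH = (P : Subgroup (H.subgroupOf M)) := by
    refine Subgroup.eq_of_le_of_card_ge hP ?_
    obtain ⟨n, hn⟩ := P.isPGroup'.exists_card_eq
    have h : r ^ n ∣ 85680 := by
      rw [← hn, ← hGc, ← Subgroup.card_map_of_injective (H.subgroupOf M).subtype_injective]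
      exact (Subgroup.card_subgroup_dvd_card _).trans (Subgroup.card_subgroup_dvd_card M)
    have hn1 : n ≤ 1 := by
      by_contra hc
      exact hsq ((pow_dvd_pow r (by omega)).trans h)
    rw [hn, Nat.card_zpowers, hxo]
    exact le_trans (Nat.pow_le_pow_right hr.pos hn1) (by rw [pow_one])
  have h := index_dvd_card_normalizer (H.subgroupOf M) P
  rw [hidx] at h
  refine h.trans ?_
  rw [← hPeq, ← Subgroup.card_map_of_injective M.subtype_injective]
  refine Subgroup.card_dvd_of_le ?_
  rintro _ ⟨a, ha, rfl⟩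
  rw [MonoidHom.map_zpowers] at ha
  have h' := Subgroup.mem_normalizer_iff.mp ha
  have hiff : ∀ v : M, v ∈ Subgroup.zpowers ((H.subgroupOf M).subtype xH) ↔
      (v : G) ∈ Subgroup.zpowers x := fun v => by
    constructor
    · rintro ⟨i, rfl⟩; exact ⟨i, by simp [hxH]⟩
    · rintro ⟨i, hi⟩; exact ⟨i, Subtype.ext (by simpa [hxH] using hi)⟩
  rw [Subgroup.mem_normalizer_iff]
  intro v
  show _ ↔ (a : G) * v * (a : G)⁻¹ ∈ Subgroup.zpowers x
  constructor
  · rintro ⟨i, rfl⟩
    exact (hiff _).mp ((h' (((H.subgroupOf M).subtype xH) ^ i)).mp ⟨i, rfl⟩) |> fun h1 => by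
      simpa [hxH] using h1
  · rintro ⟨i, hi⟩
    have hi' : x ^ i = (a : G) * v * (a : G)⁻¹ := hi
    have h2 := (h' (a⁻¹ * ((H.subgroupOf M).subtype xH) ^ i * a)).mpr ⟨i, by group⟩
    have h3 := (hiff _).mp h2
    have e : v = (a : G)⁻¹ * x ^ i * (a : G) := by rw [hi']; group
    rw [e]
    simpa [hxH, mul_assoc] using h3

end CfsgLib.AlmostCyclic
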