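import Cfsg.Agent.Lib.AlmostCyclic.SDPrep
import Cfsg.Agent.Lib.AlmostCyclic.SDLocal
import Cfsg.Agent.Lib.PSL2Klein

/-!
# Involutions and odd subgroups of `PSL₂(p)`
-/

set_option autoImplicit false
set_option linter.style.haveILetI false
set_option linter.unusedSectionVars false

namespace CfsgLib.AlmostCyclic

open Cfsg Matrix

universe u

section PSL

variable {p : ℕ} [Fact p.Prime]

local notation "SLp" => Matrix.SpecialLinearGroup (Fin 2) (ZMod p)
local notation "PSLp" => Matrix.ProjectiveSpecialLinearGroup (Fin 2) (ZMod p)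

theorem card_psl_two (hp : p ≠ 2) : 2 * Nat.card PSLp = (p + 1) * p * (p - 1) := by
  have h := Subgroup.card_eq_card_quotient_mul_card_subgroup (Subgroup.center SLp)
  rw [card_center_SLp hp, SLCard.card_SL_two, ZMod.card, show p ^ 2 - 1 = (p + 1) * (p - 1) by
    rw [← Nat.sq_sub_sq, one_pow]] at h
  have e : Nat.card PSLp = Nat.card (SLp ⧸ Subgroup.center SLp) := rfl
  rw [e, mul_comm 2, ← h]
  ring

theorem psl_isConj_invol (hp : p ≠ 2) {a b : PSLp} (ha : orderOf a = 2) (hb : orderOf b = 2) :
    IsConj a b := by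
  have h2 := zmod_two_ne hp
  obtain ⟨A, rfl⟩ := QuotientGroup.mk'_surjective _ a
  obtain ⟨B, rfl⟩ := QuotientGroup.mk'_surjective _ b
  obtain ⟨ha1, ha2⟩ := CfsgLib.Involutions.orderOf_eq_two_iff'.mp ha
  obtain ⟨hb1, hb2⟩ := CfsgLib.Involutions.orderOf_eq_two_iff'.mp hb
  exact (PSL2.mk : SLp →* PSLp).map_isConj (PSL2Klein.isConj_trace_zero h2
    ((PSL2Klein.invol_iff h2).mp ⟨ha2, ha1⟩) ((PSL2Klein.invol_iff h2).mp ⟨hb2, hb1⟩))

theorem psl_card_cent (hp : p ≠ 2) {b : PSLp} (hb : orderOf b = 2) :
    Nat.card (Subgroup.centralizer ({b} : Set PSLp)) = p - 1 ∨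
      Nat.card (Subgroup.centralizer ({b} : Set PSLp)) = p + 1 := by
  have h2 := zmod_two_ne hp
  obtain ⟨g, rfl⟩ := QuotientGroup.mk'_surjective _ b
  obtain ⟨hb1, hb2⟩ := CfsgLib.Involutions.orderOf_eq_two_iff'.mp hb
  have hg : g.1.trace = 0 := (PSL2Klein.invol_iff h2).mp ⟨hb2, hb1⟩
  set m : SLp →* PSLp := PSL2.mk with hm
  have hs : Function.Surjective m := QuotientGroup.mk'_surjective _
  set Cb := Subgroup.centralizer ({m g} : Set PSLp) with hCb
  have h3 : Nat.card (Cb.comap m) = 2 * Nat.card Cb := by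
    have h1 := (Cb.comap m).card_mul_index
    rw [Subgroup.index_comap_of_surjective _ hs, SLCard.card_SL_two, ZMod.card,
      show p ^ 2 - 1 = (p + 1) * (p - 1) by rw [← Nat.sq_sub_sq, one_pow], ← mul_assoc,
      mul_comm p (p + 1), ← card_psl_two hp, ← Cb.card_mul_index] at h1
    refine Nat.eq_of_mul_eq_mul_right (Nat.pos_of_ne_zero (Subgroup.index_ne_zero_of_finite (H := Cb))) ?_
    rw [h1]
    ring
  have h4 : Nat.card (Cb.comap m) =
      2 * Nat.card (Subgroup.centralizer ({g} : Set SLp)) := by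
    rw [← PSL2Klein.card_normalizer h2 hg]
    refine Nat.card_congr (Equiv.subtypeEquivRight fun k => ?_)
    rw [Subgroup.mem_comap, hCb, Subgroup.mem_centralizer_singleton_iff, hm, ← map_mul, ← map_mul,
      PSL2Klein.mk_eq_iff]
    constructor
    · rintro (e | e)
      · exact Or.inl e.symm
      · refine Or.inr ?_
        rw [neg_mul, e, neg_neg]
    · rintro (e | e)
      · exact Or.inl e.symm
      · refine Or.inr ?_
        rw [e, neg_mul, neg_neg]
  have h5 : Nat.card Cb = Nat.card (Subgroup.centralizer ({g} : Set SLp)) := by omega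
  show Nat.card Cb = p - 1 ∨ Nat.card Cb = p + 1
  rw [h5]
  have hodd : p % 2 = 1 := Nat.odd_iff.mp ((Fact.out : p.Prime).odd_of_ne_two hp)
  rcases (show p % 4 = 1 ∨ p % 4 = 3 by omega) with h | h
  · left; rw [PSL2Klein.card_centralizer_one h2 hg (by rwa [ZMod.card]), ZMod.card]
  · right; rw [PSL2Klein.card_centralizer_three h2 hg (by rwa [ZMod.card]), ZMod.card]

end PSL

variable {L : Type u} [Group L] [Finite L]

/-- A proper subgroup of a simple group has index at least any prime divisor of the order. -/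
theorem prime_le_index [IsSimpleGroup L] {p : ℕ} (hp : p.Prime) (hdvd : p ∣ Nat.card L)
    {H : Subgroup L} (hH : H ≠ ⊤) : p ≤ H.index := by
  classical
  have hcore : H.normalCore = ⊥ :=
    ((inferInstance : H.normalCore.Normal).eq_bot_or_eq_top).resolve_right fun h =>
      hH (top_le_iff.mp (h ▸ H.normalCore_le))
  have hinj : Function.Injective (MulAction.toPermHom L (L ⧸ H)) := by
    rw [← MonoidHom.ker_eq_bot_iff, ← Subgroup.normalCore_eq_ker, hcore]
  have h1 := hdvd.trans (Subgroup.card_dvd_of_injective _ hinj)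
  rw [Nat.card_perm, ← Subgroup.index_eq_card] at h1
  exact hp.dvd_factorial.mp h1

/-- An odd subgroup of order divisible by the number of involutions of a group like `PSL₂(p)`
is not inverted elementwise. -/
theorem psl_odd_big [IsSimpleGroup L] {p : ℕ} (hp : p.Prime) (hp5 : 5 ≤ p)
    (hL : 2 * Nat.card L = (p + 1) * p * (p - 1)) {t : L}
    (hc : Nat.card (Subgroup.centralizer ({t} : Set L)) = p - 1 ∨
      Nat.card (Subgroup.centralizer ({t} : Set L)) = p + 1)
    {H : Subgroup L} (hHodd : Odd (Nat.card H))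
    (hdvd : (Subgroup.centralizer ({t} : Set L)).index ∣ Nat.card H)
    (hab : Nat.card H = (Subgroup.centralizer ({t} : Set L)).index → IsMulCommutative H) : False := by
  haveI := Fact.mk hp
  have hp2 : p % 2 = 1 := Nat.odd_iff.mp (hp.odd_of_ne_two (by omega))
  set c := Nat.card (Subgroup.centralizer ({t} : Set L)) with hcd
  set n := (Subgroup.centralizer ({t} : Set L)).index with hnd
  have hcn : c * n = Nat.card L := (Subgroup.centralizer ({t} : Set L)).card_mul_index
  have hpc : ¬ p ∣ c := by
    intro h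
    rcases hc with e | e <;> rw [e] at h
    · have := Nat.le_of_dvd (by omega) h; omega
    · have := Nat.dvd_sub h dvd_rfl
      rw [Nat.add_sub_cancel_left] at this
      exact hp.not_dvd_one this
  have hpL : p ∣ Nat.card L := by
    refine (Nat.Coprime.dvd_of_dvd_mul_left ((Nat.coprime_primes hp Nat.prime_two).mpr (by omega)) ?_)
    rw [hL]
    exact Dvd.intro_left _ rfl |>.trans (dvd_mul_right _ _)
  have hne : H ≠ ⊤ := by
    intro h
    rw [h, Subgroup.card_top] at hHodd
    have h1 : 2 ∣ c := by rcases hc with e | e <;> rw [e] <;> omega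
    exact Nat.not_even_iff_odd.mpr hHodd
      (even_iff_two_dvd.mpr (h1.trans (Dvd.intro n hcn)))
  have hidx := prime_le_index hp hpL hne
  obtain ⟨d, hd⟩ := hdvd
  have hdi : H.index * d = c := by
    have h := H.card_mul_index
    rw [← hcn, hd] at h
    have hn0 : 0 < n := Nat.pos_of_ne_zero Subgroup.index_ne_zero_of_finite
    exact Nat.eq_of_mul_eq_mul_left hn0 (by linarith)
  have hd1 : d = 1 := by
    by_contra h
    have : 0 < d := by
      rcases Nat.eq_zero_or_pos d with e | e
      · rw [e, mul_zero] at hd; exact absurd hd Nat.card_pos.ne'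
      · exact e
    have : H.index * 2 ≤ c := hdi ▸ Nat.mul_le_mul_left _ (by omega)
    rcases hc with e | e <;> omega
  rw [hd1, mul_one] at hdi hd
  have hce : c = p + 1 := by rcases hc with e | e <;> omega
  have hH2 : 2 * Nat.card H = p * (p - 1) := by
    rw [hd]
    refine Nat.eq_of_mul_eq_mul_left (show 0 < p + 1 by omega) ?_
    rw [← mul_assoc (p + 1) p, ← hL, ← hcn, hce]
    ring
  haveI := hab hd
  have hpH : p ∣ Nat.card H := (Nat.Coprime.dvd_of_dvd_mul_left
    ((Nat.coprime_primes hp Nat.prime_two).mpr (by omega)) (hH2 ▸ dvd_mul_right p (p - 1)))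
  obtain ⟨z0, hz0⟩ := exists_prime_orderOf_dvd_card' (G := H) p hpH
  set z : L := (z0 : L) with hzd
  have hz : orderOf z = p := by rw [hzd, Subgroup.orderOf_coe, hz0]
  have hp2' : ¬ p * p ∣ Nat.card L := by
    intro h
    rw [← hcn, hce, ← hd] at h
    have h1 : p * p ∣ 2 * ((p + 1) * Nat.card H) := h.mul_left 2
    rw [show 2 * ((p + 1) * Nat.card H) = p * ((p + 1) * (p - 1)) by
      rw [mul_left_comm, hH2]; ring] at h1
    rcases (Nat.Prime.dvd_mul hp).mp (Nat.dvd_of_mul_dvd_mul_left hp.pos h1) with h2 | h2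
    · exact hpc (hce ▸ h2)
    · have := Nat.le_of_dvd (by omega) h2; omega
  obtain ⟨P, hP⟩ := (IsPGroup.of_card (n := 1) (show Nat.card (Subgroup.zpowers z) = p ^ 1 by
    rw [Nat.card_zpowers, hz, pow_one])).exists_le_sylow
  have hPe : Subgroup.zpowers z = (P : Subgroup L) := by
    refine Subgroup.eq_of_le_of_card_ge hP ?_
    obtain ⟨k, hk⟩ := P.isPGroup'.exists_card_eq
    rw [hk, Nat.card_zpowers, hz]
    refine le_trans (Nat.pow_le_pow_right hp.pos (?_ : k ≤ 1)) (by rw [pow_one])
    by_contra h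
    refine hp2' ((?_ : p * p ∣ p ^ k).trans (hk ▸ Subgroup.card_subgroup_dvd_card _))
    exact ⟨p ^ (k - 2), by rw [← pow_two, ← pow_add]; congr 1; omega⟩
  have hcz : ∀ a ∈ H, Commute a z := fun a ha => ((Subgroup.le_centralizer H ha) z z0.2).symm
  have hHN : H ≤ Subgroup.normalizer (P : Set L) := by
    refine le_trans (fun a ha => ?_) (Subgroup.centralizer_le_normalizer _)
    rw [Subgroup.mem_centralizer_iff]
    intro b hb
    have hb' : b ∈ Subgroup.zpowers z := hPe ▸ hb
    obtain ⟨i, rfl⟩ := hb'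
    exact ((hcz a ha).zpow_right i).eq.symm
  set N := Subgroup.normalizer (P : Set L) with hN
  have hNe : H = N := by
    refine Subgroup.eq_of_le_of_card_ge hHN ?_
    have h1 : N.index ∣ p + 1 := hce ▸ hdi ▸ Subgroup.index_dvd_of_le hHN
    have h2 := card_sylow_modEq_one p L
    rw [P.card_eq_index_normalizer, ← hN] at h2
    have h3 : N.index ≠ 1 := by
      rw [Ne, Subgroup.index_eq_one, hN]
      intro htop
      have hnor : (P : Subgroup L).Normal := Subgroup.normalizer_eq_top_iff.mp htop
      rcases hnor.eq_bot_or_eq_top with e | e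
      · have := congrArg (fun K : Subgroup L => Nat.card K) (hPe.trans e)
        simp only [Nat.card_zpowers, hz, Subgroup.card_bot] at this
        exact hp.one_lt.ne' this
      · have h1 := congrArg (fun K : Subgroup L => Nat.card K) (hPe.trans e)
        simp only [Nat.card_zpowers, hz, Subgroup.card_top] at h1
        rw [← h1] at hL
        have : 2 * p < (p + 1) * p * (p - 1) := by
          calc 2 * p < (p + 1) * p := by nlinarith
            _ ≤ _ := Nat.le_mul_of_pos_right _ (by omega)
        omega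
    have h0 : 0 < N.index := Nat.pos_of_ne_zero Subgroup.index_ne_zero_of_finite
    have h4 := (Nat.modEq_iff_dvd' h0).mp h2.symm
    have h5 := Nat.le_of_dvd (by omega) h4
    have h6 : N.index = H.index := by
      have := Nat.le_of_dvd (by omega) h1
      omega
    have e1 := N.card_mul_index
    have e2 := H.card_mul_index
    rw [h6] at e1
    exact (Nat.eq_of_mul_eq_mul_right (by omega) (e1.trans e2.symm)).le
  have hPC : N ≤ Subgroup.centralizer ((P : Subgroup L) : Set L) := by
    intro a ha
    rw [← hPe, Subgroup.mem_centralizer_iff]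
    rintro _ ⟨i, rfl⟩
    exact ((hcz a (hNe ▸ ha)).zpow_right i).eq.symm
  have h1 := (MonoidHom.ker_transferSylow_isComplement' P hPC).card_mul_card
  have hPc : Nat.card (P : Subgroup L) = p := by rw [← hPe, Nat.card_zpowers, hz]
  rcases (inferInstance : (MonoidHom.transferSylow P hPC).ker.Normal).eq_bot_or_eq_top with h | h
  · rw [h, Subgroup.card_bot, one_mul, hPc] at h1
    have h7 : Nat.card H ∣ p := h1 ▸ Subgroup.card_subgroup_dvd_card H
    have := Nat.le_of_dvd hp.pos h7
    have : p * 4 ≤ p * (p - 1) := Nat.mul_le_mul_left p (by omega)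
    omega
  · rw [h, Subgroup.card_top, hPc] at h1
    exact hp.one_lt.ne' ((Nat.mul_eq_left Nat.card_pos.ne').mp h1)

end CfsgLib.AlmostCyclic
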