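import Cfsg.Agent.Lib.AlmostCyclic.SDRot
import Cfsg.Agent.Lib.BSW.PairCount

/-!
# Involution pairs multiplying into the rotation sections
-/

set_option autoImplicit false
set_option linter.style.haveILetI false
set_option linter.unusedSectionVars false

namespace CfsgLib.AlmostCyclic

open Cfsg CfsgLib.CharTheory CfsgLib.Blocks CfsgLib.Blocks.AbelianFree
open scoped ComplexConjugate

universe u

variable {G : Type u} [Group G]

/-- The elements of a subgroup inverted by conjugation with an element. -/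
def invSet (K : Subgroup G) (x : G) : Set G := {c | c ∈ K ∧ x * c * x⁻¹ = c⁻¹}

theorem exists_root [Finite G] {c : G} (hc : ¬ 2 ∣ orderOf c) :
    ∃ d, d ∈ Subgroup.zpowers c ∧ d ^ 2 = c := by
  obtain ⟨m, hm⟩ := exists_pow_eq_self_of_coprime (Nat.prime_two.coprime_iff_not_dvd.2 hc) (x := c)
  exact ⟨c ^ m, Subgroup.npow_mem_zpowers c m, by rw [← pow_mul, mul_comm, pow_mul, hm]⟩

theorem inverts_zpowers {x c d : G} (h : x * c * x⁻¹ = c⁻¹) (hd : d ∈ Subgroup.zpowers c) :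
    x * d * x⁻¹ = d⁻¹ := by
  obtain ⟨i, rfl⟩ := hd
  show x * c ^ i * x⁻¹ = (c ^ i)⁻¹
  rw [← conj_zpow, h, inv_zpow]

/-- An involution normalising a group of odd order splits it as fixed times inverted elements. -/
theorem card_invSet [Finite G] {K : Subgroup G} (hK : ∀ c ∈ K, ¬ 2 ∣ orderOf c) {x : G}
    (hx : x * x = 1) (hxK : ∀ c ∈ K, x * c * x⁻¹ ∈ K) :
    Nat.card ↥(K ⊓ Subgroup.centralizer ({x} : Set G)) * Nat.card (invSet K x) = Nat.card K := by
  have hx' : x⁻¹ = x := inv_eq_of_mul_eq_one_right hx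
  have hroot : ∀ c ∈ K, ∀ d : G, d ∈ Subgroup.zpowers c → d ∈ K := fun c hc d hd =>
    (Subgroup.zpowers_le.mpr hc) hd
  rw [← Nat.card_prod]
  refine Nat.card_congr (Equiv.ofBijective
    (fun p : ↥(K ⊓ Subgroup.centralizer ({x} : Set G)) × invSet K x =>
      (⟨(p.1 : G) * (p.2 : G), K.mul_mem p.1.2.1 p.2.2.1⟩ : K)) ⟨?_, ?_⟩)
  · rintro ⟨⟨a, ha⟩, ⟨d, hd⟩⟩ ⟨⟨a', ha'⟩, ⟨d', hd'⟩⟩ h
    have h1 : a * d = a' * d' := congrArg Subtype.val h
    have hax : x * a * x⁻¹ = a := by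
      rw [← Subgroup.mem_centralizer_singleton_iff.mp ha.2, mul_inv_cancel_right]
    have hax' : x * a' * x⁻¹ = a' := by
      rw [← Subgroup.mem_centralizer_singleton_iff.mp ha'.2, mul_inv_cancel_right]
    have h2 : a * d⁻¹ = a' * d'⁻¹ := by
      rw [← hax, ← hd.2, ← hax', ← hd'.2]
      calc x * a * x⁻¹ * (x * d * x⁻¹) = x * (a * d) * x⁻¹ := by group
        _ = x * (a' * d') * x⁻¹ := by rw [h1]
        _ = _ := by group
    have h3 : d ^ 2 = d' ^ 2 := by
      calc d ^ 2 = (a * d⁻¹)⁻¹ * (a * d) := by rw [pow_two]; group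
        _ = (a' * d'⁻¹)⁻¹ * (a' * d') := by rw [h1, h2]
        _ = d' ^ 2 := by rw [pow_two]; group
    have hdd : d = d' := by
      obtain ⟨m, hm⟩ := exists_pow_eq_self_of_coprime
        (Nat.prime_two.coprime_iff_not_dvd.2 fun hh => ((Nat.prime_two.dvd_mul.mp hh).elim
          (hK d hd.1) (hK d' hd'.1)) : Nat.Coprime 2 (orderOf d * orderOf d')).coprime_mul_right_right
        (x := d)
      obtain ⟨m', hm'⟩ := exists_pow_eq_self_of_coprime
        (Nat.prime_two.coprime_iff_not_dvd.2 (hK d' hd'.1)) (x := d')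
      have e1 : d ∈ Subgroup.zpowers (d ^ 2) := by
        have h := Subgroup.npow_mem_zpowers (d ^ 2) m; rwa [hm] at h
      have e2 : d' ∈ Subgroup.zpowers (d ^ 2) := by
        have h := Subgroup.npow_mem_zpowers (d' ^ 2) m'; rw [hm', ← h3] at h; exact h
      have hc : Commute d d' := by
        obtain ⟨i, hi⟩ := e1
        obtain ⟨j, hj⟩ := e2
        rw [← hi, ← hj]
        exact (Commute.refl _).zpow_zpow i j
      have h4 : (d * d'⁻¹) ^ 2 = 1 := by rw [hc.inv_right.mul_pow, h3, inv_pow, mul_inv_cancel]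
      refine mul_inv_eq_one.mp (orderOf_eq_one_iff.mp ?_)
      rcases (Nat.dvd_prime Nat.prime_two).mp (orderOf_dvd_of_pow_eq_one h4) with h | h
      · exact h
      · exact absurd h.symm.dvd (hK _ (K.mul_mem hd.1 (K.inv_mem hd'.1)))
    subst hdd
    obtain rfl := mul_right_cancel h1
    rfl
  · rintro ⟨k, hk⟩
    set c := (x * k * x⁻¹)⁻¹ * k with hc
    have hcK : c ∈ K := K.mul_mem (K.inv_mem (hxK k hk)) hk
    have hcx : x * c * x⁻¹ = c⁻¹ := by
      rw [hc, hx']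
      simp [mul_assoc, hx', ← mul_assoc x x, hx]
    obtain ⟨d, hd, hd2⟩ := exists_root (hK c hcK)
    have hdx := inverts_zpowers hcx hd
    have hdK := hroot c hcK d hd
    refine ⟨⟨⟨k * d⁻¹, ⟨K.mul_mem hk (K.inv_mem hdK), ?_⟩⟩, ⟨d, ⟨hdK, hdx⟩⟩⟩,
      Subtype.ext (inv_mul_cancel_right k d)⟩
    show k * d⁻¹ ∈ Subgroup.centralizer ({x} : Set G)
    rw [Subgroup.mem_centralizer_singleton_iff]
    have e : x * (k * d⁻¹) * x⁻¹ = k * d⁻¹ := by
      calc x * (k * d⁻¹) * x⁻¹ = (x * k * x⁻¹) * (x * d * x⁻¹)⁻¹ := by group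
        _ = (x * k * x⁻¹) * d := by rw [hdx, inv_inv]
        _ = k * c⁻¹ * d := by rw [hc]; group
        _ = k * d⁻¹ := by rw [← hd2]; group
    calc k * d⁻¹ * x = x * (k * d⁻¹) * x⁻¹ * x := by rw [e]
      _ = x * (k * d⁻¹) := by group

/-- Conjugation moves the inverted elements. -/
theorem card_invSet_conj [Finite G] {K : Subgroup G} {x g : G}
    (hg : ∀ c, c ∈ K ↔ g * c * g⁻¹ ∈ K) :
    Nat.card (invSet K (g * x * g⁻¹)) = Nat.card (invSet K x) := by
  refine Nat.card_congr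
    { toFun := fun c => ⟨g⁻¹ * c * g, ?_, ?_⟩
      invFun := fun c => ⟨g * c * g⁻¹, ?_, ?_⟩
      left_inv := fun c => Subtype.ext (by show g * (g⁻¹ * (c : G) * g) * g⁻¹ = c; group)
      right_inv := fun c => Subtype.ext (by show g⁻¹ * (g * (c : G) * g⁻¹) * g = c; group) }
  · rw [hg]; simpa [mul_assoc] using c.2.1
  · calc x * (g⁻¹ * (c : G) * g) * x⁻¹ = g⁻¹ * (g * x * g⁻¹ * c * (g * x * g⁻¹)⁻¹) * g := by group
      _ = _ := by rw [c.2.2]; group
  · exact (hg c).mp c.2.1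
  · calc g * x * g⁻¹ * (g * (c : G) * g⁻¹) * (g * x * g⁻¹)⁻¹ = g * (x * c * x⁻¹) * g⁻¹ := by group
      _ = _ := by rw [c.2.2]; group

namespace SDat

variable (D : SDat G)

open Classical in
/-- The involutions. -/
noncomputable def invs [Fintype G] (_ : SDat G) : Finset G := Finset.univ.filter fun x => x * x = 1 ∧ x ≠ 1

theorem mem_invs [Fintype G] {x : G} : x ∈ D.invs ↔ x * x = 1 ∧ x ≠ 1 := by simp [invs]

variable [Finite G] [Fintype G] {M : Ideal AlgInt}

theorem invs_conj : ∀ x ∈ D.invs, ∀ h : G, h * x * h⁻¹ ∈ D.invs := by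
  intro x hx h
  rw [mem_invs] at hx ⊢
  refine ⟨?_, fun e => hx.2 (conj_eq_one_iff.mp e)⟩
  rw [show h * x * h⁻¹ * (h * x * h⁻¹) = h * (x * x) * h⁻¹ by group, hx.1, mul_one, mul_inv_cancel]

theorem isConj_invs {x : G} : x ∈ D.invs ↔ IsConj D.t x := by
  rw [mem_invs, ← CfsgLib.Involutions.orderOf_eq_two_iff']
  refine ⟨fun h => D.hone _ _ D.ht2 h, fun h => ?_⟩
  obtain ⟨g, rfl⟩ := isConj_iff.mp h
  rw [CfsgLib.Involutions.orderOf_conj, D.ht2]

theorem card_invs : D.invs.card * Nat.card ↥(Subgroup.centralizer ({D.t} : Set G)) = Nat.card G := by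
  classical
  have h := Subgroup.card_mul_index (Subgroup.centralizer ({D.t} : Set G))
  rw [mul_comm, ← h]
  congr 1
  have e : D.invs = Finset.univ.filter fun x => x ∈ MulAction.orbit (ConjAct G) D.t := by
    ext x
    rw [isConj_invs, Finset.mem_filter, ConjAct.mem_orbit_conjAct, isConj_comm]
    exact ⟨fun h => ⟨Finset.mem_univ _, h⟩, fun h => h.2⟩
  rw [e, ← Fintype.card_subtype, ← Nat.card_eq_fintype_card,
    Nat.card_congr (MulAction.orbitEquivQuotientStabilizer (ConjAct G) D.t), ← Subgroup.index_eq_card]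
  exact congrArg Subgroup.index (ConjAct.stabilizer_eq_centralizer D.t)

/-- Both sides of the pair count over a section through a rotation. -/
theorem count_eq [DecidableEq G] (hM : IsPModular 2 M) {i : ℕ} (hi : ¬ 2 * D.k ∣ i) :
    (Nat.card G : ℂ) *
        ((∑ v ∈ regC 2 (D.σ ^ i), (D.invs.filter fun x => x⁻¹ * (D.σ ^ i * v) ∈ D.invs).card : ℕ) : ℂ) =
      (D.invs.card : ℂ) ^ 2 * ((regC 2 (D.σ ^ i)).card : ℂ) *
        ∑ χ ∈ bset (principalBlock M G),
          (χ : G → ℂ) D.t ^ 2 * conj ((χ : G → ℂ) (D.σ ^ i)) / (χ : G → ℂ) 1 := by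
  classical
  rw [Nat.cast_sum, Finset.mul_sum,
    Finset.sum_congr rfl fun v _ => CfsgLib.BSW.card_pairs D.invs D.invs_conj (D.σ ^ i * v),
    Finset.sum_comm, Finset.mul_sum]
  have hA : ∀ χ : IrrCharacter G, ∑ x ∈ D.invs, (χ : G → ℂ) x = (D.invs.card : ℂ) * (χ : G → ℂ) D.t := by
    intro χ
    rw [Finset.sum_congr rfl fun x hx => show (χ : G → ℂ) x = (χ : G → ℂ) D.t by
      obtain ⟨g, rfl⟩ := isConj_iff.mp (D.isConj_invs.mp hx)
      exact isClassFunction_irr χ.2 _ _, Finset.sum_const, nsmul_eq_mul]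
  have hv : ∀ χ : IrrCharacter G, ∑ v ∈ regC 2 (D.σ ^ i),
      (∑ x ∈ D.invs, (χ : G → ℂ) x) ^ 2 * conj ((χ : G → ℂ) (D.σ ^ i * v)) / (χ : G → ℂ) 1 =
      if χ ∈ bset (principalBlock M G) then (D.invs.card : ℂ) ^ 2 * ((regC 2 (D.σ ^ i)).card : ℂ) *
        ((χ : G → ℂ) D.t ^ 2 * conj ((χ : G → ℂ) (D.σ ^ i)) / (χ : G → ℂ) 1) else 0 := by
    intro χ
    rw [← Finset.sum_div, ← Finset.mul_sum, ← map_sum, D.rot_key hM hi χ, hA]
    by_cases h : χ ∈ principalBlock M G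
    · rw [ind_of_mem h, if_pos (mem_bset.mpr h), one_mul, map_mul, map_natCast]; ring
    · rw [ind_of_notMem h, if_neg (fun h' => h (mem_bset.mp h')), zero_mul, mul_zero, map_zero, mul_zero,
        zero_div]
  rw [Finset.sum_congr rfl fun χ _ => hv χ, Finset.sum_ite_mem, Finset.univ_inter]

/-- The weighted sum of a rotation column. -/
noncomputable def W (M : Ideal AlgInt) (i : ℕ) : ℂ :=
  ∑ χ ∈ bset (principalBlock M G),
    (χ : G → ℂ) D.t ^ 2 * conj ((χ : G → ℂ) (D.σ ^ i)) / (χ : G → ℂ) 1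

/-- Two involutions multiply into a section only when the rotation is inverted. -/
theorem pair_inverts {i : ℕ} {x v : G} (hv : v ∈ regC 2 (D.σ ^ i))
    (hx : x ∈ D.invs) (hxv : x⁻¹ * (D.σ ^ i * v) ∈ D.invs) :
    x * D.σ ^ i * x⁻¹ = (D.σ ^ i)⁻¹ ∧ x * v * x⁻¹ = v⁻¹ := by
  obtain ⟨hvc, hvr⟩ := mem_regC.mp hv
  rw [mem_invs] at hx hxv
  have hx' : x⁻¹ = x := inv_eq_of_mul_eq_one_right hx.1
  have h : x * (D.σ ^ i * v) * x⁻¹ = (D.σ ^ i * v)⁻¹ := by
    rw [hx', eq_inv_iff_mul_eq_one]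
    have := hxv.1
    rw [hx'] at this
    simpa [mul_assoc] using this
  have h2 : x * D.σ ^ i * x⁻¹ * (x * v * x⁻¹) = (D.σ ^ i)⁻¹ * v⁻¹ := by
    rw [show x * D.σ ^ i * x⁻¹ * (x * v * x⁻¹) = x * (D.σ ^ i * v) * x⁻¹ by group, h, hvc.eq.symm,
      mul_inv_rev]
  exact pPart_unique Nat.prime_two ((Commute.conj_iff x).mpr hvc.symm) hvc.symm.inv_inv
    (by obtain ⟨a, ha⟩ := D.pow_two_part i; exact ⟨a, by rw [CfsgLib.Involutions.orderOf_conj, ha]⟩)
    (by obtain ⟨a, ha⟩ := D.pow_two_part i; exact ⟨a, by rw [orderOf_inv, ha]⟩)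
    (by rwa [CfsgLib.Involutions.orderOf_conj]) (by rwa [orderOf_inv]) h2

theorem card_ne : (D.invs.card : ℂ) ≠ 0 := by
  refine Nat.cast_ne_zero.mpr fun h => ?_
  have := D.card_invs
  rw [h, zero_mul] at this
  exact Nat.card_pos.ne' this.symm

/-- Odd rotations are not products of two involutions with odd remainder. -/
theorem W_odd (hM : IsPModular 2 M) {i : ℕ} (hi : i % 2 = 1) (hlt : i < 4 * D.k) : D.W M i = 0 := by
  classical
  have hk := D.two_le
  have hd : ¬ 2 * D.k ∣ i := fun h => by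
    have := (dvd_mul_right 2 D.k).trans h
    omega
  have h := D.count_eq hM hd
  rw [show (∑ v ∈ regC 2 (D.σ ^ i), (D.invs.filter fun x => x⁻¹ * (D.σ ^ i * v) ∈ D.invs).card) = 0 from
    Finset.sum_eq_zero fun v hv => Finset.card_eq_zero.mpr (Finset.filter_eq_empty_iff.mpr
      fun x hx hxv => by
        obtain ⟨h1, -⟩ := D.pair_inverts hv hx hxv
        have hinv : (D.σ ^ i)⁻¹ = D.σ ^ (4 * D.k - i) := by
          refine inv_eq_of_mul_eq_one_right ?_
          rw [← pow_add, show i + (4 * D.k - i) = 4 * D.k by omega, D.pow_four]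
        rw [hinv] at h1
        have hev := Nat.even_iff.mp D.k_even
        rcases D.rot_fusion hd (isConj_iff.mpr ⟨x, h1⟩) with e | e
        · have := e.eq_of_lt_of_lt (by omega) hlt
          omega
        · have := (e.trans (D.rm_modEq hlt).symm).eq_of_lt_of_lt (by omega) (D.rm_lt hlt)
          unfold rm at this
          split_ifs at this <;> omega), Nat.cast_zero, mul_zero] at h
  have hne : (D.invs.card : ℂ) ^ 2 * ((regC 2 (D.σ ^ i)).card : ℂ) ≠ 0 :=
    mul_ne_zero (pow_ne_zero _ D.card_ne) (Dihedral.card_regC_ne Nat.prime_two _)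
  exact (mul_eq_zero.mp h.symm).resolve_left hne

/-- A rotation twice an odd exponent generates the squares. -/
theorem gen_two {i : ℕ} (hi : i % 4 = 2) :
    D.σ ^ i ∈ Subgroup.zpowers (D.σ ^ 2) ∧ D.σ ^ 2 ∈ Subgroup.zpowers (D.σ ^ i) := by
  obtain ⟨j, rfl⟩ : ∃ j, i = 2 * (2 * j + 1) := ⟨i / 4, by omega⟩
  refine ⟨by rw [pow_mul]; exact Subgroup.npow_mem_zpowers _ _, ?_⟩
  obtain ⟨a, ha⟩ := D.pow_two_part 2
  obtain ⟨m, hm⟩ := exists_pow_eq_self_of_coprime (x := D.σ ^ 2) (n := 2 * j + 1)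
    (by rw [ha]; exact (Nat.coprime_two_right.mpr ⟨j, rfl⟩).pow_right a)
  rw [pow_mul]
  have h := Subgroup.npow_mem_zpowers ((D.σ ^ 2) ^ (2 * j + 1)) m
  rwa [hm] at h

/-- The odd part of the centraliser of the squares of the rotations. -/
theorem exists_K : ∃ K : Subgroup G, (∀ v, v ∈ K ↔ Commute v (D.σ ^ 2) ∧ ¬ 2 ∣ orderOf v) ∧
    ∀ g, Commute g (D.σ ^ 2) → ∃ (l : ℕ) (c : G), c ∈ K ∧ g = D.σ ^ l * c := by
  haveI := Fact.mk Nat.prime_two
  have hk := D.two_le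
  have hd : ¬ 2 * D.k ∣ 2 := fun h => by have := Nat.le_of_dvd two_pos h; omega
  obtain ⟨K, hKn, hK, hidx⟩ := D.exists_rot_compl hd
  haveI := hKn
  obtain ⟨a, ha⟩ := D.four_pow
  have hmem := mem_iff_regular Nat.prime_two hK (hidx.trans ha)
  refine ⟨K.map (Subgroup.centralizer ({D.σ ^ 2} : Set G)).subtype, fun v => ⟨?_, fun ⟨h1, h2⟩ => ?_⟩, fun g hg => ?_⟩
  · rintro ⟨c, hc, rfl⟩
    exact ⟨Subgroup.mem_centralizer_singleton_iff.mp c.2, by
      rw [(Subgroup.centralizer ({D.σ ^ 2} : Set G)).subtype_apply, Subgroup.orderOf_coe]; exact (hmem c).mp hc⟩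
  · exact ⟨⟨v, Subgroup.mem_centralizer_singleton_iff.mpr h1.eq⟩,
      (hmem _).mpr (by rwa [Subgroup.orderOf_mk]), rfl⟩
  · -- `H` is the product of the rotations and `K`
    obtain ⟨P, hP⟩ := D.exists_rot_sylow hd
    have hPc : Nat.card (P : Subgroup (Subgroup.centralizer ({D.σ ^ 2} : Set G))) = 4 * D.k := by
      rw [hP, Nat.card_congr (Subgroup.subgroupOfEquivOfLe (D.mem_cent 2)).toEquiv, Nat.card_zpowers,
        D.hσ]
    have hcop : (Nat.card (P : Subgroup (Subgroup.centralizer ({D.σ ^ 2} : Set G)))).Coprime (Nat.card K) := by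
      rw [hPc, ha]
      exact (Nat.prime_two.coprime_iff_not_dvd.mpr hK).pow_left _
    have hc : Subgroup.IsComplement' (P : Subgroup (Subgroup.centralizer ({D.σ ^ 2} : Set G))) K :=
      Subgroup.isComplement'_of_coprime (by
        rw [hPc, ← hidx, mul_comm, Subgroup.card_mul_index]) hcop
    obtain ⟨⟨⟨p, hp⟩, ⟨c, hc'⟩⟩, he⟩ :=
      (Subgroup.IsComplement.existsUnique hc ⟨g, Subgroup.mem_centralizer_singleton_iff.mpr hg.eq⟩).exists
    have hp' : p ∈ (P : Subgroup (Subgroup.centralizer ({D.σ ^ 2} : Set G))) := hp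
    rw [hP, Subgroup.mem_subgroupOf, ← mem_powers_iff_mem_zpowers] at hp'
    obtain ⟨l, hl⟩ := hp'
    refine ⟨l, c, ⟨c, hc', rfl⟩, ?_⟩
    have he' : (p : G) * (c : G) = g := congrArg Subtype.val he
    rw [← he', show D.σ ^ l = (p : G) from hl]

/-- The count for the rotations with exponent twice an odd number. -/
theorem exists_W_two (hM : IsPModular 2 M) :
    ∃ K : Subgroup G, (∀ v, v ∈ K ↔ Commute v (D.σ ^ 2) ∧ ¬ 2 ∣ orderOf v) ∧
      ∀ i : ℕ, i % 4 = 2 → i < 4 * D.k →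
        D.W M i * (Nat.card G : ℂ) *
            (Nat.card ↥(K ⊓ Subgroup.centralizer ({D.w} : Set G)) : ℂ) ^ 2 =
          2 * (D.k : ℂ) * (Nat.card ↥(Subgroup.centralizer ({D.t} : Set G)) : ℂ) ^ 2 * (Nat.card K : ℂ) := by
  classical
  have hk := D.two_le
  have hkev := Nat.even_iff.mp D.k_even
  obtain ⟨K, hK, hdec⟩ := D.exists_K
  refine ⟨K, hK, fun i hi hlt => ?_⟩
  have hd : ¬ 2 * D.k ∣ i := fun h => by
    obtain ⟨c, rfl⟩ := h
    obtain ⟨j, hj⟩ := D.k_even
    rw [hj, show 2 * (j + j) * c = 4 * (j * c) by ring] at hi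
    omega
  obtain ⟨hg1, hg2⟩ := D.gen_two hi
  have hcomm : ∀ v, Commute v (D.σ ^ i) ↔ Commute v (D.σ ^ 2) := fun v => by
    refine ⟨fun h => ?_, fun h => ?_⟩
    · obtain ⟨j, hj⟩ := hg2; rw [← hj]; exact h.zpow_right j
    · obtain ⟨j, hj⟩ := hg1; rw [← hj]; exact h.zpow_right j
  have hreg : regC 2 (D.σ ^ i) = Finset.univ.filter fun v => v ∈ K := by
    ext v; simp [mem_regC, hK, hcomm]
  have hKodd : ∀ c ∈ K, ¬ 2 ∣ orderOf c := fun c hc => ((hK c).mp hc).2
  have hσK : ∀ (b : ℤ) (c : G), c ∈ K ↔ D.σ ^ b * c * (D.σ ^ b)⁻¹ ∈ K := by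
    intro b c
    rw [hK, hK, CfsgLib.Involutions.orderOf_conj, and_congr_left_iff]
    intro _
    conv_rhs => rw [show D.σ ^ 2 = D.σ ^ b * D.σ ^ 2 * (D.σ ^ b)⁻¹ by
      rw [(((Commute.refl D.σ).zpow_left b).pow_right 2).eq, mul_inv_cancel_right], Commute.conj_iff]
  have hinvK : ∀ x : G, x * D.σ ^ 2 * x⁻¹ = (D.σ ^ 2)⁻¹ → ∀ c ∈ K, x * c * x⁻¹ ∈ K := by
    intro x hx c hc
    rw [hK] at hc ⊢
    refine ⟨?_, by rw [CfsgLib.Involutions.orderOf_conj]; exact hc.2⟩
    have h := (Commute.conj_iff x).mpr hc.1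
    rw [hx] at h
    exact Commute.inv_right_iff.mp h
  -- the outer involutions
  have hw2 : D.w * D.w = 1 := CfsgLib.Involutions.mul_self_eq_one_of_orderOf D.hw
  have hws : D.w * D.σ ^ 2 * D.w⁻¹ = (D.σ ^ 2)⁻¹ := by
    rw [D.w_pow]
    refine eq_inv_of_mul_eq_one_left ?_
    rw [← pow_add, show (2 * D.k - 1) * 2 + 2 = 4 * D.k by omega, D.pow_four]
  set y : ℕ → G := fun a => D.w * D.σ ^ (2 * a) with hy
  have hysq : ∀ a, y a * y a = 1 := by
    intro a
    have h := D.w_pow (2 * a)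
    calc y a * y a = D.w * D.σ ^ (2 * a) * D.w⁻¹ * (D.w * D.w) * D.σ ^ (2 * a) := by rw [hy]; group
      _ = D.σ ^ ((2 * D.k - 1) * (2 * a)) * D.σ ^ (2 * a) := by rw [hw2, mul_one, h]
      _ = 1 := by
        rw [← pow_add, show (2 * D.k - 1) * (2 * a) + 2 * a = 4 * D.k * a by
          obtain ⟨t, ht⟩ : ∃ t, D.k = t + 1 := ⟨D.k - 1, by omega⟩
          rw [ht, show 2 * (t + 1) - 1 = 2 * t + 1 by omega]; ring, pow_mul, D.pow_four, one_pow]
  have hys : ∀ a, y a * D.σ ^ 2 * (y a)⁻¹ = (D.σ ^ 2)⁻¹ := by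
    intro a
    calc y a * D.σ ^ 2 * (y a)⁻¹ = D.w * (D.σ ^ (2 * a) * D.σ ^ 2 * (D.σ ^ (2 * a))⁻¹) * D.w⁻¹ := by
          rw [hy]; group
      _ = D.w * D.σ ^ 2 * D.w⁻¹ := by
          rw [((Commute.refl D.σ).pow_pow (2 * a) 2).eq, mul_inv_cancel_right]
      _ = _ := hws
  have hyconj : ∀ a, ∃ b : ℤ, y a = D.σ ^ b * D.w * (D.σ ^ b)⁻¹ := by
    intro a
    refine ⟨-((D.k : ℤ) - 1) * (2 * (D.k : ℤ) - 1) * a, ?_⟩
    set b : ℤ := -((D.k : ℤ) - 1) * (2 * (D.k : ℤ) - 1) * a with hb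
    have h1 : D.w * (D.σ ^ b)⁻¹ = D.σ ^ (-(2 * (D.k : ℤ) - 1) * b) * D.w := by
      rw [← zpow_neg, ← mul_inv_eq_iff_eq_mul, ← conj_zpow, D.hwσ, ← zpow_natCast D.σ (2 * D.k - 1),
        ← zpow_mul]
      congr 1
      push_cast [Nat.cast_sub (show 1 ≤ 2 * D.k by omega)]
      ring
    have h2 : y a = D.σ ^ ((2 * (D.k : ℤ) - 1) * (2 * a)) * D.w := by
      show D.w * D.σ ^ (2 * a) = _
      rw [← mul_inv_eq_iff_eq_mul, D.w_pow, ← zpow_natCast]
      congr 1
      push_cast [Nat.cast_sub (show 1 ≤ 2 * D.k by omega)]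
      ring
    rw [h2, mul_assoc, h1, ← mul_assoc (D.σ ^ b), ← zpow_add, mul_left_inj, zpow_eq_zpow_iff_modEq, D.hσ,
      Int.modEq_iff_dvd]
    obtain ⟨j, hj⟩ := D.k_even
    refine ⟨(2 * (D.k : ℤ) - 1) * a * ((j : ℤ) - 1), ?_⟩
    rw [hb, hj]
    push_cast
    ring
  set I := Nat.card (invSet K D.w) with hI
  have hIy : ∀ a, Nat.card (invSet K (y a)) = I := by
    intro a
    obtain ⟨b, hb⟩ := hyconj a
    rw [hb]
    exact card_invSet_conj (hσK b)
  have hIx : ∀ a, ∀ c ∈ invSet K (y a), Nat.card (invSet K (y a * c)) = I := by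
    intro a c hc
    obtain ⟨d, hd, hd2⟩ := exists_root (hKodd c hc.1)
    have hdK : d ∈ K := (Subgroup.zpowers_le.mpr hc.1) hd
    have e : y a * c = d⁻¹ * y a * (d⁻¹)⁻¹ := by
      have h := inverts_zpowers hc.2 hd
      rw [inv_inv, ← hd2, ← h]
      group
      simp [pow_two, zpow_two, mul_assoc]
    rw [e, card_invSet_conj (fun v => ⟨fun hv => K.mul_mem (K.mul_mem (K.inv_mem hdK) hv)
      (K.inv_mem (K.inv_mem hdK)), fun hv => by
        simpa [mul_assoc] using K.mul_mem (K.mul_mem hdK hv) (K.inv_mem hdK)⟩), hIy]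
  -- the pairs as a sum over the first involution
  set I2 := D.invs.filter fun x => x * D.σ ^ 2 * x⁻¹ = (D.σ ^ 2)⁻¹ with hI2
  have hswap : (∑ v ∈ regC 2 (D.σ ^ i), (D.invs.filter fun x => x⁻¹ * (D.σ ^ i * v) ∈ D.invs).card) =
      ∑ x ∈ I2, Nat.card (invSet K x) := by
    simp only [Finset.card_filter]
    rw [Finset.sum_comm, hI2, Finset.sum_filter]
    refine Finset.sum_congr rfl fun x hx => ?_
    split_ifs with h2
    · have hxi : x * D.σ ^ i * x⁻¹ = (D.σ ^ i)⁻¹ := inverts_zpowers h2 hg1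
      rw [← Finset.card_filter, Nat.card_eq_card_toFinset]
      congr 1
      ext v
      rw [Finset.mem_filter, Set.mem_toFinset]
      show _ ↔ v ∈ K ∧ x * v * x⁻¹ = v⁻¹
      constructor
      · rintro ⟨hv, hxv⟩
        rw [hreg] at hv
        exact ⟨(Finset.mem_filter.mp hv).2, (D.pair_inverts (by rw [hreg]; exact hv) hx hxv).2⟩
      · rintro ⟨hvK, hv⟩
        have hvc : Commute (D.σ ^ i) v := ((hcomm v).mpr ((hK v).mp hvK).1).symm
        refine ⟨by rw [hreg]; simp [hvK], ?_⟩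
        rw [mem_invs] at hx ⊢
        have hx' : x⁻¹ = x := inv_eq_of_mul_eq_one_right hx.1
        refine ⟨?_, fun e => ?_⟩
        · rw [hx']
          have : x * (D.σ ^ i * v) * x⁻¹ = (D.σ ^ i * v)⁻¹ := by
            rw [mul_inv_rev, ← hxi, ← hv, show x * (D.σ ^ i * v) * x⁻¹ = x * (v * D.σ ^ i) * x⁻¹ by
              rw [hvc.eq]]
            group
          calc x * (D.σ ^ i * v) * (x * (D.σ ^ i * v)) = x * (D.σ ^ i * v) * x⁻¹ * (D.σ ^ i * v) := by
                rw [hx']; group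
            _ = 1 := by rw [this, inv_mul_cancel]
        · have hxe : x = D.σ ^ i * v := (inv_mul_eq_one.mp e)
          have h4 : (D.σ ^ i) ^ 2 * v ^ 2 = 1 := by rw [← hvc.mul_pow, ← hxe, pow_two, hx.1]
          obtain ⟨b, hb⟩ := D.pow_two_part i
          have h5 := (pPart_unique Nat.prime_two (hvc.pow_pow 2 2) (Commute.one_left (1 : G))
            (by
              obtain ⟨r, -, hr⟩ := (Nat.dvd_prime_pow Nat.prime_two).mp
                (hb ▸ (orderOf_pow_dvd 2 : orderOf ((D.σ ^ i) ^ 2) ∣ orderOf (D.σ ^ i)))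
              exact ⟨r, hr⟩) ⟨0, by simp⟩
            (fun h => ((hK v).mp hvK).2 (h.trans (orderOf_pow_dvd 2))) (by simp)
            (by rw [h4, one_mul])).1
          exact D.sq_ne hd (by rwa [pow_two] at h5)
    · refine Finset.sum_eq_zero fun v hv => if_neg fun hxv => h2 ?_
      exact inverts_zpowers (D.pair_inverts hv hx hxv).1 hg2
  have himg : I2 = (Finset.range (2 * D.k)).biUnion fun a => (invSet K (y a)).toFinset.image (y a * ·) := by
    ext x
    simp only [hI2, Finset.mem_filter, Finset.mem_biUnion, Finset.mem_range, Finset.mem_image,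
      Set.mem_toFinset]
    constructor
    · rintro ⟨hx, hxs⟩
      rw [mem_invs] at hx
      have hwx : Commute (D.w * x) (D.σ ^ 2) := by
        show _ = _
        have : D.w * x * D.σ ^ 2 * (D.w * x)⁻¹ = D.σ ^ 2 := by
          calc D.w * x * D.σ ^ 2 * (D.w * x)⁻¹ = D.w * (x * D.σ ^ 2 * x⁻¹) * D.w⁻¹ := by group
            _ = (D.w * D.σ ^ 2 * D.w⁻¹)⁻¹ := by rw [hxs]; group
            _ = _ := by rw [hws, inv_inv]
        exact mul_inv_eq_iff_eq_mul.mp this
      obtain ⟨l, c, hc, hlc⟩ := hdec _ hwx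
      have hxl : x = D.w * D.σ ^ l * c := by
        rw [mul_assoc, ← hlc, ← mul_assoc, hw2, one_mul]
      have hzs : D.w * D.σ ^ l * D.σ ^ 2 * (D.w * D.σ ^ l)⁻¹ = (D.σ ^ 2)⁻¹ := by
        calc _ = D.w * (D.σ ^ l * D.σ ^ 2 * (D.σ ^ l)⁻¹) * D.w⁻¹ := by group
          _ = _ := by rw [((Commute.refl D.σ).pow_pow l 2).eq, mul_inv_cancel_right, hws]
      set z := D.w * D.σ ^ l with hz
      have hzz : z * z = D.σ ^ ((2 * D.k - 1) * l + l) := by
        calc z * z = D.w * D.σ ^ l * D.w⁻¹ * (D.w * D.w) * D.σ ^ l := by rw [hz]; group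
          _ = _ := by rw [hw2, mul_one, D.w_pow, pow_add]
      have hxx : z * z * (z⁻¹ * c * z * c) = 1 := by rw [← hx.1, hxl]; group
      have hKz : z⁻¹ * c * z * c ∈ K := by
        have h1 : z⁻¹ * D.σ ^ 2 * z = (D.σ ^ 2)⁻¹ := by
          have := congrArg (fun g => z⁻¹ * g⁻¹ * z) hzs
          simpa [mul_assoc] using this.symm
        have h2 := hinvK z⁻¹ (by rw [inv_inv]; exact h1) c hc
        rw [inv_inv] at h2
        exact K.mul_mem h2 hc
      have hone : z * z = 1 := by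
        have hmem : z * z ∈ K := by rw [eq_inv_of_mul_eq_one_left hxx]; exact K.inv_mem hKz
        obtain ⟨r, hr⟩ := D.pow_two_part ((2 * D.k - 1) * l + l)
        rw [← hzz] at hr
        refine orderOf_eq_one_iff.mp ?_
        rcases Nat.eq_zero_or_pos r with rfl | hr0
        · exact hr
        · exact absurd ((dvd_pow_self 2 (by omega)).trans hr.symm.dvd) (hKodd _ hmem)
      rw [hone, one_mul] at hxx
      obtain ⟨a, ha⟩ : ∃ a, l = 2 * a := by
        rw [hzz] at hone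
        have h := orderOf_dvd_of_pow_eq_one hone
        rw [D.hσ, show (2 * D.k - 1) * l + l = 2 * D.k * l by
          rw [Nat.sub_mul, one_mul, Nat.sub_add_cancel]; nlinarith,
          show 4 * D.k = 2 * D.k * 2 by ring] at h
        exact Nat.dvd_of_mul_dvd_mul_left (by omega) h
      have hya : y (a % (2 * D.k)) = z := by
        rw [hy, hz, ha]
        show D.w * _ = D.w * _
        congr 1
        rw [D.pow_eq, show 4 * D.k = 2 * (2 * D.k) by ring]
        exact (Nat.mod_modEq a (2 * D.k)).mul_left' 2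
      refine ⟨a % (2 * D.k), Nat.mod_lt _ (by omega), c, ⟨hc, ?_⟩, by rw [hya, hxl]⟩
      rw [hya, inv_eq_of_mul_eq_one_right hone]
      rw [inv_eq_of_mul_eq_one_right hone] at hxx
      exact eq_inv_of_mul_eq_one_left hxx
    · rintro ⟨a, -, c, ⟨hc, hcy⟩, rfl⟩
      refine ⟨D.mem_invs.mpr ⟨?_, fun e => ?_⟩, ?_⟩
      · calc y a * c * (y a * c) = y a * c * (y a)⁻¹ * (y a * y a) * c := by group
          _ = 1 := by rw [hcy, hysq, mul_one, inv_mul_cancel]
      · have e' : y a = c⁻¹ := eq_inv_of_mul_eq_one_left e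
        have hcs : Commute (y a) (D.σ ^ 2) := e' ▸ ((hK c).mp hc).1.inv_left
        have h := hys a
        rw [hcs.eq, mul_inv_cancel_right] at h
        exact D.sq_ne (i := 2) (fun hd => by have := Nat.le_of_dvd two_pos hd; omega)
          (eq_inv_iff_mul_eq_one.mp h)
      · calc y a * c * D.σ ^ 2 * (y a * c)⁻¹ = y a * (c * D.σ ^ 2 * c⁻¹) * (y a)⁻¹ := by group
          _ = _ := by rw [((hK c).mp hc).1.eq, mul_inv_cancel_right, hys]
  have htotal : ∑ x ∈ I2, Nat.card (invSet K x) = 2 * D.k * (I * I) := by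
    rw [himg, Finset.sum_biUnion, Finset.sum_congr rfl (g := fun _ => I * I) (fun a _ => ?_),
      Finset.sum_const, Finset.card_range, smul_eq_mul]
    · rw [Finset.sum_image (fun c _ d _ h => mul_left_cancel h),
        Finset.sum_congr rfl (g := fun _ => I) (fun c hc => hIx a c (Set.mem_toFinset.mp hc)),
        Finset.sum_const, smul_eq_mul, ← Nat.card_eq_card_toFinset, hIy]
    · intro a ha b hb hab
      rw [Function.onFun, Finset.disjoint_left]
      rintro x hxa hxb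
      obtain ⟨c, hc, rfl⟩ := Finset.mem_image.mp hxa
      obtain ⟨d, hd', e⟩ := Finset.mem_image.mp hxb
      rw [Set.mem_toFinset] at hc hd'
      apply hab
      have ha' := Finset.mem_range.mp ha
      have hb' := Finset.mem_range.mp hb
      have h1 : (D.σ ^ (2 * b))⁻¹ * D.σ ^ (2 * a) ∈ K := by
        have : (D.σ ^ (2 * b))⁻¹ * D.σ ^ (2 * a) = d * c⁻¹ := by
          have e' : D.σ ^ (2 * b) * d = D.σ ^ (2 * a) * c := by
            apply mul_left_cancel (a := D.w)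
            simpa [hy, mul_assoc] using e
          rw [eq_mul_inv_iff_mul_eq, mul_assoc, ← e', inv_mul_cancel_left]
        rw [this]
        exact K.mul_mem hd'.1 (K.inv_mem hc.1)
      have h2 : (D.σ ^ (2 * b))⁻¹ * D.σ ^ (2 * a) = D.σ ^ (4 * D.k - 2 * b + 2 * a) := by
        rw [pow_add]
        congr 1
        refine inv_eq_of_mul_eq_one_right ?_
        rw [← pow_add, show 2 * b + (4 * D.k - 2 * b) = 4 * D.k by omega, D.pow_four]
      rw [h2] at h1
      obtain ⟨r, hr⟩ := D.pow_two_part (4 * D.k - 2 * b + 2 * a)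
      have h3 : D.σ ^ (4 * D.k - 2 * b + 2 * a) = 1 := by
        refine orderOf_eq_one_iff.mp ?_
        rcases Nat.eq_zero_or_pos r with rfl | hr0
        · exact hr
        · exact absurd ((dvd_pow_self 2 (by omega)).trans hr.symm.dvd) (hKodd _ h1)
      rw [← pow_zero D.σ, D.pow_eq, Nat.modEq_zero_iff_dvd] at h3
      obtain ⟨q, hq⟩ := h3
      rcases q with _ | _ | q <;> [omega; omega;
        (have := Nat.mul_le_mul_left (4 * D.k) (show 2 ≤ q + 1 + 1 by omega); omega)]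
  have hcount := D.count_eq hM hd
  rw [hswap, htotal, hreg, ← Fintype.card_subtype, ← Nat.card_eq_fintype_card] at hcount
  push_cast at hcount
  have hIc : (Nat.card ↥(K ⊓ Subgroup.centralizer ({D.w} : Set G)) : ℂ) * I = (Nat.card K : ℂ) := by
    exact_mod_cast card_invSet hKodd hw2 (hinvK D.w hws)
  have hinvs : (D.invs.card : ℂ) * (Nat.card ↥(Subgroup.centralizer ({D.t} : Set G)) : ℂ) =
      (Nat.card G : ℂ) := by exact_mod_cast D.card_invs
  have hK0 : (Nat.card K : ℂ) ≠ 0 := Nat.cast_ne_zero.mpr Nat.card_pos.ne'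
  have hG0 : (Nat.card G : ℂ) ≠ 0 := Nat.cast_ne_zero.mpr Nat.card_pos.ne'
  rw [SDat.W]
  generalize (∑ χ ∈ bset (principalBlock M G),
    (χ : G → ℂ) D.t ^ 2 * conj ((χ : G → ℂ) (D.σ ^ i)) / (χ : G → ℂ) 1) = S at hcount ⊢
  generalize (Nat.card ↥(K ⊓ Subgroup.centralizer ({D.w} : Set G)) : ℂ) = c at hIc ⊢
  generalize (Nat.card ↥(Subgroup.centralizer ({D.t} : Set G)) : ℂ) = C at hinvs ⊢
  generalize (D.invs.card : ℂ) = A at hinvs hcount
  generalize (I : ℂ) = J at hIc hcount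
  apply mul_right_cancel₀ (mul_ne_zero hG0 hK0)
  linear_combination (-(c ^ 2 * C ^ 2)) * hcount +
    2 * (D.k : ℂ) * C ^ 2 * (Nat.card G : ℂ) * (c * J + (Nat.card K : ℂ)) * hIc -
    S * c ^ 2 * (Nat.card K : ℂ) * (A * C + (Nat.card G : ℂ)) * hinvs

end SDat

end CfsgLib.AlmostCyclic
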