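import Cfsg.Agent.Lib.AlmostCyclic.DBasic
import Cfsg.Agent.Lib.AlmostCyclic.PSLFacts
import Cfsg.Agent.Lib.AlmostCyclic.PGInvol
import Cfsg.Agent.Lib.AlmostCyclic.SDCount
import Cfsg.Agent.S0223
import Cfsg.Agent.S1224

/-!
# A reflection fused to the central involution inside a nonsolvable proper subgroup
-/

set_option autoImplicit false
set_option linter.style.haveILetI false
set_option linter.unusedSectionVars false
set_option maxHeartbeats 400000

namespace CfsgLib.AlmostCyclic

open Cfsg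

universe u

namespace Dec

variable {H : Type u} [Group H] [Finite H] (E : Dec H)

/-- Elements of the product of order prime to `|X|` lie in `L`. -/
theorem mem_L {a : H} (ha : a ∈ E.X ⊔ E.L) (h : (orderOf a).Coprime (Nat.card E.X)) : a ∈ E.L := by
  refine mem_of_pow_card E.hcomm E.hcop ha (orderOf_dvd_iff_pow_eq_one.mp ?_)
  refine h.dvd_of_dvd_mul_left ?_
  rw [← E.hcard, ← Subgroup.orderOf_mk a ha]
  exact orderOf_dvd_natCard _

/-- Involutions of the product lie in `L`. -/
theorem invol_L {a : H} (ha : a ∈ E.X ⊔ E.L) (h : orderOf a = 2) : a ∈ E.L :=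
  E.mem_L ha (by rw [h]; exact Nat.coprime_two_left.mpr E.hodd)

/-- Elements of odd order lie in the product. -/
theorem odd_mem {a : H} (ha : ¬ 2 ∣ orderOf a) : a ∈ E.X ⊔ E.L := by
  haveI := E.hX
  haveI := E.hL
  rcases (Nat.dvd_prime Nat.prime_two).mp E.hidx with h | h
  · rw [Subgroup.index_eq_one.mp h]; exact Subgroup.mem_top _
  · obtain ⟨m, hm⟩ := exists_pow_eq_self_of_coprime (Nat.prime_two.coprime_iff_not_dvd.2 ha) (x := a)
    rw [← hm]
    exact pow_mem (Subgroup.sq_mem_of_index_two h a) m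

end Dec

namespace DDat

variable {G : Type u} [Group G] [Finite G] (D : DDat G)

/-- Inside a nonsolvable proper subgroup containing `C`, no reflection is fused to `t`. -/
theorem no_refl_nonsolv [IsSimpleGroup G] (hind : Ind G) {M : Subgroup G} (hM : M ≠ ⊤)
    (hns : ¬ Group.IsSolvable M) (hCM : D.C ≤ M) {x g : G} (hx : x ∈ (D.S : Subgroup G))
    (hxσ : x ∉ Subgroup.zpowers D.σ) (hgM : g ∈ M) (hgo : ¬ 2 ∣ orderOf g)
    (hgt : g * D.t * g⁻¹ = x) (hgtx : g * (D.t * x) * g⁻¹ = D.t) : False := by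
  obtain ⟨E⟩ := (hind M hM hns).dec
  haveI hpF := Fact.mk E.hp
  haveI := E.hX
  haveI := E.hL
  have hp5 := E.hp5
  have hp2 : E.p ≠ 2 := by omega
  set G0 := E.X ⊔ E.L with hG0
  haveI hG0n : G0.Normal := Subgroup.sup_normal _ _
  set tM : M := ⟨D.t, hCM (D.S_le D.t_mem)⟩ with htM
  set xM : M := ⟨x, hCM (D.S_le hx)⟩ with hxM
  set gM : M := ⟨g, hgM⟩ with hgMd
  have hxo := D.refl_two hx hxσ
  have hto : orderOf tM = 2 := by rw [htM, Subgroup.orderOf_mk]; exact D.ht2
  have hxMo : orderOf xM = 2 := by rw [hxM, Subgroup.orderOf_mk]; exact hxo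
  have e1 : gM * tM * gM⁻¹ = xM := Subtype.ext hgt
  have e2 : gM * (tM * xM) * gM⁻¹ = tM := Subtype.ext hgtx
  have hboth : tM ∈ G0 ∧ xM ∈ G0 := by
    rcases (Nat.dvd_prime Nat.prime_two).mp E.hidx with h | h
    · rw [hG0, Subgroup.index_eq_one.mp h]; exact ⟨Subgroup.mem_top _, Subgroup.mem_top _⟩
    · have i1 : tM ∈ G0 ↔ xM ∈ G0 := by rw [← e1]; exact (hG0n.mem_comm_iff.trans (by simp)).symm
      have i2 : tM * xM ∈ G0 ↔ tM ∈ G0 := by
        conv_rhs => rw [← e2]
        exact (hG0n.mem_comm_iff.trans (by simp)).symm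
      have i3 := Subgroup.mul_mem_iff_of_index_two h (a := tM) (b := xM)
      by_cases ht : tM ∈ G0
      · exact ⟨ht, i1.mp ht⟩
      · exact absurd (i2.mp (i3.mpr (iff_of_false ht fun hh => ht (i1.mpr hh)))) ht
  have htL := E.invol_L hboth.1 hto
  have hxL := E.invol_L hboth.2 hxMo
  rcases E.iso with ⟨⟨e⟩⟩ | ⟨⟨e⟩⟩
  swap
  · -- a group `SL₂(p)` has one involution
    have hneg : ∀ (a : M) (ha : a ∈ E.L), orderOf a = 2 → e ⟨a, ha⟩ = -1 := by
      intro a ha ha2
      refine (SL2Orders.eq_one_or_neg_one_of_sq (zmod_two_ne hp2) _ ?_).resolve_left fun h => ?_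
      · rw [← map_mul, EmbeddingLike.map_eq_one_iff]
        exact Subtype.ext (CfsgLib.Involutions.mul_self_eq_one_of_orderOf ha2)
      · rw [EmbeddingLike.map_eq_one_iff] at h
        rw [show a = 1 from congrArg Subtype.val h, orderOf_one] at ha2
        norm_num at ha2
    have h := e.injective ((hneg tM htL hto).trans (hneg xM hxL hxMo).symm)
    exact D.refl_ne_t hxσ (congrArg (fun a : E.L => ((a : M) : G)) h)
  haveI hpsl : IsSimpleGroup (Matrix.ProjectiveSpecialLinearGroup (Fin 2) (ZMod E.p)) :=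
    Matrix.ProjectiveSpecialLinearGroup.rank_two_simple (by rw [Nat.card_zmod]; omega)
  haveI : IsSimpleGroup E.L := (MulEquiv.isSimpleGroup_congr e).mpr hpsl
  have hcardL : 2 * Nat.card E.L = (E.p + 1) * E.p * (E.p - 1) := by
    rw [Nat.card_congr e.toEquiv, card_psl_two hp2]
  set tL : E.L := ⟨tM, htL⟩ with htLd
  have htLo : orderOf tL = 2 := by rw [htLd, Subgroup.orderOf_mk]; exact hto
  have hconjL : ∀ (a b : M), a ∈ E.L → b ∈ E.L → orderOf a = 2 → orderOf b = 2 →
      ∃ h : E.L, (h : M) * a * (h : M)⁻¹ = b := by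
    intro a b ha hb hao hbo
    obtain ⟨c, hc⟩ := isConj_iff.mp (psl_isConj_invol hp2
      (a := e ⟨a, ha⟩) (b := e ⟨b, hb⟩) (by rw [MulEquiv.orderOf_eq, Subgroup.orderOf_mk, hao])
      (by rw [MulEquiv.orderOf_eq, Subgroup.orderOf_mk, hbo]))
    refine ⟨e.symm c, ?_⟩
    have h : e.symm c * ⟨a, ha⟩ * (e.symm c)⁻¹ = ⟨b, hb⟩ := e.injective (by simp [hc])
    exact congrArg Subtype.val h
  set c := Nat.card (Subgroup.centralizer ({tL} : Set E.L)) with hcdef
  have hc : c = E.p - 1 ∨ c = E.p + 1 := by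
    have h : c = Nat.card (Subgroup.centralizer ({e tL} :
        Set (Matrix.ProjectiveSpecialLinearGroup (Fin 2) (ZMod E.p)))) := by
      refine Nat.card_congr (e.toEquiv.subtypeEquiv fun z => ?_)
      show z ∈ Subgroup.centralizer ({tL} : Set E.L) ↔ e z ∈ Subgroup.centralizer ({e tL} : Set _)
      rw [Subgroup.mem_centralizer_singleton_iff, Subgroup.mem_centralizer_singleton_iff, ← map_mul,
        ← map_mul, e.apply_eq_iff_eq]
    rw [h]
    exact psl_card_cent hp2 (by rw [MulEquiv.orderOf_eq]; exact htLo)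
  have hpodd : E.p % 2 = 1 := Nat.odd_iff.mp (E.hp.odd_of_ne_two hp2)
  rcases (Nat.dvd_prime Nat.prime_two).mp E.hidx with hidx | hidx
  · -- index one: `M` is strongly embedded
    have htop : G0 = ⊤ := Subgroup.index_eq_one.mp hidx
    have hinvL : ∀ a : M, orderOf a = 2 → a ∈ E.L := fun a ha =>
      E.invol_L (by rw [← hG0, htop]; trivial) ha
    have hfus : ∀ a ∈ M, ∀ b ∈ M, orderOf a = 2 → orderOf b = 2 → ∃ h ∈ M, h * a * h⁻¹ = b := by
      intro a ha b hb hao hbo
      obtain ⟨h, hh⟩ := hconjL ⟨a, ha⟩ ⟨b, hb⟩ (hinvL _ (by rw [Subgroup.orderOf_mk, hao]))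
        (hinvL _ (by rw [Subgroup.orderOf_mk, hbo])) (by rw [Subgroup.orderOf_mk, hao])
        (by rw [Subgroup.orderOf_mk, hbo])
      exact ⟨_, (h : M).2, congrArg Subtype.val hh⟩
    have hCi : ∀ i ∈ M, orderOf i = 2 → Subgroup.centralizer ({i} : Set G) ≤ M := by
      intro i hi hio z hz
      obtain ⟨h, hh, he⟩ := hfus D.t (hCM (D.S_le D.t_mem)) i hi D.ht2 hio
      have hz' : h⁻¹ * z * h ∈ D.C := by
        rw [← he, Subgroup.mem_centralizer_singleton_iff] at hz
        refine Subgroup.mem_centralizer_singleton_iff.mpr ?_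
        calc h⁻¹ * z * h * D.t = h⁻¹ * (z * (h * D.t * h⁻¹)) * h := by group
          _ = h⁻¹ * (h * D.t * h⁻¹ * z) * h := by rw [hz]
          _ = D.t * (h⁻¹ * z * h) := by group
      have := M.mul_mem (M.mul_mem hh (hCM hz')) (M.inv_mem hh)
      rwa [show h * (h⁻¹ * z * h) * h⁻¹ = z by group] at this
    have heven : Even (Nat.card M) := even_iff_two_dvd.mpr (hto ▸ orderOf_dvd_natCard tM)
    have hSE : Cfsg.IsStronglyEmbedded M := (Cfsg.Agent.S0223.result M hM heven).mpr
      ⟨hCi, fun a ha b hb hao hbo _ => hfus a ha b hb hao hbo⟩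
    obtain ⟨u, hu, huM⟩ : ∃ u : G, orderOf u = 2 ∧ u ∉ M := by
      by_contra hcon
      push Not at hcon
      rcases (inferInstance : (Subgroup.normalClosure ({D.t} : Set G)).Normal).eq_bot_or_eq_top
        with h | h
      · exact D.t_ne (Subgroup.mem_bot.mp (h ▸ Subgroup.subset_normalClosure rfl))
      · refine hM (top_le_iff.mp (h ▸ ?_))
        rw [Subgroup.normalClosure, Subgroup.closure_le]
        intro a ha
        obtain ⟨b, hb, hab⟩ := Group.mem_conjugatesOfSet_iff.mp ha
        rw [Set.mem_singleton_iff] at hb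
        subst hb
        obtain ⟨k, rfl⟩ := isConj_iff.mp hab
        exact hcon _ (by rw [CfsgLib.Involutions.orderOf_conj, D.ht2])
    have hu2 : u * u = 1 := CfsgLib.Involutions.mul_self_eq_one_of_orderOf hu
    have hui : u⁻¹ = u := CfsgLib.Involutions.inv_eq_self_of_orderOf hu
    set D0 := M ⊓ M.map (MulAut.conj u).toMonoidHom with hD0
    have hD0odd : Odd (Nat.card D0) := hSE.2.2 u huM
    have hD0mem : ∀ a, a ∈ D0 ↔ a ∈ M ∧ u * a * u⁻¹ ∈ M := by
      intro a
      rw [hD0, Subgroup.mem_inf, Subgroup.mem_map]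
      refine and_congr_right fun _ => ⟨?_, fun h => ⟨u * a * u⁻¹, h, ?_⟩⟩
      · rintro ⟨b, hb, rfl⟩
        show u * (u * b * u⁻¹) * u⁻¹ ∈ M
        rw [hui, show u * (u * b * u) * u = (u * u) * b * (u * u) by group, hu2, one_mul, mul_one]
        exact hb
      · show u * (u * a * u⁻¹) * u⁻¹ = a
        rw [hui, show u * (u * a * u) * u = (u * u) * a * (u * u) by group, hu2, one_mul, mul_one]
    have hcount := Cfsg.Agent.S1224.result M hSE (QuotientGroup.mk 1) (QuotientGroup.mk u)
      (fun h => huM (by simpa using QuotientGroup.eq.mp h))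
    set n := (Subgroup.centralizer ({tL} : Set E.L)).index with hn
    have hright : Nat.card {i : G // orderOf i = 2 ∧ i ∈ M} = n := by
      have h1 := CfsgLib.TwoByTwo.card_carrier_mul_centralizer tL
      have h2 := (Subgroup.centralizer ({tL} : Set E.L)).card_mul_index
      rw [← h1, mul_comm] at h2
      rw [← hn] at h2
      rw [Nat.eq_of_mul_eq_mul_right Nat.card_pos h2]
      refine Nat.card_congr (Equiv.ofBijective (fun i => ⟨⟨⟨i.1, i.2.2⟩,
        hinvL _ (by rw [Subgroup.orderOf_mk]; exact i.2.1)⟩, ?_⟩) ⟨fun i j h => Subtype.ext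
          (congrArg (fun a : (ConjClasses.mk tL).carrier => (((a : E.L) : M) : G)) h), ?_⟩)
      · rw [ConjClasses.mem_carrier_iff_mk_eq, ConjClasses.mk_eq_mk_iff_isConj]
        obtain ⟨h, hh⟩ := hconjL tM ⟨i.1, i.2.2⟩ htL
          (hinvL _ (by rw [Subgroup.orderOf_mk]; exact i.2.1)) hto
          (by rw [Subgroup.orderOf_mk]; exact i.2.1)
        exact (isConj_iff.mpr ⟨h, Subtype.ext hh⟩).symm
      · rintro ⟨a, ha⟩
        rw [ConjClasses.mem_carrier_iff_mk_eq, ConjClasses.mk_eq_mk_iff_isConj] at ha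
        obtain ⟨k, hk⟩ := isConj_iff.mp ha.symm
        refine ⟨⟨((a : M) : G), ?_, (a : M).2⟩, Subtype.ext (Subtype.ext rfl)⟩
        rw [Subgroup.orderOf_coe, Subgroup.orderOf_coe, ← hk, CfsgLib.Involutions.orderOf_conj]
        exact htLo
    have hleft : Nat.card {i : G // orderOf i = 2 ∧ i • (QuotientGroup.mk 1 : G ⧸ M) = QuotientGroup.mk u}
        = Nat.card (invSet D0 u) := by
      have key : ∀ i : G, (orderOf i = 2 ∧ i • (QuotientGroup.mk 1 : G ⧸ M) = QuotientGroup.mk u) ↔
          u * i ∈ invSet D0 u := by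
        intro i
        constructor
        · rintro ⟨hi, he⟩
          rw [MulAction.Quotient.smul_mk, smul_eq_mul, mul_one, eq_comm, QuotientGroup.eq, hui] at he
          have h2 : u * (u * i) * u⁻¹ = (u * i)⁻¹ := by
            rw [mul_inv_rev, hui, CfsgLib.Involutions.inv_eq_self_of_orderOf hi, ← mul_assoc u u i, hu2,
              one_mul]
          exact ⟨(hD0mem _).mpr ⟨he, h2 ▸ M.inv_mem he⟩, h2⟩
        · rintro ⟨h1, h2⟩
          have hiM := ((hD0mem _).mp h1).1
          refine ⟨CfsgLib.Involutions.orderOf_eq_two_iff'.mpr ⟨?_, fun e => ?_⟩, ?_⟩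
          · rw [mul_inv_rev, hui, ← mul_assoc u u i, hu2, one_mul] at h2
            exact mul_eq_one_iff_eq_inv.mpr (mul_right_cancel h2)
          · rw [e, mul_one] at hiM
            exact huM hiM
          · rw [MulAction.Quotient.smul_mk, smul_eq_mul, mul_one, eq_comm, QuotientGroup.eq, hui]
            exact hiM
      exact Nat.card_congr ((Equiv.mulLeft u).subtypeEquiv key)
    rw [hleft, hright] at hcount
    have hD0o : ∀ a ∈ D0, ¬ 2 ∣ orderOf a := fun a ha h =>
      Nat.two_dvd_ne_zero.mpr (Nat.odd_iff.mp hD0odd) (h.trans (Subgroup.orderOf_dvd_natCard _ ha))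
    have hD0u : ∀ a ∈ D0, u * a * u⁻¹ ∈ D0 := by
      intro a ha
      obtain ⟨h1, h2⟩ := (hD0mem a).mp ha
      refine (hD0mem _).mpr ⟨h2, ?_⟩
      rw [hui, show u * (u * a * u) * u = (u * u) * a * (u * u) by group, hu2, one_mul, mul_one]
      exact h1
    have hprod := card_invSet hD0o hu2 hD0u
    rw [hcount] at hprod
    set K := D0.subgroupOf M with hK
    have hKc : Nat.card K = Nat.card D0 :=
      Nat.card_congr (Subgroup.subgroupOfEquivOfLe inf_le_left).toEquiv
    set H : Subgroup E.L := K.subgroupOf E.L with hH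
    have hrel : Nat.card H * E.L.relIndex K = Nat.card D0 := by
      rw [← hKc, Subgroup.relIndex, ← (E.L.subgroupOf K).card_mul_index]
      congr 1
      exact Nat.card_congr
        { toFun := fun a => ⟨⟨((a : E.L) : M), a.2⟩, (a : E.L).2⟩
          invFun := fun a => ⟨⟨((a : K) : M), a.2⟩, (a : K).2⟩
          left_inv := fun _ => rfl
          right_inv := fun _ => rfl }
    have hLidx : E.L.index = Nat.card E.X := by
      have h1 := E.L.card_mul_index
      have h2 : Nat.card M = Nat.card E.X * Nat.card E.L := by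
        rw [← E.hcard, ← hG0, htop, Subgroup.card_top]
      rw [h2, mul_comm (Nat.card E.X)] at h1
      exact Nat.eq_of_mul_eq_mul_left Nat.card_pos h1
    have hrelX : E.L.relIndex K ∣ Nat.card E.X := hLidx ▸ Subgroup.relIndex_dvd_index_of_normal _ _
    have hnL : n ∣ Nat.card E.L := Subgroup.index_dvd_card _
    have hncop : n.Coprime (E.L.relIndex K) :=
      Nat.Coprime.coprime_dvd_right hrelX (E.hcop.symm.coprime_dvd_left hnL)
    have hnH : n ∣ Nat.card H := by
      refine hncop.dvd_of_dvd_mul_right ?_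
      rw [hrel]
      exact Dvd.intro_left _ hprod
    have hHmem : ∀ a : E.L, a ∈ H ↔ ((a : M) : G) ∈ D0 := fun a => Iff.rfl
    have hHodd : Odd (Nat.card H) := hD0odd.of_dvd_nat (Dvd.intro _ hrel)
    refine psl_odd_big E.hp hp5 hcardL hc hHodd hnH fun hHn => ?_
    have hfix : Nat.card ↥(D0 ⊓ Subgroup.centralizer ({u} : Set G)) = E.L.relIndex K := by
      have h : Nat.card ↥(D0 ⊓ Subgroup.centralizer ({u} : Set G)) * n = E.L.relIndex K * n :=
        hprod.trans (by rw [← hrel, hHn, mul_comm])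
      exact Nat.eq_of_mul_eq_mul_right (Nat.pos_of_ne_zero (Subgroup.index_ne_zero_of_finite)) h
    set HG : Subgroup G := H.map (M.subtype.comp E.L.subtype) with hHG
    have hinj : Function.Injective (M.subtype.comp E.L.subtype) :=
      M.subtype_injective.comp E.L.subtype_injective
    have hHGc : Nat.card HG = n := by rw [hHG, Subgroup.card_map_of_injective hinj, hHn]
    have hHGo : ∀ a ∈ HG, ¬ 2 ∣ orderOf a := by
      rintro _ ⟨a, ha, rfl⟩
      exact hD0o _ ((hHmem a).mp ha)
    have hHGu : ∀ a ∈ HG, u * a * u⁻¹ ∈ HG := by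
      rintro _ ⟨a, ha, rfl⟩
      have h1 := hD0u _ ((hHmem a).mp ha)
      set b : M := ⟨_, ((hD0mem _).mp h1).1⟩ with hb
      have hbL : b ∈ E.L := by
        refine E.mem_L (by rw [← hG0, htop]; trivial) ?_
        rw [hb, Subgroup.orderOf_mk, CfsgLib.Involutions.orderOf_conj]
        refine Nat.Coprime.coprime_dvd_left ?_ E.hcop.symm
        show orderOf ((a : M) : G) ∣ _
        rw [Subgroup.orderOf_coe, Subgroup.orderOf_coe]
        exact orderOf_dvd_natCard a
      exact ⟨⟨b, hbL⟩, (hHmem _).mpr h1, rfl⟩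
    have hprod' := card_invSet hHGo hu2 hHGu
    have hone : Nat.card ↥(HG ⊓ Subgroup.centralizer ({u} : Set G)) = 1 := by
      refine Nat.eq_one_of_dvd_coprimes hncop ?_ ?_
      · rw [← hHGc]; exact Subgroup.card_dvd_of_le inf_le_left
      · rw [← hfix]
        refine Subgroup.card_dvd_of_le (le_inf ?_ inf_le_right)
        rintro _ ⟨⟨a, ha, rfl⟩, -⟩
        exact (hHmem a).mp ha
    rw [hone, one_mul] at hprod'
    have hinv : ∀ a : E.L, a ∈ H → u * ((a : M) : G) * u⁻¹ = ((a : M) : G)⁻¹ := by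
      have hsub : invSet HG u ⊆ (HG : Set G) := fun z hz => hz.1
      have heq : invSet HG u = (HG : Set G) := by
        refine Set.eq_of_subset_of_ncard_le hsub ?_ (Set.toFinite _)
        rw [← Nat.card_coe_set_eq, ← Nat.card_coe_set_eq, hprod']
        exact le_rfl
      intro a ha
      have h1 : ((a : M) : G) ∈ invSet HG u := by rw [heq]; exact ⟨a, ha, rfl⟩
      exact h1.2
    refine ⟨⟨fun a b => Subtype.ext (Subtype.ext (Subtype.ext ?_))⟩⟩
    have ha := hinv a a.2
    have hb := hinv b b.2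
    have hab := hinv _ (H.mul_mem a.2 b.2)
    set A := (((a : E.L) : M) : G)
    set B := (((b : E.L) : M) : G)
    show A * B = B * A
    have h : u * (A * B) * u⁻¹ = (A * B)⁻¹ := hab
    rw [show u * (A * B) * u⁻¹ = (u * A * u⁻¹) * (u * B * u⁻¹) by group, ha, hb, mul_inv_rev] at h
    calc A * B = (B⁻¹ * A⁻¹)⁻¹ := by group
      _ = (A⁻¹ * B⁻¹)⁻¹ := by rw [h]
      _ = B * A := by group
  · -- index two: an outer reflection
    obtain ⟨u, huS, huσ, huG⟩ : ∃ u : G, ∃ hu : u ∈ (D.S : Subgroup G),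
        u ∉ Subgroup.zpowers D.σ ∧ (⟨u, hCM (D.S_le hu)⟩ : M) ∉ G0 := by
      haveI := Fact.mk Nat.prime_two
      obtain ⟨s, hs, hsG⟩ : ∃ s : G, ∃ hs : s ∈ (D.S : Subgroup G),
          (⟨s, hCM (D.S_le hs)⟩ : M) ∉ G0 := by
        by_contra hcon
        push Not at hcon
        have hle : (D.S : Subgroup G) ≤ G0.map M.subtype := fun s hs =>
          ⟨_, hcon s hs, rfl⟩
        have h1 : Nat.card (D.S : Subgroup G) ∣ Nat.card G0 := by
          rw [← Subgroup.card_map_of_injective (f := M.subtype) (K := G0) M.subtype_injective]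
          exact Subgroup.card_dvd_of_le hle
        have h2 : 2 * Nat.card (D.S : Subgroup G) ∣ Nat.card G := by
          refine (mul_dvd_mul_left 2 h1).trans ?_
          rw [mul_comm, ← hidx, G0.card_mul_index]
          exact M.card_subgroup_dvd_card
        obtain ⟨k, hk⟩ := h2
        refine D.S.not_dvd_index ⟨k, ?_⟩
        have h3 := (D.S : Subgroup G).card_mul_index
        rw [hk, mul_comm 2, mul_assoc] at h3
        exact Nat.eq_of_mul_eq_mul_left Nat.card_pos h3
      by_cases hsσ : s ∈ Subgroup.zpowers D.σ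
      · refine ⟨s * x, mul_mem hs hx, fun h => hxσ ((Subgroup.mul_mem_cancel_left _ hsσ).mp h),
          fun h => hsG ?_⟩
        exact (Subgroup.mul_mem_cancel_right G0 hboth.2).mp
          (show (⟨s, hCM (D.S_le hs)⟩ : M) * xM ∈ G0 from h)
      · exact ⟨s, hs, hsσ, hsG⟩
    set uM : M := ⟨u, hCM (D.S_le huS)⟩ with huMd
    have huo := D.refl_two huS huσ
    have huMo : orderOf uM = 2 := by rw [huMd, Subgroup.orderOf_mk]; exact huo
    obtain ⟨Θ⟩ := exists_autEquiv (p := E.p)
    let f : M →* PG (ZMod E.p) := Θ.symm.toMonoidHom.comp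
      ((MulAut.congr e).toMonoidHom.comp (MulAut.conjNormal (H := E.L)))
    have hker : ∀ a : M, f a = 1 ↔ ∀ l ∈ E.L, a * l = l * a := by
      intro a
      show Θ.symm (MulAut.congr e (MulAut.conjNormal a)) = 1 ↔ _
      rw [EmbeddingLike.map_eq_one_iff, EmbeddingLike.map_eq_one_iff]
      constructor
      · intro h l hl
        have h1 := congrArg Subtype.val (DFunLike.congr_fun h ⟨l, hl⟩)
        rw [MulAut.conjNormal_apply, MulAut.one_apply] at h1
        exact mul_inv_eq_iff_eq_mul.mp h1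
      · intro h
        refine MulEquiv.ext fun l => Subtype.ext ?_
        rw [MulAut.conjNormal_apply, MulAut.one_apply]
        exact mul_inv_eq_iff_eq_mul.mpr (h l l.2)
    have hcent : ∀ a : M, a ∈ E.L → f a = 1 → a = 1 := by
      intro a ha h
      have hc' : e ⟨a, ha⟩ ∈ Subgroup.center _ := Subgroup.mem_center_iff.mpr fun z => by
        obtain ⟨l, rfl⟩ := e.surjective z
        rw [← map_mul, ← map_mul]
        exact congrArg e (Subtype.ext ((hker a).mp h l l.2).symm)
      rw [psl_center_bot hp5, Subgroup.mem_bot, EmbeddingLike.map_eq_one_iff] at hc'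
      exact congrArg Subtype.val hc'
    set I := E.L.map f with hI
    have hfinj : ∀ a b : M, a ∈ E.L → b ∈ E.L → f a = f b → a = b := fun a b ha hb h => by
      refine mul_inv_eq_one.mp (hcent _ (E.L.mul_mem ha (E.L.inv_mem hb)) ?_)
      rw [map_mul, map_inv, h, mul_inv_cancel]
    have hIc : Nat.card I = Nat.card E.L := by
      rw [hI]
      refine (Nat.card_congr (Equiv.ofBijective (fun a : E.L => (⟨f a, a, a.2, rfl⟩ : E.L.map f))
        ⟨fun a b h => Subtype.ext (hfinj _ _ a.2 b.2 (congrArg Subtype.val h)), ?_⟩)).symm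
      rintro ⟨_, a, ha, rfl⟩
      exact ⟨⟨a, ha⟩, rfl⟩
    have hI2 : I.index = 2 := by
      have h := I.card_mul_index
      rw [hIc, card_PG, ZMod.card, ← hcardL, mul_comm 2] at h
      exact Nat.eq_of_mul_eq_mul_left Nat.card_pos h
    haveI := Subgroup.normal_of_index_eq_two hI2
    have huI : f uM ∉ I := by
      rintro ⟨l, hl, hle⟩
      set a := uM * l⁻¹ with had
      have hafix : f a = 1 := by rw [had, map_mul, map_inv, hle, mul_inv_cancel]
      have haG : a ∉ G0 := fun h => huG
        (by simpa [had] using G0.mul_mem h (Subgroup.mem_sup_right (S := E.X) hl))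
      have hev : Even (orderOf a) := by
        by_contra h
        exact haG (E.odd_mem fun h2 => h (even_iff_two_dvd.mpr h2))
      obtain ⟨k, hk⟩ := hev
      set i := a ^ k with hid
      have hio : orderOf i = 2 := by
        have hpos := orderOf_pos a
        rw [hid, orderOf_pow' _ (by omega), hk, Nat.gcd_eq_right ⟨2, by omega⟩]
        exact Nat.div_eq_of_eq_mul_left (by omega) (by omega)
      have hif : f i = 1 := by rw [hid, map_pow, hafix, one_pow]
      have hiC : (i : G) ∈ D.C := Subgroup.mem_centralizer_singleton_iff.mpr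
        (congrArg Subtype.val ((hker i).mp hif tM htL))
      obtain ⟨o, ho, -, hcase⟩ := D.cent_two hx hxσ hiC
        (congrArg Subtype.val ((hker i).mp hif xM hxL))
      set oM : M := ⟨o, hCM (D.hOC ho)⟩ with hoM
      have hoG : oM ∈ G0 := E.odd_mem (by rw [hoM, Subgroup.orderOf_mk]; exact D.odd_order ho)
      have hiG : i ∈ G0 := by
        rcases hcase with h | h | h | h
        · rw [show i = oM from Subtype.ext h]; exact hoG
        · rw [show i = oM * tM from Subtype.ext h]; exact G0.mul_mem hoG hboth.1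
        · rw [show i = oM * xM from Subtype.ext h]; exact G0.mul_mem hoG hboth.2
        · rw [show i = oM * (tM * xM) from Subtype.ext h]
          exact G0.mul_mem hoG (G0.mul_mem hboth.1 hboth.2)
      rw [hcent i (E.invol_L hiG hio) hif, orderOf_one] at hio
      omega
    have hft : orderOf (f tM) = 2 := CfsgLib.Involutions.orderOf_eq_two_iff'.mpr
      ⟨by rw [← map_mul, CfsgLib.Involutions.mul_self_eq_one_of_orderOf hto, map_one],
        fun h => (CfsgLib.Involutions.orderOf_eq_two_iff'.mp hto).2 (hcent tM htL h)⟩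
    have hfu : orderOf (f uM) = 2 := CfsgLib.Involutions.orderOf_eq_two_iff'.mpr
      ⟨by rw [← map_mul, CfsgLib.Involutions.mul_self_eq_one_of_orderOf huMo, map_one],
        fun h => huI (h ▸ I.one_mem)⟩
    have hutc : Commute uM tM := Subtype.ext (D.commute_S huS).eq
    -- centralisers inside `I`
    have key : ∀ v : M, (∃ w : M, f w ∉ I ∧ Commute w v) →
        2 * Nat.card {l : E.L // Commute (l : M) v} =
          Nat.card (Subgroup.centralizer ({f v} : Set (PG (ZMod E.p)))) := by
      rintro v ⟨w, hw, hwv⟩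
      set Cv := Subgroup.centralizer ({f v} : Set (PG (ZMod E.p))) with hCv
      have hidx2 : (I.subgroupOf Cv).index = 2 := by
        rw [Subgroup.index_eq_two_iff]
        refine ⟨⟨f w, Subgroup.mem_centralizer_singleton_iff.mpr (hwv.map f).eq⟩, fun b => ?_⟩
        simp only [Subgroup.mem_subgroupOf, Subgroup.coe_mul]
        by_cases hb : (b : PG (ZMod E.p)) ∈ I
        · exact Or.inr ⟨hb, fun h => hw ((Subgroup.mul_mem_cancel_left I hb).mp h)⟩
        · exact Or.inl ⟨(Subgroup.mul_mem_iff_of_index_two hI2).mpr (iff_of_false hb hw), hb⟩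
      rw [← (I.subgroupOf Cv).card_mul_index, hidx2, mul_comm]
      congr 1
      refine Nat.card_congr (Equiv.ofBijective (fun l => ⟨⟨f (l.1 : M),
        Subgroup.mem_centralizer_singleton_iff.mpr (l.2.map f).eq⟩, (l.1 : M), l.1.2, rfl⟩)
        ⟨fun l l' h => Subtype.ext (Subtype.ext (hfinj _ _ l.1.2 l'.1.2
          (congrArg (fun z : I.subgroupOf Cv => ((z : Cv) : PG (ZMod E.p))) h))), ?_⟩)
      rintro ⟨⟨z, hz⟩, hzI⟩
      obtain ⟨l, hl, rfl⟩ := Subgroup.mem_subgroupOf.mp hzI
      refine ⟨⟨⟨l, hl⟩, ?_⟩, Subtype.ext (Subtype.ext rfl)⟩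
      have hcm : Commute (f l) (f v) := Subgroup.mem_centralizer_singleton_iff.mp hz
      have h1 : l * v * l⁻¹ * v⁻¹ ∈ E.L := by
        rw [show l * v * l⁻¹ * v⁻¹ = l * (v * l⁻¹ * v⁻¹) by group]
        exact E.L.mul_mem hl (E.hL.conj_mem _ (E.L.inv_mem hl) v)
      have h2 := hcent _ h1 (by
        rw [map_mul, map_mul, map_mul, map_inv, map_inv, hcm.eq, mul_inv_cancel_right, mul_inv_cancel])
      exact mul_inv_eq_iff_eq_mul.mp (mul_inv_eq_one.mp h2)
    have hct : 2 * c = Nat.card (Subgroup.centralizer ({f tM} : Set (PG (ZMod E.p)))) := by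
      rw [← key tM ⟨uM, huI, hutc⟩]
      refine congrArg (2 * ·) (Nat.card_congr (Equiv.subtypeEquivRight fun l => ?_))
      rw [Subgroup.mem_centralizer_singleton_iff]
      exact ⟨fun h => congrArg Subtype.val h, fun h => Subtype.ext h⟩
    have hcu := key uM ⟨uM, huI, Commute.refl _⟩
    set c' := Nat.card {l : E.L // Commute (l : M) uM} with hc'
    have hne : c' ≠ c := by
      intro h
      obtain ⟨-, hconj⟩ := pg_invol hp2 hft
      obtain ⟨z, hz⟩ := isConj_iff.mp (hconj (f uM) hfu (by rw [← hcu, ← hct, h]))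
      exact huI (hz ▸ (inferInstance : I.Normal).conj_mem _ ⟨tM, htL, rfl⟩ z)
    have hc4 : 4 ∣ c := by
      set V := four D.t x D.t_sq (CfsgLib.Involutions.mul_self_eq_one_of_orderOf hxo)
        (D.commute_S hx).symm with hV
      have hK := isKleinFour_four D.ht2 hxo (D.commute_S hx).symm (D.refl_ne_t hxσ)
      have hmem : ∀ v ∈ V, ∃ l : E.L, ((l : M) : G) = v ∧ l * tL = tL * l := by
        intro v hv
        have hv' : v = 1 ∨ v = D.t ∨ v = x ∨ v = D.t * x := hv
        have hxt : (⟨xM, hxL⟩ : E.L) * tL = tL * ⟨xM, hxL⟩ :=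
          Subtype.ext (Subtype.ext (D.commute_S hx).eq)
        rcases hv' with rfl | rfl | rfl | rfl
        · exact ⟨1, rfl, by rw [one_mul, mul_one]⟩
        · exact ⟨tL, rfl, rfl⟩
        · exact ⟨⟨xM, hxL⟩, rfl, hxt⟩
        · exact ⟨tL * ⟨xM, hxL⟩, rfl, by rw [mul_assoc, hxt, ← mul_assoc]⟩
      have hle : V ≤ (Subgroup.centralizer ({tL} : Set E.L)).map (M.subtype.comp E.L.subtype) := by
        intro v hv
        obtain ⟨l, hl, hlc⟩ := hmem v hv
        exact ⟨l, Subgroup.mem_centralizer_singleton_iff.mpr hlc, hl⟩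
      have h := Subgroup.card_dvd_of_le hle
      rw [Subgroup.card_map_of_injective (f := M.subtype.comp E.L.subtype) (M.subtype_injective.comp E.L.subtype_injective),
        hK.card_four, ← hcdef] at h
      exact h
    have hc'v : c' = E.p - 1 ∨ c' = E.p + 1 := by
      obtain ⟨h, -⟩ := pg_invol hp2 hfu
      rw [← hcu] at h
      rcases h with h | h <;> omega
    obtain ⟨r, hr, hr2, hrc⟩ : ∃ r, r.Prime ∧ r ≠ 2 ∧ r ∣ c' := by
      obtain ⟨k, hk⟩ := hc4
      have h2 : 2 ∣ c' := by rcases hc'v with e | e <;> omega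
      have h3 : c' / 2 ≠ 1 := by rcases hc'v with e | e <;> omega
      refine ⟨(c' / 2).minFac, Nat.minFac_prime h3, fun e => ?_, ?_⟩
      · have := Nat.minFac_dvd (c' / 2)
        rw [e] at this
        rcases hc'v with e | e <;> rcases hc with e' | e' <;> omega
      · exact (Nat.minFac_dvd _).trans (Nat.div_dvd_of_dvd h2)
    haveI := Fact.mk hr
    set CuL : Subgroup E.L := (Subgroup.centralizer ({uM} : Set M)).subgroupOf E.L with hCuL
    have hCuLc : Nat.card CuL = c' := Nat.card_congr (Equiv.subtypeEquivRight fun l => by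
      rw [hCuL, Subgroup.mem_subgroupOf, Subgroup.mem_centralizer_singleton_iff]; rfl)
    obtain ⟨l, hlo⟩ := exists_prime_orderOf_dvd_card' (G := CuL) r (hCuLc ▸ hrc)
    set lG : G := (((l : E.L) : M) : G) with hlG
    have hlGo : orderOf lG = r := by
      rw [hlG, Subgroup.orderOf_coe, Subgroup.orderOf_coe, Subgroup.orderOf_coe, hlo]
    have hlu : Commute lG u := congrArg Subtype.val
      (Subgroup.mem_centralizer_singleton_iff.mp (Subgroup.mem_subgroupOf.mp l.2))
    obtain ⟨h, hh⟩ := isConj_iff.mp (D.hone u D.t huo D.ht2)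
    set l' := h * lG * h⁻¹ with hl'
    have hl'o : orderOf l' = r := by rw [hl', CfsgLib.Involutions.orderOf_conj, hlGo]
    have hl'C : l' ∈ D.C := Subgroup.mem_centralizer_singleton_iff.mpr
      (hh ▸ ((Commute.conj_iff h).mpr hlu)).eq
    set lM : M := ⟨l', hCM hl'C⟩ with hlM
    have hlMo : orderOf lM = r := by rw [hlM, Subgroup.orderOf_mk, hl'o]
    have hrodd : ¬ 2 ∣ r := fun h2 => hr2 ((Nat.prime_dvd_prime_iff_eq Nat.prime_two hr).mp h2).symm
    have hrL : r ∣ Nat.card E.L := by
      rw [← hlo, ← Subgroup.orderOf_coe]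
      exact orderOf_dvd_natCard _
    have hlL : lM ∈ E.L := E.mem_L (E.odd_mem (by rw [hlMo]; exact hrodd))
      (by rw [hlMo]; exact E.hcop.symm.coprime_dvd_left hrL)
    have hrct : r ∣ c := by
      rw [← hlMo, ← Subgroup.orderOf_mk lM hlL]
      exact Subgroup.orderOf_dvd_natCard _ (Subgroup.mem_centralizer_singleton_iff.mpr
        (Subtype.ext (Subtype.ext (Subgroup.mem_centralizer_singleton_iff.mp hl'C))))
    have hr2' : r ∣ 2 := by
      rcases hc with ec | ec <;> rcases hc'v with ec' | ec' <;> first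
        | omega
        | (rw [ec] at hrct; rw [ec'] at hrc
           have := Nat.dvd_sub hrc hrct
           rwa [show E.p + 1 - (E.p - 1) = 2 by omega] at this)
        | (rw [ec] at hrct; rw [ec'] at hrc
           have := Nat.dvd_sub hrct hrc
           rwa [show E.p + 1 - (E.p - 1) = 2 by omega] at this)
    exact hr2 ((Nat.prime_dvd_prime_iff_eq hr Nat.prime_two).mp hr2')

end DDat

end CfsgLib.AlmostCyclic
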