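import Cfsg.Agent.Lib.AlmostCyclic.DLemmaA

/-!
# The action of the Sylow subgroup on the core
-/

set_option autoImplicit false
set_option linter.style.haveILetI false
set_option linter.unusedSectionVars false
set_option maxHeartbeats 400000

namespace CfsgLib.AlmostCyclic

open Cfsg

universe u

namespace DDat

variable {G : Type u} [Group G] [Finite G] (D : DDat G)

/-- Every reflection inverts the prime order elements of the Fitting subgroup of the core. -/
theorem refl_inverts_prime [IsSimpleGroup G] (hG : AC G) (hind : Ind G) {y : G} {r : ℕ} (hr : r.Prime)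
    (hyF : y ∈ fit D.O) (hy : orderOf y = r) {x : G} (hx : x ∈ (D.S : Subgroup G))
    (hxσ : x ∉ Subgroup.zpowers D.σ) : x * y * x⁻¹ = y⁻¹ := by
  have hn := D.C_le_normalizer hG hyF
  exact (inv_or_comm hr hy (CfsgLib.Involutions.mul_self_eq_one_of_orderOf (D.refl_two hx hxσ))
    (hn (D.S_le hx))).resolve_left (D.refl_not_fixed hG hind hr (fit_le _ hyF) hy hn hx hxσ)

/-- The rotations centralise the core. -/
theorem sigma_comm [IsSimpleGroup G] (hG : AC G) (hind : Ind G) : ∀ o ∈ D.O, Commute D.σ o := by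
  haveI := D.O_isZGroup hG
  haveI : Group.IsSolvable ↥D.O := inferInstance
  suffices h : D.O ≤ Subgroup.centralizer (Subgroup.zpowers D.σ : Set G) from fun o ho =>
    h ho D.σ (Subgroup.mem_zpowers D.σ)
  by_contra hne
  obtain ⟨r, y, hr, hy, hyF, hyA, -⟩ := exists_prime_sub D.O
    (A := Subgroup.zpowers D.σ) (Subgroup.zpowers_le.mpr (D.hOn (D.S_le D.hσS))) (by
      rw [Nat.card_zpowers, D.hσ]
      obtain ⟨k, hk⟩ := D.hm2
      rw [hk]
      exact (Nat.coprime_two_left.mpr D.hOodd).pow_left _) hne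
  refine hyA ?_
  have h1 := D.refl_inverts_prime hG hind hr hyF hy D.hwS D.hwne
  have h2 := D.refl_inverts_prime hG hind hr hyF hy (mul_mem D.hσS D.hwS)
    (by have := D.refl_not_rot 1; rwa [zpow_one] at this)
  have hc : Commute D.σ y := by
    refine mul_inv_eq_iff_eq_mul.mp ?_
    calc D.σ * y * D.σ⁻¹ = ((D.σ * D.w) * (D.w⁻¹ * y * D.w) * (D.σ * D.w)⁻¹) := by group
      _ = ((D.σ * D.w) * y⁻¹ * (D.σ * D.w)⁻¹) := by
        rw [CfsgLib.Involutions.inv_eq_self_of_orderOf D.hw]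
        nth_rewrite 3 [← CfsgLib.Involutions.inv_eq_self_of_orderOf D.hw]
        rw [h1]
      _ = ((D.σ * D.w) * y * (D.σ * D.w)⁻¹)⁻¹ := by group
      _ = y := by rw [h2, inv_inv]
  rintro _ ⟨i, rfl⟩
  exact (hc.zpow_left i).eq

/-- A reflection inverts the Fitting subgroup of the core. -/
theorem refl_inverts [IsSimpleGroup G] (hG : AC G) (hind : Ind G) {x : G} (hx : x ∈ (D.S : Subgroup G))
    (hxσ : x ∉ Subgroup.zpowers D.σ) : ∀ f ∈ fit D.O, x * f * x⁻¹ = f⁻¹ := by
  haveI := D.O_isZGroup hG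
  have hx2 := CfsgLib.Involutions.mul_self_eq_one_of_orderOf (D.refl_two hx hxσ)
  have hFn : ∀ f ∈ fit D.O, x * f * x⁻¹ ∈ fit D.O := fun f hf =>
    (Subgroup.mem_normalizer_iff.mp (normalizer_le_fit _ (D.hOn (D.S_le hx))) f).mp hf
  have hFo : ∀ f ∈ fit D.O, ¬ 2 ∣ orderOf f := fun f hf => D.odd_order (fit_le _ hf)
  have h := card_invSet hFo hx2 hFn
  have h1 : Nat.card ↥(fit D.O ⊓ Subgroup.centralizer ({x} : Set G)) = 1 := by
    by_contra hne
    obtain ⟨r, hr, hrd⟩ := Nat.exists_prime_and_dvd hne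
    haveI := Fact.mk hr
    obtain ⟨y, hy⟩ := exists_prime_orderOf_dvd_card' r hrd
    exact D.refl_not_fixed hG hind hr (fit_le _ y.2.1) (by rw [Subgroup.orderOf_coe, hy])
      (D.C_le_normalizer hG y.2.1) hx hxσ (Subgroup.mem_centralizer_singleton_iff.mp y.2.2).symm
  rw [h1, one_mul] at h
  have heq : invSet (fit D.O) x = (fit D.O : Set G) := by
    refine Set.eq_of_subset_of_ncard_le (fun z hz => hz.1) ?_ (Set.toFinite _)
    rw [← Nat.card_coe_set_eq, ← Nat.card_coe_set_eq, h]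
    exact le_rfl
  intro f hf
  have : f ∈ invSet (fit D.O) x := by rw [heq]; exact hf
  exact this.2

/-- The elements of the core inverted by a reflection form its Fitting subgroup. -/
theorem invSet_eq [IsSimpleGroup G] (hG : AC G) (hind : Ind G) {x : G} (hx : x ∈ (D.S : Subgroup G))
    (hxσ : x ∉ Subgroup.zpowers D.σ) : invSet D.O x = (fit D.O : Set G) := by
  haveI := D.O_isZGroup hG
  haveI : Group.IsSolvable ↥D.O := inferInstance
  haveI := fit_isCyclic D.O
  letI : IsMulCommutative ↥(fit D.O) := inferInstance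
  refine Set.Subset.antisymm (fun o ⟨ho, hox⟩ => ?_) fun f hf =>
    ⟨fit_le _ hf, D.refl_inverts hG hind hx hxσ f hf⟩
  have hinv := D.refl_inverts hG hind hx hxσ
  have hnF : ∀ z ∈ D.O, ∀ f ∈ fit D.O, z * f * z⁻¹ ∈ fit D.O := fun z hz f hf =>
    (Subgroup.mem_normalizer_iff.mp (normalizer_le_fit _ (Subgroup.le_normalizer hz)) f).mp hf
  have hsq : o ^ 2 ∈ fit D.O := by
    refine centralizer_fit_le D.O ⟨pow_mem ho 2, fun f hf => ?_⟩
    have h1 := hinv _ (hnF o ho f hf)
    have h2 : o⁻¹ * f⁻¹ * o = (o * f * o⁻¹)⁻¹ := by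
      rw [← h1, show x * (o * f * o⁻¹) * x⁻¹ = (x * o * x⁻¹) * (x * f * x⁻¹) * (x * o * x⁻¹)⁻¹ by group,
        hox, hinv f hf, inv_inv]
    have h3 : o * f⁻¹ * o⁻¹ = (o * f * o⁻¹)⁻¹ := by group
    rw [← h3] at h2
    have h4 : o⁻¹ * f * o = o * f * o⁻¹ := by
      have := congrArg (·⁻¹) h2
      simpa [mul_assoc] using this
    calc f * o ^ 2 = o * (o⁻¹ * f * o) * o := by rw [pow_two]; group
      _ = o * (o * f * o⁻¹) * o := by rw [h4]
      _ = o ^ 2 * f := by rw [pow_two]; group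
  obtain ⟨d, hd, hdo⟩ : ∃ d, d ∈ fit D.O ∧ d = o := by
    obtain ⟨m, hm⟩ := exists_pow_eq_self_of_coprime
      (Nat.prime_two.coprime_iff_not_dvd.2 (D.odd_order ho)) (x := o)
    exact ⟨_, pow_mem hsq m, hm⟩
  exact hdo ▸ hd

/-- The complement of the Fitting subgroup in the core. -/
abbrev X : Subgroup G := D.O ⊓ Subgroup.centralizer ({D.w} : Set G)

/-- The core is the product of its Fitting subgroup and the centraliser of `w`. -/
theorem card_O [IsSimpleGroup G] (hG : AC G) (hind : Ind G) :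
    Nat.card D.X * Nat.card (fit D.O) = Nat.card D.O := by
  have h := card_invSet (fun c hc => D.odd_order hc) D.w_sq
    (fun c hc => D.S_normalizes D.hwS hc)
  rw [D.invSet_eq hG hind D.hwS D.hwne] at h
  exact h

theorem fit_inf_X [IsSimpleGroup G] (hG : AC G) (hind : Ind G) {f : G} (hf : f ∈ fit D.O)
    (hfX : f ∈ D.X) : f = 1 := by
  have h := D.refl_inverts hG hind D.hwS D.hwne f hf
  rw [← Subgroup.mem_centralizer_singleton_iff.mp hfX.2, mul_inv_cancel_right] at h
  exact orderOf_eq_one_iff.mp (Nat.eq_one_of_dvd_coprimes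
    (Nat.prime_two.coprime_iff_not_dvd.mpr (D.odd_order (fit_le _ hf)))
    (orderOf_dvd_of_pow_eq_one (by rw [pow_two]; exact mul_eq_one_iff_eq_inv.mpr h)) dvd_rfl)

/-- The complement is commutative. -/
theorem X_comm [IsSimpleGroup G] (hG : AC G) (hind : Ind G) {a b : G} (ha : a ∈ D.X) (hb : b ∈ D.X) :
    Commute a b := by
  haveI := D.O_isZGroup hG
  haveI : Group.IsSolvable ↥D.O := inferInstance
  haveI := fit_isCyclic D.O
  set F := fit D.O
  have hnF : ∀ z ∈ D.O, z ∈ Subgroup.normalizer (F : Set G) := fun z hz =>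
    normalizer_le_fit _ (Subgroup.le_normalizer hz)
  have ha' : a ∈ D.O := ha.1
  have hb' : b ∈ D.O := hb.1
  have hcomm : a * b * a⁻¹ * b⁻¹ ∈ F := by
    have hmem : a * b * a⁻¹ * b⁻¹ ∈ D.O := mul_mem (mul_mem (mul_mem ha' hb') (inv_mem ha')) (inv_mem hb')
    refine centralizer_fit_le D.O ⟨hmem, fun f hf => ?_⟩
    set φ := F.normalizerMonoidHom
    have hab := SDat.mulAut_comm (φ ⟨a, hnF a ha.1⟩) (φ ⟨b, hnF b hb.1⟩)
    have h1 : φ (⟨a, hnF a ha.1⟩ * ⟨b, hnF b hb.1⟩ * ⟨a, hnF a ha.1⟩⁻¹ * ⟨b, hnF b hb.1⟩⁻¹) = 1 := by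
      rw [map_mul, map_mul, map_mul, map_inv, map_inv, hab, mul_inv_cancel_right, mul_inv_cancel]
    have h2 := congrArg Subtype.val (DFunLike.congr_fun h1 ⟨f, hf⟩)
    exact (mul_inv_eq_iff_eq_mul.mp h2).symm
  have h := D.fit_inf_X hG hind hcomm
    (mul_mem (mul_mem (mul_mem ha hb) (inv_mem ha)) (inv_mem hb))
  exact mul_inv_eq_iff_eq_mul.mp (mul_inv_eq_one.mp h)

end DDat

end CfsgLib.AlmostCyclic
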