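import Cfsg.Agent.Lib.AlmostCyclic.DXChar
import Cfsg.Agent.Lib.Blocks.KleinSylow
import Cfsg.Agent.Lib.Blocks.DefectZeroCount

/-!
# The reflections invert the core
-/

set_option autoImplicit false
set_option linter.style.haveILetI false
set_option linter.unusedSectionVars false
set_option maxHeartbeats 1000000

namespace CfsgLib.AlmostCyclic

open Cfsg CfsgLib.CharTheory CfsgLib.Blocks
open scoped ComplexConjugate

universe u

/-- Orthogonality against a function supported where the class sums vanish. -/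
theorem sum_coeff_eq_zero {G : Type u} [Group G] [Fintype G] (J : G) (θ : G → ℂ)
    (hθ : IsClassFunction G θ) (h : ∀ k : G, θ k ≠ 0 → pairCount J J k = 0) :
    ∑ χ : IrrCharacter G,
      classInner θ (χ : G → ℂ) * ((χ : G → ℂ) J ^ 2 / (χ : G → ℂ) 1) = 0 := by
  classical
  set c : ℂ := (Nat.card (Subgroup.centralizer ({J} : Set G)) : ℂ) with hc
  have hclv : ∀ χ : IrrCharacter G, clv J χ * (χ : G → ℂ) J * c =
      (Nat.card G : ℂ) * ((χ : G → ℂ) J ^ 2 / (χ : G → ℂ) 1) := by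
    intro χ
    rw [hc, clv, centralChar, ← Subgroup.index_mul_card (Subgroup.centralizer ({J} : Set G)),
      Nat.cast_mul]
    ring
  have h0 : ∑ k : G, θ k * ((pairCount J J k : ℂ) * c * c) = 0 :=
    Finset.sum_eq_zero fun k _ => by
      by_cases hk : θ k = 0
      · rw [hk, zero_mul]
      · rw [h k hk]; simp
  have e : ∀ k : G, θ k * ((pairCount J J k : ℂ) * c * c) =
      ∑ χ : IrrCharacter G, (Nat.card G : ℂ) * ((χ : G → ℂ) J ^ 2 / (χ : G → ℂ) 1) *
        (θ k * conj ((χ : G → ℂ) k)) := by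
    intro k
    rw [pairCount_mul, Finset.sum_mul, Finset.mul_sum]
    exact Finset.sum_congr rfl fun χ _ => by rw [← hclv χ]; ring
  rw [Finset.sum_congr rfl fun k _ => e k, Finset.sum_comm] at h0
  simp only [← Finset.mul_sum] at h0
  have hG : (Nat.card G : ℂ) ≠ 0 := Nat.cast_ne_zero.mpr Nat.card_pos.ne'
  have e2 : ∀ χ : IrrCharacter G, ∑ k : G, θ k * conj ((χ : G → ℂ) k) =
      (Nat.card G : ℂ) * classInner θ (χ : G → ℂ) := fun χ => by
    rw [classInner, mul_inv_cancel_left₀ hG]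
  simp only [e2] at h0
  refine mul_left_cancel₀ (mul_ne_zero hG hG) (Eq.trans ?_ (h0.trans (mul_zero _).symm))
  rw [Finset.mul_sum]
  exact Finset.sum_congr rfl fun χ _ => by ring

namespace DDat

variable {G : Type u} [Group G] [Finite G] (D : DDat G)

/-- A parametrisation of the core by the Fitting subgroup and the complement. -/
theorem sum_core [Fintype G] [IsSimpleGroup G] (hG : AC G) (hind : Ind G) (hm : D.m = 2) {g : G}
    (hg : D.Rot g) [Fintype D.O] [Fintype D.X] [Fintype (fit D.O)] (θ : G → ℂ)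
    (hθ : IsClassFunction G θ) (hF : ∀ f ∈ fit D.O, θ (D.t * f) = θ D.t) :
    ∑ o : D.O, θ (D.t * o) = (Nat.card (fit D.O) : ℂ) * ∑ x : D.X, θ (D.t * x) := by
  classical
  have hmem : ∀ z : fit D.O × D.X,
      (if (z.2 : G) = 1 then (z.1 : G) else z.1 * z.2 * (z.1 : G)⁻¹) ∈ D.O := by
    rintro ⟨f, x⟩
    split_ifs
    · exact fit_le _ f.2
    · exact mul_mem (mul_mem (fit_le _ f.2) x.2.1) (inv_mem (fit_le _ f.2))
  let Φ : fit D.O × D.X → D.O := fun z => ⟨_, hmem z⟩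
  have hnF : ∀ z ∈ D.O, ∀ f ∈ fit D.O, z * f * z⁻¹ ∈ fit D.O := fun z hz f hf =>
    (Subgroup.mem_normalizer_iff.mp (normalizer_le_fit _ (Subgroup.le_normalizer hz)) f).mp hf
  have hmix : ∀ f ∈ fit D.O, ∀ f' ∈ fit D.O, ∀ x ∈ D.X, f * x * f⁻¹ = f' → x = 1 := by
    intro f hf f' hf' x hx e
    refine D.fit_inf_X hG hind ?_ hx
    have := mul_mem (mul_mem (inv_mem hf) hf') hf
    rwa [← e, show f⁻¹ * (f * x * f⁻¹) * f = x by group] at this
  have hinj : Function.Injective Φ := by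
    rintro ⟨⟨f, hf⟩, ⟨x, hx⟩⟩ ⟨⟨f', hf'⟩, ⟨x', hx'⟩⟩ h
    have h1 : (if x = 1 then f else f * x * f⁻¹) = (if x' = 1 then f' else f' * x' * f'⁻¹) :=
      congrArg Subtype.val h
    by_cases e : x = 1 <;> by_cases e' : x' = 1
    · rw [if_pos e, if_pos e'] at h1
      subst e e' h1
      rfl
    · rw [if_pos e, if_neg e'] at h1
      exact absurd (hmix f' hf' f hf x' hx' h1.symm) e'
    · rw [if_neg e, if_pos e'] at h1
      exact absurd (hmix f hf f' hf' x hx h1) e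
    · rw [if_neg e, if_neg e'] at h1
      set k := f'⁻¹ * f with hk
      have hkF : k ∈ fit D.O := mul_mem (inv_mem hf') hf
      have h2 : k * x * k⁻¹ = x' := by
        rw [hk, show f'⁻¹ * f * x * (f'⁻¹ * f)⁻¹ = f'⁻¹ * (f * x * f⁻¹) * f' by group, h1]
        group
      have h3 : x' * x⁻¹ = 1 := by
        refine D.fit_inf_X hG hind ?_ (mul_mem hx' (inv_mem hx))
        rw [← h2, show k * x * k⁻¹ * x⁻¹ = k * (x * k⁻¹ * x⁻¹) by group]
        exact mul_mem hkF (hnF x hx.1 _ (inv_mem hkF))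
      have hxx : x' = x := mul_inv_eq_one.mp h3
      subst hxx
      have hkA := hg.cent_X hG hind hm hx e (mul_inv_eq_iff_eq_mul.mp h2)
      have hk1 : k = 1 := D.fit_inf_X hG hind hkF (D.A_odd hkA (D.odd_order (fit_le _ hkF)))
      rw [hk, inv_mul_eq_one] at hk1
      subst hk1
      rfl
  have hbij : Function.Bijective Φ := (Fintype.bijective_iff_injective_and_card _).mpr ⟨hinj, by
    rw [Fintype.card_prod, ← Nat.card_eq_fintype_card, ← Nat.card_eq_fintype_card,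
      ← Nat.card_eq_fintype_card, mul_comm, D.card_O hG hind]⟩
  rw [← Fintype.sum_bijective Φ hbij (fun z => θ (D.t * (Φ z : G))) _ (fun z => rfl),
    Fintype.sum_prod_type, ← Finset.card_univ.trans (Nat.card_eq_fintype_card (α := fit D.O)).symm,
    ← nsmul_eq_mul, ← Finset.sum_const]
  refine Finset.sum_congr rfl fun f _ => Finset.sum_congr rfl fun x _ => ?_
  show θ (D.t * (if (x : G) = 1 then (f : G) else f * x * (f : G)⁻¹)) = θ (D.t * x)
  split_ifs with e
  · rw [hF f f.2, e, mul_one]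
  · have hft : Commute (f : G) D.t := Subgroup.mem_centralizer_singleton_iff.mp (D.hOC (fit_le _ f.2))
    rw [← hθ (D.t * x) (f : G), ← mul_assoc (f : G) D.t, hft.eq]
    simp only [mul_assoc]

/-- For a Sylow four-group the complement is trivial. -/
theorem X_bot_two [IsSimpleGroup G] (hG : AC G) (hind : Ind G) (hm : D.m = 2) : D.X = ⊥ := by
  classical
  by_contra hX
  haveI := Fintype.ofFinite G
  haveI := Fact.mk Nat.prime_two
  haveI := Fintype.ofFinite D.O
  haveI := Fintype.ofFinite D.X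
  haveI := Fintype.ofFinite (fit D.O)
  haveI := Fintype.ofFinite D.A
  obtain ⟨g, hg⟩ := D.exists_rot
  obtain ⟨l, hl⟩ := D.exists_lam hG hind hm
  set f : D.A → ℂ := (fun b => (l b : ℂ)) - fun _ => 1 with hf
  set θ := indFun D.A f with hθ
  have hcl : IsClassFunction G θ := indFun_isClassFunction _ _
  obtain ⟨hnorm, hone⟩ := hg.theta_norm hl hG hind hm hX
  rw [← hf, ← hθ] at hnorm hone
  have hgen : IsGeneralizedCharacter G θ := isGenChar_indFun _
    ⟨_, _, isCharacter_of_irr (isIrrCharacter_linear l), isCharacter_one, rfl⟩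
  choose c hc using fun χ : IrrCharacter G => (isGenChar_iff_coeff_int.mp hgen).2 χ χ.2
  have hexp : ∀ k : G, θ k = ∑ χ : IrrCharacter G, (c χ : ℂ) * (χ : G → ℂ) k := by
    intro k
    conv_lhs => rw [eq_sum_irr hcl]
    simp [hc]
  have hsq : ∑ χ : IrrCharacter G, c χ * c χ = 4 := by
    have e : (4 : ℂ) = ∑ χ : IrrCharacter G, ((c χ : ℂ) * (c χ : ℂ)) := by
      rw [← hnorm]
      conv_lhs => rw [classInner_eq_sum_irr hcl]
      exact Finset.sum_congr rfl fun χ _ => by rw [hc, ← classInner_comm, hc, map_intCast]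
    exact_mod_cast e.symm
  have hc1 : c (oneIrr G) = -1 := by
    have := (hc (oneIrr G)).symm.trans hone
    exact_mod_cast this
  have hθA : ∀ (k : G) (hk : k ∈ D.A), θ k = ((l ⟨k, hk⟩ : ℂ) - 1) +
      ((l (hg.conjInvHom ⟨k, hk⟩) : ℂ) - 1) + ((l (hg.conjHom ⟨k, hk⟩) : ℂ) - 1) :=
    fun k hk => hg.theta_apply hl hG hind hm ⟨k, hk⟩
  have hθS : ∀ s ∈ (D.S : Subgroup G), θ s = 0 := by
    intro s hs
    have hsq := D.S_sq hm hs
    have h : ∀ b : D.A, (b : G) * b = 1 → (l b : ℂ) - 1 = 0 := fun b hb => by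
      rw [(hl b).mpr hb]; simp
    rw [hθA s (D.S_le_A hm hs), h _ hsq,
      h _ (D.S_sq hm (hg.conj_inv_S hm hs)), h _ (D.S_sq hm (hg.conj_S hm hs))]
    simp
  have hsupp : ∀ k : G, θ k ≠ 0 → ∃ y : G, y⁻¹ * k * y ∈ D.A ∧
      y⁻¹ * k * y * (y⁻¹ * k * y) ≠ 1 := by
    intro k hk
    by_contra h
    push Not at h
    refine hk ?_
    rw [hθ]
    simp only [indFun]
    rw [Finset.sum_eq_zero fun y _ => ?_, mul_zero]
    by_cases hy : y⁻¹ * k * y ∈ D.A
    · rw [extendByZero_of_mem _ _ hy, hf]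
      show (l ⟨_, hy⟩ : ℂ) - 1 = 0
      rw [(hl _).mpr (h y hy)]
      simp
    · exact extendByZero_of_not_mem _ _ hy
  -- no two involutions multiply into the support
  have hpair : ∀ k : G, θ k ≠ 0 → pairCount D.t D.t k = 0 := by
    intro k hk
    obtain ⟨y, hyA, hy1⟩ := hsupp k hk
    rw [pairCount, Nat.card_eq_zero]
    refine Or.inl ⟨fun ⟨a, ha, ha'⟩ => ?_⟩
    have hinv : ∀ b : G, IsConj D.t b → b * b = 1 := by
      intro b hb
      obtain ⟨q, rfl⟩ := isConj_iff.mp hb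
      rw [show q * D.t * q⁻¹ * (q * D.t * q⁻¹) = q * (D.t * D.t) * q⁻¹ by group, D.t_sq, mul_one,
        mul_inv_cancel]
    have h1 := hinv _ ha
    have h2 := hinv _ ha'
    have hai : a⁻¹ = a := inv_eq_of_mul_eq_one_right h1
    have h3 : a * k * a⁻¹ = k⁻¹ := by
      refine eq_inv_of_mul_eq_one_left ?_
      rw [hai] at h2 ⊢
      rwa [mul_assoc (a * k)]
    set b : G := y⁻¹ * k * y with hbd
    set i : G := y⁻¹ * a * y with hid
    have h4 : i * (b * b) * i⁻¹ = (b * b)⁻¹ := by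
      rw [hid, hbd, show y⁻¹ * a * y * (y⁻¹ * k * y * (y⁻¹ * k * y)) * (y⁻¹ * a * y)⁻¹ =
        y⁻¹ * ((a * k * a⁻¹) * (a * k * a⁻¹)) * y by group, h3]
      group
    obtain ⟨r, hr, hrd⟩ := Nat.exists_prime_and_dvd (n := orderOf (b * b))
      fun e => hy1 (orderOf_eq_one_iff.mp e)
    refine D.no_inverting hG hind hr (pow_mem (D.A_sq hm hyA).1 (orderOf (b * b) / r))
      (orderOf_pow_orderOf_div (orderOf_pos _).ne' hrd) (i := i) ?_ ?_
    · rw [hid, show y⁻¹ * a * y * (y⁻¹ * a * y) = y⁻¹ * (a * a) * y by group, h1, mul_one, inv_mul_cancel]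
    · rw [← conj_pow, h4, inv_pow]
  -- the section of `t`
  have hFt : ∀ v ∈ fit D.O, θ (D.t * v) = θ D.t := by
    intro v hv
    rw [hθS _ D.t_mem]
    by_contra hne
    obtain ⟨y, hyA, hy1⟩ := hsupp _ hne
    set b : G := y⁻¹ * (D.t * v) * y with hbd
    have hvt : Commute v D.t := Subgroup.mem_centralizer_singleton_iff.mp (D.hOC (fit_le _ hv))
    have h1 : orderOf (b * b) ∣ Nat.card (fit D.O) := by
      have e : b * b = y⁻¹ * (v * v) * y⁻¹⁻¹ := by
        rw [hbd, show y⁻¹ * (D.t * v) * y * (y⁻¹ * (D.t * v) * y) = y⁻¹ * (D.t * v * (D.t * v)) * y by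
          group, hvt.mul_mul_mul_comm D.t v, D.t_sq, one_mul, inv_inv]
      rw [e, CfsgLib.Involutions.orderOf_conj]
      exact Subgroup.orderOf_dvd_natCard _ (mul_mem hv hv)
    exact hy1 (orderOf_eq_one_iff.mp (Nat.eq_one_of_dvd_coprimes (D.coprime_fit_X hG hind hm) h1
      (Subgroup.orderOf_dvd_natCard _ (D.A_sq hm hyA).1)))
  have hsumX : ∀ m : D.X →* ℂˣ, m ≠ 1 → ∑ x : D.X, ((m x : ℂ) - 1) = -(Nat.card D.X : ℂ) := by
    intro m hm1
    have h := sum_hom_units_eq_zero (R := ℂ) ((Units.coeHom ℂ).comp m) fun e =>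
      hm1 (MonoidHom.ext fun x => Units.ext (DFunLike.congr_fun e x))
    rw [Finset.sum_sub_distrib, Finset.sum_const, Finset.card_univ, ← Nat.card_eq_fintype_card,
      nsmul_eq_mul, mul_one]
    rw [show ∑ x : D.X, (m x : ℂ) = 0 from h, zero_sub]
  let ι : D.X →* D.A := Subgroup.inclusion D.X_le_A
  have hlt : ∀ (c' : D.A →* D.A) (x : D.X), l (c' ⟨D.t, D.S_le_A hm D.t_mem⟩) = 1 →
      l (c' ⟨D.t * x, mul_mem (D.S_le_A hm D.t_mem) (D.X_le_A x.2)⟩) = (l.comp (c'.comp ι)) x := by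
    intro c' x h
    rw [show (⟨D.t * x, mul_mem (D.S_le_A hm D.t_mem) (D.X_le_A x.2)⟩ : D.A) =
      ⟨D.t, D.S_le_A hm D.t_mem⟩ * ι x from rfl, map_mul, map_mul, h, one_mul]
    rfl
  have hnt : ∀ c' : D.A →* D.A, l.comp c' ≠ 1 →
      (∀ s : D.A, (s : G) ∈ (D.S : Subgroup G) → l (c' s) = 1) → l.comp (c'.comp ι) ≠ 1 := by
    intro c' h1 h2 e
    refine h1 (MonoidHom.ext fun a => ?_)
    obtain ⟨x, hx, s, hs, hxs⟩ := D.mem_A hm a.2
    have : a = ι ⟨x, hx⟩ * ⟨s, D.S_le_A hm hs⟩ := Subtype.ext hxs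
    rw [this, MonoidHom.comp_apply, map_mul, map_mul, h2 ⟨s, D.S_le_A hm hs⟩ hs, mul_one]
    exact DFunLike.congr_fun e ⟨x, hx⟩
  have hS1 : ∀ s : D.A, (s : G) ∈ (D.S : Subgroup G) → l s = 1 ∧ l (hg.conjInvHom s) = 1 ∧
      l (hg.conjHom s) = 1 := fun s hs => ⟨(hl _).mpr (D.S_sq hm hs),
    (hl _).mpr (D.S_sq hm (hg.conj_inv_S hm hs)), (hl _).mpr (D.S_sq hm (hg.conj_S hm hs))⟩
  have hsumO : ∑ o : D.O, θ (D.t * o) = -3 * (Nat.card D.O : ℂ) := by
    rw [D.sum_core hG hind hm hg θ hcl hFt]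
    obtain ⟨n1, n2, n3, -, -⟩ := hg.lam_ne hl hG hind hm hX
    have htS := hS1 ⟨D.t, D.S_le_A hm D.t_mem⟩ D.t_mem
    rw [Finset.sum_congr rfl fun (x : D.X) _ => hθA (D.t * x) (mul_mem (D.S_le_A hm D.t_mem) (D.X_le_A x.2))]
    rw [Finset.sum_add_distrib, Finset.sum_add_distrib]
    rw [Finset.sum_congr (g := fun x => (((l.comp ((MonoidHom.id D.A).comp ι)) x : ℂ) - 1)) rfl
        fun x _ => by rw [← hlt (MonoidHom.id D.A) x htS.1]; rfl,
      hsumX _ (hnt _ n1 fun s hs => (hS1 s hs).1),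
      Finset.sum_congr (g := fun x => (((l.comp (hg.conjInvHom.comp ι)) x : ℂ) - 1)) rfl
        fun x _ => by rw [← hlt hg.conjInvHom x htS.2.1],
      hsumX _ (hnt _ n3 fun s hs => (hS1 s hs).2.1),
      Finset.sum_congr (g := fun x => (((l.comp (hg.conjHom.comp ι)) x : ℂ) - 1)) rfl
        fun x _ => by rw [← hlt hg.conjHom x htS.2.2],
      hsumX _ (hnt _ n2 fun s hs => (hS1 s hs).2.2), ← D.card_O hG hind]
    push_cast
    ring
  -- the principal block
  obtain ⟨M, hM⟩ := CfsgLib.Blocks.exists_isPModular Nat.prime_two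
  have hP : Nat.card D.S = 4 := by
    show Nat.card (D.S : Subgroup G) = 4
    rw [D.hcard, hm]
  have hexp2 : ∀ x : D.S, x * x = 1 := fun x => Subtype.ext (D.S_sq hm x.2)
  obtain ⟨a, hB4, ha1, hav, hrel⟩ := klein_principal hM D.S hP hexp2 D.hone
  have hval : ∀ χ ∈ principalBlock M G, ∀ k : G, 2 ∣ orderOf k → (χ : G → ℂ) k = (a χ : ℂ) :=
    fun χ hχ => (hav χ hχ).2.2.2
  haveI := Fintype.ofFinite D.C
  set N : Subgroup D.C := D.O.subgroupOf D.C with hN
  haveI : N.Normal := Subgroup.normal_subgroupOf_of_le_normalizer D.hOn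
  haveI := Fintype.ofFinite N
  have hNcard : Nat.card N = Nat.card D.O := Nat.card_congr (Subgroup.subgroupOfEquivOfLe D.hOC).toEquiv
  have hNodd : ¬ 2 ∣ Nat.card N := by
    rw [hNcard]; exact Nat.two_dvd_ne_zero.mpr (Nat.odd_iff.mp D.hOodd)
  have hNidx : N.index = 4 := by
    have h := N.card_mul_index
    rw [hNcard, D.card_C, D.hcard, hm] at h
    exact Nat.eq_of_mul_eq_mul_left Nat.card_pos h
  set B := bset (principalBlock M G) with hBdef
  have eT : ∑ χ ∈ B, (c χ : ℂ) * (a χ : ℂ) = -3 := by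
    have h := sum_section_classFn hM D.ht2 (isCentr_singleton D.t) hNodd hNidx a hval
      fun χ => (c χ : ℂ)
    have e : ∑ y : N, θ (D.t * ((y : D.C) : G)) = ∑ o : D.O, θ (D.t * o) :=
      Fintype.sum_equiv (Subgroup.subgroupOfEquivOfLe D.hOC).toEquiv _ _ fun y => rfl
    simp only [← hexp] at h
    rw [e, hsumO, hNcard] at h
    have hO0 : (Nat.card D.O : ℂ) ≠ 0 := Nat.cast_ne_zero.mpr Nat.card_pos.ne'
    refine mul_left_cancel₀ hO0 ?_
    rw [← h]; ring
  have eT' : ∑ χ ∈ B, c χ * a χ = -3 := by exact_mod_cast eT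
  have haB : ∀ χ ∈ B, a χ = 1 ∨ a χ = -1 := fun χ h => (hav χ (mem_bset.1 h)).1
  have haa : ∀ χ ∈ B, a χ * a χ = 1 := fun χ h => by rcases haB χ h with e | e <;> rw [e] <;> norm_num
  have hsplit := Finset.sum_add_sum_compl B fun χ => c χ * c χ
  rw [hsq] at hsplit
  have hd2 : ∑ χ ∈ B, (c χ * a χ + 1) * (c χ * a χ + 1) =
      ∑ χ ∈ B, c χ * c χ - 2 := by
    have e : ∀ χ ∈ B, (c χ * a χ + 1) * (c χ * a χ + 1) = c χ * c χ + 2 * (c χ * a χ) + 1 := by
      intro χ h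
      linear_combination (c χ * c χ) * haa χ h
    rw [Finset.sum_congr rfl e, Finset.sum_add_distrib, Finset.sum_add_distrib, ← Finset.mul_sum, eT',
      Finset.sum_const, hB4]
    ring
  have hd1 : ∑ χ ∈ B, (c χ * a χ + 1) = 1 := by
    rw [Finset.sum_add_distrib, eT', Finset.sum_const, hB4]; norm_num
  have hout0 : 0 ≤ ∑ χ ∈ Bᶜ, c χ * c χ := Finset.sum_nonneg fun i _ => mul_self_nonneg _
  obtain ⟨k, hkB, hk1, hk0⟩ := exists_single B _ hd1 (by rw [hd2]; omega)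
  have hck : c k = 0 := by
    rcases haB k hkB with e | e <;> rw [e] at hk1 <;> omega
  have hcB : ∀ χ ∈ B, χ ≠ k → c χ = -a χ := fun χ h hne => by
    have := hk0 χ h hne
    rcases haB χ h with e | e <;> rw [e] at this ⊢ <;> omega
  have hBsq : ∑ χ ∈ B, c χ * c χ = 3 := by
    have h := hd2
    rw [Finset.sum_eq_single_of_mem k hkB (fun χ h hne => by rw [hk0 χ h hne, mul_zero]), hk1] at h
    omega
  obtain ⟨φ, hφ, hφ0⟩ : ∃ φ ∈ Bᶜ, c φ ≠ 0 := by
    by_contra h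
    push Not at h
    rw [Finset.sum_eq_zero (s := Bᶜ) fun χ hχ => by rw [h χ hχ, mul_zero]] at hsplit
    omega
  have hφout : ∀ χ ∈ Bᶜ, χ ≠ φ → c χ = 0 := by
    intro χ hχ hne
    by_contra h0
    have h1 : ∑ i ∈ ({χ, φ} : Finset _), c i * c i ≤ ∑ i ∈ Bᶜ, c i * c i :=
      Finset.sum_le_sum_of_subset_of_nonneg
        (Finset.insert_subset hχ (Finset.singleton_subset_iff.mpr hφ)) fun i _ _ => mul_self_nonneg _
    rw [Finset.sum_pair hne] at h1
    have := mul_self_pos.mpr h0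
    have := mul_self_pos.mpr hφ0
    omega
  have hφsq : c φ * c φ = 1 := by
    have := Finset.sum_eq_single_of_mem (f := fun χ => c χ * c χ) φ hφ
      fun χ h hne => by rw [hφout χ h hne, mul_zero]
    omega
  have hall : ∀ F : IrrCharacter G → ℂ,
      ∑ χ, (c χ : ℂ) * F χ = -(∑ χ ∈ B, (a χ : ℂ) * F χ) + (a k : ℂ) * F k + (c φ : ℂ) * F φ := by
    intro F
    rw [← Finset.sum_add_sum_compl B, Finset.sum_eq_single_of_mem (s := Bᶜ) φ hφ
      (fun χ h hne => by rw [hφout χ h hne, Int.cast_zero, zero_mul]),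
      ← Finset.add_sum_erase B (fun χ => (c χ : ℂ) * F χ) hkB,
      ← Finset.add_sum_erase B (fun χ => (a χ : ℂ) * F χ) hkB, hck,
      Finset.sum_congr rfl fun χ h => by
        rw [hcB χ (Finset.mem_of_mem_erase h) (Finset.ne_of_mem_erase h), Int.cast_neg, neg_mul]]
    rw [Finset.sum_neg_distrib, Int.cast_zero]
    ring
  have hht : ∀ χ ∈ B, (χ : G → ℂ) D.t = (a χ : ℂ) := fun χ h =>
    hval χ (mem_bset.1 h) _ (by rw [D.ht2])
  have haac : ∀ χ ∈ B, (a χ : ℂ) * (a χ : ℂ) = 1 := fun χ h => by exact_mod_cast haa χ h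
  -- the three relations
  have r1 : (a k : ℂ) * (k : G → ℂ) 1 + (c φ : ℂ) * (φ : G → ℂ) 1 = 0 := by
    have h := hθS 1 (one_mem _)
    rw [hexp, hall fun χ => (χ : G → ℂ) 1, hrel 1 (by simp), neg_zero, zero_add] at h
    exact h
  have rt : (c φ : ℂ) * (φ : G → ℂ) D.t = 3 := by
    have h := hθS D.t D.t_mem
    rw [hexp, hall fun χ => (χ : G → ℂ) D.t, Finset.sum_congr rfl fun χ hχ => by
      rw [hht χ hχ, haac χ hχ], Finset.sum_const, hB4, hht k hkB, haac k hkB] at h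
    simp only [nsmul_eq_mul, mul_one, Nat.cast_ofNat] at h
    linear_combination h
  have rN := sum_coeff_eq_zero D.t θ hcl hpair
  rw [Finset.sum_congr rfl fun χ _ => by rw [hc], hall fun χ => (χ : G → ℂ) D.t ^ 2 / (χ : G → ℂ) 1] at rN
  obtain ⟨n, hn, hord⟩ := klein_order_formula hM D.S hP hexp2 D.hone D.t_mem D.ht2 a hval
  have hSum : ∑ χ ∈ B, (a χ : ℂ) * ((χ : G → ℂ) D.t ^ 2 / (χ : G → ℂ) 1) =
      ∑ χ ∈ B, (a χ : ℂ) ^ 3 / (χ : G → ℂ) 1 := Finset.sum_congr rfl fun χ hχ => by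
    rw [hht χ hχ]; ring
  rw [hSum, hht k hkB] at rN
  -- the order
  set Dg : ℤ := c φ * (charDegree (φ : G → ℂ) : ℤ) with hDg
  have hφ2 : (c φ : ℂ) * (c φ : ℂ) = 1 := by exact_mod_cast hφsq
  have hDgc : (Dg : ℂ) = (c φ : ℂ) * (φ : G → ℂ) 1 := by
    rw [hDg, Int.cast_mul, Int.cast_natCast, irr_charDegree_cast]
  have hxφ := irr_one_ne_zero φ
  have hxk := irr_one_ne_zero k
  have hS' : (Dg : ℂ) * ∑ χ ∈ B, (a χ : ℂ) ^ 3 / (χ : G → ℂ) 1 = 8 := by
    have hφt : (φ : G → ℂ) D.t = 3 * (c φ : ℂ) := by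
      linear_combination (c φ : ℂ) * rt - (φ : G → ℂ) D.t * hφ2
    rw [hφt] at rN
    have e : ∑ χ ∈ B, (a χ : ℂ) ^ 3 / (χ : G → ℂ) 1 =
        (a k : ℂ) * ((a k : ℂ) ^ 2 / (k : G → ℂ) 1) +
          (c φ : ℂ) * ((3 * (c φ : ℂ)) ^ 2 / (φ : G → ℂ) 1) := by
      linear_combination -rN
    have hak := haac k hkB
    have t1 : (Dg : ℂ) * ((a k : ℂ) * ((a k : ℂ) ^ 2 / (k : G → ℂ) 1)) = -1 := by
      rw [hDgc, show (c φ : ℂ) * (φ : G → ℂ) 1 = -((a k : ℂ) * (k : G → ℂ) 1) by linear_combination r1]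
      field_simp
      linear_combination -((a k : ℂ) * (a k : ℂ) + 1) * hak
    have t2 : (Dg : ℂ) * ((c φ : ℂ) * ((3 * (c φ : ℂ)) ^ 2 / (φ : G → ℂ) 1)) = 9 := by
      rw [hDgc]
      field_simp
      linear_combination 9 * ((c φ : ℂ) * (c φ : ℂ) + 1) * hφ2
    rw [e, mul_add, t1, t2]
    norm_num
  have hCen : Subgroup.centralizer ((D.S : Subgroup G) : Set G) = D.A := by
    refine le_antisymm (fun z hz => D.mem_A_iff.mpr ⟨(hz D.t D.t_mem).symm, (hz D.w D.hwS).symm⟩)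
      fun z hz s hs => (D.A_comm hG hind hm (D.S_le_A hm hs) hz).eq
  have hCc : Nat.card D.C = 4 * (Nat.card D.X * Nat.card (fit D.O)) := by
    rw [D.card_C, D.hcard, hm, D.card_O hG hind]; ring
  have hnF : n = Nat.card (fit D.O) := by
    rw [hCen, D.card_A hm] at hn
    have h := hn.trans hCc
    have hpos : 0 < Nat.card D.X * 4 := Nat.mul_pos Nat.card_pos (by norm_num)
    refine Nat.eq_of_mul_eq_mul_right hpos ?_
    rw [h]; ring
  have hidx : (D.C.index : ℤ) = (n : ℤ) ^ 2 * Dg := by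
    apply Int.cast_injective (α := ℂ)
    push_cast
    have hG0 : (Nat.card G : ℂ) = (Nat.card D.C : ℂ) * (D.C.index : ℂ) := by
      rw [← D.C.card_mul_index]; push_cast; ring
    have hC0 : (Nat.card D.C : ℂ) ≠ 0 := Nat.cast_ne_zero.mpr Nat.card_pos.ne'
    refine mul_left_cancel₀ (mul_ne_zero hC0 (by norm_num : (8 : ℂ) ≠ 0)) ?_
    linear_combination (Dg : ℂ) * hord + (-(Nat.card G : ℂ)) * hS' - (8 : ℂ) * hG0
  -- a contradiction at a prime of the Fitting subgroup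
  haveI := D.O_isZGroup hG
  haveI : Group.IsSolvable ↥D.O := inferInstance
  have hF1 : Nat.card (fit D.O) ≠ 1 := by
    intro h
    refine hX ((Subgroup.eq_bot_iff_forall _).mpr fun x hx => ?_)
    refine D.fit_inf_X hG hind (centralizer_fit_le D.O ⟨hx.1, fun v hv => ?_⟩) hx
    rw [Subgroup.eq_bot_of_card_eq _ h] at hv
    rw [Subgroup.mem_bot.mp hv, one_mul, mul_one]
  obtain ⟨r, hr, hrd⟩ := Nat.exists_prime_and_dvd hF1
  haveI := Fact.mk hr
  obtain ⟨y0, hy0⟩ := exists_prime_orderOf_dvd_card' (G := fit D.O) r hrd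
  set y : G := (y0 : G) with hyd
  have hyo : orderOf y = r := by rw [hyd, Subgroup.orderOf_coe, hy0]
  have hr2 := D.prime_ne_two (fit_le _ y0.2) hyo
  obtain ⟨P, hP'⟩ := (IsPGroup.of_card (n := 1) (show Nat.card (Subgroup.zpowers y) = r ^ 1 by
    rw [Nat.card_zpowers, hyo, pow_one])).exists_le_sylow
  haveI := hG.isCyclic_pGroup hr hr2 P.isPGroup'
  letI : IsMulCommutative ↥(P : Subgroup G) := inferInstance
  have hPC : (P : Subgroup G) ≤ D.C := fun p hp => D.fit_normalizer hG hind hr y0.2 hyo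
    (Subgroup.centralizer_le_normalizer _ fun v hv => (Subgroup.le_centralizer (P : Subgroup G) hp) v (hP' hv))
  refine P.not_dvd_index (Dvd.dvd.trans ?_ (Subgroup.index_dvd_of_le hPC))
  have : (r : ℤ) ∣ (D.C.index : ℤ) := by
    rw [hidx, hnF, pow_two]
    exact ((Int.natCast_dvd_natCast.mpr hrd).mul_right _).mul_right _
  exact_mod_cast this

/-- The complement of the Fitting subgroup of the core is trivial. -/
theorem X_bot [IsSimpleGroup G] (hG : AC G) (hind : Ind G) : D.X = ⊥ := by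
  obtain ⟨k, hk⟩ := D.hm2
  rcases k with _ | k
  · exact D.X_bot_two hG hind hk
  by_contra hX
  obtain ⟨x, hx, hx1⟩ := (Subgroup.bot_or_exists_ne_one D.X).resolve_left hX
  refine D.fixed_false hG ?_ D.hwS D.hwne (fun o ho hwo s hs => ?_)
    ⟨x, hx.1, hx1, (Subgroup.mem_centralizer_singleton_iff.mp hx.2).symm⟩
  · rw [hk, pow_succ, pow_succ]
    have : 0 < 2 ^ k := pow_pos two_pos k
    omega
  · have hσ := D.sigma_comm hG hind o ho
    obtain ⟨j, rfl | rfl⟩ := D.hScases s hs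
    · exact hσ.zpow_left j
    · exact (hσ.zpow_left j).mul_left hwo

end DDat

end CfsgLib.AlmostCyclic
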