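import Cfsg.Agent.Lib.AlmostCyclic.DXGroup
import Cfsg.Agent.Lib.CharTheory.TI

/-!
# Induced functions from the centraliser of the four-group
-/

set_option autoImplicit false
set_option linter.style.haveILetI false
set_option linter.unusedSectionVars false
set_option maxHeartbeats 400000

namespace CfsgLib.AlmostCyclic

open Cfsg CfsgLib.CharTheory
open scoped ComplexConjugate

universe u

/-- An integer family with sum one and sum of squares at most two has a single entry. -/
theorem exists_single {ι : Type*} [DecidableEq ι] (s : Finset ι) (d : ι → ℤ)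
    (h1 : ∑ i ∈ s, d i = 1) (h2 : ∑ i ∈ s, d i * d i ≤ 2) :
    ∃ k ∈ s, d k = 1 ∧ ∀ i ∈ s, i ≠ k → d i = 0 := by
  obtain ⟨k, hk, hk0⟩ : ∃ k ∈ s, d k ≠ 0 := by
    by_contra h
    push Not at h
    rw [Finset.sum_eq_zero h] at h1
    omega
  have hnn : ∀ i ∈ s.erase k, 0 ≤ d i * d i := fun i _ => mul_self_nonneg _
  rw [← Finset.add_sum_erase s (fun i => d i * d i) hk] at h2
  rw [← Finset.add_sum_erase s d hk] at h1
  have hk1 : 1 ≤ d k * d k := mul_self_pos.mpr hk0
  have heven : (2 : ℤ) ∣ ∑ i ∈ s.erase k, (d i * d i - d i) := Finset.dvd_sum fun i _ => by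
    rw [show d i * d i - d i = (d i - 1) * d i by ring]
    rcases Int.even_or_odd (d i) with ⟨m, hm⟩ | ⟨m, hm⟩
    · exact Dvd.dvd.mul_left ⟨m, by omega⟩ _
    · exact Dvd.dvd.mul_right ⟨m, by omega⟩ _
  rw [Finset.sum_sub_distrib] at heven
  have hks : d k = 1 ∨ d k = -1 := by
    have h0 := Finset.sum_nonneg hnn
    have : d k * d k ≤ 2 := by omega
    have h3 : -2 < d k ∧ d k < 2 := ⟨by nlinarith, by nlinarith⟩
    omega
  rcases hks with e | e
  · refine ⟨k, hk, e, fun i hi hik => ?_⟩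
    have hz : ∑ i ∈ s.erase k, d i * d i = 0 := by
      have h0 := Finset.sum_nonneg hnn
      rw [e] at h1 h2
      omega
    exact mul_self_eq_zero.mp
      ((Finset.sum_eq_zero_iff_of_nonneg hnn).mp hz i (Finset.mem_erase.mpr ⟨hik, hi⟩))
  · exfalso
    have h0 := Finset.sum_nonneg hnn
    rw [e] at h1 h2
    have hle : ∑ i ∈ s.erase k, d i ≤ ∑ i ∈ s.erase k, d i * d i :=
      Finset.sum_le_sum fun i _ => by rw [← pow_two]; exact Int.le_self_sq _
    omega

/-- The inner product of two linear characters less the trivial one. -/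
theorem inner_lin_sub {A : Type u} [Group A] [Fintype A] {L H : A →* ℂˣ} (hL : L ≠ 1) (hH : H ≠ 1)
    [Decidable (L = H)] :
    classInner ((fun a => (L a : ℂ)) - fun _ => 1) ((fun a => (H a : ℂ)) - fun _ => 1) =
      (if L = H then 1 else 0) + 1 := by
  have hne1 : ∀ M : A →* ℂˣ, M ≠ 1 → (fun a => (M a : ℂ)) ≠ fun _ => 1 := fun M hM e =>
    hM (MonoidHom.ext fun a => Units.ext (congrFun e a))
  rw [classInner_sub_left, classInner_sub_right, classInner_sub_right,
    classInner_irr_ne (isIrrCharacter_linear L) isIrrCharacter_one (hne1 L hL),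
    classInner_irr_ne isIrrCharacter_one (isIrrCharacter_linear H) (hne1 H hH).symm,
    classInner_irr_self isIrrCharacter_one]
  split_ifs with h
  · subst h
    rw [classInner_irr_self (isIrrCharacter_linear L)]
    ring
  · rw [classInner_irr_ne (isIrrCharacter_linear L) (isIrrCharacter_linear H)
      fun e => h (MonoidHom.ext fun a => Units.ext (congrFun e a))]
    ring

namespace DDat

variable {G : Type u} [Group G] [Finite G] (D : DDat G)

/-- A linear character of the centraliser of the four-group detecting the odd part. -/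
theorem exists_lam [IsSimpleGroup G] (hG : AC G) (hind : Ind G) (hm : D.m = 2) :
    ∃ l : D.A →* ℂˣ, ∀ a : D.A, l a = 1 ↔ (a : G) * a = 1 := by
  classical
  have hXodd : Odd (Nat.card D.X) := D.hOodd.of_dvd_nat (Subgroup.card_dvd_of_le inf_le_left)
  obtain ⟨k, hk⟩ := hXodd
  haveI : IsZGroup ↥D.X := hG.isZGroup ⟨k, hk⟩
  letI : CommGroup ↥D.X :=
    { (inferInstance : Group ↥D.X) with
      mul_comm := fun a b => Subtype.ext (D.X_comm hG hind a.2 b.2).eq }
  haveI : IsCyclic ↥D.X := inferInstance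
  have hmem : ∀ a : D.A, (a : G) ^ (2 * (k + 1)) ∈ D.X := fun a => by
    rw [pow_mul, pow_two]
    exact pow_mem (D.A_sq hm a.2).1 _
  let π : D.A →* D.X :=
    { toFun := fun a => ⟨(a : G) ^ (2 * (k + 1)), hmem a⟩
      map_one' := Subtype.ext (one_pow _)
      map_mul' := fun a b => Subtype.ext ((D.A_comm hG hind hm a.2 b.2).mul_pow _) }
  haveI : NeZero (Nat.card ↥D.X) := ⟨Nat.card_pos.ne'⟩
  have hcard : Nat.card ↥D.X = Nat.card (rootsOfUnity (Nat.card ↥D.X) ℂ) := by
    rw [Complex.card_rootsOfUnity]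
  let e := mulEquivOfCyclicCardEq hcard
  refine ⟨(rootsOfUnity (Nat.card ↥D.X) ℂ).subtype.comp (e.toMonoidHom.comp π), fun a => ?_⟩
  show ((e (π a) : rootsOfUnity _ ℂ) : ℂˣ) = 1 ↔ _
  rw [OneMemClass.coe_eq_one, EmbeddingLike.map_eq_one_iff]
  constructor
  · intro h
    have h' : (a : G) ^ (2 * (k + 1)) = 1 := congrArg Subtype.val h
    rw [pow_mul, pow_two] at h'
    refine orderOf_eq_one_iff.mp (Nat.eq_one_of_dvd_coprimes (a := k + 1) (b := Nat.card ↥D.X)
      ?_ (orderOf_dvd_of_pow_eq_one h') (Subgroup.orderOf_dvd_natCard _ (D.A_sq hm a.2).1))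
    rw [hk, show 2 * k + 1 = (k + 1) + k by ring, Nat.coprime_self_add_right]
    exact Nat.coprime_self_add_left.mpr (Nat.coprime_one_left k)
  · intro h
    refine Subtype.ext ?_
    show (a : G) ^ (2 * (k + 1)) = 1
    rw [pow_mul, pow_two, h, one_pow]

namespace Rot

variable {D} {g : G} (hg : D.Rot g)
include hg

/-- Conjugation by the rotating element. -/
def conjHom : D.A →* D.A where
  toFun a := ⟨g * a * g⁻¹, hg.conj_A a.2⟩
  map_one' := Subtype.ext (by simp)
  map_mul' a b := Subtype.ext (by simp [mul_assoc])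

/-- Conjugation by the inverse of the rotating element. -/
def conjInvHom : D.A →* D.A where
  toFun a := ⟨g⁻¹ * a * g, hg.conj_inv_A a.2⟩
  map_one' := Subtype.ext (by simp)
  map_mul' a b := Subtype.ext (by simp [mul_assoc])

@[simp] theorem coe_conjHom (a : D.A) : (hg.conjHom a : G) = g * a * g⁻¹ := rfl

@[simp] theorem coe_conjInvHom (a : D.A) : (hg.conjInvHom a : G) = g⁻¹ * a * g := rfl

variable [Fintype G] {l : D.A →* ℂˣ} (hl : ∀ a : D.A, l a = 1 ↔ (a : G) * a = 1)
include hl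

/-- The values of the induced function on the centraliser of the four-group. -/
theorem theta_apply [IsSimpleGroup G] (hG : AC G) (hind : Ind G) (hm : D.m = 2) (a : D.A) :
    indFun D.A ((fun b => (l b : ℂ)) - fun _ => 1) a =
      ((l a : ℂ) - 1) + ((l (hg.conjInvHom a) : ℂ) - 1) + ((l (hg.conjHom a) : ℂ) - 1) := by
  classical
  set f : D.A → ℂ := (fun b => (l b : ℂ)) - fun _ => 1 with hf
  have hf0 : ∀ b : D.A, (b : G) * b = 1 → (l b : ℂ) - 1 = 0 := fun b hb => by
    rw [(hl b).mpr hb]; simp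
  by_cases ha : (a : G) * a = 1
  · rw [hf0 a ha, hf0 _ (show g⁻¹ * a * g * (g⁻¹ * a * g) = 1 by
        rw [show g⁻¹ * (a : G) * g * (g⁻¹ * a * g) = g⁻¹ * ((a : G) * a) * g by group, ha, mul_one,
          inv_mul_cancel]),
      hf0 _ (show g * a * g⁻¹ * (g * a * g⁻¹) = 1 by
        rw [show g * (a : G) * g⁻¹ * (g * a * g⁻¹) = g * ((a : G) * a) * g⁻¹ by group, ha, mul_one,
          mul_inv_cancel])]
    simp only [indFun]
    rw [Finset.sum_eq_zero fun y _ => ?_]
    · simp
    · by_cases hy : y⁻¹ * a * y ∈ D.A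
      · rw [extendByZero_of_mem _ _ hy]
        exact hf0 _ (show y⁻¹ * a * y * (y⁻¹ * a * y) = 1 by
          rw [show y⁻¹ * (a : G) * y * (y⁻¹ * a * y) = y⁻¹ * ((a : G) * a) * y by group, ha, mul_one,
            inv_mul_cancel])
      · exact extendByZero_of_not_mem _ _ hy
  have hne1 : ∀ y : G, y ∈ D.A → g⁻¹ * y ∈ D.A → False := fun y h h' => by
    have hgA : g ∈ D.A := by
      have := mul_mem h (inv_mem h')
      rwa [show y * (g⁻¹ * y)⁻¹ = g by group] at this
    have h1 := hg.gt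
    rw [(D.mem_A_iff.mp hgA).1.eq, mul_inv_cancel_right] at h1
    exact D.refl_ne_t D.hwne h1
  have hne2 : ∀ y : G, y ∈ D.A → g * y ∈ D.A → False := fun y h h' => by
    refine hne1 1 (one_mem _) ?_
    rw [mul_one]
    have := inv_mem (mul_mem h' (inv_mem h))
    rwa [mul_inv_cancel_right] at this
  have hne3 : ∀ y : G, g⁻¹ * y ∈ D.A → g * y ∈ D.A → False := fun y h h' => by
    have hgA : g * g ∈ D.A := by
      have := mul_mem h' (inv_mem h)
      rwa [show g * y * (g⁻¹ * y)⁻¹ = g * g by group] at this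
    have h1 : g * g * D.t * (g * g)⁻¹ = D.t * D.w := by
      rw [show g * g * D.t * (g * g)⁻¹ = g * (g * D.t * g⁻¹) * g⁻¹ by group, hg.gt, hg.gw]
    rw [(D.mem_A_iff.mp hgA).1.eq, mul_inv_cancel_right] at h1
    exact (CfsgLib.Involutions.orderOf_eq_two_iff'.mp D.hw).2 (mul_eq_left.mp h1.symm)
  have hAc : ∀ {p q : G}, p ∈ D.A → q ∈ D.A → p⁻¹ * q * p = q := fun {p q} hp hq => by
    rw [mul_assoc, ← (D.A_comm hG hind hm hp hq).eq, inv_mul_cancel_left]
  have key : ∀ y : G, extendByZero D.A f (y⁻¹ * a * y) =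
      (if y ∈ D.A then (l a : ℂ) - 1 else 0) +
        (if g⁻¹ * y ∈ D.A then (l (hg.conjInvHom a) : ℂ) - 1 else 0) +
        (if g * y ∈ D.A then (l (hg.conjHom a) : ℂ) - 1 else 0) := by
    intro y
    by_cases h1 : y ∈ D.A
    · rw [if_pos h1, if_neg (hne1 y h1), if_neg (hne2 y h1), add_zero, add_zero]
      have e := hAc h1 a.2
      rw [e, extendByZero_of_mem _ _ a.2]
      rfl
    by_cases h2 : g⁻¹ * y ∈ D.A
    · rw [if_neg h1, if_pos h2, if_neg (hne3 y h2), add_zero, zero_add]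
      have e := hAc h2 (hg.conj_inv_A a.2)
      rw [show (g⁻¹ * y)⁻¹ * (g⁻¹ * (a : G) * g) * (g⁻¹ * y) = y⁻¹ * a * y by group] at e
      rw [e, extendByZero_of_mem _ _ (hg.conj_inv_A a.2)]
      rfl
    by_cases h3 : g * y ∈ D.A
    · rw [if_neg h1, if_neg h2, if_pos h3, zero_add, zero_add]
      have e := hAc h3 (hg.conj_A a.2)
      rw [show (g * y)⁻¹ * (g * (a : G) * g⁻¹) * (g * y) = y⁻¹ * a * y by group] at e
      rw [e, extendByZero_of_mem _ _ (hg.conj_A a.2)]
      rfl
    rw [if_neg h1, if_neg h2, if_neg h3, add_zero, add_zero]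
    refine extendByZero_of_not_mem _ _ fun hb => ?_
    set b : G := y⁻¹ * a * y with hbd
    have hS : ∀ s ∈ (D.S : Subgroup G), y * s * y⁻¹ ∈ (D.S : Subgroup G) := by
      intro s hs
      have hc : Commute (y * s * y⁻¹) ((a : G) * a) := by
        have := (Commute.conj_iff y).mpr (D.X_S_comm hm (D.A_sq hm hb).1 hs).symm
        rwa [hbd, show y * (y⁻¹ * (a : G) * y * (y⁻¹ * a * y)) * y⁻¹ = (a : G) * a by group] at this
      have hA := hg.cent_X hG hind hm (D.A_sq hm a.2).1 ha hc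
      exact (D.A_sq hm hA).2 (by
        rw [show y * s * y⁻¹ * (y * s * y⁻¹) = y * (s * s) * y⁻¹ by group, D.S_sq hm hs, mul_one,
          mul_inv_cancel])
    rcases hg.normalizer_cases hm (hS _ D.t_mem) (hS _ D.hwS) with h | h | h
    exacts [h1 h, h2 h, h3 h]
  have hsum : ∀ (c : G) (v : ℂ),
      ∑ y : G, (if c * y ∈ D.A then v else 0) = (Nat.card D.A : ℂ) * v := by
    intro c v
    rw [Fintype.sum_equiv (Equiv.mulLeft c) (fun y => if c * y ∈ D.A then v else 0)
        (fun y => if y ∈ D.A then v else 0) fun y => rfl,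
      ← Finset.sum_filter, Finset.sum_const, nsmul_eq_mul, ← Fintype.card_subtype,
      Nat.card_eq_fintype_card]
  have hA0 : (Nat.card D.A : ℂ) ≠ 0 := Nat.cast_ne_zero.mpr Nat.card_pos.ne'
  show (Nat.card D.A : ℂ)⁻¹ * ∑ y : G, extendByZero D.A f (y⁻¹ * a * y) = _
  rw [Finset.sum_congr rfl fun y _ => key y, Finset.sum_add_distrib, Finset.sum_add_distrib,
    hsum g, hsum g⁻¹]
  have h1 := hsum 1 ((l a : ℂ) - 1)
  simp only [one_mul] at h1
  rw [h1, ← mul_add, ← mul_add, inv_mul_cancel_left₀ hA0]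

/-- The rotated characters differ. -/
theorem lam_ne [IsSimpleGroup G] (hG : AC G) (hind : Ind G) (hm : D.m = 2) (hX : D.X ≠ ⊥) :
    l ≠ 1 ∧ l.comp hg.conjHom ≠ 1 ∧ l.comp hg.conjInvHom ≠ 1 ∧
      l ≠ l.comp hg.conjHom ∧ l ≠ l.comp hg.conjInvHom := by
  obtain ⟨r, hr, hrd⟩ := Nat.exists_prime_and_dvd (n := Nat.card D.X) fun e =>
    hX (Subgroup.eq_bot_of_card_eq _ e)
  haveI := Fact.mk hr
  obtain ⟨x0, hx0⟩ := exists_prime_orderOf_dvd_card' (G := D.X) r hrd
  set x : G := (x0 : G) with hxd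
  have hxo : orderOf x = r := by rw [hxd, Subgroup.orderOf_coe, hx0]
  have hsq : ∀ z ∈ D.X, z * z = 1 → z = 1 := fun z hz h => orderOf_eq_one_iff.mp
    (Nat.eq_one_of_dvd_coprimes (Nat.prime_two.coprime_iff_not_dvd.mpr (D.odd_order hz.1))
      (orderOf_dvd_of_pow_eq_one (by rw [pow_two, h])) dvd_rfl)
  set xA : D.A := ⟨x, D.X_le_A x0.2⟩
  have hx1 : x ≠ 1 := fun e => by rw [e, orderOf_one] at hxo; exact hr.one_lt.ne hxo
  have hone : ∀ c : D.A →* D.A, (c xA : G) ∈ D.X → (c xA : G) ≠ 1 → l.comp c ≠ 1 := by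
    intro c hcX hc1 e
    exact hc1 (hsq _ hcX ((hl _).mp (DFunLike.congr_fun e xA)))
  have hgx : g * x * g⁻¹ ∈ D.X := hg.conj_X x0.2
  have hgx' : g⁻¹ * x * g ∈ D.X := D.A_odd (hg.conj_inv_A xA.2) (by
    rw [show g⁻¹ * x * g = g⁻¹ * x * g⁻¹⁻¹ by group, CfsgLib.Involutions.orderOf_conj]
    exact D.odd_order x0.2.1)
  have hnc := hg.not_commute_prime hG hind hm hr x0.2 hxo
  have hne : ∀ c : D.A →* D.A, (c xA : G) ∈ D.X → (c xA : G) ≠ x → l ≠ l.comp c := by
    intro c hcX hc e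
    have h1 : l (c xA * xA⁻¹) = 1 := by
      rw [map_mul, map_inv]
      exact mul_inv_eq_one.mpr (DFunLike.congr_fun e xA).symm
    exact hc (mul_inv_eq_one.mp (hsq _ (mul_mem hcX (inv_mem x0.2)) ((hl _).mp h1)))
  refine ⟨?_, hone _ hgx ?_, hone _ hgx' ?_, hne _ hgx ?_, hne _ hgx' ?_⟩
  · intro e
    exact hx1 (hsq _ x0.2 ((hl xA).mp (DFunLike.congr_fun e xA)))
  · show g * x * g⁻¹ ≠ 1
    exact fun e => hx1 (conj_eq_one_iff.mp e)
  · show g⁻¹ * x * g ≠ 1
    intro e
    refine hx1 ((conj_eq_one_iff (b := x)).mp (show g⁻¹ * x * g⁻¹⁻¹ = 1 by rw [inv_inv]; exact e))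
  · show g * x * g⁻¹ ≠ x
    exact fun e => hnc (mul_inv_eq_iff_eq_mul.mp e)
  · show g⁻¹ * x * g ≠ x
    intro e
    refine hnc ?_
    show g * x = x * g
    conv_lhs => rw [← e]
    group

/-- The norm of the induced function. -/
theorem theta_norm [IsSimpleGroup G] (hG : AC G) (hind : Ind G) (hm : D.m = 2) (hX : D.X ≠ ⊥) :
    classInner (indFun D.A ((fun b => (l b : ℂ)) - fun _ => 1))
      (indFun D.A ((fun b => (l b : ℂ)) - fun _ => 1)) = 4 ∧
    classInner (indFun D.A ((fun b => (l b : ℂ)) - fun _ => 1)) (fun _ => 1) = -1 := by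
  classical
  haveI := Fintype.ofFinite D.A
  obtain ⟨h1, h2, h3, h4, h5⟩ := hg.lam_ne hl hG hind hm hX
  constructor
  · rw [frobenius_reciprocity _ _ (indFun_isClassFunction _ _)]
    have e : (fun a : D.A => indFun D.A ((fun b => (l b : ℂ)) - fun _ => 1) a) =
        ((fun b => (l b : ℂ)) - fun _ => 1) + ((fun b => ((l.comp hg.conjInvHom) b : ℂ)) - fun _ => 1) +
          ((fun b => ((l.comp hg.conjHom) b : ℂ)) - fun _ => 1) :=
      funext fun a => hg.theta_apply hl hG hind hm a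
    rw [e, classInner_add_right, classInner_add_right, inner_lin_sub h1 h1, inner_lin_sub h1 h3,
      inner_lin_sub h1 h2, if_pos rfl, if_neg h5, if_neg h4]
    norm_num
  · rw [frobenius_reciprocity _ _ (isClassFunction_irr isIrrCharacter_one), classInner_sub_left,
      classInner_irr_self isIrrCharacter_one,
      classInner_irr_ne (isIrrCharacter_linear l) isIrrCharacter_one
        fun e => h1 (MonoidHom.ext fun a => Units.ext (congrFun e a))]
    norm_num

end Rot

end DDat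

end CfsgLib.AlmostCyclic
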