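import Cfsg.Agent.Lib.AlmostCyclic.DHc

/-!
# The complement of the Fitting subgroup for a Sylow four-group
-/

set_option autoImplicit false
set_option linter.style.haveILetI false
set_option linter.unusedSectionVars false
set_option maxHeartbeats 400000

namespace CfsgLib.AlmostCyclic

open Cfsg

universe u

namespace DDat

variable {G : Type u} [Group G] [Finite G] (D : DDat G)

/-- The centraliser of the four-group of `w`. -/
abbrev A : Subgroup G := D.C ⊓ Subgroup.centralizer ({D.w} : Set G)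

theorem mem_A_iff {a : G} : a ∈ D.A ↔ Commute a D.t ∧ Commute a D.w :=
  and_congr Subgroup.mem_centralizer_singleton_iff Subgroup.mem_centralizer_singleton_iff

theorem S_elems (hm : D.m = 2) {s : G} (hs : s ∈ (D.S : Subgroup G)) :
    s = 1 ∨ s = D.t ∨ s = D.w ∨ s = D.t * D.w := by
  have hσ2 : ∀ i : ℤ, D.σ ^ i * D.σ ^ i = 1 := fun i => by
    rw [← zpow_add, ← orderOf_dvd_iff_zpow_eq_one, D.hσ, hm, ← two_mul]
    exact dvd_mul_right _ _
  obtain ⟨i, rfl | rfl⟩ := D.hScases s hs <;> rcases D.zpow_sq_cases (hσ2 i) with e | e <;> rw [e]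
  · exact Or.inl rfl
  · exact Or.inr (Or.inl rfl)
  · exact Or.inr (Or.inr (Or.inl (one_mul _)))
  · exact Or.inr (Or.inr (Or.inr rfl))

theorem S_le_A (hm : D.m = 2) : (D.S : Subgroup G) ≤ D.A := by
  intro s hs
  rw [mem_A_iff]
  rcases D.S_elems hm hs with rfl | rfl | rfl | rfl
  · exact ⟨Commute.one_left _, Commute.one_left _⟩
  · exact ⟨Commute.refl _, D.commute_t_w.symm⟩
  · exact ⟨D.commute_t_w, Commute.refl _⟩
  · exact ⟨(Commute.refl _).mul_left D.commute_t_w, D.commute_t_w.symm.mul_left (Commute.refl _)⟩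

theorem X_le_A : D.X ≤ D.A := fun _ ha => ⟨D.hOC ha.1, ha.2⟩

theorem mem_A (hm : D.m = 2) {a : G} (ha : a ∈ D.A) :
    ∃ x ∈ D.X, ∃ s ∈ (D.S : Subgroup G), a = x * s := by
  obtain ⟨o, ho, hox, h⟩ := D.cent_two D.hwS D.hwne ha.1 (D.mem_A_iff.mp ha).2
  have hoX : o ∈ D.X := ⟨ho, Subgroup.mem_centralizer_singleton_iff.mpr hox.eq⟩
  rcases h with h | h | h | h
  · exact ⟨o, hoX, 1, one_mem _, by rw [h, mul_one]⟩
  · exact ⟨o, hoX, D.t, D.t_mem, h⟩
  · exact ⟨o, hoX, D.w, D.hwS, h⟩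
  · exact ⟨o, hoX, D.t * D.w, mul_mem D.t_mem D.hwS, h⟩

theorem S_comm (hm : D.m = 2) {a b : G} (ha : a ∈ (D.S : Subgroup G))
    (hb : b ∈ (D.S : Subgroup G)) : Commute a b := by
  have h := D.mem_A_iff.mp (D.S_le_A hm ha)
  rcases D.S_elems hm hb with rfl | rfl | rfl | rfl
  exacts [Commute.one_right _, h.1, h.2, h.1.mul_right h.2]

theorem X_S_comm {x s : G} (hm : D.m = 2) (hx : x ∈ D.X) (hs : s ∈ (D.S : Subgroup G)) :
    Commute x s := by
  have h := D.mem_A_iff.mp (D.X_le_A hx)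
  rcases D.S_elems hm hs with rfl | rfl | rfl | rfl
  exacts [Commute.one_right _, h.1, h.2, h.1.mul_right h.2]

theorem S_sq (hm : D.m = 2) {s : G} (hs : s ∈ (D.S : Subgroup G)) : s * s = 1 := by
  rcases D.S_elems hm hs with rfl | rfl | rfl | rfl
  · exact one_mul 1
  · exact D.t_sq
  · exact D.w_sq
  · rw [D.commute_t_w.mul_mul_mul_comm D.t D.w, D.t_sq, D.w_sq, one_mul]

theorem A_comm [IsSimpleGroup G] (hG : AC G) (hind : Ind G) (hm : D.m = 2) {a b : G} (ha : a ∈ D.A)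
    (hb : b ∈ D.A) : Commute a b := by
  obtain ⟨x, hx, s, hs, rfl⟩ := D.mem_A hm ha
  obtain ⟨y, hy, r, hr, rfl⟩ := D.mem_A hm hb
  exact ((D.X_comm hG hind hx hy).mul_right (D.X_S_comm hm hx hr)).mul_left
    ((D.X_S_comm hm hy hs).symm.mul_right (D.S_comm hm hs hr))

theorem A_odd {a : G} (ha : a ∈ D.A) (ho : ¬ 2 ∣ orderOf a) : a ∈ D.X :=
  ⟨D.odd_mem ha.1 ho, ha.2⟩

theorem A_sq (hm : D.m = 2) {a : G} (ha : a ∈ D.A) :
    a * a ∈ D.X ∧ (a * a = 1 → a ∈ (D.S : Subgroup G)) := by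
  obtain ⟨x, hx, s, hs, rfl⟩ := D.mem_A hm ha
  have e : x * s * (x * s) = x * x := by
    rw [(D.X_S_comm hm hx hs).symm.mul_mul_mul_comm x s, D.S_sq hm hs, mul_one]
  rw [e]
  refine ⟨mul_mem hx hx, fun h => ?_⟩
  have hx1 : x = 1 := orderOf_eq_one_iff.mp (Nat.eq_one_of_dvd_coprimes
    (Nat.prime_two.coprime_iff_not_dvd.mpr (D.odd_order hx.1))
    (orderOf_dvd_of_pow_eq_one (by rw [pow_two, h])) dvd_rfl)
  rw [hx1, one_mul]; exact hs

theorem card_A (hm : D.m = 2) : Nat.card D.A = Nat.card D.X * 4 := by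
  have hS : Nat.card (D.S : Subgroup G) = 4 := by rw [D.hcard, hm]
  rw [← hS, ← Nat.card_prod]
  refine (Nat.card_congr (Equiv.ofBijective (fun z : D.X × (D.S : Subgroup G) =>
    (⟨(z.1 : G) * (z.2 : G), mul_mem (D.X_le_A z.1.2) (D.S_le_A hm z.2.2)⟩ : D.A)) ⟨?_, ?_⟩)).symm
  · rintro ⟨o, s⟩ ⟨o', s'⟩ h
    have h1 : (o : G) * s = o' * s' := congrArg Subtype.val h
    have h2 : (o' : G)⁻¹ * o = s' * (s : G)⁻¹ := by
      rw [eq_mul_inv_iff_mul_eq, mul_assoc, h1, inv_mul_cancel_left]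
    have h3 := D.O_inf_S (mul_mem (inv_mem o'.2.1) o.2.1) (h2 ▸ mul_mem s'.2 (inv_mem s.2))
    rw [h3, eq_comm, mul_inv_eq_one] at h2
    rw [inv_mul_eq_one] at h3
    exact Prod.ext (Subtype.ext h3.symm) (Subtype.ext h2.symm)
  · rintro ⟨a, ha⟩
    obtain ⟨x, hx, s, hs, rfl⟩ := D.mem_A hm ha
    exact ⟨⟨⟨x, hx⟩, ⟨s, hs⟩⟩, rfl⟩

/-- The element permuting the four-group of `w` cyclically. -/
structure Rot (g : G) : Prop where
  gt : g * D.t * g⁻¹ = D.w
  gw : g * D.w * g⁻¹ = D.t * D.w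
  gtw : g * (D.t * D.w) * g⁻¹ = D.t

theorem exists_rot : ∃ g : G, D.Rot g := by
  obtain ⟨g, -, h1, h2, h3⟩ := D.exists_rotate D.hwS D.hwne
  exact ⟨g, h1, h2, h3⟩

namespace Rot

variable {D} {g : G} (hg : D.Rot g)
include hg

theorem inv_gt : g⁻¹ * D.t * g = D.t * D.w := by
  calc g⁻¹ * D.t * g = g⁻¹ * (g * (D.t * D.w) * g⁻¹) * g := by rw [hg.gtw]
    _ = _ := by group

theorem inv_gw : g⁻¹ * D.w * g = D.t := by
  calc g⁻¹ * D.w * g = g⁻¹ * (g * D.t * g⁻¹) * g := by rw [hg.gt]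
    _ = _ := by group

theorem conj_A {a : G} (ha : a ∈ D.A) : g * a * g⁻¹ ∈ D.A := by
  obtain ⟨h1, h2⟩ := D.mem_A_iff.mp ha
  have e1 := (Commute.conj_iff g).mpr h1
  rw [hg.gt] at e1
  have e2 := (Commute.conj_iff g).mpr h2
  rw [hg.gw] at e2
  refine D.mem_A_iff.mpr ⟨?_, e1⟩
  have := e2.mul_right e1
  rwa [mul_assoc D.t D.w D.w, D.w_sq, mul_one] at this

theorem conj_inv_A {a : G} (ha : a ∈ D.A) : g⁻¹ * a * g ∈ D.A := by
  obtain ⟨h1, h2⟩ := D.mem_A_iff.mp ha
  have e1 := (Commute.conj_iff g⁻¹).mpr h1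
  rw [inv_inv, hg.inv_gt] at e1
  have e2 := (Commute.conj_iff g⁻¹).mpr h2
  rw [inv_inv, hg.inv_gw] at e2
  refine D.mem_A_iff.mpr ⟨e2, ?_⟩
  have := e2.mul_right e1
  rwa [← mul_assoc D.t D.t D.w, D.t_sq, one_mul] at this

theorem conj_X {x : G} (hx : x ∈ D.X) : g * x * g⁻¹ ∈ D.X :=
  D.A_odd (hg.conj_A (D.X_le_A hx)) (by
    rw [CfsgLib.Involutions.orderOf_conj]; exact D.odd_order hx.1)

theorem conj_S (hm : D.m = 2) {s : G} (hs : s ∈ (D.S : Subgroup G)) :
    g * s * g⁻¹ ∈ (D.S : Subgroup G) := by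
  rcases D.S_elems hm hs with rfl | rfl | rfl | rfl
  · rw [mul_one, mul_inv_cancel]; exact one_mem _
  · rw [hg.gt]; exact D.hwS
  · rw [hg.gw]; exact mul_mem D.t_mem D.hwS
  · rw [hg.gtw]; exact D.t_mem

theorem conj_inv_S (hm : D.m = 2) {s : G} (hs : s ∈ (D.S : Subgroup G)) :
    g⁻¹ * s * g ∈ (D.S : Subgroup G) := by
  rcases D.S_elems hm hs with rfl | rfl | rfl | rfl
  · rw [mul_one, inv_mul_cancel]; exact one_mem _
  · rw [hg.inv_gt]; exact mul_mem D.t_mem D.hwS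
  · rw [hg.inv_gw]; exact D.t_mem
  · rw [show g⁻¹ * (D.t * D.w) * g = g⁻¹ * D.t * g * (g⁻¹ * D.w * g) by group, hg.inv_gt, hg.inv_gw]
    exact mul_mem (mul_mem D.t_mem D.hwS) D.t_mem

/-- The normaliser of the four-group. -/
theorem normalizer_cases (hm : D.m = 2) {n : G} (hnt : n * D.t * n⁻¹ ∈ (D.S : Subgroup G))
    (hnw : n * D.w * n⁻¹ ∈ (D.S : Subgroup G)) : n ∈ D.A ∨ g⁻¹ * n ∈ D.A ∨ g * n ∈ D.A := by
  have key : ∀ a : G, a * D.t * a⁻¹ = D.t → a * D.w * a⁻¹ ∈ (D.S : Subgroup G) → a ∈ D.A := by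
    intro a hat haw
    have haC : a ∈ D.C := Subgroup.mem_centralizer_singleton_iff.mpr (mul_inv_eq_iff_eq_mul.mp hat)
    obtain ⟨o, ho, s, hs, rfl⟩ := D.hfac a haC
    have e : o * s * D.w * (o * s)⁻¹ = o * D.w * o⁻¹ := by
      rw [show o * s * D.w * (o * s)⁻¹ = o * (s * D.w * s⁻¹) * o⁻¹ by group,
        (D.S_comm hm hs D.hwS).eq, mul_inv_cancel_right]
    rw [e] at haw
    have h1 : o * (D.w * o⁻¹ * D.w⁻¹) = 1 := D.O_inf_S
      (mul_mem ho (D.S_normalizes D.hwS (inv_mem ho)))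
      (by rw [← mul_assoc, ← mul_assoc]; exact mul_mem haw (inv_mem D.hwS))
    have hc : Commute o D.w := by
      refine mul_inv_eq_iff_eq_mul.mp ?_
      rw [← mul_assoc, ← mul_assoc, mul_inv_eq_one] at h1
      exact h1
    exact mul_mem (D.X_le_A ⟨ho, Subgroup.mem_centralizer_singleton_iff.mpr hc.eq⟩) (D.S_le_A hm hs)
  rcases D.S_elems hm hnt with e | e | e | e
  · exact absurd (conj_eq_one_iff.mp e) D.t_ne
  · exact Or.inl (key n e hnw)
  · refine Or.inr (Or.inl (key _ ?_ ?_))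
    · rw [show g⁻¹ * n * D.t * (g⁻¹ * n)⁻¹ = g⁻¹ * (n * D.t * n⁻¹) * g by group, e, hg.inv_gw]
    · rw [show g⁻¹ * n * D.w * (g⁻¹ * n)⁻¹ = g⁻¹ * (n * D.w * n⁻¹) * g by group]
      exact hg.conj_inv_S hm hnw
  · refine Or.inr (Or.inr (key _ ?_ ?_))
    · rw [show g * n * D.t * (g * n)⁻¹ = g * (n * D.t * n⁻¹) * g⁻¹ by group, e, hg.gtw]
    · rw [show g * n * D.w * (g * n)⁻¹ = g * (n * D.w * n⁻¹) * g⁻¹ by group]
      exact hg.conj_S hm hnw

/-- The rotating element fixes no element of prime order of the complement. -/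
theorem not_commute_prime [IsSimpleGroup G] (hG : AC G) (hind : Ind G) (hm : D.m = 2) {x : G} {r : ℕ}
    (hr : r.Prime) (hxX : x ∈ D.X) (hx : orderOf x = r) : ¬ Commute g x := by
  intro hgx
  haveI := Fact.mk Nat.prime_two
  refine burnside_false hG hr (D.prime_ne_two hxX.1 hx) hx D.ht2 fun a ha => ?_
  set H := Subgroup.centralizer ({x} : Set G) with hH
  have hSH : (D.S : Subgroup G) ≤ H := fun s hs =>
    Subgroup.mem_centralizer_singleton_iff.mpr (D.X_S_comm hm hxX hs).eq.symm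
  have hsub : (D.S : Subgroup G) ≤ H.map (MulAut.conj a⁻¹).toMonoidHom := by
    intro s hs
    refine ⟨a * s * a⁻¹, Subgroup.mem_centralizer_singleton_iff.mpr
      (commute_conj ha (D.X_S_comm hm hxX hs).symm).eq, ?_⟩
    show a⁻¹ * (a * s * a⁻¹) * a⁻¹⁻¹ = s
    group
  have hle : (D.S : Subgroup G).map (MulAut.conj a).toMonoidHom ≤ H := by
    rintro _ ⟨s, hs, rfl⟩
    exact Subgroup.mem_centralizer_singleton_iff.mpr (commute_conj ha (D.X_S_comm hm hxX hs).symm).eq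
  let P : Sylow 2 G := a • D.S
  have hP : (P : Subgroup G) ≤ H := hle
  obtain ⟨h, hh⟩ := MulAction.exists_smul_eq H (P.subtype hP) (D.S.subtype hSH)
  have hmem : ∀ s ∈ (D.S : Subgroup G), ((h : G) * a) * s * ((h : G) * a)⁻¹ ∈ (D.S : Subgroup G) := by
    intro s hs
    have h1 : (⟨a * s * a⁻¹, hle ⟨s, hs, rfl⟩⟩ : H) ∈ (P.subtype hP : Subgroup H) := ⟨s, hs, rfl⟩
    have h2 : h * (⟨a * s * a⁻¹, hle ⟨s, hs, rfl⟩⟩ : H) * h⁻¹ ∈ (D.S.subtype hSH : Subgroup H) := by
      rw [← hh, Sylow.coe_subgroup_smul]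
      exact Subgroup.smul_mem_pointwise_smul _ (MulAut.conj h) _ h1
    rw [show (h : G) * a * s * ((h : G) * a)⁻¹ = (h : G) * (a * s * a⁻¹) * (h : G)⁻¹ by group]
    exact h2
  have hhx : Commute (h : G) x := Subgroup.mem_centralizer_singleton_iff.mp h.2
  have hAx : ∀ b ∈ D.A, Commute b x := fun b hb => D.A_comm hG hind hm hb (D.X_le_A hxX)
  have hn : Commute ((h : G) * a) x := by
    rcases hg.normalizer_cases hm (hmem _ D.t_mem) (hmem _ D.hwS) with e | e | e
    · exact hAx _ e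
    · simpa [← mul_assoc] using hgx.mul_left (hAx _ e)
    · simpa [← mul_assoc] using hgx.inv_left.mul_left (hAx _ e)
  simpa [← mul_assoc] using hhx.inv_left.mul_left hn

/-- The centraliser of a prime order element of the complement is the centraliser of the four-group. -/
theorem cent_prime [IsSimpleGroup G] (hG : AC G) (hind : Ind G) (hm : D.m = 2) {x : G} {r : ℕ}
    (hr : r.Prime) (hxX : x ∈ D.X) (hx : orderOf x = r) :
    ∀ h : G, Commute h x → h ∈ D.A := by
  classical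
  haveI := Fact.mk Nat.prime_two
  have hr2 := D.prime_ne_two hxX.1 hx
  have hng := hg.not_commute_prime hG hind hm hr hxX hx
  set H := Subgroup.centralizer ({x} : Set G) with hH
  set R := Subgroup.normalizer (Subgroup.zpowers x : Set G) with hR
  have hSH : (D.S : Subgroup G) ≤ H := fun s hs =>
    Subgroup.mem_centralizer_singleton_iff.mpr (D.X_S_comm hm hxX hs).eq.symm
  have hHR : H ≤ R := by
    intro a ha
    refine Subgroup.centralizer_le_normalizer _ ?_
    rintro _ ⟨i, rfl⟩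
    exact ((show Commute a x from Subgroup.mem_centralizer_singleton_iff.mp ha).zpow_right i).eq.symm
  have hgR : g ∈ R := by
    have hy := hg.conj_X hxX
    have e := hG.zpowers_eq hr hr2 (by rw [CfsgLib.Involutions.orderOf_conj, hx]) hx
      (D.X_comm hG hind hy hxX)
    refine Subgroup.mem_normalizer_iff.mpr fun v => ⟨?_, fun hv => ?_⟩
    · rintro ⟨i, rfl⟩
      rw [← e]
      exact ⟨i, conj_zpow⟩
    · rw [← e] at hv
      obtain ⟨i, hi⟩ := hv
      have hi' : (g * x * g⁻¹) ^ i = g * v * g⁻¹ := hi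
      rw [conj_zpow] at hi'
      exact ⟨i, mul_left_cancel (mul_right_cancel hi')⟩
  let P : Sylow 2 H := D.S.subtype hSH
  have hPC : Subgroup.normalizer ((P : Subgroup H) : Set H) ≤ Subgroup.centralizer ((P : Subgroup H) : Set H) := by
    intro n hn
    have hmem : ∀ s ∈ (D.S : Subgroup G), (n : G) * s * (n : G)⁻¹ ∈ (D.S : Subgroup G) := fun s hs =>
      (Subgroup.mem_normalizer_iff.mp hn ⟨s, hSH hs⟩).mp hs
    have hnx : Commute (n : G) x := Subgroup.mem_centralizer_singleton_iff.mp n.2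
    have hnA : (n : G) ∈ D.A := by
      have hAx : ∀ b ∈ D.A, Commute b x := fun b hb => D.A_comm hG hind hm hb (D.X_le_A hxX)
      rcases hg.normalizer_cases hm (hmem _ D.t_mem) (hmem _ D.hwS) with e | e | e
      · exact e
      · refine absurd ?_ hng
        simpa using hnx.mul_left (hAx _ e).inv_left
      · refine absurd ?_ hng
        simpa using (hAx _ e).mul_left hnx.inv_left
    intro s hs
    exact Subtype.ext (D.A_comm hG hind hm (D.S_le_A hm hs) hnA).eq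
  set f := MonoidHom.transferSylow P hPC with hf
  have hcomp := MonoidHom.ker_transferSylow_isComplement' P hPC
  have hKodd : Odd (Nat.card f.ker) := by
    rw [Nat.odd_iff, ← Nat.two_dvd_ne_zero, ← hcomp.index_eq_card]
    exact P.not_dvd_index
  set KG : Subgroup G := f.ker.map H.subtype with hKG
  have hKH : KG ≤ H := Subgroup.map_subtype_le _
  have hKGodd : Odd (Nat.card KG) := by
    rw [hKG, Subgroup.card_map_of_injective H.subtype_injective]; exact hKodd
  have hPcard : Nat.card (P : Subgroup H) = 4 := by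
    show Nat.card ((D.S : Subgroup G).subgroupOf H) = 4
    rw [Nat.card_congr (Subgroup.subgroupOfEquivOfLe hSH).toEquiv, D.hcard, hm]
  have hodd_mem : ∀ a ∈ H, ¬ 2 ∣ orderOf a → a ∈ KG := by
    intro a ha ho
    refine ⟨⟨a, ha⟩, MonoidHom.mem_ker.mpr (orderOf_eq_one_iff.mp (Nat.eq_one_of_dvd_coprimes
      ((Nat.prime_two.coprime_iff_not_dvd.mpr ho).pow_left 2) ?_ ?_)), rfl⟩
    · exact (orderOf_dvd_natCard _).trans (by rw [hPcard])
    · rw [← Subgroup.orderOf_mk a ha]; exact orderOf_map_dvd f _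
  have hRK : R ≤ Subgroup.normalizer (KG : Set G) := by
    have key : ∀ a ∈ R, ∀ v ∈ KG, a * v * a⁻¹ ∈ KG := by
      intro a ha v hv
      refine hodd_mem _ (Subgroup.mem_centralizer_singleton_iff.mpr
        (commute_conj ha (Subgroup.mem_centralizer_singleton_iff.mp (hKH hv))).eq) ?_
      rw [CfsgLib.Involutions.orderOf_conj]
      exact fun h => Nat.two_dvd_ne_zero.mpr (Nat.odd_iff.mp hKGodd)
        (h.trans (Subgroup.orderOf_dvd_natCard _ hv))
    intro a ha
    refine Subgroup.mem_normalizer_iff.mpr fun v => ⟨key a ha v, fun hv => ?_⟩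
    simpa [mul_assoc] using key a⁻¹ (inv_mem ha) _ hv
  haveI : IsZGroup ↥KG := hG.isZGroup hKGodd
  haveI : Group.IsSolvable ↥KG := inferInstance
  have hKA : KG ≤ D.A := by
    have hc : KG ≤ Subgroup.centralizer ((D.S : Subgroup G) : Set G) := by
      by_contra hne
      obtain ⟨r', y, hr', hy, hyF, hyS, hyN⟩ := exists_prime_sub KG (A := (D.S : Subgroup G))
        ((hSH.trans hHR).trans hRK) (by
          rw [D.hcard, hm]
          exact (Nat.coprime_two_left.mpr hKGodd).pow_left 2) hne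
      have hr'2 : r' ≠ 2 := by
        rintro rfl
        exact Nat.two_dvd_ne_zero.mpr (Nat.odd_iff.mp hKGodd)
          (hy ▸ Subgroup.orderOf_dvd_natCard _ (fit_le KG hyF))
      obtain ⟨h1, h2⟩ := three_fixed hr' hr'2 hy D.t_sq D.w_sq (hyN (hRK hgR))
        (hyN (hRK (hHR (hSH D.t_mem)))) hg.gt hg.gtw
      refine hyS fun s hs => ?_
      rcases D.S_elems hm hs with rfl | rfl | rfl | rfl
      · rw [one_mul, mul_one]
      · exact h1.eq
      · exact h2.eq
      · exact (h1.mul_left h2).eq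
    intro a ha
    exact D.mem_A_iff.mpr ⟨(hc ha D.t D.t_mem).symm, (hc ha D.w D.hwS).symm⟩
  intro h hh
  obtain ⟨⟨k, p⟩, hkp, -⟩ := hcomp.existsUnique ⟨h, Subgroup.mem_centralizer_singleton_iff.mpr hh.eq⟩
  have e : ((k : H) : G) * ((p : H) : G) = h := congrArg Subtype.val hkp
  rw [← e]
  exact mul_mem (hKA ⟨_, k.2, rfl⟩) (D.S_le_A hm p.2)

/-- The centraliser of a nontrivial element of the complement. -/
theorem cent_X [IsSimpleGroup G] (hG : AC G) (hind : Ind G) (hm : D.m = 2) {x : G}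
    (hxX : x ∈ D.X) (hx1 : x ≠ 1) {h : G} (hh : Commute h x) : h ∈ D.A := by
  obtain ⟨r, hr, hrd⟩ := Nat.exists_prime_and_dvd (n := orderOf x) fun e => hx1 (orderOf_eq_one_iff.mp e)
  refine hg.cent_prime hG hind hm hr (pow_mem hxX (orderOf x / r)) ?_ h (hh.pow_right _)
  rw [orderOf_pow_orderOf_div (orderOf_pos x).ne' hrd]

end Rot

/-- An involution of the centraliser of `t` fixing a prime order element of the Fitting subgroup of
the core is `t`. -/
theorem invol_fix_fit [IsSimpleGroup G] (hG : AC G) (hind : Ind G) (hm : D.m = 2) {y i : G} {r : ℕ}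
    (hr : r.Prime) (hyF : y ∈ fit D.O) (hy : orderOf y = r) (hiC : i ∈ D.C) (hi : orderOf i = 2)
    (hiy : Commute i y) : i = D.t := by
  obtain ⟨o, ho, s, hs, rfl⟩ := D.hfac i hiC
  by_cases hsσ : s ∈ Subgroup.zpowers D.σ
  · obtain ⟨a, ha⟩ := hsσ
    have ha' : D.σ ^ a = s := ha
    have hs2 := D.S_sq hm hs
    have h := D.zpow_sq_cases (a := a) (by rw [ha']; exact hs2)
    rw [ha'] at h
    have hii := CfsgLib.Involutions.mul_self_eq_one_of_orderOf hi
    rcases h with rfl | rfl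
    · rw [mul_one] at hi
      exact absurd (show 2 ∣ orderOf o by rw [hi]) (D.odd_order ho)
    · have hot : Commute o D.t := Subgroup.mem_centralizer_singleton_iff.mp (D.hOC ho)
      rw [hot.symm.mul_mul_mul_comm o D.t, D.t_sq, mul_one] at hii
      have ho1 : o = 1 := orderOf_eq_one_iff.mp (Nat.eq_one_of_dvd_coprimes
        (Nat.prime_two.coprime_iff_not_dvd.mpr (D.odd_order ho))
        (orderOf_dvd_of_pow_eq_one (by rw [pow_two, hii])) dvd_rfl)
      rw [ho1, one_mul]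
  · exfalso
    have h1 := D.refl_inverts hG hind hs hsσ y hyF
    have h2 : o * y⁻¹ * o⁻¹ = y := by
      rw [← h1, show o * (s * y * s⁻¹) * o⁻¹ = (o * s) * y * (o * s)⁻¹ by group, hiy.eq,
        mul_inv_cancel_right]
    have h3 : o * y * o⁻¹ = y⁻¹ := by
      rw [show o * y * o⁻¹ = (o * y⁻¹ * o⁻¹)⁻¹ by group, h2]
    have h4 : Commute (o ^ 2) y := mul_inv_eq_iff_eq_mul.mp (by
      rw [pow_two, show o * o * y * (o * o)⁻¹ = o * (o * y * o⁻¹) * o⁻¹ by group, h3, h2])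
    obtain ⟨n, hn⟩ := exists_pow_eq_self_of_coprime
      (Nat.prime_two.coprime_iff_not_dvd.2 (D.odd_order ho)) (x := o)
    have h5 := h4.pow_left n
    rw [hn] at h5
    rw [h5.eq, mul_inv_cancel_right] at h3
    have h6 : r ∣ 2 := hy ▸ orderOf_dvd_of_pow_eq_one (by rw [pow_two]; exact mul_eq_one_iff_eq_inv.mpr h3)
    exact D.prime_ne_two (fit_le _ hyF) hy ((Nat.prime_dvd_prime_iff_eq hr Nat.prime_two).mp h6)

/-- The orders of the Fitting subgroup and of the complement are coprime. -/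
theorem coprime_fit_X [IsSimpleGroup G] (hG : AC G) (hind : Ind G) (hm : D.m = 2) :
    (Nat.card (fit D.O)).Coprime (Nat.card D.X) := by
  by_contra hne
  obtain ⟨r, hr, h1, h2⟩ := Nat.Prime.not_coprime_iff_dvd.mp hne
  haveI := Fact.mk hr
  obtain ⟨y, hy⟩ := exists_prime_orderOf_dvd_card' (G := fit D.O) r h1
  obtain ⟨x, hx⟩ := exists_prime_orderOf_dvd_card' (G := D.X) r h2
  have hyo : orderOf (y : G) = r := by rw [Subgroup.orderOf_coe, hy]
  have hxo : orderOf (x : G) = r := by rw [Subgroup.orderOf_coe, hx]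
  obtain ⟨c, i, hci⟩ := exists_conj_zpowers hG hr (D.prime_ne_two (fit_le _ y.2) hyo) hyo hxo
  have key : ∀ s ∈ (D.S : Subgroup G), s ≠ 1 → c⁻¹ * s * c = D.t := by
    intro s hs hs1
    have hcom : Commute (c⁻¹ * s * c) (y : G) := by
      have h := (Commute.conj_iff c⁻¹).mpr ((D.X_S_comm hm x.2 hs).symm.zpow_right i)
      rwa [← hci, inv_inv, show c⁻¹ * (c * (y : G) * c⁻¹) * c = y by group] at h
    refine D.invol_fix_fit hG hind hm hr y.2 hyo (D.fit_normalizer hG hind hr y.2 hyo ?_) ?_ hcom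
    · refine Subgroup.centralizer_le_normalizer _ ?_
      rintro _ ⟨j, rfl⟩
      exact (hcom.zpow_right j).eq.symm
    · rw [show c⁻¹ * s * c = c⁻¹ * s * c⁻¹⁻¹ by group, CfsgLib.Involutions.orderOf_conj]
      exact CfsgLib.Involutions.orderOf_eq_two_iff'.mpr ⟨D.S_sq hm hs, hs1⟩
  have e := (key _ D.t_mem D.t_ne).trans
    (key _ D.hwS (CfsgLib.Involutions.orderOf_eq_two_iff'.mp D.hw).2).symm
  exact D.refl_ne_t D.hwne (mul_left_cancel (mul_right_cancel e))

end DDat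

end CfsgLib.AlmostCyclic
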