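import Cfsg.Agent.Lib.AlmostCyclic.Basic
import Cfsg.Agent.Lib.CentralizeOmega
import Cfsg.Agent.Lib.Involutions
import Cfsg.Agent.Lib.Blocks.Orth
import Mathlib.GroupTheory.Transfer

/-!
# Sylow subgroups of odd order centralising involutions
-/

set_option autoImplicit false
set_option linter.style.haveILetI false
set_option linter.unusedSectionVars false

namespace CfsgLib.AlmostCyclic

open Subgroup Cfsg

universe u

variable {G : Type u} [Group G] [Finite G]

/-- A two-group with a cyclic subgroup of index at most two has an involution fixed by its normaliser,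
or is a four-group. -/
theorem fixed_or_klein {Q : Subgroup G} (hQ : IsPGroup 2 Q) (hh : Half ↥Q) (hne : Q ≠ ⊥) :
    (∃ i ∈ Q, orderOf i = 2 ∧ ∀ n ∈ Subgroup.normalizer (Q : Set G), n * i * n⁻¹ = i) ∨
      IsKleinFour ↥Q := by
  haveI := Fact.mk Nat.prime_two
  haveI : Nontrivial ↥Q := (Subgroup.nontrivial_iff_ne_bot Q).mpr hne
  obtain ⟨g, hg⟩ := hh
  haveI : Nontrivial (Subgroup.center ↥Q) := hQ.center_nontrivial
  obtain ⟨z, hzc, hz⟩ : ∃ z : ↥Q, z ∈ Subgroup.center ↥Q ∧ orderOf z = 2 := by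
    obtain ⟨n, hn⟩ := (hQ.to_subgroup (Subgroup.center ↥Q)).exists_card_eq
    have hn0 : n ≠ 0 := fun e => by
      rw [e, pow_zero, Nat.card_eq_one_iff_unique] at hn
      exact not_subsingleton _ hn.1
    obtain ⟨z, hz⟩ := exists_prime_orderOf_dvd_card' 2
      (show 2 ∣ Nat.card (Subgroup.center ↥Q) from hn ▸ dvd_pow_self 2 hn0)
    exact ⟨z, z.2, by rw [Subgroup.orderOf_coe, hz]⟩
  have hQn : ∀ n ∈ Subgroup.normalizer (Q : Set G), ∀ a : ↥Q, n * (a : G) * n⁻¹ ∈ Q := fun n hn a =>
    (Subgroup.mem_normalizer_iff.mp hn a).mp a.2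
  by_cases huniq : ∀ y : ↥Q, y ∈ Subgroup.center ↥Q → orderOf y = 2 → y = z
  · left
    refine ⟨z, z.2, by rw [Subgroup.orderOf_coe, hz], fun n hn => ?_⟩
    have e := huniq ⟨n * (z : G) * n⁻¹, hQn n hn z⟩ ?_ ?_
    · exact congrArg Subtype.val e
    · rw [Subgroup.mem_center_iff]
      intro a
      apply Subtype.ext
      have h := congrArg Subtype.val (Subgroup.mem_center_iff.mp hzc
        ⟨n⁻¹ * (a : G) * n, by simpa using hQn n⁻¹ (inv_mem hn) a⟩)
      simp only [Subgroup.coe_mul] at h ⊢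
      calc (a : G) * (n * z * n⁻¹) = n * (n⁻¹ * a * n * z) * n⁻¹ := by group
        _ = n * (z * (n⁻¹ * a * n)) * n⁻¹ := by rw [h]
        _ = n * z * n⁻¹ * a := by group
    · rw [← Subgroup.orderOf_coe, show orderOf (n * (z : G) * n⁻¹) = orderOf (z : G) from
        orderOf_injective (MulAut.conj n).toMonoidHom (MulAut.conj n).injective (z : G),
        Subgroup.orderOf_coe, hz]
  push Not at huniq
  obtain ⟨y, hyc, hy, hyz⟩ := huniq
  -- some central involution lies outside the cyclic subgroup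
  have hone : ∀ a b : ↥Q, a ∈ Subgroup.zpowers g → b ∈ Subgroup.zpowers g → orderOf a = 2 →
      orderOf b = 2 → a = b := by
    intro a b ha hb ha2 hb2
    have e := CfsgLib.PowerGraph.subgroup_eq_of_card
      (A := Subgroup.zpowers (⟨a, ha⟩ : Subgroup.zpowers g))
      (B := Subgroup.zpowers (⟨b, hb⟩ : Subgroup.zpowers g))
      (by rw [Nat.card_zpowers, Nat.card_zpowers, Subgroup.orderOf_mk a ha, Subgroup.orderOf_mk b hb]
          exact ha2.trans hb2.symm)
    obtain ⟨i, hi⟩ := Subgroup.mem_zpowers_iff.mp (e ▸ Subgroup.mem_zpowers (⟨a, ha⟩ : Subgroup.zpowers g))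
    have hi' : b ^ i = a := congrArg Subtype.val hi
    rcases Int.even_or_odd i with ⟨k, hk⟩ | ⟨k, hk⟩
    · rw [hk, zpow_add, ← (Commute.refl b).mul_zpow, ← pow_two, ← hb2, pow_orderOf_eq_one, one_zpow] at hi'
      rw [← hi', orderOf_one] at ha2
      norm_num at ha2
    · rw [hk, zpow_add, two_mul, zpow_add, zpow_one, ← (Commute.refl b).mul_zpow, ← pow_two, ← hb2,
        pow_orderOf_eq_one, one_zpow, one_mul] at hi'
      exact hi'.symm
  obtain ⟨w, hwc, hw, hwg⟩ : ∃ w : ↥Q, w ∈ Subgroup.center ↥Q ∧ orderOf w = 2 ∧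
      w ∉ Subgroup.zpowers g := by
    by_contra hc
    push Not at hc
    exact hyz (hone y z (hc y hyc hy) (hc z hzc hz) hy hz)
  have hww : w * w = 1 := CfsgLib.Involutions.mul_self_eq_one_of_orderOf hw
  have hwcomm : ∀ a : ↥Q, a * w = w * a := fun a => Subgroup.mem_center_iff.mp hwc a
  have hidx : (Subgroup.zpowers g).index = 2 := by
    have h1 := (Subgroup.zpowers g).card_mul_index
    rw [Nat.card_zpowers] at h1
    have h3 : (Subgroup.zpowers g).index ≠ 1 := fun e => hwg (by
      rw [Subgroup.index_eq_one.mp e]; exact Subgroup.mem_top _)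
    have h4 : (Subgroup.zpowers g).index ≠ 0 := Subgroup.index_ne_zero_of_finite
    have h0 : 0 < orderOf g := orderOf_pos g
    by_contra hne2
    have := Nat.mul_le_mul_left (orderOf g) (show 3 ≤ (Subgroup.zpowers g).index by omega)
    omega
  have hcases : ∀ a : ↥Q, a ∈ Subgroup.zpowers g ∨ a * w ∈ Subgroup.zpowers g := fun a => by
    by_cases ha : a ∈ Subgroup.zpowers g
    · exact Or.inl ha
    · exact Or.inr ((Subgroup.mul_mem_iff_of_index_two hidx).mpr
        ⟨fun h => absurd h ha, fun h => absurd h hwg⟩)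
  have hsq : ∀ a : ↥Q, ∃ c ∈ Subgroup.zpowers g, a * a = c * c := by
    intro a
    rcases hcases a with h | h
    · exact ⟨a, h, rfl⟩
    · refine ⟨a * w, h, ?_⟩
      calc a * a = a * (a * (w * w)) := by rw [hww, mul_one]
        _ = a * (a * w * w) := by rw [mul_assoc a w w]
        _ = a * (w * a * w) := by rw [hwcomm a]
        _ = a * w * (a * w) := by simp [mul_assoc]
  obtain ⟨m, hm⟩ := IsPGroup.iff_orderOf.mp hQ g
  by_cases h4 : 2 ≤ m
  · left
    obtain ⟨k, rfl⟩ : ∃ k, m = k + 2 := ⟨m - 2, by omega⟩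
    set c := g ^ (2 ^ (k + 1)) with hc
    have hco : orderOf c = 2 := by
      rw [hc, orderOf_pow' _ (pow_ne_zero _ two_ne_zero), hm,
        Nat.gcd_eq_right (pow_dvd_pow 2 (by omega)), Nat.pow_div (by omega) two_pos,
        show k + 2 - (k + 1) = 1 by omega, pow_one]
    refine ⟨c, c.2, by rw [Subgroup.orderOf_coe, hco], fun n hn => ?_⟩
    set a : ↥Q := ⟨n * ((g ^ (2 ^ k) : ↥Q) : G) * n⁻¹, hQn n hn _⟩ with ha
    have h1 : (⟨n * (c : G) * n⁻¹, hQn n hn c⟩ : ↥Q) = a * a := by
      apply Subtype.ext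
      simp only [ha, hc, Subgroup.coe_mul, Subgroup.coe_pow, pow_succ, pow_mul, pow_two]
      group
    obtain ⟨b, hb, hb2⟩ := hsq a
    have h2 : orderOf (⟨n * (c : G) * n⁻¹, hQn n hn c⟩ : ↥Q) = 2 := by
      rw [← Subgroup.orderOf_coe, show orderOf (n * (c : G) * n⁻¹) = orderOf (c : G) from
        orderOf_injective (MulAut.conj n).toMonoidHom (MulAut.conj n).injective (c : G),
        Subgroup.orderOf_coe, hco]
    exact congrArg Subtype.val (hone _ c (by rw [h1, hb2]; exact mul_mem hb hb)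
      (pow_mem (Subgroup.mem_zpowers g) _) h2 hco)
  · right
    have hgg : g * g = 1 := by
      rw [← pow_two, ← orderOf_dvd_iff_pow_eq_one, hm]
      interval_cases m <;> norm_num
    have hex : ∀ a : ↥Q, a * a = 1 := by
      intro a
      obtain ⟨c, ⟨i, rfl⟩, h⟩ := hsq a
      rw [h]
      show g ^ i * g ^ i = 1
      rw [← (Commute.refl g).mul_zpow, hgg, one_zpow]
    have hcard : Nat.card ↥Q = 4 := by
      have h1 := (Subgroup.zpowers g).card_mul_index
      rw [Nat.card_zpowers, hidx, hm] at h1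
      have hm1 : m = 1 := by
        rcases Nat.eq_zero_or_pos m with rfl | hpos
        · exfalso
          have hy' : y = 1 * 1 ∨ y = w := by
            rcases hcases y with h | h <;> rw [show g = 1 from orderOf_eq_one_iff.mp (by rw [hm]; rfl),
              Subgroup.zpowers_one_eq_bot, Subgroup.mem_bot] at h
            · exact Or.inl (by rw [h, mul_one])
            · exact Or.inr (by rw [mul_eq_one_iff_eq_inv.mp h, inv_eq_of_mul_eq_one_right hww])
          have hz' : z = 1 * 1 ∨ z = w := by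
            rcases hcases z with h | h <;> rw [show g = 1 from orderOf_eq_one_iff.mp (by rw [hm]; rfl),
              Subgroup.zpowers_one_eq_bot, Subgroup.mem_bot] at h
            · exact Or.inl (by rw [h, mul_one])
            · exact Or.inr (by rw [mul_eq_one_iff_eq_inv.mp h, inv_eq_of_mul_eq_one_right hww])
          rcases hy' with e | e
          · rw [e, mul_one, orderOf_one] at hy; norm_num at hy
          rcases hz' with e' | e'
          · rw [e', mul_one, orderOf_one] at hz; norm_num at hz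
          exact hyz (e.trans e'.symm)
        · omega
      rw [hm1] at h1
      omega
    refine ⟨hcard, Nat.dvd_antisymm
      (Monoid.exponent_dvd_of_forall_pow_eq_one fun a => by rw [pow_two]; exact hex a) ?_⟩
    rw [← hy]
    exact Monoid.order_dvd_exponent y

/-- In a group with cyclic Sylow `r`-subgroup the centraliser of an element of order `r` has an
invariant Sylow two-subgroup, so the Sylow `r`-subgroup centralises an involution of it, except in
one situation for `r = 3`. -/
theorem exists_fixed_involution (hG : AC G) {r : ℕ} [Fact r.Prime] (hr : r ≠ 2) {x : G}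
    (hx : orderOf x = r) (P : Sylow r G) (hxP : x ∈ (P : Subgroup G)) {t : G} (ht : orderOf t = 2)
    (htx : Commute t x) :
    (∃ i, orderOf i = 2 ∧ (P : Subgroup G) ≤ Subgroup.centralizer ({i} : Set G)) ∨
      (r = 3 ∧ (∃ i, orderOf i = 2 ∧ ∀ y ∈ (P : Subgroup G), y ^ 3 * i = i * y ^ 3) ∧
        (∀ Q : Subgroup G, IsPGroup 2 Q → Q ≤ Subgroup.centralizer ({x} : Set G) → Nat.card Q ∣ 4) ∧
        ∃ V : Subgroup G, IsKleinFour ↥V ∧ t ∈ V ∧ V ≤ Subgroup.centralizer ({x} : Set G)) := by
  haveI hrp := (Fact.out : r.Prime)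
  haveI := Fact.mk Nat.prime_two
  haveI hPc := hG.odd r hrp hr P
  set H := Subgroup.centralizer ({x} : Set G) with hH
  have hPH : (P : Subgroup G) ≤ H := fun y hy => Subgroup.mem_centralizer_singleton_iff.mpr (by
    letI := hPc.commGroup
    exact congrArg Subtype.val (mul_comm (⟨y, hy⟩ : ↥(P : Subgroup G)) ⟨x, hxP⟩))
  set P' : Sylow r H := P.subtype hPH with hP'
  have hP'c : (P' : Subgroup H) = (P : Subgroup G).subgroupOf H := Sylow.coe_subtype ..
  haveI : IsCyclic ↥(P' : Subgroup H) := (hG.subgroup H).odd r hrp hr P'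
  have hxH : x ∈ H := hPH hxP
  have hNC : Subgroup.normalizer ((P' : Subgroup H) : Set H) ≤
      Subgroup.centralizer ((P' : Subgroup H) : Set H) := by
    intro g hg
    obtain ⟨a, b, hab, hac, ⟨k, hk⟩, hb, hag, hbg⟩ := CfsgLib.Blocks.exists_pPart hrp g
    have hfix : ∀ c : H, c ∈ Subgroup.normalizer ((P' : Subgroup H) : Set H) →
        (orderOf c).Coprime r → c ∈ Subgroup.centralizer ((P' : Subgroup H) : Set H) := by
      intro c hc hcop y hy
      have h := CfsgLib.centralizes_of_fixes_order_p hr c hcop (P' : Subgroup H) P'.2 hc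
        (fun z hz hz1 => ?_) y hy
      · exact (mul_inv_eq_iff_eq_mul.mp h).symm
      · have hzx : z ∈ Subgroup.zpowers (⟨x, hxH⟩ : H) := by
          by_cases hz0 : z = 1
          · rw [hz0]; exact one_mem _
          have e := CfsgLib.PowerGraph.subgroup_eq_of_card
            (A := Subgroup.zpowers (⟨z, hz⟩ : ↥(P' : Subgroup H)))
            (B := Subgroup.zpowers (⟨⟨x, hxH⟩, by rw [hP'c]; exact hxP⟩ : ↥(P' : Subgroup H)))
            (by rw [Nat.card_zpowers, Nat.card_zpowers, Subgroup.orderOf_mk z hz,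
                  orderOf_eq_prime hz1 hz0, ← Subgroup.orderOf_coe, Subgroup.orderOf_mk x hxH]
                exact hx.symm)
          obtain ⟨i, hi⟩ := Subgroup.mem_zpowers_iff.mp (e ▸ Subgroup.mem_zpowers (⟨z, hz⟩ : ↥(P' : Subgroup H)))
          exact ⟨i, congrArg Subtype.val hi⟩
        obtain ⟨i, rfl⟩ := hzx
        have hcx : c * (⟨x, hxH⟩ : H) = (⟨x, hxH⟩ : H) * c :=
          Subtype.ext (Subgroup.mem_centralizer_singleton_iff.mp c.2)
        show c * (⟨x, hxH⟩ : H) ^ i * c⁻¹ = _
        rw [((show Commute c (⟨x, hxH⟩ : H) from hcx).zpow_right i).eq, mul_inv_cancel_right]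
    have hbC := hfix b (by
      obtain ⟨i, rfl⟩ := hbg; exact zpow_mem hg i) (hrp.coprime_iff_not_dvd.mpr hb).symm
    have haN : a ∈ Subgroup.normalizer ((P' : Subgroup H) : Set H) := by
      obtain ⟨i, rfl⟩ := hag; exact zpow_mem hg i
    have haP : a ∈ (P' : Subgroup H) := by
      have hle : Subgroup.zpowers a ≤ Subgroup.normalizer ((P' : Subgroup H) : Set H) :=
        Subgroup.zpowers_le.mpr haN
      have hpg : IsPGroup r ↥(Subgroup.zpowers a ⊔ (P' : Subgroup H)) :=
        IsPGroup.to_sup_of_normal_right' (IsPGroup.of_card (n := k) (by rw [Nat.card_zpowers, hk]))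
          P'.2 hle
      rw [← P'.3 hpg le_sup_right]
      exact Subgroup.mem_sup_left (Subgroup.mem_zpowers a)
    rw [← hab]
    refine mul_mem (fun y hy => ?_) hbC
    letI := IsCyclic.commGroup (α := ↥(P' : Subgroup H))
    exact congrArg Subtype.val (mul_comm (⟨y, hy⟩ : ↥(P' : Subgroup H)) ⟨a, haP⟩)
  set M : Subgroup H := (MonoidHom.transferSylow P' hNC).ker with hM
  have hcompl := MonoidHom.ker_transferSylow_isComplement' P' hNC
  rw [← hM] at hcompl
  have hMnd : ¬ r ∣ Nat.card M := MonoidHom.not_dvd_card_ker_transferSylow P' hNC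
  have hcop : (Nat.card (P' : Subgroup H)).Coprime (Nat.card M) := by
    obtain ⟨n, hn⟩ := P'.2.exists_card_eq
    rw [hn]
    exact (hrp.coprime_iff_not_dvd.mpr hMnd).pow_left n
  have hPM : (P' : Subgroup H) ≤ Subgroup.normalizer (M : Set H) := by
    rw [(Subgroup.normalizer_eq_top_iff).mpr (MonoidHom.normal_ker _)]; exact le_top
  haveI := IsPGroup.isNilpotent P'.2
  haveI : Group.IsSolvable ↥(P' : Subgroup H) := inferInstance
  obtain ⟨T, hT⟩ := CfsgLib.coprime_exists_invariant_sylow hPM hcop (Or.inl inferInstance) 2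
  set T' : Subgroup G := ((T : Subgroup M).map M.subtype).map H.subtype with hT'
  have hMidx : ¬ 2 ∣ M.index := by
    rw [hcompl.symm.index_eq_card]
    obtain ⟨n, hn⟩ := P'.2.exists_card_eq
    rw [hn]
    intro h
    exact hr ((Nat.prime_dvd_prime_iff_eq Nat.prime_two hrp).mp (Nat.prime_two.dvd_of_dvd_pow h)).symm
  -- every two-subgroup of the centraliser is conjugate into `T'`
  have hconj : ∀ Q : Subgroup G, IsPGroup 2 Q → Q ≤ H →
      ∃ h ∈ H, ∀ q ∈ Q, h * q * h⁻¹ ∈ T' := by
    intro Q hQ hQH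
    have hT2 : IsPGroup 2 ↥((T : Subgroup M).map M.subtype) := T.2.map _
    obtain ⟨T2, hT2le⟩ := hT2.exists_le_sylow
    obtain ⟨Q2, hQ2⟩ := (hQ.comap_of_injective H.subtype H.subtype_injective).exists_le_sylow
    obtain ⟨h, hh⟩ := MulAction.exists_smul_eq H Q2 T2
    have hT2M : (T2 : Subgroup H) ≤ M := by
      intro y hy
      by_contra hyM
      haveI := MonoidHom.normal_ker (MonoidHom.transferSylow P' hNC)
      obtain ⟨n, hn⟩ := T2.2.exists_card_eq
      have h1 : orderOf (QuotientGroup.mk' M y) ∣ 2 ^ n :=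
        (orderOf_map_dvd _ y).trans (hn ▸ Subgroup.orderOf_dvd_natCard _ hy)
      have h2 : orderOf (QuotientGroup.mk' M y) ∣ M.index := orderOf_dvd_natCard _
      have : orderOf (QuotientGroup.mk' M y) = 1 := Nat.dvd_one.mp
        ((Nat.Coprime.pow_left n ((Nat.prime_two.coprime_iff_not_dvd).mpr hMidx)) ▸ Nat.dvd_gcd h1 h2)
      exact hyM ((QuotientGroup.eq_one_iff y).mp (orderOf_eq_one_iff.mp this))
    have hTeq : (T2 : Subgroup H).subgroupOf M = (T : Subgroup M) :=
      T.3 (T2.2.comap_of_injective M.subtype M.subtype_injective) fun y hy =>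
        hT2le (Subgroup.mem_map_of_mem M.subtype hy)
    refine ⟨h, h.2, fun q hq => ?_⟩
    have hq2 : h * ⟨q, hQH hq⟩ * h⁻¹ ∈ (T2 : Subgroup H) := by
      rw [← hh, Sylow.coe_subgroup_smul, Subgroup.mem_pointwise_smul_iff_inv_smul_mem]
      simpa [mul_assoc] using hQ2 (show (⟨q, hQH hq⟩ : H) ∈ Q.comap H.subtype from hq)
    refine ⟨h * ⟨q, hQH hq⟩ * h⁻¹, ⟨⟨_, hT2M hq2⟩, ?_, rfl⟩, rfl⟩
    rw [← hTeq]
    exact hq2
  have hT'2 : IsPGroup 2 ↥T' := (T.2.map _).map _
  have hT'H : T' ≤ H := Subgroup.map_subtype_le _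
  obtain ⟨h0, hh0, hh0t⟩ := hconj (Subgroup.zpowers t)
    (IsPGroup.of_card (n := 1) (by rw [Nat.card_zpowers, ht, pow_one]))
    (Subgroup.zpowers_le.mpr (Subgroup.mem_centralizer_singleton_iff.mpr htx.eq))
  have ht' : h0 * t * h0⁻¹ ∈ T' := hh0t t (Subgroup.mem_zpowers t)
  have hT'ne : T' ≠ ⊥ := fun e => by
    rw [e, Subgroup.mem_bot, conj_eq_one_iff] at ht'
    rw [ht', orderOf_one] at ht
    norm_num at ht
  have hPT' : ∀ y ∈ (P : Subgroup G), y ∈ Subgroup.normalizer (T' : Set G) := by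
    intro y hy
    exact Subgroup.le_normalizer_map H.subtype ⟨⟨y, hPH hy⟩, hT (by rw [hP'c]; exact hy), rfl⟩
  rcases fixed_or_klein hT'2 (hG.half_twoGroup hT'2) hT'ne with ⟨i, -, hi, hfix⟩ | hK
  · exact Or.inl ⟨i, hi, fun y hy => Subgroup.mem_centralizer_singleton_iff.mpr
      (mul_inv_eq_iff_eq_mul.mp (hfix y (hPT' y hy)))⟩
  · obtain ⟨i, hiT, hi⟩ : ∃ i ∈ T', orderOf i = 2 :=
      ⟨h0 * t * h0⁻¹, ht', by
        rw [show orderOf (h0 * t * h0⁻¹) = orderOf t from
          orderOf_injective (MulAut.conj h0).toMonoidHom (MulAut.conj h0).injective t, ht]⟩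
    -- the action on the three involutions
    classical
    let β := {v : ↥T' // v ≠ 1}
    haveI : Fintype β := Fintype.ofFinite β
    let act : Subgroup.normalizer (T' : Set G) →* Equiv.Perm β :=
      { toFun := fun n => (T'.normalizerMonoidHom n).toEquiv.subtypeEquiv fun v => by simp
        map_one' := by
          ext v
          simp [Equiv.subtypeEquiv]
        map_mul' := fun a b => by
          ext v
          simp [Equiv.subtypeEquiv, map_mul] }
    have hβ : Fintype.card β = 3 := by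
      rw [← Nat.card_eq_fintype_card]
      have h4 : Nat.card ↥T' = 4 := hK.card_four
      have := Nat.card_congr (Equiv.sumCompl (fun v : ↥T' => v = 1))
      rw [Nat.card_sum, Nat.card_unique, h4] at this
      show Nat.card {v : ↥T' // ¬ v = 1} = 3
      omega
    have key : ∀ y, ∀ hy : y ∈ (P : Subgroup G), ∀ e : ℕ,
        (∀ d, d ∣ 6 → (∃ k : ℕ, d ∣ r ^ k) → d ∣ e) → y ^ e * i = i * y ^ e := by
      intro y hy e he
      set n : Subgroup.normalizer (T' : Set G) := ⟨y, hPT' y hy⟩
      have h6 : orderOf (act n) ∣ 6 := by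
        have := orderOf_dvd_card (x := act n)
        rwa [Fintype.card_perm, hβ] at this
      obtain ⟨k, hk⟩ := IsPGroup.iff_orderOf.mp P.2 ⟨y, hy⟩
      have hr' : orderOf (act n) ∣ r ^ k := by
        refine (orderOf_map_dvd act n).trans ?_
        rw [← hk, ← Subgroup.orderOf_coe, ← Subgroup.orderOf_coe]
      have h1 : act (n ^ e) = 1 := by
        rw [map_pow, ← orderOf_dvd_iff_pow_eq_one]
        exact he _ h6 ⟨k, hr'⟩
      have hiv : (⟨i, hiT⟩ : ↥T') ≠ 1 := fun e => by
        have := congrArg Subtype.val e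
        rw [show i = 1 from this, orderOf_one] at hi
        norm_num at hi
      have h2 := congrArg (fun σ : Equiv.Perm β => ((σ ⟨⟨i, hiT⟩, hiv⟩ : β) : ↥T')) h1
      have h3 : y ^ e * i * (y ^ e)⁻¹ = i := congrArg Subtype.val h2
      exact mul_inv_eq_iff_eq_mul.mp h3
    by_cases h3 : r = 3
    · refine Or.inr ⟨h3, ⟨i, hi, fun y hy => key y hy 3 fun d hd hd' => ?_⟩, fun Q hQ hQH => ?_,
        ⟨T'.map (MulAut.conj h0⁻¹).toMonoidHom, ?_, ⟨_, ht', by simp [mul_assoc]⟩, ?_⟩⟩
      · obtain ⟨k, hk⟩ := hd'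
        rw [h3] at hk
        have : d.Coprime 2 := Nat.Coprime.coprime_dvd_left hk (Nat.Coprime.pow_left k (by norm_num))
        exact this.dvd_of_dvd_mul_left (show d ∣ 2 * 3 from hd)
      · obtain ⟨h, hh, hhQ⟩ := hconj Q hQ hQH
        rw [← hK.card_four]
        refine Dvd.dvd.trans (dvd_of_eq (Nat.card_congr (Q.equivMapOfInjective
          (MulAut.conj h).toMonoidHom (MulAut.conj h).injective).toEquiv)) (Subgroup.card_dvd_of_le ?_)
        rintro _ ⟨q, hq, rfl⟩
        exact hhQ q hq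
      · exact IsKleinFour.mk (by
          rw [← Nat.card_congr (T'.equivMapOfInjective _ (MulAut.conj h0⁻¹).injective).toEquiv]
          exact hK.card_four) (by
          rw [← Monoid.exponent_eq_of_mulEquiv (T'.equivMapOfInjective _ (MulAut.conj h0⁻¹).injective)]
          exact hK.exponent_two)
      · rintro _ ⟨v, hv, rfl⟩
        exact mul_mem (mul_mem (inv_mem hh0) (hT'H hv)) (inv_mem (inv_mem hh0))
    · refine Or.inl ⟨i, hi, fun y hy => Subgroup.mem_centralizer_singleton_iff.mpr ?_⟩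
      have := key y hy 1 fun d hd ⟨k, hk⟩ => ?_
      · rwa [pow_one] at this
      · have hc : Nat.Coprime (r ^ k) 6 := by
          refine Nat.Coprime.pow_left k ((hrp.coprime_iff_not_dvd).mpr fun h6 => ?_)
          rcases hrp.dvd_mul.mp (show r ∣ 2 * 3 from h6) with h | h
          · exact hr ((Nat.prime_dvd_prime_iff_eq hrp Nat.prime_two).mp h)
          · exact h3 ((Nat.prime_dvd_prime_iff_eq hrp Nat.prime_three).mp h)
        exact hc ▸ Nat.dvd_gcd hk hd

/-- The order of a Sylow subgroup divides the order of a centraliser of an involution. -/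
theorem card_sylow_dvd (hG : AC G) {r : ℕ} [Fact r.Prime] (hr : r ≠ 2) {x : G} (hx : orderOf x = r)
    {t : G} (ht : orderOf t = 2) (htx : Commute t x)
    (hall : ∀ i : G, orderOf i = 2 → IsConj t i) (P : Sylow r G)
    (hno : r = 3 → (∃ Q : Subgroup G, IsPGroup 2 Q ∧ Q ≤ Subgroup.centralizer ({x} : Set G) ∧
        ¬ Nat.card Q ∣ 4) ∨
      ∀ V : Subgroup G, IsKleinFour ↥V → t ∈ V → ¬ V ≤ Subgroup.centralizer ({x} : Set G)) :
    Nat.card (P : Subgroup G) ∣ Nat.card (Subgroup.centralizer ({t} : Set G)) := by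
  obtain ⟨P0, hP0⟩ := (IsPGroup.of_card (n := 1) (show Nat.card (Subgroup.zpowers x) = r ^ 1 by
    rw [Nat.card_zpowers, hx, pow_one])).exists_le_sylow
  rw [show Nat.card (P : Subgroup G) = Nat.card (P0 : Subgroup G) by
    rw [Sylow.card_eq_multiplicity, Sylow.card_eq_multiplicity]]
  rcases exists_fixed_involution hG hr hx P0 (hP0 (Subgroup.mem_zpowers x)) ht htx with
    ⟨i, hi, hP⟩ | ⟨h3, -, hQ, V, hV, htV, hVx⟩
  · obtain ⟨g, rfl⟩ := isConj_iff.mp (hall i hi)
    refine (Subgroup.card_dvd_of_le hP).trans (dvd_of_eq ?_)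
    refine Eq.trans ?_ (Nat.card_congr ((Subgroup.centralizer ({t} : Set G)).equivMapOfInjective
      (MulAut.conj g).toMonoidHom (MulAut.conj g).injective).toEquiv).symm
    refine congrArg (fun K : Subgroup G => Nat.card K) ?_
    ext z
    constructor
    · intro hz
      refine ⟨g⁻¹ * z * g, Subgroup.mem_centralizer_singleton_iff.mpr ?_, by simp [mul_assoc]⟩
      have := Subgroup.mem_centralizer_singleton_iff.mp hz
      calc g⁻¹ * z * g * t = g⁻¹ * (z * (g * t * g⁻¹)) * g := by group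
        _ = g⁻¹ * (g * t * g⁻¹ * z) * g := by rw [this]
        _ = t * (g⁻¹ * z * g) := by group
    · rintro ⟨y, hy, rfl⟩
      have := Subgroup.mem_centralizer_singleton_iff.mp hy
      refine Subgroup.mem_centralizer_singleton_iff.mpr ?_
      show g * y * g⁻¹ * (g * t * g⁻¹) = g * t * g⁻¹ * (g * y * g⁻¹)
      calc g * y * g⁻¹ * (g * t * g⁻¹) = g * (y * t) * g⁻¹ := by group
        _ = g * (t * y) * g⁻¹ := by rw [this]
        _ = g * t * g⁻¹ * (g * y * g⁻¹) := by group
  · rcases hno h3 with ⟨Q, h1, h2, h4⟩ | h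
    · exact absurd (hQ Q h1 h2) h4
    · exact absurd hVx (h V hV htV)

end CfsgLib.AlmostCyclic
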