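import Cfsg.Agent.Lib.AlmostCyclic.PGLTori
import Cfsg.Agent.Lib.GL2Char.Series

/-!
# Sums over the elements of odd order of `PGL₂(q)` and its Steinberg character
-/

set_option autoImplicit false
set_option linter.unusedSectionVars false
set_option linter.style.haveILetI false

namespace CfsgLib.AlmostCyclic

open Matrix Subgroup CfsgLib.GL2Char Cfsg CfsgLib.CharTheory
open scoped Classical

universe u

section Orbit

variable {P : Type u} [Group P] [Fintype P]

/-- Summing a class function over the conjugates of a trivial intersection set. -/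
theorem orbit_sum (A : Finset P) (N : Subgroup P)
    (hN : ∀ x ∈ N, ∀ a ∈ A, x * a * x⁻¹ ∈ A)
    (hAN : ∀ a ∈ A, ∀ x : P, x * a * x⁻¹ ∈ A → x ∈ N) (f : P → ℂ)
    (hf : ∀ x g, f (x * g * x⁻¹) = f g) :
    (Nat.card N : ℂ) * ∑ g ∈ Finset.univ.filter (fun g => ∃ a ∈ A, ∃ x : P, x * a * x⁻¹ = g), f g =
      (Nat.card P : ℂ) * ∑ a ∈ A, f a := by
  set Ω := Finset.univ.filter (fun g => ∃ a ∈ A, ∃ x : P, x * a * x⁻¹ = g) with hΩ
  have h1 : ∑ p ∈ (Finset.univ : Finset P) ×ˢ A, f (p.1 * p.2 * p.1⁻¹) = (Nat.card P : ℂ) * ∑ a ∈ A, f a := by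
    rw [Finset.sum_product, Nat.card_eq_fintype_card]
    simp only [hf]
    rw [Finset.sum_const, Finset.card_univ, nsmul_eq_mul]
  have h2 : ∀ g ∈ Ω, ((((Finset.univ : Finset P) ×ˢ A).filter fun p => p.1 * p.2 * p.1⁻¹ = g).card) =
      Nat.card N := by
    intro g hg
    obtain ⟨a0, ha0, x0, hx0⟩ := (Finset.mem_filter.mp hg).2
    rw [Nat.card_eq_fintype_card, ← Finset.card_univ]
    refine Finset.card_bij' (fun p hp => (⟨p.1⁻¹ * x0, ?_⟩ : N))
      (fun n _ => (x0 * (n : P)⁻¹, (n : P) * a0 * (n : P)⁻¹)) ?_ ?_ ?_ ?_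
    · obtain ⟨hpA, hp⟩ := Finset.mem_filter.mp hp
      refine hAN a0 ha0 _ ?_
      have : p.1⁻¹ * x0 * a0 * (p.1⁻¹ * x0)⁻¹ = p.2 := by
        calc _ = p.1⁻¹ * (x0 * a0 * x0⁻¹) * p.1 := by group
          _ = p.2 := by rw [hx0, ← hp]; group
      rw [this]
      exact (Finset.mem_product.mp hpA).2
    · exact fun _ _ => Finset.mem_univ _
    · intro n _
      refine Finset.mem_filter.mpr ⟨Finset.mem_product.mpr ⟨Finset.mem_univ _, hN _ n.2 _ ha0⟩, ?_⟩
      rw [← hx0]; group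
    · intro p hp
      obtain ⟨-, hp⟩ := Finset.mem_filter.mp hp
      refine Prod.ext (by group) ?_
      calc p.1⁻¹ * x0 * a0 * (p.1⁻¹ * x0)⁻¹ = p.1⁻¹ * (x0 * a0 * x0⁻¹) * p.1 := by group
        _ = p.2 := by rw [hx0, ← hp]; group
    · intro n _
      exact Subtype.ext (by group)
  rw [← h1, Finset.mul_sum, ← Finset.sum_fiberwise_of_maps_to
    (s := (Finset.univ : Finset P) ×ˢ A) (t := Ω) (g := fun p => p.1 * p.2 * p.1⁻¹)
    (fun p hp => Finset.mem_filter.mpr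
      ⟨Finset.mem_univ _, p.2, (Finset.mem_product.mp hp).2, p.1, rfl⟩)]
  refine Finset.sum_congr rfl fun g hg => ?_
  rw [Finset.sum_congr rfl fun p hp => congrArg f (Finset.mem_filter.mp hp).2, Finset.sum_const,
    nsmul_eq_mul, h2 g hg]

/-- In a finite cyclic group the elements of odd order are counted by the odd part of the order. -/
theorem card_odd_cyclic {T : Subgroup P} (hT : IsCyclic T) :
    (Finset.univ.filter fun g : P => g ∈ T ∧ Odd (orderOf g)).card = ordCompl[2] (Nat.card T) := by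
  obtain ⟨g, hg⟩ := hT.exists_generator
  set n := Nat.card T with hn
  have hn0 : n ≠ 0 := Nat.card_pos.ne'
  have hord : orderOf (g : P) = n := by
    rw [Subgroup.orderOf_coe, hn, orderOf_eq_card_of_forall_mem_zpowers hg]
  set r := (g : P) ^ (2 ^ n.factorization 2) with hr
  have hro : orderOf r = ordCompl[2] n := by
    rw [hr, orderOf_pow' _ (pow_ne_zero _ two_ne_zero), hord, Nat.gcd_eq_right (Nat.ordProj_dvd n 2)]
  have hodd : Odd (ordCompl[2] n) := by
    rw [Nat.odd_iff, ← Nat.two_dvd_ne_zero]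
    exact Nat.not_dvd_ordCompl Nat.prime_two hn0
  have hset : (Finset.univ.filter fun x : P => x ∈ T ∧ Odd (orderOf x)) =
      Finset.univ.filter fun x : P => x ∈ Subgroup.zpowers r := by
    ext x
    simp only [Finset.mem_filter, Finset.mem_univ, true_and]
    constructor
    · rintro ⟨hxT, hx⟩
      obtain ⟨i, hi⟩ := hg ⟨x, hxT⟩
      have hi' : (g : P) ^ i = x := by
        have := congrArg Subtype.val hi
        simpa using this
      have hxn : x ^ n = 1 := by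
        rw [← hi', ← zpow_natCast, ← _root_.zpow_mul, mul_comm, _root_.zpow_mul, zpow_natCast, ← hord,
          pow_orderOf_eq_one, _root_.one_zpow]
      have hcop : (orderOf x).Coprime (2 ^ n.factorization 2) :=
        Nat.Coprime.pow_right _ (Nat.coprime_two_right.mpr hx)
      have hdvd : orderOf x ∣ ordCompl[2] n := by
        refine hcop.dvd_of_dvd_mul_left ?_
        rw [Nat.ordProj_mul_ordCompl_eq_self]
        exact orderOf_dvd_of_pow_eq_one hxn
      have h3 : (g : P) ^ (i * (ordCompl[2] n : ℕ)) = 1 := by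
        rw [_root_.zpow_mul, hi', zpow_natCast]
        exact orderOf_dvd_iff_pow_eq_one.mp hdvd
      rw [← orderOf_dvd_iff_zpow_eq_one, hord] at h3
      have h4 : ((2 ^ n.factorization 2 : ℕ) : ℤ) ∣ i := by
        have hpos : (0 : ℤ) < (ordCompl[2] n : ℕ) := by exact_mod_cast hodd.pos
        refine Int.dvd_of_mul_dvd_mul_right hpos.ne' ?_
        rwa [← Nat.cast_mul, Nat.ordProj_mul_ordCompl_eq_self]
      obtain ⟨j, rfl⟩ := h4
      refine ⟨j, ?_⟩
      show r ^ j = x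
      rw [hr, ← hi', _root_.zpow_mul, zpow_natCast]
    · rintro ⟨j, rfl⟩
      refine ⟨zpow_mem (pow_mem g.2 _) j, Odd.of_dvd_nat hodd ?_⟩
      rw [← hro]
      exact orderOf_dvd_of_mem_zpowers ⟨j, rfl⟩
  rw [hset, ← hro, ← Nat.card_zpowers, Nat.card_eq_fintype_card, Fintype.card_subtype]

/-- A class function summed over the elements of odd order, for a group covered by the conjugates
of two tori and one further class. -/
theorem odd_general {Ts Ns Te Ne : Subgroup P} {u : P} (hts : IsTorus Ts Ns) (hte : IsTorus Te Ne)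
    (hu : u ≠ 1) (huo : Odd (orderOf u))
    (hcls : ∀ g : P, g ≠ 1 → (∃ t ∈ Ts, IsConj t g) ∨ (∃ t ∈ Te, IsConj t g) ∨ IsConj u g)
    (hse : ∀ a ∈ Ts, ∀ b ∈ Te, a ≠ 1 → b ≠ 1 → ¬ IsConj a b)
    (hsu : ∀ a ∈ Ts, a ≠ 1 → ¬ IsConj a u) (heu : ∀ b ∈ Te, b ≠ 1 → ¬ IsConj b u)
    (f : P → ℂ) (hf : ∀ x g, f (x * g * x⁻¹) = f g) (cs ce : ℂ)
    (hs : ∀ a ∈ Ts, a ≠ 1 → f a = cs) (he : ∀ a ∈ Te, a ≠ 1 → f a = ce) :
    ∑ g ∈ Finset.univ.filter (fun g : P => Odd (orderOf g)), f g =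
      f 1 + (Nat.card P : ℂ) / (Nat.card (Subgroup.centralizer ({u} : Set P)) : ℂ) * f u +
        (Nat.card P : ℂ) / (2 * (Nat.card Ts : ℂ)) * (((ordCompl[2] (Nat.card Ts) : ℕ) : ℂ) - 1) * cs +
        (Nat.card P : ℂ) / (2 * (Nat.card Te : ℂ)) * (((ordCompl[2] (Nat.card Te) : ℕ) : ℂ) - 1) * ce := by
  set As := Finset.univ.filter fun g : P => (g ∈ Ts ∧ Odd (orderOf g)) ∧ g ≠ 1 with hAs
  set Ae := Finset.univ.filter fun g : P => (g ∈ Te ∧ Odd (orderOf g)) ∧ g ≠ 1 with hAe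
  set Ωs := Finset.univ.filter (fun g => ∃ a ∈ As, ∃ x : P, x * a * x⁻¹ = g) with hΩs
  set Ωe := Finset.univ.filter (fun g => ∃ a ∈ Ae, ∃ x : P, x * a * x⁻¹ = g) with hΩe
  set Ωu := Finset.univ.filter (fun g => ∃ a ∈ ({u} : Finset P), ∃ x : P, x * a * x⁻¹ = g) with hΩu
  have hconj : ∀ {g : P} (x : P), orderOf (x * g * x⁻¹) = orderOf g := fun {g} x =>
    orderOf_injective (MulAut.conj x).toMonoidHom (MulAut.conj x).injective g
  have horb : ∀ (T N : Subgroup P), IsTorus T N → ∀ c : ℂ, (∀ a ∈ T, a ≠ 1 → f a = c) →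
      ∑ g ∈ Finset.univ.filter (fun g => ∃ a ∈ Finset.univ.filter
          (fun g : P => (g ∈ T ∧ Odd (orderOf g)) ∧ g ≠ 1), ∃ x : P, x * a * x⁻¹ = g), f g =
        (Nat.card P : ℂ) / (2 * (Nat.card T : ℂ)) * (((ordCompl[2] (Nat.card T) : ℕ) : ℂ) - 1) * c := by
    intro T N hT c hc
    have h := orbit_sum (Finset.univ.filter fun g : P => (g ∈ T ∧ Odd (orderOf g)) ∧ g ≠ 1) N
      (fun x hx a ha => by
        obtain ⟨⟨haT, hao⟩, ha1⟩ := (Finset.mem_filter.mp ha).2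
        refine Finset.mem_filter.mpr
          ⟨Finset.mem_univ _, ⟨?_, by rwa [hconj]⟩, fun e => ha1 (conj_eq_one_iff.mp e)⟩
        by_cases hxT : x ∈ T
        · exact mul_mem (mul_mem hxT haT) (inv_mem hxT)
        · rw [hT.inv x hx hxT a haT]; exact inv_mem haT)
      (fun a ha x hx => by
        obtain ⟨⟨haT, -⟩, ha1⟩ := (Finset.mem_filter.mp ha).2
        exact hT.ti a haT ha1 x (Finset.mem_filter.mp hx).2.1.1) f hf
    have h1 : (1 : P) ∈ Finset.univ.filter fun g : P => g ∈ T ∧ Odd (orderOf g) :=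
      Finset.mem_filter.mpr ⟨Finset.mem_univ _, one_mem _, by rw [orderOf_one]; exact odd_one⟩
    have hcA : ((Finset.univ.filter fun g : P => (g ∈ T ∧ Odd (orderOf g)) ∧ g ≠ 1).card : ℂ) =
        ((ordCompl[2] (Nat.card T) : ℕ) : ℂ) - 1 := by
      rw [show (Finset.univ.filter fun g : P => (g ∈ T ∧ Odd (orderOf g)) ∧ g ≠ 1) =
          (Finset.univ.filter fun g : P => g ∈ T ∧ Odd (orderOf g)).erase 1 by
        ext g; simp [and_comm], ← card_odd_cyclic hT.cyc, eq_sub_iff_add_eq]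
      exact_mod_cast Finset.card_erase_add_one h1
    have hA' : ∑ a ∈ Finset.univ.filter (fun g : P => (g ∈ T ∧ Odd (orderOf g)) ∧ g ≠ 1), f a =
        (((ordCompl[2] (Nat.card T) : ℕ) : ℂ) - 1) * c := by
      rw [Finset.sum_congr rfl fun a ha => hc a (Finset.mem_filter.mp ha).2.1.1
        (Finset.mem_filter.mp ha).2.2, Finset.sum_const, nsmul_eq_mul, hcA]
    rw [hT.card_N, hA', Nat.cast_mul, Nat.cast_ofNat] at h
    rw [div_mul_eq_mul_div, div_mul_eq_mul_div, eq_div_iff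
      (mul_ne_zero two_ne_zero (Nat.cast_ne_zero.mpr Nat.card_pos.ne'))]
    have h' : 2 * (Nat.card T : ℂ) * ∑ g ∈ Finset.univ.filter (fun g => ∃ a ∈ Finset.univ.filter
        (fun g : P => (g ∈ T ∧ Odd (orderOf g)) ∧ g ≠ 1), ∃ x : P, x * a * x⁻¹ = g), f g =
        (Nat.card P : ℂ) * ((((ordCompl[2] (Nat.card T) : ℕ) : ℂ) - 1) * c) := by
      convert h
    linear_combination h'
  have e3 := orbit_sum ({u} : Finset P) (Subgroup.centralizer {u})
    (fun x hx a ha => by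
      rw [Finset.mem_singleton] at ha ⊢
      rw [ha, Subgroup.mem_centralizer_singleton_iff.mp hx, mul_inv_cancel_right])
    (fun a ha x hx => by
      rw [Finset.mem_singleton] at ha hx
      rw [ha] at hx
      exact Subgroup.mem_centralizer_singleton_iff.mpr (mul_inv_eq_iff_eq_mul.mp hx)) f hf
  rw [← hΩu, Finset.sum_singleton] at e3
  have hsplit : (Finset.univ.filter fun g : P => Odd (orderOf g)) = {1} ∪ Ωs ∪ Ωe ∪ Ωu := by
    ext g
    simp only [Finset.mem_filter, Finset.mem_univ, true_and, Finset.mem_union, Finset.mem_singleton,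
      hΩs, hΩe, hΩu, hAs, hAe]
    constructor
    · intro hg
      by_cases h1 : g = 1
      · exact Or.inl (Or.inl (Or.inl h1))
      rcases hcls g h1 with ⟨t, ht, h⟩ | ⟨t, ht, h⟩ | h <;> obtain ⟨x, rfl⟩ := isConj_iff.mp h <;>
        rw [hconj] at hg
      · exact Or.inl (Or.inl (Or.inr ⟨t, ⟨⟨ht, hg⟩, fun e => h1 (by rw [e]; group)⟩, x, rfl⟩))
      · exact Or.inl (Or.inr ⟨t, ⟨⟨ht, hg⟩, fun e => h1 (by rw [e]; group)⟩, x, rfl⟩)
      · exact Or.inr ⟨u, rfl, x, rfl⟩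
    · rintro (((rfl | ⟨t, ⟨⟨-, ht⟩, -⟩, x, rfl⟩) | ⟨t, ⟨⟨-, ht⟩, -⟩, x, rfl⟩) | ⟨t, rfl, x, rfl⟩)
      · rw [orderOf_one]; exact odd_one
      · rwa [hconj]
      · rwa [hconj]
      · rwa [hconj]
  have hmem : ∀ {A : Finset P} {g : P},
      g ∈ Finset.univ.filter (fun g => ∃ a ∈ A, ∃ x : P, x * a * x⁻¹ = g) →
        ∃ a ∈ A, IsConj a g := fun hg => by
    obtain ⟨a, ha, x, hx⟩ := (Finset.mem_filter.mp hg).2
    exact ⟨a, ha, isConj_iff.mpr ⟨x, hx⟩⟩
  have d1 : Disjoint ({1} : Finset P) Ωs := by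
    refine Finset.disjoint_singleton_left.mpr fun h => ?_
    obtain ⟨a, ha, h'⟩ := hmem h
    exact (Finset.mem_filter.mp ha).2.2 (isConj_one_left.mp h')
  have d2 : Disjoint ({1} ∪ Ωs) Ωe := by
    refine Finset.disjoint_left.mpr fun g hg hg' => ?_
    obtain ⟨b, hb, hb'⟩ := hmem hg'
    obtain ⟨⟨hb1, -⟩, hb2⟩ := (Finset.mem_filter.mp hb).2
    rcases Finset.mem_union.mp hg with h | h
    · rw [Finset.mem_singleton.mp h] at hb'; exact hb2 (isConj_one_left.mp hb')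
    · obtain ⟨a, ha, ha'⟩ := hmem h
      obtain ⟨⟨ha1, -⟩, ha2⟩ := (Finset.mem_filter.mp ha).2
      exact hse a ha1 b hb1 ha2 hb2 (ha'.trans hb'.symm)
  have d3 : Disjoint ({1} ∪ Ωs ∪ Ωe) Ωu := by
    refine Finset.disjoint_left.mpr fun g hg hg' => ?_
    obtain ⟨b, hb, hb'⟩ := hmem hg'
    rw [Finset.mem_singleton.mp hb] at hb'
    rcases Finset.mem_union.mp hg with h | h
    · rcases Finset.mem_union.mp h with h | h
      · rw [Finset.mem_singleton.mp h] at hb'; exact hu (isConj_one_left.mp hb')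
      · obtain ⟨a, ha, ha'⟩ := hmem h
        obtain ⟨⟨ha1, -⟩, ha2⟩ := (Finset.mem_filter.mp ha).2
        exact hsu a ha1 ha2 (ha'.trans hb'.symm)
    · obtain ⟨a, ha, ha'⟩ := hmem h
      obtain ⟨⟨ha1, -⟩, ha2⟩ := (Finset.mem_filter.mp ha).2
      exact heu a ha1 ha2 (ha'.trans hb'.symm)
  have e3' : ∑ g ∈ Ωu, f g =
      (Nat.card P : ℂ) / (Nat.card (Subgroup.centralizer ({u} : Set P)) : ℂ) * f u := by
    rw [div_mul_eq_mul_div, eq_div_iff (Nat.cast_ne_zero.mpr Nat.card_pos.ne'), mul_comm]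
    exact e3
  have es : ∑ g ∈ Ωs, f g =
      (Nat.card P : ℂ) / (2 * (Nat.card Ts : ℂ)) * (((ordCompl[2] (Nat.card Ts) : ℕ) : ℂ) - 1) * cs := by
    convert horb _ _ hts cs hs
  have ee : ∑ g ∈ Ωe, f g =
      (Nat.card P : ℂ) / (2 * (Nat.card Te : ℂ)) * (((ordCompl[2] (Nat.card Te) : ℕ) : ℂ) - 1) * ce := by
    convert horb _ _ hte ce he
  rw [hsplit, Finset.sum_union d3, Finset.sum_union d2, Finset.sum_union d1, Finset.sum_singleton,
    es, ee, e3']
  ring

theorem IsTorus.conj {T N : Subgroup P} (h : IsTorus T N) (x : P) :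
    IsTorus (T.map (MulAut.conj x).toMonoidHom) (N.map (MulAut.conj x).toMonoidHom) := by
  have hinj : Function.Injective (MulAut.conj x).toMonoidHom := (MulAut.conj x).injective
  refine ⟨?_, Subgroup.map_mono h.le, ?_, ?_, ?_⟩
  · haveI := h.cyc
    exact isCyclic_of_surjective ((MulAut.conj x).toMonoidHom.subgroupMap T)
      ((MulAut.conj x).toMonoidHom.subgroupMap_surjective T)
  · rw [← Nat.card_congr (N.equivMapOfInjective _ hinj).toEquiv,
      ← Nat.card_congr (T.equivMapOfInjective _ hinj).toEquiv, h.card_N]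
  · rintro _ ⟨y, hy, rfl⟩ hyT _ ⟨t, ht, rfl⟩
    rw [← map_mul, ← map_inv, ← map_mul,
      h.inv y hy (fun e => hyT (Subgroup.mem_map_of_mem _ e)) t ht, map_inv]
  · rintro _ ⟨t, ht, rfl⟩ ht1 y ⟨s, hs, hys⟩
    have h' := h.ti t ht (fun e => ht1 (by rw [e, map_one])) (x⁻¹ * y * x) (by
      have : x⁻¹ * y * x * t * (x⁻¹ * y * x)⁻¹ = s := by
        have hys' : x * s * x⁻¹ = y * (x * t * x⁻¹) * y⁻¹ := hys
        calc _ = x⁻¹ * (y * (x * t * x⁻¹) * y⁻¹) * x := by group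
          _ = s := by rw [← hys']; group
      rwa [this])
    exact ⟨_, h', show x * (x⁻¹ * y * x) * x⁻¹ = y by group⟩

theorem IsTorus.cent {T N : Subgroup P} (h : IsTorus T N) {t : P} (ht : t ∈ T) (h1 : t ≠ 1) :
    (t * t ≠ 1 → Subgroup.centralizer ({t} : Set P) = T) ∧
      (t * t = 1 → Subgroup.centralizer ({t} : Set P) = N) := by
  have hcomm : ∀ y ∈ T, y * t = t * y := fun y hy => by
    letI := h.cyc.commGroup
    exact congrArg Subtype.val (mul_comm (⟨y, hy⟩ : T) ⟨t, ht⟩)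
  have hle : Subgroup.centralizer ({t} : Set P) ≤ N := fun x hx => h.ti t ht h1 x (by
    rw [Subgroup.mem_centralizer_singleton_iff.mp hx, mul_inv_cancel_right]; exact ht)
  constructor
  · intro h2
    refine le_antisymm (fun x hx => ?_) fun y hy => Subgroup.mem_centralizer_singleton_iff.mpr (hcomm y hy)
    by_contra hxT
    have e := h.inv x (hle hx) hxT t ht
    rw [Subgroup.mem_centralizer_singleton_iff.mp hx, mul_inv_cancel_right] at e
    exact h2 (mul_eq_one_iff_eq_inv.mpr e)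
  · intro h2
    refine le_antisymm hle fun x hx => Subgroup.mem_centralizer_singleton_iff.mpr ?_
    by_cases hxT : x ∈ T
    · exact hcomm x hxT
    · have e := h.inv x hx hxT t ht
      rw [← mul_eq_one_iff_eq_inv.mp h2] at e
      exact mul_inv_eq_iff_eq_mul.mp e

end Orbit

variable {F : Type u} [Field F] [Fintype F] [DecidableEq F]

local notation "GL2" => Matrix.GeneralLinearGroup (Fin 2) F
local notation "qq" => Fintype.card F

/-- The diagonal torus of `PG`. -/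
abbrev ts : Subgroup (PG F) := (diagC F).map pm

/-- The standard unipotent element of `PG`. -/
abbrev u0 : PG F := pm (bor 1 1 1)

theorem card_PG : Nat.card (PG F) = (qq + 1) * qq * (qq - 1) := by
  have h1 := Subgroup.card_eq_card_quotient_mul_card_subgroup
    (Subgroup.center (Matrix.GeneralLinearGroup (Fin 2) F))
  have hc : Nat.card (Subgroup.center GL2) = qq - 1 := by
    rw [← Fintype.card_units, ← Nat.card_eq_fintype_card]
    refine (Nat.card_congr (Equiv.ofBijective (fun a : Fˣ =>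
      (⟨bor a a 0, mem_center_bor.mpr ⟨a, rfl⟩⟩ : Subgroup.center GL2))
      ⟨fun a b h => (bor_injective (congrArg Subtype.val h)).1, fun g => ?_⟩)).symm
    obtain ⟨a, ha⟩ := mem_center_bor.mp g.2
    exact ⟨a, Subtype.ext ha.symm⟩
  rw [hc, card_GL2] at h1
  obtain ⟨k, hk⟩ : ∃ k, qq = k + 2 := ⟨qq - 2, by have := Fintype.one_lt_card (α := F); omega⟩
  rw [hk] at h1 ⊢
  have e1 : (k + 2) ^ 2 - 1 = (k + 3) * (k + 1) := Nat.sub_eq_of_eq_add (by ring)
  have e2 : (k + 2) ^ 2 - (k + 2) = (k + 2) * (k + 1) := Nat.sub_eq_of_eq_add (by ring)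
  rw [e1, e2, show k + 2 - 1 = k + 1 from rfl] at h1
  refine Nat.eq_of_mul_eq_mul_right (show 0 < k + 1 by omega) (h1.symm.trans ?_)
  simp only [show k + 2 - 1 = k + 1 from rfl]
  ring

theorem ts_isTorus (hq : 3 ≤ qq) : IsCyclic (ts (F := F)) ∧ Nat.card (ts (F := F)) = qq - 1 ∧
    IsTorus (ts (F := F)) ((tor_diag (F := F)).flip.map pm) := by
  let d : Fˣ →* PG F :=
    { toFun := fun a => pm (bor a 1 0)
      map_one' := by rw [bor_one, map_one]
      map_mul' := fun a b => by rw [← map_mul, bor_mul]; simp }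
  have hinj : Function.Injective d := fun a b h => by
    obtain ⟨c, hc⟩ := pm_eq.mp (show pm (bor a 1 0) = pm (bor b 1 0) from h)
    rw [bor_mul] at hc
    obtain ⟨e1, e2, -⟩ := bor_injective hc
    rw [one_mul] at e2
    rw [e1, ← e2, mul_one]
  have hrange : ts (F := F) = d.range := by
    ext x
    constructor
    · rintro ⟨g, ⟨a, b, rfl⟩, rfl⟩
      refine ⟨a * b⁻¹, pm_eq.mpr ⟨b, ?_⟩⟩
      rw [bor_mul]; simp
    · rintro ⟨a, rfl⟩
      exact ⟨_, ⟨a, 1, rfl⟩, rfl⟩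
  have hcard : Nat.card (ts (F := F)) = qq - 1 := by
    rw [hrange, ← Nat.card_congr (MonoidHom.ofInjective hinj).toEquiv, Nat.card_units,
      Nat.card_eq_fintype_card]
  have hcyc : IsCyclic (ts (F := F)) := by
    rw [hrange]; exact isCyclic_of_surjective d.rangeRestrict d.rangeRestrict_surjective
  refine ⟨hcyc, hcard, tor_diag.isTorus hcyc fun h => ?_⟩
  rw [show ts (F := F) = ⊥ from h, Subgroup.card_bot] at hcard
  omega

theorem not_ell_scalar {g : GL2} (a : Fˣ) (hg : ¬ Ell g) : ¬ Ell (g * bor a a 0) := fun h => by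
  obtain ⟨b, c, x, hx⟩ := isConj_bor_of_eigen hg
  obtain ⟨y, hy⟩ := isConj_iff.mp hx
  refine not_ell_bor (b * a) (c * a) (x * (a : F)) (ell_of_isConj (isConj_iff.mpr ⟨y, ?_⟩) h)
  rw [show y * (g * bor a a 0) * y⁻¹ = (y * g * y⁻¹) * bor a a 0 by
    rw [mul_assoc y, mul_assoc g, (scalar_comm a _).eq]; group, hy, bor_mul]
  simp

theorem pm_conj {c d : GL2} {x : PG F} (h : x * pm c * x⁻¹ = pm d) :
    ∃ (y : GL2) (l : Fˣ), d = y * c * y⁻¹ * bor l l 0 := by
  obtain ⟨y, rfl⟩ := pm_surjective x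
  rw [← map_inv, ← map_mul, ← map_mul, pm_eq] at h
  obtain ⟨l, hl⟩ := h
  exact ⟨y, l, hl⟩

theorem unip_conj {x : F} (hx : x ≠ 0) : IsConj (bor 1 1 (1 : F)) (bor 1 1 x) :=
  isConj_of_charpoly (bor_ne_scalar (Or.inr one_ne_zero)) (bor_ne_scalar (Or.inr hx))
    (by rw [trace_bor, trace_bor]) (by rw [det_bor, det_bor])

theorem card_cent_u0 (h2 : (2 : F) ≠ 0) :
    Nat.card (Subgroup.centralizer ({u0 (F := F)} : Set (PG F))) = qq := by
  rw [← Nat.card_eq_fintype_card (α := F)]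
  refine (Nat.card_congr (Equiv.ofBijective
    (fun x : F => (⟨pm (bor 1 1 x), ?_⟩ : Subgroup.centralizer ({u0 (F := F)} : Set (PG F))))
    ⟨fun a b h => ?_, fun y => ?_⟩)).symm
  · rw [Subgroup.mem_centralizer_singleton_iff, ← map_mul, ← map_mul, bor_mul, bor_mul]
    simp [add_comm]
  · obtain ⟨c, hc⟩ := pm_eq.mp (congrArg Subtype.val h)
    rw [bor_mul] at hc
    obtain ⟨e1, -, e3⟩ := bor_injective hc
    rw [one_mul] at e1
    rw [← e1] at e3
    simpa using e3.symm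
  · obtain ⟨g, hg⟩ := pm_surjective (y : PG F)
    have hy := Subgroup.mem_centralizer_singleton_iff.mp y.2
    rw [← hg, ← map_mul, ← map_mul, pm_eq] at hy
    obtain ⟨l, hl⟩ := hy
    have hl' : bor 1 1 (1 : F) * g = g * bor 1 1 1 * bor l l 0 := hl
    have htr := congrArg (fun z : GL2 => (g⁻¹ * z).1.trace) hl'
    have hconj : (g⁻¹ * (bor 1 1 (1 : F) * g)).1.trace = (bor 1 1 (1 : F)).1.trace := by
      have := GL2Char.trace_conj (bor 1 1 (1 : F)) g⁻¹
      rwa [inv_inv, mul_assoc] at this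
    simp only [hconj, inv_mul_cancel_left, mul_assoc] at htr
    rw [bor_mul, trace_bor, trace_bor] at htr
    have hl1 : l = 1 := Units.ext (by
      push_cast at htr
      have : (2 : F) * ((l : F) - 1) = 0 := by linear_combination -htr
      exact sub_eq_zero.mp ((mul_eq_zero.mp this).resolve_left h2))
    rw [hl1, bor_one, mul_one] at hl'
    have hc : Commute g.1 (bor 1 1 (1 : F)).1 := (congrArg Units.val hl').symm
    obtain ⟨s, t, hst⟩ :=
      SL2Centralizer.exists_of_commute (bor_ne_scalar (Or.inr one_ne_zero)) hc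
    have h10 : g.1 1 0 = 0 := by rw [hst]; simp
    obtain ⟨a, b, x, ha, hb, -, rfl⟩ := eq_bor_of_lower h10
    have hab : a = b := by
      refine Units.ext ?_
      have e00 := congrFun (congrFun hst 0) 0
      have e11 := congrFun (congrFun hst 1) 1
      simp at e00 e11
      rw [e00, e11]
    subst hab
    refine ⟨x * ((a⁻¹ : Fˣ) : F), Subtype.ext ?_⟩
    show pm (bor 1 1 (x * ((a⁻¹ : Fˣ) : F))) = y
    rw [← hg, pm_eq]
    exact ⟨a, by rw [bor_mul]; simp [mul_assoc]⟩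

theorem odd_u0 (hodd : Odd qq) (h2 : (2 : F) ≠ 0) : Odd (orderOf (u0 (F := F))) := by
  refine Odd.of_dvd_nat hodd ?_
  rw [← card_cent_u0 h2]
  exact Subgroup.orderOf_dvd_natCard _ (Subgroup.mem_centralizer_singleton_iff.mpr rfl)

/-- The two tori of `PG` and the classification of its nontrivial elements. -/
theorem exists_tori (hq : 3 ≤ qq) : ∃ (te Ne : Subgroup (PG F)),
    IsTorus te Ne ∧ Nat.card te = qq + 1 ∧
      (∀ g : PG F, g ≠ 1 → (∃ t ∈ ts (F := F), IsConj t g) ∨ (∃ t ∈ te, IsConj t g) ∨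
        IsConj u0 g) ∧
      (∀ a ∈ ts (F := F), ∀ b ∈ te, a ≠ 1 → b ≠ 1 → ¬ IsConj a b) ∧
      (∀ a ∈ ts (F := F), a ≠ 1 → ¬ IsConj a u0) ∧ (∀ b ∈ te, b ≠ 1 → ¬ IsConj b u0) ∧
      ∀ g ∈ te, g ≠ 1 → ∃ c : GL2, Ell c ∧ pm c = g := by
  obtain ⟨C, hC, hcard, hZ⟩ := exists_torus (F := F)
  have hT := tor_ell C hC hcard hZ
  have hcyc : IsCyclic (C.map pm) := by
    haveI := hC
    exact isCyclic_of_surjective (pm.subgroupMap C) (pm.subgroupMap_surjective C)
  have hker : (Subgroup.center GL2) ≤ C := fun g hg => by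
    obtain ⟨a, rfl⟩ := mem_center_bor.mp hg
    exact hZ a
  have hcte : Nat.card (C.map pm) = qq + 1 := by
    have h2 : Nat.card (C.map pm) * Nat.card (Subgroup.center GL2) = Nat.card C := by
      rw [Subgroup.card_eq_card_quotient_mul_card_subgroup (pm.subgroupMap C).ker,
        Nat.card_congr (QuotientGroup.quotientKerEquivOfSurjective _
          (pm.subgroupMap_surjective C)).toEquiv]
      congr 1
      refine Nat.card_congr
        { toFun := fun z => ⟨⟨(z : GL2), hker z.2⟩, Subtype.ext ((QuotientGroup.eq_one_iff _).mpr z.2)⟩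
          invFun := fun w => ⟨((w : C) : GL2),
            (QuotientGroup.eq_one_iff _).mp (congrArg Subtype.val w.2)⟩
          left_inv := fun _ => rfl
          right_inv := fun _ => rfl }
    have hc : Nat.card (Subgroup.center GL2) = qq - 1 := by
      rw [← Fintype.card_units, ← Nat.card_eq_fintype_card]
      refine (Nat.card_congr (Equiv.ofBijective (fun a : Fˣ =>
        (⟨bor a a 0, mem_center_bor.mpr ⟨a, rfl⟩⟩ : Subgroup.center GL2))
        ⟨fun a b h => (bor_injective (congrArg Subtype.val h)).1, fun g => ?_⟩)).symm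
      obtain ⟨a, ha⟩ := mem_center_bor.mp g.2
      exact ⟨a, Subtype.ext ha.symm⟩
    rw [hcard, hc, show qq ^ 2 - 1 = (qq + 1) * (qq - 1) by rw [← Nat.sq_sub_sq, one_pow]] at h2
    exact Nat.eq_of_mul_eq_mul_right (by omega) h2
  have hne : C.map pm ≠ ⊥ := fun h => by rw [h, Subgroup.card_bot] at hcte; omega
  have hell : ∀ c ∈ C, pm c ≠ 1 → Ell c := fun c hc h => by
    rcases torus_cases C hC hcard hZ hc with he | ⟨a, rfl⟩
    · exact he
    · exact absurd (pm_eq_one.mpr ⟨a, rfl⟩) h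
  refine ⟨C.map pm, hT.flip.map pm, hT.isTorus hcyc hne, hcte, ?_, ?_, ?_, ?_, ?_⟩
  · intro g hg
    obtain ⟨c, rfl⟩ := pm_surjective g
    rcases elem_cases c with he | ⟨a, b, x, hx⟩
    · obtain ⟨d, hd, -, hcd⟩ := exists_conj_mem C hC hcard hZ he
      exact Or.inr (Or.inl ⟨pm d, Subgroup.mem_map_of_mem _ hd, pm.map_isConj hcd.symm⟩)
    · by_cases hab : a = b
      · subst hab
        by_cases hx0 : x = 0
        · subst hx0
          exact absurd (pm_eq_one.mpr ⟨a, scalar_conj_eq hx.symm⟩) hg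
        · refine Or.inr (Or.inr ((pm.map_isConj (unip_conj (x := x * ((a⁻¹ : Fˣ) : F)) ?_)).trans ?_))
          · exact mul_ne_zero hx0 (Units.ne_zero _)
          · refine IsConj.trans ?_ (pm.map_isConj hx.symm)
            rw [show pm (bor 1 1 (x * ((a⁻¹ : Fˣ) : F))) = pm (bor a a x) from
              pm_eq.mpr ⟨a, by rw [bor_mul]; simp [mul_assoc]⟩]
      · exact Or.inl ⟨pm (bor a b 0), Subgroup.mem_map_of_mem _ ⟨a, b, rfl⟩,
          pm.map_isConj (hx.trans (isConj_bor_zero hab x)).symm⟩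
  · rintro a ⟨c, ⟨a', b', rfl⟩, rfl⟩ b ⟨d, hd, rfl⟩ - hb h
    obtain ⟨x, hx⟩ := isConj_iff.mp h
    obtain ⟨y, l, hl⟩ := pm_conj hx
    refine not_ell_scalar l (fun h' => not_ell_bor a' b' 0 ?_) (hl ▸ hell d hd hb)
    exact ell_of_isConj (isConj_iff.mpr ⟨y⁻¹, by group⟩) h'
  · rintro a ⟨c, ⟨a', b', rfl⟩, rfl⟩ ha h
    obtain ⟨x, hx⟩ := isConj_iff.mp h
    obtain ⟨y, l, hl⟩ := pm_conj hx
    have ht := congrArg (fun z : GL2 => z.1.trace) hl
    have hd := congrArg (fun z : GL2 => z.1.det) hl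
    simp only [val_mul_scalar, Matrix.trace_smul, Matrix.det_smul, GL2Char.trace_conj, GL2Char.det_conj, trace_bor,
      det_bor, smul_eq_mul, Fintype.card_fin, Units.val_one] at ht hd
    have : ((l : F) * ((a' : F) - b')) * ((l : F) * ((a' : F) - b')) = 0 := by
      linear_combination (-((l : F) * ((a' : F) + b') + (1 + 1))) * ht + 4 * hd
    have := mul_self_eq_zero.mp this
    have hab : a' = b' := Units.ext (sub_eq_zero.mp ((mul_eq_zero.mp this).resolve_left l.ne_zero))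
    exact ha (pm_eq_one.mpr ⟨a', by rw [hab]⟩)
  · rintro b ⟨d, hd, rfl⟩ hb h
    obtain ⟨x, hx⟩ := isConj_iff.mp h.symm
    obtain ⟨y, l, hl⟩ := pm_conj hx
    refine not_ell_scalar l (fun h' => not_ell_bor 1 1 (1 : F) ?_) (hl ▸ hell d hd hb)
    exact ell_of_isConj (isConj_iff.mpr ⟨y⁻¹, by group⟩) h'
  · rintro g ⟨c, hc, rfl⟩ hg
    exact ⟨c, hell c hc hg, rfl⟩

/-- The Steinberg character of `PG`. -/
theorem exists_stP : ∃ ψ : IrrCharacter (PG F), ∀ g : GL2, (ψ : PG F → ℂ) (pm g) = st 1 g := by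
  obtain ⟨ψ, hψ, e⟩ := exists_quotient_irr (Subgroup.center GL2) (isIrr_st (F := F) 1) fun n hn => by
    obtain ⟨a, rfl⟩ := mem_center_bor.mp hn
    rw [st_bor_scalar, st_one]; simp
  exact ⟨⟨ψ, hψ⟩, fun g => (congrFun e g).symm⟩

/-- The three sums over the elements of odd order, doubled. -/
theorem odd_sums (hq : 3 ≤ qq) (hodd : Odd qq) (h2 : (2 : F) ≠ 0) (ψ : IrrCharacter (PG F))
    (hψ : ∀ g : GL2, (ψ : PG F → ℂ) (pm g) = st 1 g) :
    2 * (((Finset.univ.filter fun g : PG F => Odd (orderOf g)).card : ℕ) : ℂ) =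
        2 * (qq : ℂ) ^ 2 + (qq : ℂ) * ((qq : ℂ) + 1) * (((ordCompl[2] (qq - 1) : ℕ) : ℂ) - 1) +
          (qq : ℂ) * ((qq : ℂ) - 1) * (((ordCompl[2] (qq + 1) : ℕ) : ℂ) - 1) ∧
      2 * ∑ g ∈ Finset.univ.filter (fun g : PG F => Odd (orderOf g)), (ψ : PG F → ℂ) g =
        2 * (qq : ℂ) + (qq : ℂ) * ((qq : ℂ) + 1) * (((ordCompl[2] (qq - 1) : ℕ) : ℂ) - 1) -
          (qq : ℂ) * ((qq : ℂ) - 1) * (((ordCompl[2] (qq + 1) : ℕ) : ℂ) - 1) ∧
      2 * ∑ g ∈ Finset.univ.filter (fun g : PG F => Odd (orderOf g)),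
          (ψ : PG F → ℂ) g * (ψ : PG F → ℂ) g =
        2 * (qq : ℂ) ^ 2 + (qq : ℂ) * ((qq : ℂ) + 1) * (((ordCompl[2] (qq - 1) : ℕ) : ℂ) - 1) +
          (qq : ℂ) * ((qq : ℂ) - 1) * (((ordCompl[2] (qq + 1) : ℕ) : ℂ) - 1) := by
  obtain ⟨te, Ne, hte, hcte, hcls, hse, hsu, heu, hell⟩ := exists_tori (F := F) hq
  obtain ⟨hcs, hcts, hts⟩ := ts_isTorus (F := F) hq
  have hu0 : u0 (F := F) ≠ 1 := fun e => by
    obtain ⟨a, ha⟩ := pm_eq_one.mp e
    exact one_ne_zero (bor_injective ha).2.2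
  have hψc : ∀ x g, (ψ : PG F → ℂ) (x * g * x⁻¹) = (ψ : PG F → ℂ) g := fun x g =>
    isClassFunction_irr ψ.2 g x
  have v1 : (ψ : PG F → ℂ) 1 = qq := by rw [← map_one (pm (F := F)), hψ, st_one]
  have vu : (ψ : PG F → ℂ) u0 = 0 := by rw [hψ, st_bor_unip _ _ one_ne_zero]
  have vs : ∀ a ∈ ts (F := F), a ≠ 1 → (ψ : PG F → ℂ) a = 1 := by
    rintro a ⟨c, ⟨a', b', rfl⟩, rfl⟩ ha1
    have hab : a' ≠ b' := fun e => ha1 (pm_eq_one.mpr ⟨a', by rw [e]⟩)
    rw [hψ, st_bor_ne _ hab]; simp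
  have ve : ∀ a ∈ te, a ≠ 1 → (ψ : PG F → ℂ) a = -1 := by
    intro a hat ha1
    obtain ⟨c, hc, rfl⟩ := hell a hat ha1
    rw [hψ, st_ell _ hc, MulChar.one_apply (isUnit_iff_ne_zero.mpr (det_ne c))]
  have G := odd_general hts hte hu0 (odd_u0 hodd h2) hcls hse hsu heu
  have hP : (Nat.card (PG F) : ℂ) = ((qq : ℂ) + 1) * qq * ((qq : ℂ) - 1) := by
    rw [card_PG]; push_cast [Nat.cast_sub (show 1 ≤ qq by omega)]; ring
  rw [hP, card_cent_u0 h2, hcts, hcte, Nat.cast_sub (show 1 ≤ qq by omega), Nat.cast_add,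
    Nat.cast_one] at G
  have q0 : (qq : ℂ) ≠ 0 := by simp
  have q1 : (qq : ℂ) - 1 ≠ 0 := sub_ne_zero.mpr (by exact_mod_cast (show qq ≠ 1 by omega))
  have q2 : (qq : ℂ) + 1 ≠ 0 := by exact_mod_cast Nat.succ_ne_zero qq
  refine ⟨?_, ?_, ?_⟩
  · have h := G (fun _ => 1) (fun _ _ => rfl) 1 1 (fun _ _ _ => rfl) (fun _ _ _ => rfl)
    rw [Finset.sum_const, nsmul_eq_mul, mul_one] at h
    rw [h]; field_simp; ring
  · rw [G _ hψc 1 (-1) vs ve, v1, vu]
    field_simp; ring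
  · rw [G (fun g => (ψ : PG F → ℂ) g * (ψ : PG F → ℂ) g) (fun x g => by simp only [hψc]) 1 1
      (fun a ha h => by rw [vs a ha h, mul_one])
      (fun a ha h => by rw [ve a ha h, neg_mul_neg, one_mul]), v1, vu]
    field_simp; ring

/-- An element of order not dividing `q` lies in a torus. -/
theorem exists_torus_mem (hq : 3 ≤ qq) (h2 : (2 : F) ≠ 0) {g : PG F} (hg : ¬ orderOf g ∣ qq) :
    ∃ T N : Subgroup (PG F), IsTorus T N ∧ g ∈ T ∧
      (Nat.card T = qq - 1 ∨ Nat.card T = qq + 1) := by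
  obtain ⟨te, Ne, hte, hcte, hcls, -⟩ := exists_tori (F := F) hq
  obtain ⟨-, hcts, hts⟩ := ts_isTorus (F := F) hq
  have hg1 : g ≠ 1 := fun e => hg (by rw [e, orderOf_one]; exact one_dvd _)
  have key : ∀ (T N : Subgroup (PG F)), IsTorus T N → ∀ t ∈ T, IsConj t g →
      ∃ T' N' : Subgroup (PG F), IsTorus T' N' ∧ g ∈ T' ∧ Nat.card T' = Nat.card T := by
    intro T N hT t ht h
    obtain ⟨x, rfl⟩ := isConj_iff.mp h
    exact ⟨_, _, hT.conj x, ⟨t, ht, rfl⟩,
      (Nat.card_congr (T.equivMapOfInjective _ (MulAut.conj x).injective).toEquiv).symm⟩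
  rcases hcls g hg1 with ⟨t, ht, h⟩ | ⟨t, ht, h⟩ | h
  · obtain ⟨T, N, h1, h2', h3⟩ := key _ _ hts t ht h
    exact ⟨T, N, h1, h2', Or.inl (h3.trans hcts)⟩
  · obtain ⟨T, N, h1, h2', h3⟩ := key _ _ hte t ht h
    exact ⟨T, N, h1, h2', Or.inr (h3.trans hcte)⟩
  · refine absurd ?_ hg
    obtain ⟨x, rfl⟩ := isConj_iff.mp h
    rw [show orderOf (x * u0 * x⁻¹) = orderOf (u0 (F := F)) from
      orderOf_injective (MulAut.conj x).toMonoidHom (MulAut.conj x).injective _, ← card_cent_u0 h2]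
    exact Subgroup.orderOf_dvd_natCard _ (Subgroup.mem_centralizer_singleton_iff.mpr rfl)

end CfsgLib.AlmostCyclic
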