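import Cfsg.Agent.Lib.GL2Char.Elements

/-!
# The two tori of a projective linear group of degree two
-/

set_option autoImplicit false
set_option linter.unusedSectionVars false

namespace CfsgLib.AlmostCyclic

open Matrix Subgroup CfsgLib.GL2Char

universe u

variable (F : Type u) [Field F] [Fintype F] [DecidableEq F]

/-- The projective general linear group of degree two, as a quotient by the centre. -/
abbrev PG : Type u :=
  Matrix.GeneralLinearGroup (Fin 2) F ⧸ Subgroup.center (Matrix.GeneralLinearGroup (Fin 2) F)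

variable {F}

local notation "M2" => Matrix (Fin 2) (Fin 2) F
local notation "GL2" => Matrix.GeneralLinearGroup (Fin 2) F

/-- The projection to `PG`. -/
abbrev pm : GL2 →* PG F := QuotientGroup.mk' (Subgroup.center GL2)

theorem pm_surjective : Function.Surjective (pm (F := F)) := QuotientGroup.mk'_surjective _

theorem mem_center_bor {g : GL2} : g ∈ Subgroup.center GL2 ↔ ∃ a : Fˣ, g = bor a a 0 := by
  constructor
  · intro h
    obtain ⟨r, hr⟩ := Matrix.GeneralLinearGroup.mem_center_iff_val_mem_range_scalar.mp h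
    have hr0 : r ≠ 0 := fun e => det_ne g (by rw [← hr, e]; simp [Matrix.det_fin_two])
    refine ⟨Units.mk0 r hr0, Units.ext ?_⟩
    rw [← hr, bor_coe]
    ext i j
    fin_cases i <;> fin_cases j <;> simp
  · rintro ⟨a, rfl⟩
    exact Subgroup.mem_center_iff.mpr fun x => (scalar_comm a x).eq.symm

theorem pm_eq_one {g : GL2} : pm g = 1 ↔ ∃ a : Fˣ, g = bor a a 0 := by
  rw [QuotientGroup.mk'_apply, QuotientGroup.eq_one_iff, mem_center_bor]

theorem pm_eq {g h : GL2} : pm g = pm h ↔ ∃ a : Fˣ, h = g * bor a a 0 := by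
  rw [QuotientGroup.mk'_apply, QuotientGroup.mk'_apply, QuotientGroup.eq, mem_center_bor]
  exact exists_congr fun a => inv_mul_eq_iff_eq_mul

theorem val_mul_scalar (g : GL2) (a : Fˣ) : (g * bor a a 0).1 = (a : F) • g.1 := by
  rw [Units.val_mul, bor_coe]
  ext i j
  fin_cases i <;> fin_cases j <;> simp [Matrix.mul_apply, Fin.sum_univ_two, mul_comm]

/-- A maximal torus of `GL₂`. -/
structure Tor (C : Subgroup (Matrix.GeneralLinearGroup (Fin 2) F)) : Prop where
  sca : ∀ a : Fˣ, bor a a 0 ∈ C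
  comm : ∀ x ∈ C, ∀ y ∈ C, x * y = y * x
  cent : ∀ c ∈ C, (∀ a : F, c.1 ≠ a • (1 : Matrix (Fin 2) (Fin 2) F)) →
    Subgroup.centralizer ({c} : Set (Matrix.GeneralLinearGroup (Fin 2) F)) = C
  pair : ∀ c ∈ C, (∀ a : F, c.1 ≠ a • (1 : Matrix (Fin 2) (Fin 2) F)) → ∀ d ∈ C,
    d.1.trace = c.1.trace → d.1.det = c.1.det → d = c ∨ d = bar c
  nt : ∀ c ∈ C, (∀ a : F, c.1 ≠ a • (1 : Matrix (Fin 2) (Fin 2) F)) → bar c ≠ c

namespace Tor

variable {C : Subgroup (Matrix.GeneralLinearGroup (Fin 2) F)}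

/-- The elements acting on the torus as the identity or as the Galois conjugation. -/
def flip (hT : Tor C) : Subgroup GL2 where
  carrier := {x | (∀ d ∈ C, x * d * x⁻¹ = d) ∨ ∀ d ∈ C, x * d * x⁻¹ = bar d}
  one_mem' := Or.inl fun d _ => by group
  mul_mem' := by
    intro a b ha hb
    have e : ∀ d, a * b * d * (a * b)⁻¹ = a * (b * d * b⁻¹) * a⁻¹ := fun d => by group
    rcases ha with ha | ha <;> rcases hb with hb | hb
    · exact Or.inl fun d hd => by rw [e, hb d hd, ha d hd]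
    · exact Or.inr fun d hd => by rw [e, hb d hd, ha _ (bar_mem C hT.sca hd)]
    · exact Or.inr fun d hd => by rw [e, hb d hd, ha d hd]
    · exact Or.inl fun d hd => by rw [e, hb d hd, ha _ (bar_mem C hT.sca hd), bar_bar]
  inv_mem' := by
    intro a ha
    rcases ha with ha | ha
    · exact Or.inl fun d hd => by conv_lhs => rw [← ha d hd]; simp [mul_assoc]
    · refine Or.inr fun d hd => ?_
      have h := ha _ (bar_mem C hT.sca hd)
      rw [bar_bar] at h
      conv_lhs => rw [← h]; simp [mul_assoc]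

theorem le_flip (hT : Tor C) : C ≤ hT.flip := fun x hx => Or.inl fun d hd => by
  rw [hT.comm x hx d hd, mul_inv_cancel_right]

theorem scalar_of_eq {g : GL2} {a : F} (h : g.1 = a • (1 : M2)) : ∃ u : Fˣ, g = bor u u 0 := by
  have ha : a ≠ 0 := fun e => det_ne g (by rw [h, e]; simp [Matrix.det_fin_two])
  refine ⟨Units.mk0 a ha, Units.ext ?_⟩
  rw [h, bor_coe]
  ext i j
  fin_cases i <;> fin_cases j <;> simp

theorem nonscalar_of_ne {c : GL2} (h : pm c ≠ 1) : ∀ a : F, c.1 ≠ a • (1 : M2) := fun a e =>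
  h (pm_eq_one.mpr (scalar_of_eq e))

theorem bar_smul_add (hT : Tor C) {c d : GL2} (hc : c ∈ C) (hcn : ∀ a : F, c.1 ≠ a • (1 : M2))
    (hd : d ∈ C) : ∃ u v : F, d.1 = u • (1 : M2) + v • c.1 ∧
      (bar d).1 = u • (1 : M2) + v • (bar c).1 := by
  have hcomm : Commute d.1 c.1 := congrArg Units.val (hT.comm d hd c hc)
  obtain ⟨u, v, huv⟩ := SL2Centralizer.exists_of_commute hcn hcomm
  refine ⟨u, v, huv, ?_⟩
  rw [bar_coe, bar_coe, huv, Matrix.trace_add, Matrix.trace_smul, Matrix.trace_smul,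
    Matrix.trace_one, Fintype.card_fin]
  push_cast
  simp only [smul_sub, smul_smul, smul_eq_mul, add_smul]
  rw [show (u * 2) • (1 : M2) = u • (1 : M2) + u • (1 : M2) by rw [← add_smul]; ring_nf]
  abel

/-- A single conjugation determines the action. -/
theorem mem_flip_of (hT : Tor C) {c x : GL2} (hc : c ∈ C) (hcn : ∀ a : F, c.1 ≠ a • (1 : M2))
    (hx : x * c * x⁻¹ = bar c) : ∀ d ∈ C, x * d * x⁻¹ = bar d := by
  intro d hd
  obtain ⟨u, v, h1, h2⟩ := hT.bar_smul_add hc hcn hd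
  apply Units.ext
  rw [h2, Units.val_mul, Units.val_mul, h1, Matrix.mul_add, Matrix.add_mul, Matrix.mul_smul,
    Matrix.mul_smul, Matrix.smul_mul, Matrix.smul_mul, Matrix.mul_one, ← Units.val_mul x x⁻¹,
    mul_inv_cancel, Units.val_one, ← hx, Units.val_mul, Units.val_mul]

/-- Conjugating a non-scalar element back into the torus. -/
theorem mem_flip_of_conj (hT : Tor C) {c x : GL2} (hc : c ∈ C) (hcn : ∀ a : F, c.1 ≠ a • (1 : M2))
    (hx : x * c * x⁻¹ ∈ C) : x ∈ hT.flip := by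
  rcases hT.pair c hc hcn _ hx (trace_conj c x) (det_conj c x) with h | h
  · apply hT.le_flip
    rw [← hT.cent c hc hcn, Subgroup.mem_centralizer_singleton_iff]
    exact mul_inv_eq_iff_eq_mul.mp h
  · exact Or.inr (hT.mem_flip_of hc hcn h)

theorem exists_flip (hT : Tor C) {c : GL2} (hc : c ∈ C) (hcn : ∀ a : F, c.1 ≠ a • (1 : M2)) :
    ∃ w ∈ hT.flip, w ∉ C := by
  have hbn : ∀ a : F, (bar c).1 ≠ a • (1 : M2) := fun a e => by
    obtain ⟨u, hu⟩ := scalar_of_eq e
    refine hcn (u : F) ?_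
    rw [← bar_bar c, hu, bar_scalar, bor_coe]
    ext i j
    fin_cases i <;> fin_cases j <;> simp
  obtain ⟨w, hw⟩ := isConj_iff.mp
    (isConj_of_charpoly (g := c) (h := bar c) hcn hbn (trace_bar c) (det_bar c))
  refine ⟨w, Or.inr (hT.mem_flip_of hc hcn hw), fun hwC => hT.nt c hc hcn ?_⟩
  rw [← hw, hT.comm w hwC c hc, mul_inv_cancel_right]


theorem mem_C_or (hT : Tor C) {c x : GL2} (hc : c ∈ C) (hcn : ∀ a : F, c.1 ≠ a • (1 : M2))
    (hx : x ∈ hT.flip) : x ∈ C ∨ ∀ d ∈ C, x * d * x⁻¹ = bar d := by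
  rcases hx with hx | hx
  · left
    rw [← hT.cent c hc hcn, Subgroup.mem_centralizer_singleton_iff]
    exact mul_inv_eq_iff_eq_mul.mp (hx c hc)
  · exact Or.inr hx

end Tor

/-- The abstract properties of a torus of `PG`. -/
structure IsTorus {P : Type u} [Group P] (T N : Subgroup P) : Prop where
  cyc : IsCyclic T
  le : T ≤ N
  card_N : Nat.card N = 2 * Nat.card T
  inv : ∀ x ∈ N, x ∉ T → ∀ t ∈ T, x * t * x⁻¹ = t⁻¹
  ti : ∀ t ∈ T, t ≠ 1 → ∀ x, x * t * x⁻¹ ∈ T → x ∈ N

theorem pm_bar (c : GL2) : pm (bar c) = (pm c)⁻¹ := by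
  rw [← map_inv, eq_comm, pm_eq]
  exact ⟨Matrix.GeneralLinearGroup.det c, (scalar_comm (Matrix.GeneralLinearGroup.det c) c⁻¹).eq⟩

theorem Tor.isTorus {C : Subgroup (Matrix.GeneralLinearGroup (Fin 2) F)} (hT : Tor C)
    (hcyc : IsCyclic (C.map pm)) (hne : C.map pm ≠ ⊥) :
    IsTorus (C.map pm) (hT.flip.map pm) := by
  obtain ⟨c0, hc0, hc0n⟩ : ∃ c ∈ C, pm c ≠ 1 := by
    by_contra h
    push Not at h
    refine hne ((Subgroup.eq_bot_iff_forall _).mpr fun y hy => ?_)
    obtain ⟨c, hc, rfl⟩ := Subgroup.mem_map.mp hy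
    exact h c hc
  have hker : ∀ x : GL2, pm x ∈ C.map pm → x ∈ C := fun x hx => by
    obtain ⟨y, hy, hxy⟩ := Subgroup.mem_map.mp hx
    obtain ⟨a, rfl⟩ := pm_eq.mp hxy
    exact mul_mem hy (hT.sca a)
  have hinv : ∀ x ∈ hT.flip, x ∉ C → ∀ d ∈ C, pm x * pm d * (pm x)⁻¹ = (pm d)⁻¹ := by
    intro x hx hxC d hd
    rw [← map_mul, ← map_inv, ← map_mul,
      (hT.mem_C_or hc0 (Tor.nonscalar_of_ne hc0n) hx).resolve_left hxC d hd, pm_bar]
  refine ⟨hcyc, Subgroup.map_mono hT.le_flip, ?_, ?_, ?_⟩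
  · obtain ⟨w, hw, hwC⟩ := hT.exists_flip hc0 (Tor.nonscalar_of_ne hc0n)
    have hidx : ((C.map pm).subgroupOf (hT.flip.map pm)).index = 2 := by
      rw [Subgroup.index_eq_two_iff]
      refine ⟨⟨pm w, Subgroup.mem_map_of_mem _ hw⟩, fun b => ?_⟩
      obtain ⟨b, hb⟩ := b
      obtain ⟨x, hx, rfl⟩ := Subgroup.mem_map.mp hb
      simp only [Subgroup.mem_subgroupOf, Subgroup.coe_mul]
      rw [← map_mul]
      by_cases hxC : x ∈ C
      · refine Or.inr ⟨Subgroup.mem_map_of_mem _ hxC, fun h => hwC ?_⟩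
        simpa using mul_mem (inv_mem hxC) (hker _ h)
      · refine Or.inl ⟨Subgroup.mem_map_of_mem _ ?_, fun h => hxC (hker _ h)⟩
        have h0 := Tor.nonscalar_of_ne hc0n
        rw [← hT.cent c0 hc0 h0, Subgroup.mem_centralizer_singleton_iff]
        have hw' := (hT.mem_C_or hc0 h0 hw).resolve_left hwC c0 hc0
        have hx' := (hT.mem_C_or hc0 h0 hx).resolve_left hxC _ (bar_mem C hT.sca hc0)
        rw [bar_bar] at hx'
        rw [← mul_inv_eq_iff_eq_mul]
        calc x * w * c0 * (x * w)⁻¹ = x * (w * c0 * w⁻¹) * x⁻¹ := by group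
          _ = c0 := by rw [hw', hx']
    have h := ((C.map pm).subgroupOf (hT.flip.map pm)).index_mul_card
    rw [hidx, Nat.card_congr (Subgroup.subgroupOfEquivOfLe (Subgroup.map_mono hT.le_flip)).toEquiv] at h
    exact h.symm
  · intro x hx hxT t ht
    obtain ⟨x, hx', rfl⟩ := Subgroup.mem_map.mp hx
    obtain ⟨d, hd, rfl⟩ := Subgroup.mem_map.mp ht
    exact hinv x hx' (fun h => hxT (Subgroup.mem_map_of_mem _ h)) d hd
  · intro t ht ht1 y hy
    obtain ⟨c, hc, rfl⟩ := Subgroup.mem_map.mp ht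
    obtain ⟨x, rfl⟩ := pm_surjective y
    rw [← map_mul, ← map_inv, ← map_mul] at hy
    exact Subgroup.mem_map_of_mem _ (hT.mem_flip_of_conj hc (Tor.nonscalar_of_ne ht1) (hker _ hy))

/-- The diagonal subgroup. -/
def diagC (F : Type u) [Field F] [Fintype F] [DecidableEq F] :
    Subgroup (Matrix.GeneralLinearGroup (Fin 2) F) where
  carrier := {g | ∃ a b : Fˣ, g = bor a b 0}
  one_mem' := ⟨1, 1, bor_one.symm⟩
  mul_mem' := by
    rintro _ _ ⟨a, b, rfl⟩ ⟨c, d, rfl⟩
    exact ⟨a * c, b * d, by rw [bor_mul]; simp⟩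
  inv_mem' := by
    rintro _ ⟨a, b, rfl⟩
    exact ⟨a⁻¹, b⁻¹, inv_eq_of_mul_eq_one_right (by rw [bor_mul]; simp [bor_one])⟩

theorem tor_diag : Tor (diagC F) := by
  have hns : ∀ c ∈ diagC F, (∀ r : F, c.1 ≠ r • (1 : M2)) → ∃ a b : Fˣ, a ≠ b ∧ c = bor a b 0 := by
    rintro c ⟨a, b, rfl⟩ h
    refine ⟨a, b, fun e => h (a : F) ?_, rfl⟩
    subst e
    ext i j
    fin_cases i <;> fin_cases j <;> simp
  have hbar : ∀ a b : Fˣ, bar (bor a b 0) = bor b a 0 := fun a b => Units.ext (by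
    rw [bar_coe, trace_bor, bor_coe, bor_coe]
    ext i j
    fin_cases i <;> fin_cases j <;> simp)
  refine ⟨fun a => ⟨a, a, rfl⟩, ?_, ?_, ?_, ?_⟩
  · rintro x ⟨a, b, rfl⟩ y ⟨c, d, rfl⟩
    rw [bor_mul, bor_mul, mul_comm c a, mul_comm d b]; simp
  · intro c hc hcn
    obtain ⟨a, b, hab, rfl⟩ := hns c hc hcn
    refine le_antisymm (fun y hy => ?_) fun y hy => ?_
    · have h : Commute y.1 (bor a b 0).1 :=
        congrArg Units.val (Subgroup.mem_centralizer_singleton_iff.mp hy)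
      obtain ⟨u, v, huv⟩ := SL2Centralizer.exists_of_commute hcn h
      have h10 : y.1 1 0 = 0 := by rw [huv]; simp
      obtain ⟨a', b', x', -, -, hx', he⟩ := eq_bor_of_lower h10
      have h01 : x' = 0 := by rw [hx', huv]; simp
      exact ⟨a', b', by rw [he, h01]⟩
    · obtain ⟨a', b', rfl⟩ := hy
      rw [Subgroup.mem_centralizer_singleton_iff, bor_mul, bor_mul, mul_comm a' a, mul_comm b' b]
      simp
  · intro c hc hcn d hd ht hdet
    obtain ⟨a, b, hab, rfl⟩ := hns c hc hcn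
    obtain ⟨a', b', rfl⟩ := hd
    rw [trace_bor, trace_bor] at ht
    rw [det_bor, det_bor] at hdet
    have : ((a' : F) - a) * ((a' : F) - b) = 0 := by linear_combination (a' : F) * ht - hdet
    rw [hbar]
    rcases mul_eq_zero.mp this with e | e
    · have ea : (a' : F) = a := sub_eq_zero.mp e
      refine Or.inl ?_
      rw [Units.ext ea, show b' = b from Units.ext (by linear_combination ht - ea)]
    · have ea : (a' : F) = b := sub_eq_zero.mp e
      refine Or.inr ?_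
      rw [Units.ext ea, show b' = a from Units.ext (by linear_combination ht - ea)]
  · intro c hc hcn e
    obtain ⟨a, b, hab, rfl⟩ := hns c hc hcn
    rw [hbar] at e
    exact hab (bor_injective e).1.symm

theorem tor_ell (C : Subgroup (Matrix.GeneralLinearGroup (Fin 2) F)) (hC : IsCyclic C)
    (hcard : Nat.card C = Fintype.card F ^ 2 - 1) (hZ : ∀ a : Fˣ, bor a a 0 ∈ C) : Tor C := by
  have hell : ∀ c ∈ C, (∀ r : F, c.1 ≠ r • (1 : M2)) → Ell c := by
    intro c hc h
    rcases torus_cases C hC hcard hZ hc with he | ⟨a, rfl⟩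
    · exact he
    · refine absurd ?_ (h (a : F))
      ext i j
      fin_cases i <;> fin_cases j <;> simp
  exact ⟨hZ, fun x hx y hy => by
      letI := hC.commGroup
      exact congrArg Subtype.val (mul_comm (⟨x, hx⟩ : C) ⟨y, hy⟩),
    fun c hc h => centralizer_eq C hC hcard hZ hc (hell c hc h),
    fun c hc h d hd => eq_or_bar C hC hcard hZ hc (hell c hc h) hd,
    fun c hc h => bar_ne (hell c hc h)⟩

end CfsgLib.AlmostCyclic
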