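import Cfsg.Agent.Lib.AlmostCyclic.Cover

/-!
# The reduction to the simple case
-/

set_option autoImplicit false
set_option linter.style.haveILetI false
set_option linter.unusedSectionVars false
set_option maxHeartbeats 400000

namespace CfsgLib.AlmostCyclic

open Cfsg
open scoped commutatorElement

universe u

variable {G : Type u} [Group G] [Finite G]

/-- The largest perfect subgroup of a subgroup. -/
def pc (M : Subgroup G) : Subgroup G := sSup {H | H ≤ M ∧ ⁅H, H⁆ = H}

theorem pc_le (M : Subgroup G) : pc M ≤ M := sSup_le fun _ h => h.1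

theorem pc_perfect (M : Subgroup G) : ⁅pc M, pc M⁆ = pc M := by
  refine le_antisymm (Subgroup.commutator_le_self _) (sSup_le fun H hH => ?_)
  rw [← hH.2]
  have h : H ≤ pc M := le_sSup hH
  exact Subgroup.commutator_mono h h

theorem pc_normal (M : Subgroup G) [M.Normal] : (pc M).Normal := by
  have key : ∀ g : G, (pc M).map (MulAut.conj g).toMonoidHom ≤ pc M := by
    intro g
    refine le_sSup ⟨?_, ?_⟩
    · rintro _ ⟨x, hx, rfl⟩
      exact (inferInstance : M.Normal).conj_mem x (pc_le M hx) g
    · rw [← Subgroup.map_commutator, pc_perfect]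
  exact ⟨fun x hx g => key g ⟨x, hx, rfl⟩⟩

theorem pc_ne_bot (M : Subgroup G) (hM : ¬ Group.IsSolvable M) : pc M ≠ ⊥ := by
  classical
  obtain ⟨H, ⟨hHM, hHns⟩, hmin⟩ := Set.Finite.exists_minimalFor (fun H : Subgroup G => Nat.card H)
    {H : Subgroup G | H ≤ M ∧ ¬ Group.IsSolvable H} (Set.toFinite _) ⟨M, le_rfl, hM⟩
  have hle : ⁅H, H⁆ ≤ H := Subgroup.commutator_le_self H
  have hperf : ⁅H, H⁆ = H := by
    by_contra hne
    have hsol : Group.IsSolvable ↥⁅H, H⁆ := by
      by_contra h
      have h1 := hmin ⟨hle.trans hHM, h⟩ (Subgroup.card_le_of_le hle)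
      exact hne (Subgroup.eq_of_le_of_card_ge hle h1)
    refine hHns ?_
    haveI : Group.IsSolvable ↥(commutator ↥H) := by
      have e : (commutator ↥H).map H.subtype = ⁅H, H⁆ := Subgroup.map_subtype_commutator H
      rw [← e] at hsol
      exact Group.isSolvable_of_surjective
        (f := ((commutator ↥H).equivMapOfInjective H.subtype H.subtype_injective).symm.toMonoidHom)
        ((commutator ↥H).equivMapOfInjective H.subtype H.subtype_injective).symm.surjective
    exact solvable_of_ker_le_range (commutator ↥H).subtype Abelianization.of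
      (le_of_eq ((Abelianization.ker_of _).trans (commutator ↥H).range_subtype.symm))
  intro hbot
  have h1 : H ≤ pc M := le_sSup ⟨hHM, hperf⟩
  rw [hbot, le_bot_iff] at h1
  refine hHns ?_
  subst h1
  infer_instance

/-- A perfect group with a cover as asserted, in the whole group. -/
theorem str_of_pc (hG : AC G) (hK : Cov ↥(pc (⊤ : Subgroup G))) : Str G :=
  haveI := pc_normal (⊤ : Subgroup G)
  str_of_cov hG _ hK

/-- A nontrivial perfect group with almost cyclic Sylow subgroups is `PSL₂(p)` or `SL₂(p)`. -/
theorem cov_of_perfect : ∀ n : ℕ, ∀ (L : Type u) [Group L] [Finite L], Nat.card L = n →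
    AC L → commutator L = ⊤ → Nontrivial L → Cov L := by
  intro n
  induction n using Nat.strong_induction_on with
  | _ n ih =>
    intro L _ _ hn hL hperf hnt
    classical
    subst hn
    -- the structure of the smaller groups
    have ihS : ∀ (H : Type u) [Group H] [Finite H], Nat.card H < Nat.card L → AC H →
        ¬ Group.IsSolvable H → Str H := by
      intro H _ _ hlt hH hns
      have hne : pc (⊤ : Subgroup H) ≠ ⊥ := pc_ne_bot ⊤ fun h =>
        hns (Group.isSolvable_of_surjective (f := (Subgroup.topEquiv (G := H)).toMonoidHom)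
          (Subgroup.topEquiv (G := H)).surjective)
      refine str_of_pc hH (ih _ (lt_of_le_of_lt (Subgroup.card_le_card_group _) hlt) _ rfl
        (hH.subgroup _) (perfect_commutator_top (pc_perfect _)) ?_)
      exact (Subgroup.nontrivial_iff_ne_bot _).mpr hne
    -- a maximal normal subgroup
    obtain ⟨M, ⟨hMn, hMtop⟩, hmax⟩ := Set.Finite.exists_maximalFor (fun H : Subgroup L => Nat.card H)
      {H : Subgroup L | H.Normal ∧ H ≠ ⊤} (Set.toFinite _)
      ⟨⊥, inferInstance, (bot_lt_top (α := Subgroup L)).ne⟩
    haveI := hMn
    haveI : Nontrivial (L ⧸ M) := QuotientGroup.nontrivial_iff.mpr hMtop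
    haveI : IsSimpleGroup (L ⧸ M) := by
      refine ⟨fun N hN => ?_⟩
      by_cases htop : N.comap (QuotientGroup.mk' M) = ⊤
      · refine Or.inr (eq_top_iff.mpr fun x _ => ?_)
        obtain ⟨x, rfl⟩ := QuotientGroup.mk'_surjective M x
        exact (htop.ge (Subgroup.mem_top x) :)
      · have hle : M ≤ N.comap (QuotientGroup.mk' M) := QuotientGroup.le_comap_mk' M N
        have h1 := hmax ⟨hN.comap _, htop⟩ (Subgroup.card_le_of_le hle)
        have e := Subgroup.eq_of_le_of_card_ge hle h1
        refine Or.inl ((Subgroup.eq_bot_iff_forall _).mpr fun x hx => ?_)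
        obtain ⟨x, rfl⟩ := QuotientGroup.mk'_surjective M x
        have : x ∈ M := e.ge hx
        exact (QuotientGroup.eq_one_iff x).mpr this
    have hqns : ¬ Group.IsSolvable (L ⧸ M) := by
      intro h
      have hcomm : ∀ a b : L, Commute (QuotientGroup.mk' M a) (QuotientGroup.mk' M b) := fun a b =>
        IsSimpleGroup.comm_iff_isSolvable.mpr h _ _
      refine hMtop (eq_top_iff.mpr fun x _ => ?_)
      exact (QuotientGroup.eq_one_iff x).mp (perfect_hom_trivial hperf (QuotientGroup.mk' M) hcomm x)
    have hqAC : AC (L ⧸ M) := hL.of_surjective _ (QuotientGroup.mk'_surjective M)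
    have hind : Ind (L ⧸ M) := by
      intro H hH hHns
      refine ihS H (lt_of_lt_of_le ?_ (Nat.le_of_dvd Nat.card_pos
        (Subgroup.card_dvd_of_surjective _ (QuotientGroup.mk'_surjective M)))) (hqAC.subgroup H) hHns
      exact lt_of_le_of_ne (Subgroup.card_le_card_group H) fun e =>
        hH (Subgroup.eq_top_of_card_eq H e)
    obtain ⟨p, hp, hp5, ⟨eq⟩⟩ := simple_psl hqAC hqns hind
    set ρ : L →* Matrix.ProjectiveSpecialLinearGroup (Fin 2) (ZMod p) :=
      eq.toMonoidHom.comp (QuotientGroup.mk' M) with hρ
    have hρs : Function.Surjective ρ := eq.surjective.comp (QuotientGroup.mk'_surjective M)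
    have hρk : ρ.ker = M := by
      ext x
      rw [MonoidHom.mem_ker, hρ, MonoidHom.comp_apply]
      exact (EmbeddingLike.map_eq_one_iff (f := eq)).trans (QuotientGroup.eq_one_iff x)
    have hp2 : p ≠ 2 := by omega
    have hMsol : Group.IsSolvable M := by
      by_contra hMns
      haveI := pc_normal M
      have hne := pc_ne_bot M hMns
      have hlt : Nat.card (pc M) < Nat.card L := lt_of_le_of_lt (Subgroup.card_le_of_le (pc_le M))
        (lt_of_le_of_ne (Subgroup.card_le_card_group M) fun e => hMtop (Subgroup.eq_top_of_card_eq M e))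
      set K := pc M with hKd
      obtain ⟨hK, q, hq, hq5, hiso⟩ := ih _ hlt _ rfl (hL.subgroup _)
        (perfect_commutator_top (pc_perfect M)) ((Subgroup.nontrivial_iff_ne_bot _).mpr hne)
      have hq2 : q ≠ 2 := by omega
      obtain ⟨ψ, hψ, hker, hcard⟩ := exists_proj hq2 hiso
      have hidx := index_sup_centralizer hq5 K hK ψ hψ hker
      set W := K ⊔ Subgroup.centralizer (K : Set L) with hW
      have hWtop : W = ⊤ := by
        rcases (Nat.dvd_prime Nat.prime_two).mp hidx with h | h
        · exact Subgroup.index_eq_one.mp h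
        · exfalso
          haveI := Subgroup.normal_of_index_eq_two h
          have hcard2 : Nat.card (L ⧸ W) = 2 := by rw [← Subgroup.index_eq_card]; exact h
          haveI : IsMulCommutative (L ⧸ W) := by
            haveI := Fact.mk Nat.prime_two
            haveI := isCyclic_of_prime_card hcard2
            infer_instance
          have htriv := fun x => perfect_hom_trivial hperf (QuotientGroup.mk' W)
            (fun a b => (IsMulCommutative.is_comm (M := L ⧸ W)).comm _ _) x
          have : W = ⊤ := eq_top_iff.mpr fun x _ => (QuotientGroup.eq_one_iff x).mp (htriv x)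
          rw [this, Subgroup.index_top] at h
          norm_num at h
      -- three divides both orders
      have h3K : 3 ∣ Nat.card K :=
        (three_dvd_psl hq2).trans (Subgroup.card_dvd_of_surjective ψ hψ)
      have h3C : 3 ∣ Nat.card (Subgroup.centralizer (K : Set L)) := by
        refine (three_dvd_psl hp2).trans (Subgroup.card_dvd_of_surjective
          (ρ.comp (Subgroup.centralizer (K : Set L)).subtype) fun y => ?_)
        obtain ⟨x, rfl⟩ := hρs y
        obtain ⟨k, hk, c, hc, rfl⟩ := Subgroup.mem_sup_of_normal_left.mp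
          (show x ∈ W by rw [hWtop]; trivial)
        refine ⟨⟨c, hc⟩, ?_⟩
        have h1 : ρ k = 1 := MonoidHom.mem_ker.mp (hρk.symm ▸ pc_le M hk)
        rw [map_mul, h1, one_mul]
        rfl
      haveI := hq
      have hcenter : Subgroup.center K ≤ ψ.ker := by
        intro z hz
        haveI : IsSimpleGroup (Matrix.ProjectiveSpecialLinearGroup (Fin 2) (ZMod q)) :=
          Matrix.ProjectiveSpecialLinearGroup.rank_two_simple (by rw [Nat.card_zmod]; omega)
        have hmem : ψ z ∈ Subgroup.center (Matrix.ProjectiveSpecialLinearGroup (Fin 2) (ZMod q)) := by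
          refine Subgroup.mem_center_iff.mpr fun b => ?_
          obtain ⟨b, rfl⟩ := hψ b
          rw [← map_mul, ← map_mul, Subgroup.mem_center_iff.mp hz b]
        rcases (inferInstance : (Subgroup.center (Matrix.ProjectiveSpecialLinearGroup (Fin 2) (ZMod q))).Normal).eq_bot_or_eq_top
          with e | e
        · rw [e, Subgroup.mem_bot] at hmem
          exact hmem
        · exact absurd (IsSimpleGroup.comm_iff_isSolvable.mp fun a b =>
            Subgroup.mem_center_iff.mp (show b ∈ Subgroup.center _ by rw [e]; trivial) a)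
            (psl_not_solvable hq5)
      exact no_common_prime hL K ψ hcard hcenter Nat.prime_three (by norm_num) h3K h3C
    -- the kernel is a Z-group
    haveI := hMsol
    haveI : IsZGroup ↥M := by
      refine ⟨fun r hr P => ?_⟩
      by_cases hr2 : r = 2
      · subst hr2
        haveI := Fact.mk hr
        obtain ⟨T, hT⟩ := (P.2.map M.subtype).exists_le_sylow
        obtain ⟨a, ha⟩ := hL.two T
        have hsub : ∀ b ∈ (T : Subgroup L), b ∈ M → b ∈ Subgroup.zpowers (a : L) := by
          intro b hb hbM
          by_contra hba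
          have hsimp : IsSimpleGroup (Matrix.ProjectiveSpecialLinearGroup (Fin 2) (ZMod p)) :=
            Matrix.ProjectiveSpecialLinearGroup.rank_two_simple (by rw [Nat.card_zmod]; omega)
          haveI := hsimp
          refine sylow_two_not_cyclic (psl_not_solvable hp5) ?_ (T.mapSurjective hρs) ?_
          · have h1 := card_psl_two (p := p) hp2
            have hodd : p % 2 = 1 := Nat.odd_iff.mp (hp.out.odd_of_ne_two hp2)
            have h4 : 4 ∣ (p + 1) * p * (p - 1) := by
              obtain ⟨k, rfl⟩ : ∃ k, p = 2 * k + 1 := ⟨p / 2, by omega⟩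
              rw [Nat.add_sub_cancel]
              exact ⟨(k + 1) * (2 * k + 1) * k, by ring⟩
            rw [← h1] at h4
            obtain ⟨v, hv⟩ := h4
            exact ⟨v, by omega⟩
          · -- the image is generated by the image of `a`
            set A : Subgroup ↥(T : Subgroup L) := Subgroup.zpowers a with hA
            have hAidx : A.index ≤ 2 := by
              have h1 := A.card_mul_index
              rw [hA, Nat.card_zpowers] at h1
              by_contra h
              have := Nat.mul_le_mul_left (orderOf a) (show 3 ≤ A.index by omega)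
              have := orderOf_pos a
              rw [← hA] at h1
              omega
            have hbA : (⟨b, hb⟩ : ↥(T : Subgroup L)) ∉ A := by
              rintro ⟨i, hi⟩
              exact hba ⟨i, congrArg Subtype.val hi⟩
            have hAtwo : A.index = 2 := by
              have h0 : A.index ≠ 0 := Subgroup.index_ne_zero_of_finite
              have h1 : A.index ≠ 1 := fun e => hbA (by rw [Subgroup.index_eq_one.mp e]; trivial)
              omega
            rw [Sylow.coe_mapSurjective]
            refine isCyclic_iff_exists_zpowers_eq_top.mpr ⟨⟨ρ a, ⟨_, a.2, rfl⟩⟩, eq_top_iff.mpr ?_⟩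
            rintro ⟨_, ⟨x, hx, rfl⟩⟩ -
            have hρb : ρ b = 1 := MonoidHom.mem_ker.mp (hρk.symm ▸ hbM)
            by_cases hxA : (⟨x, hx⟩ : ↥(T : Subgroup L)) ∈ A
            · obtain ⟨i, hi⟩ := hxA
              have hi' : (a : L) ^ i = x := congrArg Subtype.val hi
              exact ⟨i, Subtype.ext (by simp [← hi'])⟩
            · obtain ⟨i, hi⟩ := ((Subgroup.mul_mem_iff_of_index_two hAtwo).mpr
                (iff_of_false hxA hbA) : (⟨x, hx⟩ : ↥(T : Subgroup L)) * ⟨b, hb⟩ ∈ A)
              have hi' : (a : L) ^ i = x * b := congrArg Subtype.val hi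
              refine ⟨i, Subtype.ext ?_⟩
              show ((⟨ρ a, _⟩ : ↥((T : Subgroup L).map ρ)) ^ i : _).1 = ρ x
              rw [SubgroupClass.coe_zpow, ← map_zpow, hi', map_mul, hρb, mul_one]
        have hmem : ∀ x : P, ((x : M) : L) ∈ Subgroup.zpowers (a : L) := fun x =>
          hsub _ (hT ⟨x, x.2, rfl⟩) (x : M).2
        exact isCyclic_of_injective (M.subtype.comp (P : Subgroup M).subtype |>.codRestrict
          (Subgroup.zpowers (a : L)) hmem) fun x y h => Subtype.ext (Subtype.ext (congrArg (fun z : Subgroup.zpowers (a : L) => (z : L)) h))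
      · exact (hL.subgroup M).odd r hr hr2 P
    haveI : (fit M).Normal := Subgroup.normalizer_eq_top_iff.mp (top_le_iff.mp
      ((le_of_eq (Subgroup.normalizer_eq_top_iff.mpr hMn).symm).trans (normalizer_le_fit M)))
    haveI := fit_isCyclic M
    have hF := cyclic_normal_le_center hperf (fit M)
    have hMc : M ≤ Subgroup.center L := fun x hx => hF (centralizer_fit_le M
      ⟨hx, fun v hv => (Subgroup.mem_center_iff.mp (hF hv) x).symm⟩)
    exact cov_of_central hp5 hperf ρ hρs (hρk ▸ hMc)

/-- The structure of the nonsolvable groups with almost cyclic Sylow subgroups. -/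
theorem str_main (hG : AC G) (hns : ¬ Group.IsSolvable G) : Str G := by
  refine str_of_pc hG (cov_of_perfect _ _ rfl (hG.subgroup _) (perfect_commutator_top (pc_perfect _)) ?_)
  refine (Subgroup.nontrivial_iff_ne_bot _).mpr (pc_ne_bot ⊤ fun h => hns ?_)
  exact Group.isSolvable_of_surjective (f := (Subgroup.topEquiv (G := G)).toMonoidHom)
    (Subgroup.topEquiv (G := G)).surjective

end CfsgLib.AlmostCyclic
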