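import Mathlib

/-!
# The arithmetic of the quasi-dihedral order equation
-/

set_option autoImplicit false
set_option maxHeartbeats 400000
set_option linter.unusedSimpArgs false

namespace CfsgLib.AlmostCyclic

namespace SDArith

/-- The exponent of `r` in an integer. -/
noncomputable def v (r : ℕ) (x : ℤ) : ℕ := x.natAbs.factorization r

variable {r : ℕ}

theorem le_v (hr : r.Prime) {x : ℤ} (hx : x ≠ 0) (j : ℕ) : j ≤ v r x ↔ ((r ^ j : ℕ) : ℤ) ∣ x := by
  rw [v, ← hr.pow_dvd_iff_le_factorization (Int.natAbs_ne_zero.mpr hx), Int.natCast_dvd]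

theorem v_sub (hr : r.Prime) {x y : ℤ} (hx : x ≠ 0) (hy : y ≠ 0) (hxy : x - y ≠ 0) :
    (v r x < v r y → v r (x - y) = v r x) ∧ (v r y < v r x → v r (x - y) = v r y) ∧
      (v r x = v r y → v r x ≤ v r (x - y)) := by
  have hge : ∀ j, j ≤ v r x → j ≤ v r y → j ≤ v r (x - y) := fun j h1 h2 =>
    (le_v hr hxy j).mpr (dvd_sub ((le_v hr hx j).mp h1) ((le_v hr hy j).mp h2))
  have hx' : ∀ j, j ≤ v r (x - y) → j ≤ v r y → j ≤ v r x := fun j h1 h2 =>
    (le_v hr hx j).mpr (by simpa using dvd_add ((le_v hr hxy j).mp h1) ((le_v hr hy j).mp h2))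
  have hy' : ∀ j, j ≤ v r (x - y) → j ≤ v r x → j ≤ v r y := fun j h1 h2 =>
    (le_v hr hy j).mpr (by simpa using dvd_sub ((le_v hr hx j).mp h2) ((le_v hr hxy j).mp h1))
  refine ⟨fun h => ?_, fun h => ?_, fun h => hge _ le_rfl h.le⟩
  · refine le_antisymm ?_ (hge _ le_rfl h.le)
    by_contra hc
    have := hx' (v r x + 1) (by omega) (by omega)
    omega
  · refine le_antisymm ?_ (hge _ h.le le_rfl)
    by_contra hc
    have := hy' (v r y + 1) (by omega) (by omega)
    omega

theorem v_mul (r : ℕ) {x y : ℤ} (hx : x ≠ 0) (hy : y ≠ 0) : v r (x * y) = v r x + v r y := by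
  rw [v, Int.natAbs_mul, Nat.factorization_mul (Int.natAbs_ne_zero.mpr hx) (Int.natAbs_ne_zero.mpr hy)]
  rfl

theorem v_sq (r : ℕ) {x : ℤ} (hx : x ≠ 0) : v r (x ^ 2) = 2 * v r x := by
  rw [pow_two, v_mul r hx hx]; ring

theorem v_abs (r : ℕ) (x : ℤ) : v r |x| = v r x := by rw [v, Int.natAbs_abs]; rfl

theorem v_neg (r : ℕ) (x : ℤ) : v r (-x) = v r x := by rw [v, Int.natAbs_neg]; rfl

theorem v_pos (hr : r.Prime) {x : ℤ} (hx : x ≠ 0) : 0 < v r x ↔ (r : ℤ) ∣ x := by
  have := le_v hr hx 1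
  rw [pow_one] at this
  exact this

theorem v_zero (hr : r.Prime) {x : ℤ} (hx : x ≠ 0) (h : ¬ (r : ℤ) ∣ x) : v r x = 0 := by
  have := (v_pos hr hx).not.mpr h
  omega

theorem exps_two {n w a b f h e g : ℕ} (E : n + 2 * w = f + (h + e) + e + 2 * g + (a + b))
    (hn : n = 0) (hf : f = 0) (hg : g = 0) (hh : h = 1) (he : 2 ≤ e)
    (A1 : a < h → w = a) (A2 : h < a → w = h) (B2 : f < b → w = f)
    (d1 : a = 0 ∨ b = 0) : w = f + h + e + g := by
  subst hn hf hg hh
  rcases d1 with rfl | rfl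
  · have := A1 one_pos; omega
  · rcases lt_trichotomy a 1 with c | c | c
    · have := A1 c; omega
    · omega
    · have := A2 c; omega

theorem exps_odd {n w a b f h e g : ℕ} (E : n + 2 * w = f + (h + e) + e + 2 * g + (a + b))
    (A1 : a < h → w = a) (A2 : h < a → w = h) (B1 : b < f → w = b) (B2 : f < b → w = f)
    (d1 : a = 0 ∨ b = 0) (d2 : 0 < f → h = 0 ∧ e = 0) (d3 : h = 0 ∨ e = 0)
    (n1 : 0 < f ∨ 0 < e ∨ 0 < g → n = 0) (n2 : 0 < h → n ≤ 1) :
    (w = f + h + e + g ∨ (w + 1 = f + h + e + g ∧ 0 < h ∧ g = 0 ∧ n = 1)) := by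
  rcases Nat.eq_zero_or_pos f with rfl | hf
  · rcases Nat.eq_zero_or_pos h with rfl | hh
    · rcases Nat.eq_zero_or_pos b with rfl | hb
      · rcases Nat.eq_zero_or_pos a with rfl | ha
        · rcases Nat.eq_zero_or_pos (e + g) with he | he
          · omega
          · have := n1 (by omega); omega
        · have := A2 ha
          rcases Nat.eq_zero_or_pos (e + g) with he | he
          · omega
          · have := n1 (by omega); omega
      · have := B2 hb
        rcases Nat.eq_zero_or_pos (e + g) with he | he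
        · omega
        · have := n1 (by omega); omega
    · obtain rfl : e = 0 := d3.resolve_left (by omega)
      have hn := n2 hh
      rcases Nat.eq_zero_or_pos b with rfl | hb
      · rcases lt_trichotomy a h with c | c | c
        · have := A1 c
          rcases Nat.eq_zero_or_pos g with rfl | hg
          · omega
          · have := n1 (by omega); omega
        · rcases Nat.eq_zero_or_pos g with rfl | hg
          · omega
          · have := n1 (by omega); omega
        · have := A2 c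
          rcases Nat.eq_zero_or_pos g with rfl | hg
          · omega
          · have := n1 (by omega); omega
      · have := B2 hb
        omega
  · obtain ⟨rfl, rfl⟩ := d2 hf
    have := n1 (Or.inl hf)
    rcases Nat.eq_zero_or_pos a with rfl | ha
    · rcases lt_trichotomy b f with c | c | c
      · have := B1 c; omega
      · omega
      · have := B2 c; omega
    · have := A2 ha; omega

/-- The order equation has only one solution. -/
theorem solve {p o' N : ℕ} {q σ d : ℤ} (hp : p.Prime) (hp2 : p ≠ 2) (hq : q = p ∨ q = -p)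
    (hq4 : q % 4 = 3) (ho : Odd o') (hσ : σ ≠ 0) (hσ1 : σ + 1 ≠ 0)
    (hd : d * (σ + 1 - q * q) = σ * (σ + 1))
    (heq : (N : ℤ) * (σ - q + 1) ^ 2 =
      ((p : ℤ) * (p * p - 1)) * |q + 1| * (o' : ℤ) ^ 2 * (σ * (σ + 1)))
    (hN : N ≠ 0) (h2 : ¬ 2 ∣ N) (hpN : ¬ p ∣ N)
    (hr : ∀ r : ℕ, r.Prime → r ≠ 2 → ((r : ℤ) ∣ q + 1 ∨ r ∣ o') → ¬ r ∣ N)
    (hr5 : ∀ r : ℕ, r.Prime → r ≠ 2 → r ≠ 3 → (r : ℤ) ∣ q - 1 → ¬ r ∣ N)
    (h9 : (3 : ℤ) ∣ q - 1 → ¬ 9 ∣ N) :
    q = -5 ∧ o' = 1 ∧ N = 357 := by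
  have hp3 : 3 ≤ p := by have := hp.two_le; omega
  have hp' : (3 : ℤ) ≤ p := by exact_mod_cast hp3
  have hqq : q * q = (p : ℤ) * p := by rcases hq with e | e <;> rw [e] <;> ring
  have hq0 : q ≠ 0 := by rcases hq with e | e <;> omega
  have hqm : q - 1 ≠ 0 := by omega
  have hqp : q + 1 ≠ 0 := by rcases hq with e | e <;> omega
  have ho0 : (o' : ℤ) ≠ 0 := Nat.cast_ne_zero.mpr fun e => by rw [e] at ho; simp at ho
  have hN0 : (N : ℤ) ≠ 0 := Nat.cast_ne_zero.mpr hN
  have hP : (p : ℤ) * p - 1 = (q - 1) * (q + 1) := by rw [← hqq]; ring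
  rw [hP] at heq
  have hp0 : (p : ℤ) ≠ 0 := by omega
  have hpn : p ≠ 0 := hp.ne_zero
  have hon : o' ≠ 0 := fun e => ho0 (by rw [e]; rfl)
  have hm : σ - q + 1 ≠ 0 := by
    intro e
    rw [e] at heq
    simp [hpn, hon, hqm, hqp, hσ, hσ1] at heq
  set m := σ - q + 1 with hmdef
  set R := q * (q - 1) * (q + 1) * (o' : ℤ) with hRdef
  have hR : R ≠ 0 := by rw [hRdef]; simp [hq0, hqm, hqp, hon]
  -- the exponents
  have key : ∀ r : ℕ, r.Prime →
      (r ≠ 3 → v r m = v r R) ∧ (r = 3 → v r m = v r R ∨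
        (v r m + 1 = v r R ∧ (3 : ℤ) ∣ q - 1 ∧ ¬ 3 ∣ o')) := by
    intro r hr'
    have E := congrArg (v r) heq
    rw [v_mul r hN0 (pow_ne_zero 2 hm), v_sq r hm,
      v_mul r (by simp [hpn, hon, hqm, hqp]) (mul_ne_zero hσ hσ1),
      v_mul r (by simp [hpn, hqm, hqp]) (pow_ne_zero 2 ho0), v_sq r ho0,
      v_mul r (by simp [hpn, hqm, hqp]) (abs_ne_zero.mpr hqp), v_abs,
      v_mul r hp0 (mul_ne_zero hqm hqp), v_mul r hqm hqp, v_mul r hσ hσ1] at E
    have hvp : v r (p : ℤ) = v r q := by rcases hq with e | e <;> simp [e, v_neg]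
    rw [hvp] at E
    have hvR : v r R = v r q + v r (q - 1) + v r (q + 1) + v r (o' : ℤ) := by
      rw [hRdef, v_mul r (by simp [hq0, hqm, hqp]) ho0, v_mul r (by simp [hq0, hqm]) hqp,
        v_mul r hq0 hqm]
    obtain ⟨A1, A2, A3⟩ := v_sub hr' hσ hqm (by rw [show σ - (q - 1) = m by rw [hmdef]; ring]; exact hm)
    obtain ⟨B1, B2, B3⟩ := v_sub hr' hσ1 hq0 (by rw [show σ + 1 - q = m by rw [hmdef]; ring]; exact hm)
    rw [show σ - (q - 1) = m by rw [hmdef]; ring] at A1 A2 A3
    rw [show σ + 1 - q = m by rw [hmdef]; ring] at B1 B2 B3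
    have Pσ := v_pos hr' hσ
    have Pσ1 := v_pos hr' hσ1
    have Pm := v_pos hr' hqm
    have Pp := v_pos hr' hqp
    have Pq := v_pos hr' hq0
    have Po : 0 < v r (o' : ℤ) ↔ r ∣ o' := (v_pos hr' ho0).trans Int.natCast_dvd_natCast
    have hunit : ¬ (r : ℤ) ∣ 1 := fun h => hr'.one_lt.ne'
      (Nat.dvd_one.mp (Int.natCast_dvd_natCast.mp (by exact_mod_cast h)))
    have d1 : v r σ = 0 ∨ v r (σ + 1) = 0 := by
      by_contra h
      push Not at h
      exact hunit (by
        simpa using dvd_sub (Pσ1.mp (Nat.pos_of_ne_zero h.2)) (Pσ.mp (Nat.pos_of_ne_zero h.1)))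
    have hpq : 0 < v r q → r = p := fun h => by
      have h' : r ∣ p := by
        rcases hq with e | e <;> have := Pq.mp h <;> rw [e] at this
        · exact Int.natCast_dvd_natCast.mp this
        · exact Int.natCast_dvd_natCast.mp (Int.dvd_neg.mp this)
      exact (Nat.prime_dvd_prime_iff_eq hr' hp).mp h'
    have d2 : 0 < v r q → v r (q - 1) = 0 ∧ v r (q + 1) = 0 := fun h => by
      refine ⟨?_, ?_⟩ <;> by_contra h'
      · exact hunit (by simpa using dvd_sub (Pq.mp h) (Pm.mp (Nat.pos_of_ne_zero h')))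
      · exact hunit (by simpa using dvd_sub (Pp.mp (Nat.pos_of_ne_zero h')) (Pq.mp h))
    have hn : v r (N : ℤ) = N.factorization r := rfl
    by_cases hr2 : r = 2
    · subst hr2
      have n0 : v 2 (N : ℤ) = 0 := by rw [hn]; exact Nat.factorization_eq_zero_of_not_dvd h2
      have o0 : v 2 (o' : ℤ) = 0 := by
        have := Po.not.mpr (Nat.two_dvd_ne_zero.mpr (Nat.odd_iff.mp ho)); omega
      have q0 : v 2 q = 0 := v_zero hr' hq0 (by omega)
      have m1 : v 2 (q - 1) = 1 := by
        have h1 := (le_v hr' hqm 1).mpr (by norm_num; omega)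
        have h2 : ¬ 2 ≤ v 2 (q - 1) := fun h => by
          have := (le_v hr' hqm 2).mp h
          norm_num at this
          omega
        omega
      have p2 : 2 ≤ v 2 (q + 1) := (le_v hr' hqp 2).mpr (by norm_num; omega)
      refine ⟨fun _ => ?_, fun h => absurd h (by norm_num)⟩
      rw [hvR]
      exact exps_two (by omega) n0 q0 o0 m1 p2 A1 A2 B2 d1
    · have hodd2 : ¬ (r : ℤ) ∣ 2 := fun h => hr2 ((Nat.prime_dvd_prime_iff_eq hr' Nat.prime_two).mp
        (Int.natCast_dvd_natCast.mp (by exact_mod_cast h)))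
      have d3 : v r (q - 1) = 0 ∨ v r (q + 1) = 0 := by
        by_contra h
        push Not at h
        exact hodd2 (by
          simpa using dvd_sub (Pp.mp (Nat.pos_of_ne_zero h.2)) (Pm.mp (Nat.pos_of_ne_zero h.1)))
      have n1 : 0 < v r q ∨ 0 < v r (q + 1) ∨ 0 < v r (o' : ℤ) → v r (N : ℤ) = 0 := by
        intro h
        rw [hn]
        refine Nat.factorization_eq_zero_of_not_dvd ?_
        rcases h with h | h | h
        · rw [hpq h]; exact hpN
        · exact hr r hr' hr2 (Or.inl (Pp.mp h))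
        · exact hr r hr' hr2 (Or.inr (Po.mp h))
      refine ⟨fun h3 => ?_, fun h3 => ?_⟩
      · have n2 : 0 < v r (q - 1) → v r (N : ℤ) = 0 := fun h => by
          rw [hn]; exact Nat.factorization_eq_zero_of_not_dvd (hr5 r hr' hr2 h3 (Pm.mp h))
        rw [hvR]
        rcases exps_odd (n := v r (N : ℤ)) (by omega) A1 A2 B1 B2 d1 d2 d3 n1 (fun h => by rw [n2 h]; omega)
          with e | ⟨-, h, -, h'⟩
        · exact e
        · rw [n2 h] at h'; exact absurd h' (by norm_num)
      · subst h3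
        have n3 : 0 < v 3 (q - 1) → v 3 (N : ℤ) ≤ 1 := fun h => by
          rw [hn]
          by_contra hc
          refine h9 (by exact_mod_cast Pm.mp h) ?_
          exact (show (9 : ℕ) = 3 ^ 2 by norm_num) ▸
            (hr'.pow_dvd_iff_le_factorization hN).mpr (by omega)
        rw [hvR]
        rcases exps_odd (n := v 3 (N : ℤ)) (by omega) A1 A2 B1 B2 d1 d2 d3 n1 n3
          with e | ⟨e, h, hg, -⟩
        · exact Or.inl e
        · refine Or.inr ⟨e, by exact_mod_cast Pm.mp h, fun h' => ?_⟩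
          have := Po.mpr h'
          omega
  -- the two possible values of the parameter
  obtain ⟨c, hc, hc3⟩ : ∃ c : ℕ, c * m.natAbs = R.natAbs ∧
      (c = 1 ∨ (c = 3 ∧ (3 : ℤ) ∣ q - 1 ∧ ¬ 3 ∣ o')) := by
    have hm' := Int.natAbs_ne_zero.mpr hm
    have hR' := Int.natAbs_ne_zero.mpr hR
    by_cases h : v 3 m = v 3 R
    · refine ⟨1, ?_, Or.inl rfl⟩
      rw [one_mul]
      refine Nat.eq_of_factorization_eq hm' hR' fun r => ?_
      by_cases hr' : r.Prime
      · by_cases h3 : r = 3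
        · subst h3; exact h
        · exact (key r hr').1 h3
      · rw [Nat.factorization_eq_zero_of_not_prime _ hr', Nat.factorization_eq_zero_of_not_prime _ hr']
    · obtain ⟨h1, h2', h3'⟩ := ((key 3 Nat.prime_three).2 rfl).resolve_left h
      refine ⟨3, ?_, Or.inr ⟨rfl, h2', h3'⟩⟩
      refine Nat.eq_of_factorization_eq (by omega) hR' fun r => ?_
      rw [Nat.factorization_mul (by norm_num) hm', Finsupp.add_apply]
      by_cases hr' : r.Prime
      · by_cases h3 : r = 3
        · subst h3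
          rw [Nat.Prime.factorization_self Nat.prime_three]
          show 1 + v 3 m = v 3 R
          omega
        · rw [Nat.Prime.factorization Nat.prime_three, Finsupp.single_eq_of_ne h3, zero_add]
          exact (key r hr').1 h3
      · rw [Nat.factorization_eq_zero_of_not_prime _ hr', Nat.factorization_eq_zero_of_not_prime _ hr',
          Nat.factorization_eq_zero_of_not_prime _ hr', zero_add]
  obtain ⟨ε, hε, hεm⟩ : ∃ ε : ℤ, (ε = 1 ∨ ε = -1) ∧ (c : ℤ) * m = ε * R := by
    have h : ((c : ℤ) * m).natAbs = R.natAbs := by rw [Int.natAbs_mul, Int.natAbs_natCast, hc]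
    rcases Int.natAbs_eq_natAbs_iff.mp h with e | e
    · exact ⟨1, Or.inl rfl, by rw [one_mul, e]⟩
    · exact ⟨-1, Or.inr rfl, by rw [e]; ring⟩
  set Y := ε * (q + 1) * (o' : ℤ) with hYdef
  have hY : (c : ℤ) * m = q * (q - 1) * Y := by rw [hεm, hRdef, hYdef]; ring
  have hc0 : (c : ℤ) ≠ 0 := by rcases hc3 with e | ⟨e, -⟩ <;> simp [e]
  obtain ⟨X, hX⟩ : ∃ X, X = Y - c := ⟨_, rfl⟩
  have hdX : d * c * X = ((c : ℤ) + q * Y) * (c + (q - 1) * Y) := by
    refine mul_left_cancel₀ (mul_ne_zero hq0 hqm) ?_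
    rw [hmdef] at hY
    have hσ' : (c : ℤ) * σ = (q - 1) * (c + q * Y) := by linear_combination hY
    have h1 : (c : ℤ) * (σ + 1) = q * (c + (q - 1) * Y) := by linear_combination hY
    have h2' : (c : ℤ) * (σ + 1 - q * q) = q * (q - 1) * X := by rw [hX]; linear_combination h1
    calc q * (q - 1) * (d * c * X) = d * c * (q * (q - 1) * X) := by ring
      _ = (c : ℤ) * c * (d * (σ + 1 - q * q)) := by rw [← h2']; ring
      _ = ((c : ℤ) * σ) * (c * (σ + 1)) := by rw [hd]; ring
      _ = _ := by rw [hσ', h1]; ring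
  have hXd : X ∣ (c : ℤ) ^ 3 * q := by
    refine ⟨ε * (o' : ℤ) * d * c - ε * (o' : ℤ) * ((c : ℤ) * (q + 1) * (q - 1) + q * c * q + q * (q - 1) * X) -
      (c : ℤ) * c * q, ?_⟩
    have e1 : Y = X + c := by rw [hX]; ring
    rw [e1] at hdX
    have e2 : ε * (o' : ℤ) * (q + 1) = X + c := by rw [← e1, hYdef]; ring
    linear_combination (-(ε * (o' : ℤ))) * hdX - (c : ℤ) * c * q * e2
  have hX3 : X ∣ q := by
    rcases hc3 with e | ⟨e, h3q, h3o⟩
    · rw [e] at hXd; simpa using hXd
    · rw [e] at hXd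
      refine IsCoprime.dvd_of_dvd_mul_left (x := X) (y := ((3 : ℕ) : ℤ) ^ 3) ?_ hXd
      refine IsCoprime.pow_right ?_
      rw [Int.isCoprime_iff_nat_coprime, Int.natAbs_natCast, Nat.coprime_comm,
        Nat.prime_three.coprime_iff_not_dvd, ← Int.natCast_dvd, hX, e]
      intro h
      have h' : (3 : ℤ) ∣ Y := by simpa using dvd_add h (dvd_refl ((3 : ℕ) : ℤ))
      rw [hYdef] at h'
      rcases Int.prime_three.dvd_mul.mp h' with h'' | h''
      · rcases Int.prime_three.dvd_mul.mp h'' with h4 | h4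
        · rcases hε with e' | e' <;> rw [e'] at h4 <;> norm_num at h4
        · omega
      · exact h3o (by exact_mod_cast h'')
  have hXcases : X = 1 ∨ X = -1 ∨ X = q ∨ X = -q := by
    have h : X.natAbs ∣ p := by
      have := Int.natAbs_dvd_natAbs.mpr hX3
      rcases hq with e | e <;> simpa [e] using this
    rcases (Nat.dvd_prime hp).mp h with e | e
    · rcases Int.natAbs_eq_iff.mp e with e' | e' <;> simp [e']
    · rcases Int.natAbs_eq_iff.mp e with e' | e' <;> rcases hq with e'' | e'' <;> simp [e', e'']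
  have hYd : q + 1 ∣ Y := ⟨ε * o', by rw [hYdef]; ring⟩
  have hY0 : Y ≠ 0 := by
    rw [hYdef]
    exact mul_ne_zero (mul_ne_zero (by rcases hε with e | e <;> omega) hqp) ho0
  have hsmall : ∀ z : ℤ, (q + 1) ∣ z → z ≠ 0 → |q + 1| ≤ |z| := fun z h1 h2 =>
    Int.le_of_dvd (abs_pos.mpr h2) (abs_dvd_abs _ _ |>.mpr h1)
  have h4le : 4 ≤ |q + 1| := by
    rcases hq with e | e
    · rw [abs_of_nonneg (by omega)]; omega
    · rw [abs_of_nonpos (by omega)]; omega
  rcases hc3 with e | ⟨e, h3q, -⟩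
  · -- the case `c = 1`
    exfalso
    subst e
    have hYX : Y = X + 1 := by rw [hX]; simp
    rcases hXcases with eX | eX | eX | eX <;> rw [eX] at hYX
    · have := hsmall Y hYd hY0
      rw [hYX] at this
      norm_num at this
      omega
    · exact hY0 (by rw [hYX]; norm_num)
    · have ho1 : ε * (o' : ℤ) = 1 := mul_left_cancel₀ hqp (by
        have h := hYX; rw [hYdef] at h; linear_combination h)
      have ho2 : (o' : ℤ) = 1 := by
        rcases hε with e' | e' <;> rw [e'] at ho1 <;> omega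
      have hm1 : m = q * ((q - 1) * (q + 1)) := by
        have := hY
        rw [hYX, Nat.cast_one, one_mul] at this
        rw [this]; ring
      have hs3 : σ + 1 = q * (q * q) := by
        have h5 : σ + 1 - q = q * ((q - 1) * (q + 1)) := by rw [← hm1, hmdef]; ring
        linear_combination h5
      rw [hm1, ho2, hs3] at heq
      have h6 : (p : ℤ) * p * ((q - 1) * (q + 1)) * ((N : ℤ) * ((q - 1) * (q + 1))) =
          (p : ℤ) * p * ((q - 1) * (q + 1)) * ((p : ℤ) * (q * (|q + 1| * σ))) := by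
        rw [← hqq]
        linear_combination heq
      have h7 := mul_left_cancel₀ (by simp [hpn, hqm, hqp]) h6
      have hpI : Prime (p : ℤ) := Nat.prime_iff_prime_int.mp hp
      rcases hpI.dvd_mul.mp (h7 ▸ dvd_mul_right (p : ℤ) _ : (p : ℤ) ∣ (N : ℤ) * ((q - 1) * (q + 1)))
        with h | h
      · exact hpN (Int.natCast_dvd_natCast.mp h)
      · rw [← hP] at h
        have h8 : (p : ℤ) ∣ 1 := by simpa using dvd_sub (dvd_mul_right (p : ℤ) p) h
        exact hp.one_lt.ne' (Nat.dvd_one.mp (by exact_mod_cast h8))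
    · have h1 : q + 1 ∣ (2 : ℤ) := by
        have := dvd_add hYd (dvd_refl (q + 1))
        rwa [hYX, show -q + 1 + (q + 1) = 2 by ring] at this
      have := hsmall 2 h1 (by norm_num)
      norm_num at this
      omega
  · -- the case `c = 3`
    subst e
    have hYX : Y = X + 3 := by rw [hX]; simp
    have h4 : q + 1 ∣ (4 : ℤ) ∧ Y % 2 = 0 := by
      refine ⟨?_, ?_⟩
      · rcases hXcases with eX | eX | eX | eX <;> rw [eX] at hYX
        · rw [hYX] at hYd; simpa using hYd
        · rw [hYX] at hYd; exact hYd.trans (by norm_num)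
        · rw [hYX] at hYd
          have := dvd_sub hYd (dvd_refl (q + 1))
          rw [show q + 3 - (q + 1) = 2 by ring] at this
          exact this.trans (by norm_num)
        · rw [hYX] at hYd
          have := dvd_add hYd (dvd_refl (q + 1))
          rwa [show -q + 3 + (q + 1) = 4 by ring] at this
      · have h2q : (2 : ℤ) ∣ q + 1 := by omega
        exact Int.emod_eq_zero_of_dvd (h2q.trans hYd)
    have hq5 : q = -5 := by
      have h := hsmall 4 h4.1 (by norm_num)
      norm_num at h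
      rcases abs_le.mp h with ⟨h1, h2'⟩
      omega
    subst hq5
    have hp5 : (p : ℤ) = 5 := by rcases hq with e | e <;> omega
    have ho1 : ε = -1 ∧ (o' : ℤ) = 1 := by
      obtain ⟨j, hj⟩ := ho
      rw [hYdef] at hYX
      rcases hε with e | e <;> subst e <;> rcases hXcases with eX | eX | eX | eX <;> rw [eX] at hYX <;>
        omega
    have hm40 : m = 40 := by
      rw [hYdef, ho1.1, ho1.2] at hY
      push_cast at hY
      omega
    have hσ34 : σ = 34 := by omega
    rw [hm40, hσ34, ho1.2, hp5] at heq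
    norm_num at heq
    refine ⟨rfl, by exact_mod_cast ho1.2, ?_⟩
    omega

end SDArith

end CfsgLib.AlmostCyclic
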