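import Cfsg.Agent.Lib.AlmostCyclic.SDStars

/-!
# The values at the involution
-/

set_option autoImplicit false

namespace CfsgLib.AlmostCyclic

open Finset

universe u

theorem sq_ge_four {a : ℤ} (h : (2 : ℤ) ∣ a) (h0 : a ≠ 0) : 4 ≤ a * a := by
  obtain ⟨c, rfl⟩ := h
  have : c ≠ 0 := fun e => h0 (by rw [e, mul_zero])
  nlinarith [mul_self_pos.2 this]

namespace Cols

variable {ι : Type u} [Fintype ι] [DecidableEq ι] {C : Cols ι}

/-- The frame with the roles of the last two odd members exchanged. -/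
def Frame.swap (F : C.Frame) : C.Frame where
  A := F.A
  B := F.D
  D := F.B
  R := F.R
  s := F.s
  hs := F.hs
  hAo := F.hAo
  hBo := F.hDo
  hDo := F.hBo
  hRo := F.hRo
  hAB := F.hAD
  hAD := F.hAB
  hBD := F.hBD.symm
  hRA := F.hRA
  hRB := F.hRD
  hRD := F.hRB
  uA := F.uA
  uB := F.uD
  uD := F.uB
  uR := F.uR
  vA := F.vA
  vB := F.vD
  vD := F.vB
  vR := F.vR
  rest := fun χ a b c d e => F.rest χ a b d c e

variable (F : C.Frame)

theorem Frame.z_R {j : ℕ} (h : OdJ C.k j) : C.m F.R j - C.m F.R 1 = 0 := by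
  have hk := C.k2
  have hk' := C.kmod
  by_contra hne
  obtain ⟨h1, h2, h3, h4⟩ := h
  set f : ι → ℤ := fun χ => C.m χ j - C.m χ 1 with hf
  have hn : ∑ χ, f χ * f χ = 2 := by
    rw [zz ⟨h1, h2, h3, h4⟩ ⟨h1, h2, h3, h4⟩, pr, if_pos rfl,
      if_neg (by rw [rm, if_neg (by omega)]; split_ifs <;> omega)]
    norm_num
  obtain ⟨x, y, hxy, hx, hy, h0⟩ := two_supp f hn
  have hv : f x * C.v x + f y * C.v y = 0 := by
    rw [← sum_two f _ hxy h0]
    unfold v
    simp only [mul_add, sum_add_distrib, hf]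
    rw [z_even ⟨h1, h2, h3, h4⟩ C.ok_v1 (by omega), z_even ⟨h1, h2, h3, h4⟩ C.ok_v2 (by omega), add_zero]
  have small : ∀ z, z ≠ F.R → -1 ≤ C.v z ∧ C.v z ≤ 1 := fun z hz => by
    have := F.uA; have := F.uB; have := F.uD
    by_cases e0 : z = C.o
    · rw [e0, C.v_o]; norm_num
    by_cases e1 : z = F.A
    · rw [e1, F.vA]; rcases sq_one_iff'.1 F.uA with p | p <;> rw [p] <;> norm_num
    by_cases e2 : z = F.B
    · rw [e2, F.vB]; rcases sq_one_iff'.1 F.uB with p | p <;> rw [p] <;> norm_num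
    by_cases e3 : z = F.D
    · rw [e3, F.vD]; rcases sq_one_iff'.1 F.uD with p | p <;> rw [p] <;> norm_num
    rw [(F.rest z e0 e1 e2 e3 hz).2]; norm_num
  have hR : F.R = x ∨ F.R = y := by
    by_contra hc
    push Not at hc
    exact hne (h0 _ hc.1 hc.2)
  rcases hR with e | e
  · have := small y (by rw [e]; exact hxy.symm)
    rw [← e, F.vR] at hv
    rw [← e] at hx
    rcases sq_one_iff'.1 hx with p | p <;> rcases sq_one_iff'.1 hy with p' | p' <;>
      rcases sq_one_iff'.1 F.hs with p'' | p'' <;> rw [p, p', p''] at hv <;> omega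
  · have := small x (by rw [e]; exact hxy)
    rw [← e, F.vR] at hv
    rw [← e] at hy
    rcases sq_one_iff'.1 hx with p | p <;> rcases sq_one_iff'.1 hy with p' | p' <;>
      rcases sq_one_iff'.1 F.hs with p'' | p'' <;> rw [p, p', p''] at hv <;> omega

/-- Nearly constant even multiplicities of a member. -/
theorem even_mult (χ : ι) (t : ℤ) (hu : C.u χ = 0) (hv : C.v χ = 2 * t)
    (hw : ∀ j, EvJ C.k j → C.m χ j - C.m χ C.k = t) :
    (∀ j < 4 * C.k, j % 2 = 0 → j ≠ C.k → j ≠ 3 * C.k → C.m χ j = C.m χ 0) ∧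
      C.m χ C.k = C.m χ 0 - t := by
  have hk := C.k2
  have hk' := C.kmod
  have h3 : C.m χ (3 * C.k) = C.m χ C.k := by
    have h := C.hsym χ C.k (by omega)
    rwa [rm, if_pos hk', if_neg (by omega), show 4 * C.k - C.k = 3 * C.k by omega] at h
  unfold u at hu
  unfold v at hv
  rw [h3] at hv
  refine ⟨fun j h1 h2 h4 h5 => ?_, by linarith⟩
  by_cases h0 : j = 0
  · rw [h0]
  by_cases h6 : j = 2 * C.k
  · rw [h6]; linarith
  have := hw j ⟨h1, h2, h0, h4, h6, h5⟩
  linarith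

/-- The congruence for the member with second column two. -/
theorem Frame.val_R : (2 * C.k : ℤ) ∣ F.s * C.val F.R + 2 := by
  obtain ⟨hev, hk1⟩ := even_mult F.R F.s F.uR F.vR fun j hj => (F.w_shape hj).1
  obtain ⟨c, hc⟩ := C.val_pattern F.R _ _ (C.m F.R 1) (C.m F.R 1) hev hk1
    (fun j a b d e => by linarith [F.z_R ⟨a, b, d, e⟩]) rfl
  exact ⟨F.s * c, by linear_combination F.s * hc - 2 * F.hs⟩

theorem Frame.rel_ga : -C.u F.A * C.ga F.A = 1 + F.s * C.ga F.R ∧
    C.u F.B * C.ga F.B + C.u F.D * C.ga F.D = F.s * C.ga F.R :=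
  F.rel C.ga (by rw [ga, C.ha0, C.hb0]; norm_num) fun a b h => C.orth_ga h

theorem Frame.rel_de : -C.u F.A * C.de F.A = 1 + F.s * C.de F.R ∧
    C.u F.B * C.de F.B + C.u F.D * C.de F.D = F.s * C.de F.R :=
  F.rel C.de (by rw [de, C.ha0, C.hb0]; norm_num) fun a b h => C.orth_de h

theorem Frame.ga_R_even : (2 : ℤ) ∣ C.ga F.R := by
  have := C.ga_parity F.R
  rwa [F.uR, sub_zero] at this

theorem Frame.de_R_even : (2 : ℤ) ∣ C.de F.R := by
  have := dvd_sub F.ga_R_even (C.ga_de_parity F.R)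
  rwa [sub_sub_cancel] at this

/-- The congruence for the difference column. -/
theorem Frame.de_congr : (2 * C.k : ℤ) ∣ F.s * C.de F.R + 2 := by
  obtain ⟨c, hc⟩ := F.val_R
  obtain ⟨g', hg⟩ := F.ga_R_even
  obtain ⟨d', hd⟩ := F.de_R_even
  obtain ⟨e, -, he⟩ := C.hq
  have h2 := C.two_val F.R
  rw [hg, hd, show C.q = 2 * C.k * e - 1 by linarith] at h2
  refine ⟨c - F.s * (e * g') + F.s * (e * d'), ?_⟩
  have h3 : C.val F.R = 2 * C.k * e * g' + (2 - 2 * C.k * e) * d' := by linarith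
  rw [hd]
  linear_combination hc - F.s * h3

/-- Sums of squares over the members outside the five. -/
theorem Frame.sq_split (f : ι → ℤ) (h1 : f C.o = 1) :
    ∑ χ, f χ * f χ = 1 + (-C.u F.A * f F.A) * (-C.u F.A * f F.A)
      + (C.u F.B * f F.B) * (C.u F.B * f F.B) + (C.u F.D * f F.D) * (C.u F.D * f F.D)
      + (F.s * f F.R) * (F.s * f F.R) + ∑ χ ∈ F.Rest, f χ * f χ := by
  rw [F.split, h1]
  linear_combination (-(f F.A * f F.A)) * F.uA - (f F.B * f F.B) * F.uB - (f F.D * f F.D) * F.uD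
    - (f F.R * f F.R) * F.hs

theorem Frame.gd_split :
    0 = 1 + (-C.u F.A * C.ga F.A) * (-C.u F.A * C.de F.A)
      + (C.u F.B * C.ga F.B) * (C.u F.B * C.de F.B) + (C.u F.D * C.ga F.D) * (C.u F.D * C.de F.D)
      + (F.s * C.ga F.R) * (F.s * C.de F.R) + ∑ χ ∈ F.Rest, C.ga χ * C.de χ := by
  conv_lhs => rw [← C.gd, F.split]
  rw [show C.ga C.o * C.de C.o = 1 by rw [ga, de, C.ha0, C.hb0]; norm_num]
  linear_combination (-(C.ga F.A * C.de F.A)) * F.uA - (C.ga F.B * C.de F.B) * F.uB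
    - (C.ga F.D * C.de F.D) * F.uD - (C.ga F.R * C.de F.R) * F.hs

theorem ga_o : C.ga C.o = 1 := by rw [ga, C.ha0, C.hb0]; norm_num

theorem de_o : C.de C.o = 1 := by rw [de, C.ha0, C.hb0]; norm_num

theorem Frame.rest_even {χ : ι} (h : χ ∈ F.Rest) : (2 : ℤ) ∣ C.ga χ ∧ (2 : ℤ) ∣ C.de χ := by
  obtain ⟨a, b, c, d, e⟩ := F.mem_rest.1 h
  have h1 := C.ga_parity χ
  rw [(F.rest χ a b c d e).1, sub_zero] at h1
  have h2 := dvd_sub h1 (C.ga_de_parity χ)
  rw [sub_sub_cancel] at h2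
  exact ⟨h1, h2⟩

theorem odd_of_col {t x : ℤ} (ht : t * t = 1) (h : (2 : ℤ) ∣ x - t) : Odd (t * x) := by
  obtain ⟨c, hc⟩ := h
  exact ⟨t * c, by linear_combination t * hc + ht⟩

theorem Frame.odd_B : Odd (C.u F.B * C.ga F.B) ∧ Odd (C.u F.B * C.de F.B) := by
  refine ⟨odd_of_col F.uB (C.ga_parity _), odd_of_col F.uB ?_⟩
  have := dvd_sub (C.ga_parity F.B) (C.ga_de_parity F.B)
  rwa [show C.ga F.B - C.u F.B - (C.ga F.B - C.de F.B) = C.de F.B - C.u F.B by ring] at this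

/-- The first column at the member with second column two vanishes, the second is minus two. -/
theorem Frame.main_R : F.s * C.ga F.R = 0 ∧ F.s * C.de F.R = -2 := by
  obtain ⟨ra, rb⟩ := F.rel_ga
  obtain ⟨sa, sb⟩ := F.rel_de
  have hg := C.gg
  rw [F.sq_split C.ga ga_o] at hg
  have hd := C.dd
  rw [F.sq_split C.de de_o] at hd
  have hgd := F.gd_split
  rw [ra] at hg hgd
  rw [sa] at hd hgd
  obtain ⟨g, hge⟩ : ∃ g, F.s * C.ga F.R = g := ⟨_, rfl⟩
  obtain ⟨d, hde⟩ : ∃ d, F.s * C.de F.R = d := ⟨_, rfl⟩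
  have hg2 : (2 : ℤ) ∣ g := hge ▸ dvd_mul_of_dvd_right F.ga_R_even _
  have hd2 : (2 : ℤ) ∣ d := hde ▸ dvd_mul_of_dvd_right F.de_R_even _
  have hcong : (2 * C.k : ℤ) ∣ d + 2 := hde ▸ F.de_congr
  rw [hge] at hg hgd rb ⊢
  rw [hde] at hd hgd sb ⊢
  obtain ⟨hb1, hb2⟩ := F.odd_B
  obtain ⟨x, hx⟩ : ∃ x, C.u F.B * C.de F.B = x := ⟨_, rfl⟩
  obtain ⟨y, hy⟩ : ∃ y, C.u F.D * C.de F.D = y := ⟨_, rfl⟩
  obtain ⟨p, hp⟩ : ∃ p, C.u F.B * C.ga F.B = p := ⟨_, rfl⟩
  obtain ⟨p', hp'⟩ : ∃ p', C.u F.D * C.ga F.D = p' := ⟨_, rfl⟩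
  rw [hp, hp'] at hg hgd rb
  rw [hx, hy] at hd hgd sb
  rw [hp] at hb1
  rw [hx] at hb2
  have hrg : 0 ≤ ∑ χ ∈ F.Rest, C.ga χ * C.ga χ := sum_nonneg fun i _ => mul_self_nonneg _
  have hrd : 0 ≤ ∑ χ ∈ F.Rest, C.de χ * C.de χ := sum_nonneg fun i _ => mul_self_nonneg _
  have hk := C.k2
  have hkz : (2 : ℤ) ≤ C.k := by exact_mod_cast hk
  have hg' : g = 0 ∨ g = -2 := by
    have h1 : -3 < g ∧ g < 3 := ⟨by nlinarith, by nlinarith⟩
    obtain ⟨c, hc⟩ := hg2
    have : g ≠ 2 := fun e => by subst e; nlinarith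
    omega
  have hp1 : p * p ≥ 1 := by
    obtain ⟨c, hc⟩ := hb1
    have : p ≠ 0 := by omega
    nlinarith [mul_self_pos.2 this]
  have hp1' : p' * p' ≥ 1 := by
    obtain ⟨c, hc⟩ := hb1
    have : p' ≠ 0 := by
      intro e
      obtain ⟨c', hc'⟩ := hg2
      omega
    nlinarith [mul_self_pos.2 this]
  rcases hg' with e | e
  · subst e
    refine ⟨rfl, ?_⟩
    obtain ⟨t, ht⟩ := hcong
    have hyx : y = d - x := by linarith
    rw [hyx] at hd
    have hsq : 2 * (x * x + (d - x) * (d - x)) ≥ d * d := by nlinarith [mul_self_nonneg (2 * x - d)]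
    by_contra hne
    have ht0 : t ≠ 0 := fun e => hne (by rw [e] at ht; linarith)
    rcases lt_or_gt_of_ne ht0 with hneg | hpos
    · have : d ≤ -2 * C.k - 2 := by nlinarith
      nlinarith
    · have h1 : 2 * (C.k : ℤ) - 2 ≤ d := by nlinarith
      by_cases hk4 : 4 ≤ C.k
      · have : (4 : ℤ) ≤ C.k := by exact_mod_cast hk4
        nlinarith
      · have hk2 : C.k = 2 := by
          have := C.kmod; omega
        rw [hk2] at h1 hd ht
        norm_num at h1 hd ht
        have ht1 : t = 1 := by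
          have : d ≤ 4 := by nlinarith
          omega
        subst ht1
        have hd' : d = 2 := by linarith
        subst hd'
        have hx1 : x = 1 := by
          have h' : (x - 1) * (x - 1) ≤ 0 := by nlinarith
          have := mul_self_eq_zero.1 (le_antisymm h' (mul_self_nonneg _))
          linarith
        subst hx1
        have hz0 : ∑ χ ∈ F.Rest, C.de χ * C.de χ = 0 := by linarith
        have hz : ∀ χ ∈ F.Rest, C.de χ = 0 := fun χ hχ =>
          mul_self_eq_zero.1 ((sum_eq_zero_iff_of_nonneg fun i _ => mul_self_nonneg (C.de i)).1 hz0 χ hχ)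
        rw [sum_eq_zero fun χ hχ => by rw [hz χ hχ, mul_zero]] at hgd
        rw [hyx] at hgd
        nlinarith
  · subst e
    exfalso
    have hp2 : p * p = 1 ∧ p' * p' = 1 := ⟨by nlinarith, by nlinarith⟩
    have hz0 : ∑ χ ∈ F.Rest, C.ga χ * C.ga χ = 0 := by nlinarith
    have hz : ∀ χ ∈ F.Rest, C.ga χ = 0 := fun χ hχ =>
      mul_self_eq_zero.1 ((sum_eq_zero_iff_of_nonneg fun i _ => mul_self_nonneg (C.ga i)).1 hz0 χ hχ)
    rw [sum_eq_zero fun χ hχ => by rw [hz χ hχ, zero_mul]] at hgd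
    obtain ⟨e1, e2⟩ : p = -1 ∧ p' = -1 := by
      rcases sq_one_iff'.1 hp2.1 with a | a <;> rcases sq_one_iff'.1 hp2.2 with b | b <;> omega
    subst e1; subst e2
    have hd0 : d = 0 := by linarith
    rw [hd0] at hcong
    obtain ⟨t, ht⟩ := hcong
    have : t ≠ 0 := fun e => by rw [e] at ht; norm_num at ht
    rcases lt_or_gt_of_ne this with a | a <;> nlinarith

/-- The odd vectors form a star. -/
theorem Frame.center (hk4 : 4 ≤ C.k) :
    ∃ c ∈ F.Rest, ∃ e : ℤ, e * e = 1 ∧ (∀ j, OdJ C.k j → C.m c j - C.m c 1 = e) ∧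
      ∀ j, OdJ C.k j → ∃ b ∈ F.Rest, b ≠ c ∧ (C.m b j - C.m b 1) * (C.m b j - C.m b 1) = 1 ∧
        ∀ χ, χ ≠ c → χ ≠ b → C.m χ j - C.m χ 1 = 0 := by
  have hk' := C.kmod
  have supp : ∀ j, OdJ C.k j → ∃ x ∈ F.Rest, ∃ y ∈ F.Rest, x ≠ y ∧
      (C.m x j - C.m x 1) * (C.m x j - C.m x 1) = 1 ∧ (C.m y j - C.m y 1) * (C.m y j - C.m y 1) = 1 ∧
      ∀ χ, χ ≠ x → χ ≠ y → C.m χ j - C.m χ 1 = 0 := by
    intro j hj
    obtain ⟨a, b, c, d⟩ := hj
    obtain ⟨x, y, hxy, hx, hy, h0⟩ := two_supp (fun χ => C.m χ j - C.m χ 1) (by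
      rw [zz ⟨a, b, c, d⟩ ⟨a, b, c, d⟩, pr, if_pos rfl,
        if_neg (by rw [rm, if_neg (by omega)]; split_ifs <;> omega)]
      norm_num)
    refine ⟨x, F.z_outside hk4 ⟨a, b, c, d⟩ fun e => ?_, y, F.z_outside hk4 ⟨a, b, c, d⟩ fun e => ?_,
      hxy, hx, hy, h0⟩
    · simp only [e] at hx; norm_num at hx
    · simp only [e] at hy; norm_num at hy
  have meet : ∀ i j, OdJ C.k i → OdJ C.k j → i ≠ j → rm C.k i ≠ j → ∀ x y, x ≠ y →
      (C.m x i - C.m x 1) * (C.m x i - C.m x 1) = 1 → (C.m y i - C.m y 1) * (C.m y i - C.m y 1) = 1 →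
      (∀ χ, χ ≠ x → χ ≠ y → C.m χ i - C.m χ 1 = 0) →
      (C.m x j - C.m x 1 = C.m x i - C.m x 1 ∧ C.m y j - C.m y 1 = 0) ∨
        (C.m y j - C.m y 1 = C.m y i - C.m y 1 ∧ C.m x j - C.m x 1 = 0) := by
    intro i j hi hj h1 h2 x y hxy hx hy h0
    have h := zz (C := C) hi hj
    rw [pr_zero h1 h2, sum_two _ _ hxy h0] at h
    have hsm : ∀ z, C.m z j - C.m z 1 = 0 ∨ C.m z j - C.m z 1 = 1 ∨ C.m z j - C.m z 1 = -1 := fun z => by
      obtain ⟨a, -, b, -, -, ha, hb, h3⟩ := supp j hj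
      by_cases e : z = a
      · rw [e]; exact Or.inr (sq_one_iff'.1 ha)
      by_cases e' : z = b
      · rw [e']; exact Or.inr (sq_one_iff'.1 hb)
      exact Or.inl (h3 z e e')
    rcases sq_one_iff'.1 hx with p | p <;> rcases sq_one_iff'.1 hy with p' | p' <;>
      rcases hsm x with q1 | q1 | q1 <;> rcases hsm y with q2 | q2 | q2 <;>
      rw [p, p', q1, q2] at h <;> (first | (norm_num at h; done) | (rw [p, p', q1, q2]; norm_num))
  have hsame : ∀ χ j, OdJ C.k j → C.m χ (rm C.k j) - C.m χ 1 = C.m χ j - C.m χ 1 := fun χ j hj => by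
    rw [C.hsym χ j hj.1]
  have o1 : OdJ C.k (2 * C.k + 1) := ⟨by omega, by omega, by omega, by omega⟩
  have o2 : OdJ C.k (2 * C.k + 3) := ⟨by omega, by omega, by omega, by omega⟩
  have hne : 2 * C.k + 1 ≠ 2 * C.k + 3 := by omega
  have hne' : rm C.k (2 * C.k + 1) ≠ 2 * C.k + 3 := by
    rw [rm, if_neg (by omega), if_neg (by omega)]; omega
  obtain ⟨x, hx, y, hy, hxy, hx1, hy1, h0⟩ := supp _ o1
  suffices main : ∀ c a, c ∈ F.Rest → a ∈ F.Rest → c ≠ a →
      (C.m c (2 * C.k + 1) - C.m c 1) * (C.m c (2 * C.k + 1) - C.m c 1) = 1 →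
      (C.m a (2 * C.k + 1) - C.m a 1) * (C.m a (2 * C.k + 1) - C.m a 1) = 1 →
      (∀ χ, χ ≠ c → χ ≠ a → C.m χ (2 * C.k + 1) - C.m χ 1 = 0) →
      C.m c (2 * C.k + 3) - C.m c 1 = C.m c (2 * C.k + 1) - C.m c 1 →
      C.m a (2 * C.k + 3) - C.m a 1 = 0 →
      ∃ c ∈ F.Rest, ∃ e : ℤ, e * e = 1 ∧ (∀ j, OdJ C.k j → C.m c j - C.m c 1 = e) ∧
        ∀ j, OdJ C.k j → ∃ b ∈ F.Rest, b ≠ c ∧ (C.m b j - C.m b 1) * (C.m b j - C.m b 1) = 1 ∧
          ∀ χ, χ ≠ c → χ ≠ b → C.m χ j - C.m χ 1 = 0 by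
    rcases meet _ _ o1 o2 hne hne' x y hxy hx1 hy1 h0 with ⟨e1, e2⟩ | ⟨e1, e2⟩
    · exact main x y hx hy hxy hx1 hy1 h0 e1 e2
    · exact main y x hy hx hxy.symm hy1 hx1 (fun χ a b => h0 χ b a) e1 e2
  intro c a hc ha hca hc1 ha1 hsupp hec hea
  have allc : ∀ j, OdJ C.k j → C.m c j - C.m c 1 = C.m c (2 * C.k + 1) - C.m c 1 := by
    intro j hj
    by_cases e1 : j = 2 * C.k + 1
    · rw [e1]
    by_cases e2 : rm C.k (2 * C.k + 1) = j
    · rw [← e2, hsame c _ o1]
    by_cases e3 : j = 2 * C.k + 3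
    · rw [e3, hec]
    by_cases e4 : rm C.k (2 * C.k + 3) = j
    · rw [← e4, hsame c _ o2, hec]
    rcases meet _ _ o1 hj (Ne.symm e1) e2 c a hca hc1 ha1 hsupp with ⟨g1, -⟩ | ⟨g1, g2⟩
    · exact g1
    exfalso
    obtain ⟨x', hx', y', hy', hxy', hx'1, hy'1, h0'⟩ := supp _ o2
    have hcs : c = x' ∨ c = y' := by
      by_contra hh
      push Not at hh
      have := h0' c hh.1 hh.2
      rw [hec] at this
      rw [this] at hc1; norm_num at hc1
    obtain ⟨b, hbc, hb1, hbs⟩ : ∃ b, c ≠ b ∧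
        (C.m b (2 * C.k + 3) - C.m b 1) * (C.m b (2 * C.k + 3) - C.m b 1) = 1 ∧
        ∀ χ, χ ≠ c → χ ≠ b → C.m χ (2 * C.k + 3) - C.m χ 1 = 0 := by
      rcases hcs with e | e
      · subst e; exact ⟨y', hxy', hy'1, h0'⟩
      · subst e; exact ⟨x', hxy'.symm, hx'1, fun χ u v => h0' χ v u⟩
    have hc3 : (C.m c (2 * C.k + 3) - C.m c 1) * (C.m c (2 * C.k + 3) - C.m c 1) = 1 := by
      rw [hec]; exact hc1
    rcases meet _ _ o2 hj (Ne.symm e3) e4 c b hbc hc3 hb1 hbs with ⟨k1, -⟩ | ⟨k1, -⟩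
    · rw [g2, hec] at k1
      rw [← k1] at hc1; norm_num at hc1
    · have hab : a ≠ b := fun e => by rw [← e, hea] at hb1; norm_num at hb1
      have d1 := C.orthd _ _ (z_ok o1)
      have d2 := C.orthd _ _ (z_ok o2)
      have d3 := C.orthd _ _ (z_ok hj)
      simp only [mul_comm (C.deg _)] at d1 d2 d3
      rw [sum_two _ _ hca hsupp] at d1
      rw [sum_two _ _ hbc hbs, hec] at d2
      have hsupp3 : ∀ χ, χ ≠ a → χ ≠ b → C.m χ j - C.m χ 1 = 0 := by
        obtain ⟨x'', -, y'', -, -, -, -, h0''⟩ := supp j hj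
        have ina : a = x'' ∨ a = y'' := by
          by_contra hh
          push Not at hh
          have := h0'' a hh.1 hh.2
          rw [g1] at this
          rw [this] at ha1; norm_num at ha1
        have inb : b = x'' ∨ b = y'' := by
          by_contra hh
          push Not at hh
          have := h0'' b hh.1 hh.2
          rw [k1] at this
          rw [this] at hb1; norm_num at hb1
        intro χ u v
        rcases ina with e | e <;> rcases inb with e' | e'
        · exact absurd (e.trans e'.symm) hab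
        · exact h0'' χ (e ▸ u) (e' ▸ v)
        · exact h0'' χ (e' ▸ v) (e ▸ u)
        · exact absurd (e.trans e'.symm) hab
      rw [sum_two _ _ hab hsupp3, g1, k1] at d3
      have : (C.m c (2 * C.k + 1) - C.m c 1) * C.deg c = 0 := by linarith
      rcases mul_eq_zero.1 this with e | e
      · rw [e] at hc1; norm_num at hc1
      · exact deg_ne c e
  refine ⟨c, hc, _, hc1, allc, fun j hj => ?_⟩
  obtain ⟨x', hx', y', hy', hxy', hx'1, hy'1, h0'⟩ := supp j hj
  have : c = x' ∨ c = y' := by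
    by_contra hh
    push Not at hh
    have h := h0' c hh.1 hh.2
    rw [allc j hj] at h
    rw [h] at hc1; norm_num at hc1
  rcases this with e | e
  · subst e; exact ⟨y', hy', hxy'.symm, hy'1, h0'⟩
  · subst e; exact ⟨x', hx', hxy', hx'1, fun χ u v => h0' χ v u⟩

/-- The four values of the two columns at the odd members, after naming them. -/
theorem Frame.main_BD (hp : C.u F.B * C.ga F.B = 1) :
    C.u F.D * C.ga F.D = -1 ∧ C.u F.B * C.de F.B = -1 ∧ C.u F.D * C.de F.D = -1 := by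
  obtain ⟨hgR, hdR⟩ := F.main_R
  obtain ⟨ra, rb⟩ := F.rel_ga
  obtain ⟨sa, sb⟩ := F.rel_de
  rw [hgR] at ra rb
  rw [hdR] at sa sb
  have hp' : C.u F.D * C.ga F.D = -1 := by linarith
  have hg := C.gg
  rw [F.sq_split C.ga ga_o, ra, hp, hp', hgR] at hg
  have hd := C.dd
  rw [F.sq_split C.de de_o, sa, hdR] at hd
  have hgd := F.gd_split
  rw [ra, sa, hp, hp', hgR, hdR] at hgd
  obtain ⟨x, hx⟩ : ∃ x, C.u F.B * C.de F.B = x := ⟨_, rfl⟩
  obtain ⟨y, hy⟩ : ∃ y, C.u F.D * C.de F.D = y := ⟨_, rfl⟩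
  obtain ⟨-, hxo⟩ := F.odd_B
  rw [hx] at hd hgd sb hxo ⊢
  rw [hy] at hd hgd sb ⊢
  have hy2 : y = -2 - x := by linarith
  subst hy2
  have hg4 : ∑ χ ∈ F.Rest, C.ga χ * C.ga χ = 4 := by linarith
  -- the only remaining member seen by the sum column
  obtain ⟨X, hX, hX0⟩ : ∃ X ∈ F.Rest, C.ga X ≠ 0 := by
    by_contra hc
    push Not at hc
    rw [sum_eq_zero fun χ hχ => by rw [hc χ hχ, mul_zero]] at hg4
    norm_num at hg4
  have hX4 : ∀ χ ∈ F.Rest, χ ≠ X → C.ga χ = 0 := by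
    intro χ hχ hne
    by_contra h0
    have h1 := sum_le_sum_of_subset_of_nonneg (f := fun i => C.ga i * C.ga i)
      (show ({X, χ} : Finset ι) ⊆ F.Rest by
        intro z hz
        simp only [mem_insert, mem_singleton] at hz
        rcases hz with e | e <;> rw [e]
        · exact hX
        · exact hχ)
      (fun i _ _ => mul_self_nonneg _)
    rw [hg4, sum_pair (Ne.symm hne)] at h1
    have a1 := sq_ge_four (F.rest_even hX).1 hX0
    have a2 := sq_ge_four (F.rest_even hχ).1 h0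
    linarith
  have hXX : C.ga X * C.ga X = 4 := by
    rw [← hg4]
    exact (sum_eq_single (f := fun i => C.ga i * C.ga i) X
      (fun χ hχ hne => by rw [hX4 χ hχ hne, mul_zero]) (absurd hX)).symm
  rw [sum_eq_single X (fun χ hχ hne => by rw [hX4 χ hχ hne, zero_mul]) (absurd hX)] at hgd
  have hdX : C.de X * C.de X = (1 + x) * (1 + x) := by
    have e : C.ga X * C.de X = -2 * (1 + x) := by linarith
    have e2 : (C.ga X * C.de X) * (C.ga X * C.de X) = 4 * (C.de X * C.de X) := by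
      linear_combination (C.de X * C.de X) * hXX
    rw [e] at e2
    linarith
  have hkey : (x + 1) * (x + 1) ≤ 2 → x = -1 := fun h => by
    obtain ⟨c, hc⟩ := hxo
    have : -2 < x + 1 ∧ x + 1 < 2 := ⟨by nlinarith, by nlinarith⟩
    omega
  suffices hh : (x + 1) * (x + 1) ≤ 2 by
    have := hkey hh
    subst this
    exact ⟨hp', rfl, by norm_num⟩
  have hnn : ∀ i ∈ F.Rest, (0 : ℤ) ≤ C.de i * C.de i := fun i _ => mul_self_nonneg _
  have hk := C.k2
  have hk' := C.kmod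
  by_cases hk4 : 4 ≤ C.k
  swap
  · have hk2 : C.k = 2 := by omega
    have h1 := single_le_sum hnn hX
    rw [hk2] at hd
    push_cast at hd
    rw [hdX] at h1
    nlinarith
  -- the members of the two stars
  obtain ⟨c, hc, e, he, hec, hbj⟩ := F.center hk4
  haveI : Nonempty ι := ⟨C.o⟩
  choose! y hy hy1 hy0 using fun j (h : EvJ C.k j) => (F.w_shape h).2
  choose! b hb hbc hb1 hb0 using hbj
  set J := (range C.k).image (fun i => 2 * i) \ {0, C.k} with hJ
  set K := (range C.k).image (fun i => C.k + 1 + 2 * i) \ {2 * C.k - 1} with hK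
  have hJe : ∀ j ∈ J, EvJ C.k j := fun j hj => by
    simp only [hJ, mem_sdiff, mem_image, mem_range, mem_insert, mem_singleton, not_or] at hj
    obtain ⟨⟨i, hi, rfl⟩, h1, h2⟩ := hj
    exact ⟨by omega, by omega, h1, h2, by omega, by omega⟩
  have hKe : ∀ j ∈ K, OdJ C.k j ∧ C.k < j ∧ j < 3 * C.k := fun j hj => by
    simp only [hK, mem_sdiff, mem_image, mem_range, mem_singleton] at hj
    obtain ⟨⟨i, hi, rfl⟩, h1⟩ := hj
    exact ⟨⟨by omega, by omega, by omega, h1⟩, by omega, by omega⟩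
  have cJ : J.card = C.k - 2 := by
    rw [hJ, card_sdiff_of_subset, card_image_of_injective _ (fun a b h => by omega), card_range]
    · rw [card_pair (by omega)]
    · intro z hz
      simp only [mem_insert, mem_singleton] at hz
      simp only [mem_image, mem_range]
      rcases hz with rfl | rfl
      · exact ⟨0, by omega, rfl⟩
      · exact ⟨C.k / 2, by omega, by omega⟩
  have cK : K.card = C.k - 1 := by
    rw [hK, card_sdiff_of_subset, card_image_of_injective _ (fun a b h => by omega), card_range,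
      card_singleton]
    intro z hz
    simp only [mem_singleton] at hz
    simp only [mem_image, mem_range]
    exact ⟨(C.k - 2) / 2, by omega, by omega⟩
  have yinj : Set.InjOn y (J : Set ℕ) := by
    intro i hi j hj hij
    simp only [mem_coe] at hi hj
    by_contra hne
    have ei := hJe i hi
    have ej := hJe j hj
    have hR : y i ≠ F.R := (F.mem_rest.1 (hy i ei)).2.2.2.2
    have h := ww (C := C) ei ej
    rw [pr_zero hne (by
      obtain ⟨a, b, c, -⟩ := ei
      obtain ⟨a', b', c', -⟩ := ej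
      rw [rm, if_pos b, if_neg c]
      simp only [hJ, mem_sdiff, mem_image, mem_range] at hi hj
      obtain ⟨⟨i', hi', rfl⟩, -⟩ := hi
      obtain ⟨⟨j', hj', rfl⟩, -⟩ := hj
      omega), sum_two _ _ hR.symm (hy0 i ei), (F.w_shape ei).1, (F.w_shape ej).1, F.hs] at h
    have h1 := hy1 j ej
    rw [← hij] at h1
    rcases sq_one_iff'.1 (hy1 i ei) with p | p <;> rcases sq_one_iff'.1 h1 with p' | p' <;>
      rw [p, p'] at h <;> norm_num at h
  have binj : Set.InjOn b (K : Set ℕ) := by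
    intro i hi j hj hij
    simp only [mem_coe] at hi hj
    by_contra hne
    obtain ⟨ei, i1, i2⟩ := hKe i hi
    obtain ⟨ej, j1, j2⟩ := hKe j hj
    have h := zz (C := C) ei ej
    rw [pr_zero hne (by rw [rm, if_neg (by have := ei.2.1; omega)]; split_ifs <;> omega),
      sum_two _ _ (hbc i ei).symm (hb0 i ei), hec i ei, hec j ej, he] at h
    have h1 := hb1 j ej
    rw [← hij] at h1
    rcases sq_one_iff'.1 (hb1 i ei) with p | p <;> rcases sq_one_iff'.1 h1 with p' | p' <;>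
      rw [p, p'] at h <;> norm_num at h
  have yR : ∀ j ∈ J, C.ga (y j) = 0 ∧ C.de (y j) * C.de (y j) = 4 := by
    intro j hj
    have ej := hJe j hj
    have hR : y j ≠ F.R := (F.mem_rest.1 (hy j ej)).2.2.2.2
    have g1 := C.orth_ga (w_ok ej)
    have d1 := C.orth_de (w_ok ej)
    simp only [mul_comm (C.ga _), mul_comm (C.de _)] at g1 d1
    rw [sum_two _ _ hR.symm (hy0 j ej), (F.w_shape ej).1, hgR] at g1
    rw [sum_two _ _ hR.symm (hy0 j ej), (F.w_shape ej).1, hdR] at d1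
    rcases sq_one_iff'.1 (hy1 j ej) with p | p <;> rw [p] at g1 d1 <;>
      refine ⟨by linarith, ?_⟩
    · rw [show C.de (y j) = 2 by linarith]; rfl
    · rw [show C.de (y j) = -2 by linarith]; rfl
  have bR : ∀ j ∈ K, C.ga (b j) * C.ga (b j) = C.ga c * C.ga c ∧
      C.de (b j) * C.de (b j) = C.de c * C.de c := by
    intro j hj
    have ej := (hKe j hj).1
    have g1 := C.orth_ga (z_ok ej)
    have d1 := C.orth_de (z_ok ej)
    simp only [mul_comm (C.ga _), mul_comm (C.de _)] at g1 d1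
    rw [sum_two _ _ (hbc j ej).symm (hb0 j ej), hec j ej] at g1 d1
    rcases sq_one_iff'.1 (hb1 j ej) with p | p <;> rcases sq_one_iff'.1 he with p' | p' <;>
      rw [p, p'] at g1 d1 <;> constructor <;>
      first
        | (rw [show C.ga (b j) = C.ga c by linarith])
        | (rw [show C.ga (b j) = -C.ga c by linarith]; ring)
        | (rw [show C.de (b j) = C.de c by linarith])
        | (rw [show C.de (b j) = -C.de c by linarith]; ring)
  have hgc : C.ga c = 0 := by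
    by_contra h0
    have a := sq_ge_four (F.rest_even hc).1 h0
    have hsub : insert c (K.image b) ⊆ F.Rest := by
      intro z hz
      simp only [mem_insert, mem_image] at hz
      rcases hz with e | ⟨j, hj, rfl⟩
      · rw [e]; exact hc
      · exact hb j (hKe j hj).1
    have h1 := sum_le_sum_of_subset_of_nonneg (f := fun i => C.ga i * C.ga i) hsub
      (fun i _ _ => mul_self_nonneg _)
    rw [hg4, sum_insert (by
      simp only [mem_image, not_exists, not_and]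
      exact fun j hj e => hbc j (hKe j hj).1 e), sum_image binj,
      sum_congr rfl fun j hj => (bR j hj).1, sum_const, cK, nsmul_eq_mul] at h1
    have : (1 : ℤ) ≤ ((C.k - 1 : ℕ) : ℤ) := by omega
    nlinarith
  have hdc : 4 ≤ C.de c * C.de c := by
    refine sq_ge_four (F.rest_even hc).2 fun h0 => ?_
    have hv0 : C.val c = 0 := by
      have := C.two_val c
      rw [h0, hgc] at this
      linarith
    have hw0 : ∀ j, EvJ C.k j → C.m c j - C.m c C.k = 0 := by
      intro j hj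
      refine hy0 j hj c (F.mem_rest.1 hc).2.2.2.2 fun e' => ?_
      have h := z_even (C := C) (hKe (3 * C.k - 1) ?_).1 (w_ok hj) hj.2.1
      · have oj := (hKe (3 * C.k - 1) (by
          simp only [hK, mem_sdiff, mem_image, mem_range, mem_singleton]
          exact ⟨⟨C.k - 1, by omega, by omega⟩, by omega⟩)).1
        rw [sum_two _ _ (hbc _ oj).symm (hb0 _ oj), hec _ oj] at h
        have hbR : b (3 * C.k - 1) ≠ F.R := (F.mem_rest.1 (hb _ oj)).2.2.2.2
        rw [hy0 j hj (b (3 * C.k - 1)) hbR (by rw [← e']; exact hbc _ oj), mul_zero, add_zero] at h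
        have h' := hy1 j hj
        rw [← e'] at h'
        rcases mul_eq_zero.1 h with z | z
        · rw [z] at he; norm_num at he
        · rw [z] at h'; norm_num at h'
      · simp only [hK, mem_sdiff, mem_image, mem_range, mem_singleton]
        exact ⟨⟨C.k - 1, by omega, by omega⟩, by omega⟩
    obtain ⟨u1, u2, u3, u4, u5⟩ := F.mem_rest.1 hc
    obtain ⟨hu0, hv2⟩ := F.rest c u1 u2 u3 u4 u5
    obtain ⟨hev, hk1⟩ := even_mult c 0 hu0 (by rw [hv2, mul_zero]) hw0
    obtain ⟨t, ht⟩ := C.val_pattern c _ _ (C.m c 1 + e) (C.m c 1) hev hk1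
      (fun j a b d g => by linarith [hec j ⟨a, b, d, g⟩]) rfl
    rw [hv0, sub_zero] at ht
    have ht' : -2 * e = 2 * C.k * t := by linarith
    rcases sq_one_iff'.1 he with p | p <;> rw [p] at ht' <;>
    · have hk4' : (4 : ℤ) ≤ C.k := by exact_mod_cast hk4
      rcases lt_trichotomy t 0 with q | q | q
      · nlinarith
      · rw [q] at ht'; norm_num at ht'
      · nlinarith
  have hbX : ∀ j ∈ K, b j ≠ X := fun j hj e' => hX0 (by
    rw [← e']; exact mul_self_eq_zero.1 (by rw [(bR j hj).1, hgc, mul_zero]))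
  have hyX : ∀ j ∈ J, y j ≠ X := fun j hj e' => hX0 (by rw [← e']; exact (yR j hj).1)
  have hcX : c ≠ X := fun e' => hX0 (by rw [← e']; exact hgc)
  have hcy : ∀ j ∈ J, y j ≠ c ∧ ∀ i ∈ K, y j ≠ b i := by
    intro j hj
    have ej := hJe j hj
    have hR : y j ≠ F.R := (F.mem_rest.1 (hy j ej)).2.2.2.2
    have key : ∀ i ∈ K, C.m (y j) i - C.m (y j) 1 = 0 := fun i hi => by
      have h := z_even (C := C) (hKe i hi).1 (w_ok ej) ej.2.1
      simp only [mul_comm (C.m _ i - C.m _ 1)] at h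
      rw [sum_two _ _ hR.symm (hy0 j ej), F.z_R (hKe i hi).1, mul_zero, zero_add] at h
      rcases mul_eq_zero.1 h with z | z
      · have := hy1 j ej; rw [z] at this; norm_num at this
      · exact z
    refine ⟨fun e' => ?_, fun i hi e' => ?_⟩
    · obtain ⟨i, hi⟩ : K.Nonempty := card_pos.1 (by omega)
      have := key i hi
      rw [e', hec i (hKe i hi).1] at this
      rw [this] at he; norm_num at he
    · have := key i hi
      rw [e'] at this
      have h' := hb1 i (hKe i hi).1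
      rw [this] at h'; norm_num at h'
  have hsub : insert X (insert c (K.image b ∪ J.image y)) ⊆ F.Rest := by
    intro z hz
    simp only [mem_insert, mem_union, mem_image] at hz
    rcases hz with e' | e' | ⟨j, hj, rfl⟩ | ⟨j, hj, rfl⟩
    · rw [e']; exact hX
    · rw [e']; exact hc
    · exact hb j (hKe j hj).1
    · exact hy j (hJe j hj)
  have h1 := sum_le_sum_of_subset_of_nonneg (f := fun i => C.de i * C.de i) hsub
    (fun i _ _ => mul_self_nonneg _)
  rw [sum_insert (by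
      simp only [mem_insert, mem_union, mem_image, not_or, not_exists, not_and]
      exact ⟨hcX.symm, fun j hj => hbX j hj, fun j hj => hyX j hj⟩),
    sum_insert (by
      simp only [mem_union, mem_image, not_or, not_exists, not_and]
      exact ⟨fun j hj => hbc j (hKe j hj).1, fun j hj => (hcy j hj).1⟩),
    sum_union (disjoint_left.2 fun z hz hz' => by
      simp only [mem_image] at hz hz'
      obtain ⟨i, hi, rfl⟩ := hz
      obtain ⟨j, hj, e'⟩ := hz'
      exact (hcy j hj).2 i hi e'),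
    sum_image binj, sum_image yinj, sum_congr rfl fun j hj => (bR j hj).2,
    sum_congr rfl fun j hj => (yR j hj).2, sum_const, sum_const, cJ, cK, hdX] at h1
  simp only [nsmul_eq_mul, Nat.cast_sub (show 1 ≤ C.k by omega), Nat.cast_sub hk] at h1
  push_cast at h1
  have hk4' : (4 : ℤ) ≤ C.k := by exact_mod_cast hk4
  nlinarith [mul_le_mul_of_nonneg_left hdc (show (0 : ℤ) ≤ C.k - 1 by linarith)]

theorem sq_val {χ : ι} {t g d : ℤ} (ht : t * t = 1) (hg : t * C.ga χ = g) (hd : t * C.de χ = d) :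
    (2 * C.val χ) * (2 * C.val χ) = ((1 + C.q) * g + (1 - C.q) * d) * ((1 + C.q) * g + (1 - C.q) * d) := by
  rw [C.two_val, ← hg, ← hd]
  linear_combination
    (-((1 + C.q) * C.ga χ + (1 - C.q) * C.de χ) * ((1 + C.q) * C.ga χ + (1 - C.q) * C.de χ)) * ht

/-- The two rotation equations, in terms of signed degrees. -/
theorem values (C : Cols ι) : ∃ a b d σ : ℤ, 2 ≤ |a| ∧ 2 ≤ |b| ∧ 2 ≤ |d| ∧ σ ≠ 0 ∧ a = 1 + σ ∧ b + d = σ ∧
    (∑ χ, (C.u χ : ℚ) * ((C.val χ : ℚ) * C.val χ) / C.deg χ =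
      1 - (C.q : ℚ) * C.q / a + (C.q : ℚ) * C.q / b + 1 / d) ∧
    (∑ χ, (C.v χ : ℚ) * ((C.val χ : ℚ) * C.val χ) / C.deg χ =
      1 - (C.q : ℚ) * C.q / a - (C.q : ℚ) * C.q / b - 1 / d + 2 * ((C.q : ℚ) - 1) * (C.q - 1) / σ) := by
  obtain ⟨F₀⟩ := C.exists_frame
  obtain ⟨F, hp⟩ : ∃ F : C.Frame, C.u F.B * C.ga F.B = 1 := by
    obtain ⟨ra, rb⟩ := F₀.rel_ga
    rw [F₀.main_R.1] at ra rb
    have hg := C.gg
    rw [F₀.sq_split C.ga ga_o, ra, F₀.main_R.1] at hg
    obtain ⟨p, hp⟩ : ∃ p, C.u F₀.B * C.ga F₀.B = p := ⟨_, rfl⟩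
    obtain ⟨⟨c, hc⟩, -⟩ := F₀.odd_B
    have hr : 0 ≤ ∑ χ ∈ F₀.Rest, C.ga χ * C.ga χ := sum_nonneg fun i _ => mul_self_nonneg _
    rw [show C.u F₀.D * C.ga F₀.D = -p by linarith, hp] at hg
    rw [hp] at hc
    have h1 : -2 < p ∧ p < 2 := ⟨by nlinarith, by nlinarith⟩
    rcases (show p = 1 ∨ p = -1 by omega) with e | e
    · exact ⟨F₀, hp.trans e⟩
    · exact ⟨F₀.swap, show C.u F₀.D * C.ga F₀.D = 1 by linarith⟩
  obtain ⟨hgD, hxB, hxD⟩ := F.main_BD hp
  obtain ⟨hgR, hdR⟩ := F.main_R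
  obtain ⟨ra, -⟩ := F.rel_ga
  obtain ⟨sa, -⟩ := F.rel_de
  rw [hgR] at ra
  rw [hdR] at sa
  obtain ⟨dA, dBD⟩ := F.rel C.deg deg_o fun a b h => C.orthd a b h
  have sgn : ∀ {t x : ℤ}, t * t = 1 → |t * x| = |x| := fun {t x} ht => by
    rw [abs_mul]; rcases sq_one_iff'.1 ht with e | e <;> rw [e] <;> simp
  have hA2 : (-C.u F.A) * (-C.u F.A) = 1 := by rw [neg_mul_neg]; exact F.uA
  have vA : C.val F.A * C.val F.A = C.q * C.q := by
    have h := sq_val hA2 ra sa
    linarith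
  have vB : C.val F.B * C.val F.B = C.q * C.q := by
    have h := sq_val F.uB hp hxB
    linarith
  have vD : C.val F.D * C.val F.D = 1 := by
    have h := sq_val F.uD hgD hxD
    linarith
  have vR : C.val F.R * C.val F.R = (C.q - 1) * (C.q - 1) := by
    have h := sq_val F.hs hgR hdR
    linarith
  refine ⟨-C.u F.A * C.deg F.A, C.u F.B * C.deg F.B, C.u F.D * C.deg F.D, F.s * C.deg F.R,
    (sgn hA2).symm ▸ C.hd1 _ F.hAo, (sgn F.uB).symm ▸ C.hd1 _ F.hBo, (sgn F.uD).symm ▸ C.hd1 _ F.hDo,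
    mul_ne_zero (fun e => by have := F.hs; rw [e] at this; norm_num at this) (deg_ne _), dA, dBD, ?_, ?_⟩
  · have hsplit : ∑ χ, (C.u χ : ℚ) * ((C.val χ : ℚ) * C.val χ) / C.deg χ =
        ∑ χ ∈ ({C.o, F.A, F.B, F.D} : Finset ι), (C.u χ : ℚ) * ((C.val χ : ℚ) * C.val χ) / C.deg χ := by
      refine (sum_subset (subset_univ _) fun χ _ hχ => ?_).symm
      simp only [mem_insert, mem_singleton, not_or] at hχ
      obtain ⟨a, b, c, d⟩ := hχ
      by_cases e : χ = F.R
      · rw [e, F.uR]; simp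
      · rw [(F.rest χ a b c d e).1]; simp
    rw [hsplit, sum_insert (by simp [F.hAo.symm, F.hBo.symm, F.hDo.symm]),
      sum_insert (by simp [F.hAB, F.hAD]), sum_insert (by simp [F.hBD]), sum_singleton]
    have hov : C.val C.o = 1 := by rw [C.hval', C.ha0, C.hb0]; ring
    rw [C.u_o, hov, deg_o]
    have c1 : ((C.val F.A : ℚ) * C.val F.A) = (C.q : ℚ) * C.q := by exact_mod_cast vA
    have c2 : ((C.val F.B : ℚ) * C.val F.B) = (C.q : ℚ) * C.q := by exact_mod_cast vB
    have c3 : ((C.val F.D : ℚ) * C.val F.D) = 1 := by exact_mod_cast vD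
    rw [c1, c2, c3]
    have qA : (C.u F.A : ℚ) * C.u F.A = 1 := by exact_mod_cast F.uA
    have qB : (C.u F.B : ℚ) * C.u F.B = 1 := by exact_mod_cast F.uB
    have qD : (C.u F.D : ℚ) * C.u F.D = 1 := by exact_mod_cast F.uD
    have nA : (C.deg F.A : ℚ) ≠ 0 := by exact_mod_cast deg_ne F.A
    have nB : (C.deg F.B : ℚ) ≠ 0 := by exact_mod_cast deg_ne F.B
    have nD : (C.deg F.D : ℚ) ≠ 0 := by exact_mod_cast deg_ne F.D
    push_cast
    rcases sq_one_iff'.1 F.uA with a | a <;> rcases sq_one_iff'.1 F.uB with b | b <;>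
      rcases sq_one_iff'.1 F.uD with d | d <;> rw [a, b, d] <;> field_simp <;> ring
  · have hsplit : ∑ χ, (C.v χ : ℚ) * ((C.val χ : ℚ) * C.val χ) / C.deg χ =
        ∑ χ ∈ ({C.o, F.A, F.B, F.D, F.R} : Finset ι), (C.v χ : ℚ) * ((C.val χ : ℚ) * C.val χ) / C.deg χ := by
      refine (sum_subset (subset_univ _) fun χ _ hχ => ?_).symm
      simp only [mem_insert, mem_singleton, not_or] at hχ
      obtain ⟨a, b, c, d, e⟩ := hχ
      rw [(F.rest χ a b c d e).2]; simp
    rw [hsplit, sum_insert (by simp [F.hAo.symm, F.hBo.symm, F.hDo.symm, F.hRo.symm]),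
      sum_insert (by simp [F.hAB, F.hAD, F.hRA.symm]), sum_insert (by simp [F.hBD, F.hRB.symm]),
      sum_insert (by simp [F.hRD.symm]), sum_singleton]
    have hov : C.val C.o = 1 := by rw [C.hval', C.ha0, C.hb0]; ring
    rw [C.v_o, F.vA, F.vB, F.vD, F.vR, hov, deg_o]
    have c1 : ((C.val F.A : ℚ) * C.val F.A) = (C.q : ℚ) * C.q := by exact_mod_cast vA
    have c2 : ((C.val F.B : ℚ) * C.val F.B) = (C.q : ℚ) * C.q := by exact_mod_cast vB
    have c3 : ((C.val F.D : ℚ) * C.val F.D) = 1 := by exact_mod_cast vD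
    have c4 : ((C.val F.R : ℚ) * C.val F.R) = ((C.q : ℚ) - 1) * (C.q - 1) := by exact_mod_cast vR
    rw [c1, c2, c3, c4]
    have nA : (C.deg F.A : ℚ) ≠ 0 := by exact_mod_cast deg_ne F.A
    have nB : (C.deg F.B : ℚ) ≠ 0 := by exact_mod_cast deg_ne F.B
    have nD : (C.deg F.D : ℚ) ≠ 0 := by exact_mod_cast deg_ne F.D
    have nR : (C.deg F.R : ℚ) ≠ 0 := by exact_mod_cast deg_ne F.R
    push_cast
    rcases sq_one_iff'.1 F.uA with a | a <;> rcases sq_one_iff'.1 F.uB with b | b <;>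
      rcases sq_one_iff'.1 F.uD with d | d <;> rcases sq_one_iff'.1 F.hs with e | e <;>
      rw [a, b, d, e] <;> field_simp <;> ring

end Cols

end CfsgLib.AlmostCyclic
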