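import Cfsg.Agent.Lib.AlmostCyclic.SDStein
import Cfsg.Agent.Lib.AlmostCyclic.SDValues
import Cfsg.Agent.Lib.Blocks.DihBlock.RankThree.Semi
import Cfsg.Agent.Lib.Blocks.Vanishing
import Cfsg.Agent.Lib.Blocks.SectionBound
import Cfsg.Agent.Lib.CharTheory.Integral
import Cfsg.Agent.S4652

/-!
# The columns of the principal block in the quasi-dihedral configuration
-/

set_option autoImplicit false
set_option linter.style.haveILetI false
set_option linter.unusedSectionVars false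

namespace CfsgLib.AlmostCyclic

open Cfsg CfsgLib.CharTheory CfsgLib.Blocks CfsgLib.Blocks.Dihedral CfsgLib.GL2Char
open scoped ComplexConjugate

universe u

theorem root_pow_congr {N : ℕ} {ζ : ℂ} (hζ : IsPrimitiveRoot ζ N) {a b : ℕ} (h : a ≡ b [MOD N]) :
    ζ ^ a = ζ ^ b := by
  rw [pow_eq_pow_mod a hζ.pow_eq_one, pow_eq_pow_mod b hζ.pow_eq_one, h]

/-- The members of the principal block. -/
abbrev PB (M : Ideal AlgInt) (G : Type u) [Group G] : Type u :=
  {χ : IrrCharacter G // χ ∈ principalBlock M G}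

variable {G : Type u} [Group G]

namespace SDat

variable (D : SDat G) [Finite G]

/-- Multiplicities on the rotations, as complex numbers. -/
noncomputable def mc (ζ : ℂ) (f : G → ℂ) (j : ℕ) : ℂ := coef (4 * D.k) ζ D.σ f j

variable [Fintype G] [Fintype D.C] {M : Ideal AlgInt}

theorem defect_sylow (hM : IsPModular 2 M) :
    ∃ P : Subgroup D.C, IsDefectGroup 2 M (principalBlock M D.C) P ∧ IsQuasiDihedral P := by
  haveI := Fact.mk Nat.prime_two
  refine ⟨_, (Cfsg.Agent.S4652.result 2 M hM _).mpr ⟨D.S.subtype D.hSC, rfl⟩, ?_⟩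
  rw [Sylow.coe_subtype]
  exact qd_congr (Subgroup.subgroupOfEquivOfLe D.hSC).symm D.hQD

/-- On the regular elements the principal block of the centraliser is spanned by two functions. -/
theorem span_two (hM : IsPModular 2 M) :
    ∃ (f : D.C → ℂ) (y : D.C) (n : ℕ),
      (∀ c, conj (f c) = f c) ∧ f 1 = (D.q : ℂ) ∧
      (∀ ψ ∈ principalBlock M D.C, ∃ a b : ℂ, ∀ c : D.C, ¬ 2 ∣ orderOf c →
        (ψ : D.C → ℂ) c = a + b * f c) ∧
      (∃ θ ∈ principalBlock M D.C, ∃ s : ℂ, ∀ c, f c = s * (θ : D.C → ℂ) c) ∧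
      ((8 * D.k : ℕ) : ℂ) * ((Finset.univ.filter fun c : D.C => ¬ 2 ∣ orderOf c).card : ℂ) =
        (Nat.card D.C : ℂ) * ((D.k : ℂ) + 1) ∧
      ((8 * D.k : ℕ) : ℂ) * ∑ c ∈ Finset.univ.filter (fun c : D.C => ¬ 2 ∣ orderOf c), f c =
        (Nat.card D.C : ℂ) * ((D.k : ℂ) - 1) ∧
      ((8 * D.k : ℕ) : ℂ) * ∑ c ∈ Finset.univ.filter (fun c : D.C => ¬ 2 ∣ orderOf c), f c * f c =
        (Nat.card D.C : ℂ) * ((D.k : ℂ) + 1) ∧
      orderOf y = D.p ^ (n + 1) ∧
      ∀ i : ℕ, (D.p ∣ i → f (y ^ i) = (D.q : ℂ)) ∧ (¬ D.p ∣ i → f (y ^ i) = 0) := by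
  classical
  haveI := D.hp
  have hpp := D.hp.out
  obtain ⟨θ, s, hs, hθB, hreal, hθ1, R1, R2, R3, y, n, hy, hval⟩ := D.exists_f2 hM
  have hs0 : (s : ℂ) ≠ 0 := by rcases hs with rfl | rfl <;> norm_num
  have hss : (s : ℂ) * (s : ℂ) = 1 := by rcases hs with rfl | rfl <;> norm_num
  have hyr : ∀ i : ℕ, ¬ 2 ∣ orderOf (y ^ i) := fun i h => by
    have h1 := (h.trans (orderOf_pow_dvd i)).trans hy.dvd
    exact D.hp2 ((Nat.prime_dvd_prime_iff_eq Nat.prime_two hpp).mp (Nat.prime_two.dvd_of_dvd_pow h1)).symm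
  obtain ⟨P, hP, hPQ⟩ := D.defect_sylow hM
  set b := principalBlock M D.C with hb
  have hrank : blockRank 2 b ≤ 2 := by
    by_contra h
    have hodd := DihBlock.odd_center hM principalBlock_isPBlock hP (Or.inr hPQ) (Nat.lt_of_not_le h)
    have h2 : 2 ∣ Nat.card (Subgroup.center D.C) := by
      rw [← D.tC_order, ← Subgroup.orderOf_mk D.tC D.tC_central]
      exact orderOf_dvd_natCard _
    exact Nat.not_even_iff_odd.mpr hodd (even_iff_two_dvd.mpr h2)
  set W := Submodule.span ℂ ((fun χ : IrrCharacter D.C => pRegularPart 2 (χ : D.C → ℂ)) '' b) with hW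
  let v : Fin 2 → (D.C → ℂ) :=
    ![pRegularPart 2 ((oneIrr D.C : IrrCharacter D.C) : D.C → ℂ), pRegularPart 2 (θ : D.C → ℂ)]
  have hv : ∀ (a : Fin 2 → ℂ) (c : D.C), ¬ 2 ∣ orderOf c →
      (∑ i, a i • v i) c = a 0 + a 1 * (θ : D.C → ℂ) c := by
    intro a c hc
    simp only [Fin.sum_univ_two, v, Matrix.cons_val_zero, Matrix.cons_val_one, Pi.add_apply,
      Pi.smul_apply, smul_eq_mul, pRegularPart_apply, if_neg hc]
    show a 0 * 1 + _ = _
    rw [mul_one]
  have hli : LinearIndependent ℂ v := by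
    rw [Fintype.linearIndependent_iff]
    intro a ha
    have e1 := congrFun ha (y ^ 1)
    have e0 := congrFun ha (y ^ D.p)
    rw [hv a _ (hyr _), Pi.zero_apply, (hval 1).2 hpp.not_dvd_one, mul_zero, add_zero] at e1
    rw [hv a _ (hyr _), Pi.zero_apply, (hval D.p).1 dvd_rfl, e1, zero_add, mul_eq_zero] at e0
    intro i
    fin_cases i
    · exact e1
    · exact e0.resolve_right (irr_one_ne_zero θ)
  have hspan : Submodule.span ℂ (Set.range v) = W := by
    refine Submodule.eq_of_le_of_finrank_le ?_ ?_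
    · rw [Submodule.span_le]
      rintro _ ⟨i, rfl⟩
      fin_cases i
      · exact Submodule.subset_span ⟨oneIrr D.C, oneIrr_mem hM, rfl⟩
      · exact Submodule.subset_span ⟨θ, hθB, rfl⟩
    · rw [finrank_span_eq_card hli, Fintype.card_fin]
      exact hrank
  refine ⟨fun c => (s : ℂ) * (θ : D.C → ℂ) c, y, n, fun c => by rw [map_mul, hreal]; simp, hθ1,
    fun ψ hψ => ?_, ⟨θ, hθB, s, fun _ => rfl⟩, R1, R2, ?_, hy, fun i => ⟨fun hi => ?_, fun hi => ?_⟩⟩
  · have hmem : pRegularPart 2 (ψ : D.C → ℂ) ∈ Submodule.span ℂ (Set.range v) := by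
      rw [hspan]; exact Submodule.subset_span ⟨ψ, hψ, rfl⟩
    obtain ⟨a, ha⟩ := (Submodule.mem_span_range_iff_exists_fun ℂ).mp hmem
    refine ⟨a 0, a 1 * s, fun c hc => ?_⟩
    have h := congrFun ha c
    rw [hv a c hc, pRegularPart_apply, if_neg hc] at h
    rw [← h]
    linear_combination -(a 1 * (θ : D.C → ℂ) c) * hss
  · rw [← R3]
    refine congrArg _ (Finset.sum_congr rfl fun c _ => ?_)
    linear_combination ((θ : D.C → ℂ) c * (θ : D.C → ℂ) c) * hss
  · show (s : ℂ) * (θ : D.C → ℂ) (y ^ i) = _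
    rw [(hval i).1 hi, hθ1]
  · show (s : ℂ) * (θ : D.C → ℂ) (y ^ i) = _
    rw [(hval i).2 hi, mul_zero]

/-- The two integral columns at the involution. -/
theorem exists_albe (hM : IsPModular 2 M) :
    ∃ (al be : PB M G → ℤ),
      (∀ χ : PB M G, ((χ : IrrCharacter G) : G → ℂ) D.t = (al χ : ℂ) + (D.q : ℂ) * be χ) ∧
      (∀ χ : PB M G, (∀ g, ((χ : IrrCharacter G) : G → ℂ) g = 1) → al χ = 1 ∧ be χ = 0) ∧
      (∀ [Fintype (PB M G)],
        ∑ χ, al χ * al χ = 2 * D.k + 2 ∧ ∑ χ, be χ * be χ = 2 * D.k + 2 ∧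
        ∑ χ, al χ * be χ = 2 - 2 * D.k ∧
        ∀ i : ℕ, ¬ 2 * D.k ∣ i →
          ∑ χ, (al χ : ℂ) * ((χ : IrrCharacter G) : G → ℂ) (D.σ ^ i) = 0 ∧
          ∑ χ, (be χ : ℂ) * ((χ : IrrCharacter G) : G → ℂ) (D.σ ^ i) = 0) := by
  classical
  haveI := D.hp
  have hpp := D.hp.out
  obtain ⟨f, y, n, hreal, hf1, hspan, ⟨θ, hθB, s, hfθ⟩, R1, R2, R3, hy, hval⟩ := D.span_two hM
  have hc0 := isCentr_singleton D.t
  have ht : ∃ j : ℕ, orderOf D.t = 2 ^ j := ⟨1, by rw [D.ht2, pow_one]⟩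
  have hreg1 : ¬ 2 ∣ orderOf (1 : D.C) := by simp
  have hyr : ∀ i : ℕ, ¬ 2 ∣ orderOf (y ^ i) := fun i h => by
    have h1 := (h.trans (orderOf_pow_dvd i)).trans hy.dvd
    exact D.hp2 ((Nat.prime_dvd_prime_iff_eq Nat.prime_two hpp).mp (Nat.prime_two.dvd_of_dvd_pow h1)).symm
  have hy0 : f y = 0 := by simpa using (hval 1).2 hpp.not_dvd_one
  choose a b hab using hspan
  -- values on the section
  have hsec : ∀ χ : IrrCharacter G, χ ∈ principalBlock M G →
      ∃ A B : ℂ, ∀ c : D.C, ¬ 2 ∣ orderOf c → (χ : G → ℂ) (D.t * (c : G)) = A + B * f c := by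
    intro χ hχ
    refine ⟨∑ ψ ∈ (bset (principalBlock M D.C)).attach,
        classInner (sec D.t D.C (χ : G → ℂ)) ((ψ : IrrCharacter D.C) : D.C → ℂ) * a _ (mem_bset.mp ψ.2),
      ∑ ψ ∈ (bset (principalBlock M D.C)).attach,
        classInner (sec D.t D.C (χ : G → ℂ)) ((ψ : IrrCharacter D.C) : D.C → ℂ) * b _ (mem_bset.mp ψ.2),
      fun c hc => ?_⟩
    have h := sec_eq_overBlocks hM hc0 ht principalBlock_isPBlock χ hc
    rw [overBlocks_principal hM hc0 ht, blockPart_apply, ind_of_mem hχ, one_mul] at h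
    rw [← h, ← Finset.sum_attach, Finset.sum_mul, ← Finset.sum_add_distrib]
    refine Finset.sum_congr rfl fun ψ _ => ?_
    rw [hab _ (mem_bset.mp ψ.2) c hc]
    ring
  -- integrality
  have hint : ∀ χ : PB M G, ∃ al be : ℤ,
      ∀ c : D.C, ¬ 2 ∣ orderOf c →
        ((χ : IrrCharacter G) : G → ℂ) (D.t * (c : G)) = (al : ℂ) + (be : ℂ) * f c := by
    rintro ⟨χ, hχ⟩
    obtain ⟨A, B, hAB⟩ := hsec χ hχ
    obtain ⟨ζ, hζ⟩ : ∃ ζ : ℂ, IsPrimitiveRoot ζ (4 * D.k) :=
      ⟨_, Complex.isPrimitiveRoot_exp _ (by have := D.two_le; omega)⟩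
    haveI : NeZero (4 * D.k) := ⟨by have := D.two_le; omega⟩
    -- the value at the involution is an integer
    obtain ⟨T, hT⟩ : ∃ T : ℤ, (χ : G → ℂ) D.t = T := by
      have h : ∀ i : ℕ, ∃ m : ℤ, i < 4 * D.k → coef (4 * D.k) ζ D.σ (χ : G → ℂ) i = (m : ℂ) := by
        intro i
        by_cases hi : i < 4 * D.k
        · obtain ⟨m, hm⟩ := coef_int hζ D.pow_four (isCharacter_of_irr χ.2) hi.le
          exact ⟨m, fun _ => hm⟩
        · exact ⟨0, fun h' => absurd h' hi⟩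
      choose m hm using h
      have hroot : ζ ^ (2 * D.k) = -1 := (hζ.pow (by have := D.two_le; omega)
        (show 4 * D.k = 2 * D.k * 2 by ring)).eq_neg_one_of_two_right
      refine ⟨∑ i ∈ Finset.range (4 * D.k), m i * (-1) ^ i, ?_⟩
      rw [D.ht, ← coef_inversion hζ (NeZero.ne _) (χ : G → ℂ)
        (show 2 * D.k < 4 * D.k by have := D.two_le; omega), Int.cast_sum]
      refine Finset.sum_congr rfl fun i hi => ?_
      rw [hm i (Finset.mem_range.mp hi), ← pow_mul, mul_comm i, pow_mul, hroot]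
      push_cast
      ring
    have hTAB : (T : ℂ) = A + B * (D.q : ℂ) := by
      rw [← hT, ← hf1, ← hAB 1 hreg1, Subgroup.coe_one, mul_one]
    -- rationality
    set m := D.p ^ (n + 1) with hm
    have hmodd : Odd m := (hpp.odd_of_ne_two D.hp2).pow
    set g : G := D.t * (y : G) with hg
    have hcomm : Commute D.t (y : G) := (Subgroup.mem_centralizer_singleton_iff.mp y.2).symm
    have hym : (y : G) ^ m = 1 := by rw [← Subgroup.coe_pow, ← hy, pow_orderOf_eq_one]; rfl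
    have htt : D.t ^ 2 = 1 := by rw [← D.ht2, pow_orderOf_eq_one]
    have hg2 : g ^ (2 * m) = 1 := by
      rw [hg, hcomm.mul_pow, mul_comm 2 m, pow_mul (y : G), hym, one_pow, mul_comm m 2, pow_mul, htt,
        one_pow, mul_one]
    haveI : NeZero (2 * m) := ⟨by have := hmodd.pos; omega⟩
    haveI : NeZero m := ⟨hmodd.pos.ne'⟩
    obtain ⟨ζ₁, hζ₁⟩ : ∃ z : ℂ, IsPrimitiveRoot z (2 * m) :=
      ⟨_, Complex.isPrimitiveRoot_exp _ (NeZero.ne _)⟩
    obtain ⟨ζ₂, hζ₂⟩ : ∃ z : ℂ, IsPrimitiveRoot z m := ⟨_, Complex.isPrimitiveRoot_exp _ (NeZero.ne _)⟩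
    obtain ⟨I₁, hI₁⟩ := coef_int hζ₁ hg2 (isCharacter_of_irr χ.2) (Nat.zero_le _)
    obtain ⟨I₂, hI₂⟩ := coef_int (σ := (y : G) ^ 2) hζ₂
      (by rw [← pow_mul, mul_comm, pow_mul, hym, one_pow]) (isCharacter_of_irr χ.2) (Nat.zero_le _)
    simp only [coef, Nat.sub_zero, hζ₁.pow_eq_one, hζ₂.pow_eq_one, one_pow, mul_one] at hI₁ hI₂
    rw [inv_mul_eq_iff_eq_mul₀ (Nat.cast_ne_zero.mpr (NeZero.ne _))] at hI₁ hI₂
    have hsplit : ∀ F : ℕ → ℂ, ∀ N : ℕ, ∑ l ∈ Finset.range (2 * N), F l =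
        ∑ j ∈ Finset.range N, (F (2 * j) + F (2 * j + 1)) := by
      intro F N
      induction N with
      | zero => simp
      | succ N ih =>
        rw [show 2 * (N + 1) = 2 * N + 1 + 1 by ring, Finset.sum_range_succ, Finset.sum_range_succ, ih,
          Finset.sum_range_succ]
        ring
    rw [hsplit, Finset.sum_add_distrib] at hI₁
    have hev : ∀ j : ℕ, g ^ (2 * j) = ((y : G) ^ 2) ^ j := fun j => by
      rw [hg, hcomm.mul_pow, pow_mul, htt, one_pow, one_mul, pow_mul]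
    have hodd : ∀ j : ℕ, g ^ (2 * j + 1) = D.t * ((y ^ (2 * j + 1) : D.C) : G) := fun j => by
      rw [hg, hcomm.mul_pow, pow_succ D.t, pow_mul D.t, htt, one_pow, one_mul, Subgroup.coe_pow]
    have hv : ∀ j : ℕ, (χ : G → ℂ) (g ^ (2 * j + 1)) = if D.p ∣ 2 * j + 1 then (T : ℂ) else A := by
      intro j
      rw [hodd, hAB _ (hyr _)]
      split_ifs with h
      · rw [(hval _).1 h, hTAB]
      · rw [(hval _).2 h, mul_zero, add_zero]
    simp only [hev, hv, hI₂, Finset.sum_ite, Finset.sum_const, nsmul_eq_mul] at hI₁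
    set c := ((Finset.range m).filter fun j => ¬ D.p ∣ 2 * j + 1).card with hc
    have hc0 : c ≠ 0 := by
      rw [hc, ← Nat.pos_iff_ne_zero, Finset.card_pos]
      exact ⟨0, Finset.mem_filter.mpr ⟨Finset.mem_range.mpr hmodd.pos, by simpa using hpp.ne_one⟩⟩
    obtain ⟨r, hr⟩ : ∃ r : ℚ, A = (r : ℂ) := ⟨(((2 * m : ℕ) : ℤ) * I₁ - (m : ℤ) * I₂ -
        (((Finset.range m).filter fun j => D.p ∣ 2 * j + 1).card : ℤ) * T : ℤ) / (c : ℚ), by
      push_cast
      rw [eq_div_iff (Nat.cast_ne_zero.mpr hc0)]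
      push_cast at hI₁
      linear_combination hI₁⟩
    have hAint : IsIntegral ℤ A := by
      have := isIntegral_of_char (isCharacter_of_irr χ.2) (D.t * (y : G))
      rwa [hAB y (by simpa using hyr 1), hy0, mul_zero, add_zero] at this
    obtain ⟨al, hal⟩ := exists_int_of_isIntegral_ratCast (hr ▸ hAint)
    have hA : A = (al : ℂ) := by rw [hr, hal]; norm_num
    -- the congruence at the odd prime
    obtain ⟨Q, hQ⟩ := exists_isPModular hpp
    have hres := irr_res_pPart hQ χ (z := (y : G)) (w := D.t) hcomm.symm (k := n + 1)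
      (by rw [Subgroup.orderOf_coe, hy])
    rw [← hcomm.eq, hAB y (by simpa using hyr 1), hy0, mul_zero, add_zero, hA, hT,
      res_intCast' hQ, res_intCast' hQ] at hres
    haveI := res_charP hQ
    have hdvd : (D.p : ℤ) ∣ T - al := by
      rw [← CharP.intCast_eq_zero_iff (AlgInt ⧸ Q) D.p, Int.cast_sub, hres, sub_self]
    obtain ⟨e, he⟩ := hdvd
    obtain ⟨be, hbe⟩ : ∃ be : ℤ, (D.q : ℤ) * be = T - al := by
      rcases D.hq with h | h
      · exact ⟨e, by rw [h, he]⟩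
      · exact ⟨-e, by rw [h, he]; ring⟩
    refine ⟨al, be, fun c hc => ?_⟩
    have hB : B = (be : ℂ) := by
      have h0 : (D.q : ℂ) ≠ 0 := by
        refine Int.cast_ne_zero.mpr ?_
        have := hpp.pos
        rcases D.hq with h | h <;> rw [h] <;> omega
      refine mul_right_cancel₀ h0 ?_
      have := congrArg (fun z : ℤ => (z : ℂ)) hbe
      push_cast at this
      rw [hA] at hTAB
      linear_combination -hTAB - this
    rw [hAB c hc, hA, hB]
  choose al be halbe using hint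
  refine ⟨al, be, fun χ => ?_, fun χ hχ => ?_, fun {_} => ?_⟩
  · have := halbe χ 1 hreg1
    rw [Subgroup.coe_one, mul_one, hf1] at this
    rw [this]; ring
  · have h1 := halbe χ y (by simpa using hyr 1)
    rw [hχ, hy0, mul_zero, add_zero] at h1
    have h2 := halbe χ 1 hreg1
    rw [hχ, hf1] at h2
    have ha : al χ = 1 := by exact_mod_cast h1.symm
    refine ⟨ha, ?_⟩
    rw [ha] at h2
    push_cast at h2
    have h3 : (be χ : ℂ) * (D.q : ℂ) = 0 := by linear_combination -h2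
    rcases mul_eq_zero.mp h3 with h | h
    · exact_mod_cast h
    · exfalso
      have h' : D.q = 0 := by exact_mod_cast h
      have := hpp.pos
      rcases D.hq with e | e <;> rw [e] at h' <;> omega
  -- the reproducing kernel
  let α : IrrCharacter D.C → ℂ := fun ψ => if h : ψ ∈ principalBlock M D.C then a ψ h else 0
  let β : IrrCharacter D.C → ℂ := fun ψ => if h : ψ ∈ principalBlock M D.C then b ψ h else 0
  have hψ : ∀ ψ ∈ bset (principalBlock M D.C), ∀ c : D.C, ¬ 2 ∣ orderOf c →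
      (ψ : D.C → ℂ) c = α ψ + β ψ * f c := fun ψ h c hc => by
    simp only [α, β, dif_pos (mem_bset.mp h)]
    exact hab ψ (mem_bset.mp h) c hc
  set bs := bset (principalBlock M D.C) with hbs
  set Q11 := ∑ ψ ∈ bs, α ψ * conj (α ψ) with hQ11
  set Q12 := ∑ ψ ∈ bs, α ψ * conj (β ψ) with hQ12
  set Q21 := ∑ ψ ∈ bs, β ψ * conj (α ψ) with hQ21
  set Q22 := ∑ ψ ∈ bs, β ψ * conj (β ψ) with hQ22
  have hΦ : ∀ c d : D.C, ¬ 2 ∣ orderOf c → ¬ 2 ∣ orderOf d →
      ∑ ψ ∈ bs, (ψ : D.C → ℂ) c * conj ((ψ : D.C → ℂ) d) =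
        Q11 + Q12 * f d + f c * (Q21 + Q22 * f d) := by
    intro c d hc hd
    rw [hQ11, hQ12, hQ21, hQ22, Finset.sum_mul, Finset.sum_mul, ← Finset.sum_add_distrib,
      ← Finset.sum_add_distrib, Finset.mul_sum, ← Finset.sum_add_distrib]
    refine Finset.sum_congr rfl fun ψ h => ?_
    rw [hψ ψ h c hc, hψ ψ h d hd, map_add, map_mul, hreal]
    ring
  set Reg := Finset.univ.filter (fun c : D.C => ¬ 2 ∣ orderOf c) with hReg
  have hrep : ∀ φ ∈ principalBlock M D.C, ∀ c : D.C, ¬ 2 ∣ orderOf c →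
      (Nat.card D.C : ℂ) * (φ : D.C → ℂ) c =
        ∑ d ∈ Reg, (φ : D.C → ℂ) d * (Q11 + Q12 * f d + f c * (Q21 + Q22 * f d)) := by
    intro φ hφ c hc
    have h := blockPart_regular (U := principalBlock M D.C) hM
      (fun ψ hψ' => (eq_blockOf hM principalBlock_isPBlock hψ').ge) (φ : D.C → ℂ) hc
    have hlhs : blockPart (principalBlock M D.C) (φ : D.C → ℂ) c = (φ : D.C → ℂ) c := by
      rw [blockPart_apply, Finset.sum_eq_single φ, classInner_irr_self φ.2, one_mul]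
      · intro ψ _ hne
        rw [classInner_irr_ne φ.2 ψ.2 (fun e => hne (Subtype.ext e.symm)), zero_mul]
      · intro h'
        exact absurd (mem_bset.mpr hφ) h'
    rw [hlhs] at h
    rw [h, ← mul_assoc, mul_inv_cancel₀ (Nat.cast_ne_zero.mpr Nat.card_pos.ne'), one_mul]
    refine Finset.sum_congr rfl fun d hd => ?_
    rw [← hΦ c d hc (Finset.mem_filter.mp hd).2]
    congr 1
    exact Finset.sum_congr rfl fun ψ _ => by rw [← char_apply_inv (isCharacter_of_irr ψ.2)]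
  set S0 := (Reg.card : ℂ) with hS0
  set S1 := ∑ d ∈ Reg, f d with hS1
  set S2 := ∑ d ∈ Reg, f d * f d with hS2
  have hcardC : (Nat.card D.C : ℂ) ≠ 0 := Nat.cast_ne_zero.mpr Nat.card_pos.ne'
  -- the four equations
  have eq1 : ∀ c : D.C, ¬ 2 ∣ orderOf c → (Nat.card D.C : ℂ) =
      Q11 * S0 + Q12 * S1 + f c * (Q21 * S0 + Q22 * S1) := by
    intro c hc
    have h := hrep (oneIrr D.C) (oneIrr_mem hM) c hc
    have h1 : ∀ d, ((oneIrr D.C : IrrCharacter D.C) : D.C → ℂ) d = 1 := fun _ => rfl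
    simp only [h1, mul_one, one_mul] at h
    rw [h, hS0, hS1, Finset.card_eq_sum_ones, Nat.cast_sum, Nat.cast_one]
    simp only [Finset.mul_sum, Finset.sum_add_distrib, mul_one, mul_add]
  have eq2 : ∀ c : D.C, ¬ 2 ∣ orderOf c → (Nat.card D.C : ℂ) * f c =
      Q11 * S1 + Q12 * S2 + f c * (Q21 * S1 + Q22 * S2) := by
    intro c hc
    have h := hrep θ hθB c hc
    calc (Nat.card D.C : ℂ) * f c = s * ((Nat.card D.C : ℂ) * (θ : D.C → ℂ) c) := by rw [hfθ]; ring
      _ = ∑ d ∈ Reg, f d * (Q11 + Q12 * f d + f c * (Q21 + Q22 * f d)) := by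
          rw [h, Finset.mul_sum]
          exact Finset.sum_congr rfl fun d _ => by rw [hfθ d]; ring
      _ = _ := by
          rw [hS1, hS2]
          simp only [Finset.mul_sum, mul_add, ← Finset.sum_add_distrib]
          exact Finset.sum_congr rfl fun d _ => by ring
  have hyy : ¬ 2 ∣ orderOf y := by simpa using hyr 1
  have A1 := eq1 y hyy
  have A2 := eq2 y hyy
  have B1 := eq1 1 hreg1
  have B2 := eq2 1 hreg1
  rw [hy0] at A1 A2
  rw [hf1] at B1 B2
  have hq0 : (D.q : ℂ) ≠ 0 := by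
    refine Int.cast_ne_zero.mpr ?_
    have := hpp.pos
    rcases D.hq with h | h <;> rw [h] <;> omega
  have B1' : Q21 * S0 + Q22 * S1 = 0 := by
    have : (D.q : ℂ) * (Q21 * S0 + Q22 * S1) = 0 := by linear_combination A1 - B1
    exact (mul_eq_zero.mp this).resolve_left hq0
  have B2' : Q21 * S1 + Q22 * S2 = (Nat.card D.C : ℂ) := by
    apply mul_left_cancel₀ hq0
    linear_combination A2 - B2
  have hk0 : (D.k : ℂ) ≠ 0 := Nat.cast_ne_zero.mpr (by have := D.two_le; omega)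
  push_cast at R1 R2 R3
  have u1 : Q11 * ((D.k : ℂ) + 1) + Q12 * ((D.k : ℂ) - 1) = 8 * D.k := by
    apply mul_left_cancel₀ hcardC
    linear_combination (-8 * (D.k : ℂ)) * A1 - Q11 * R1 - Q12 * R2
  have u2 : Q11 * ((D.k : ℂ) - 1) + Q12 * ((D.k : ℂ) + 1) = 0 := by
    apply mul_left_cancel₀ hcardC
    linear_combination (-8 * (D.k : ℂ)) * A2 - Q11 * R2 - Q12 * R3
  have u3 : Q21 * ((D.k : ℂ) + 1) + Q22 * ((D.k : ℂ) - 1) = 0 := by
    apply mul_left_cancel₀ hcardC
    linear_combination (8 * (D.k : ℂ)) * B1' - Q21 * R1 - Q22 * R2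
  have u4 : Q21 * ((D.k : ℂ) - 1) + Q22 * ((D.k : ℂ) + 1) = 8 * D.k := by
    apply mul_left_cancel₀ hcardC
    linear_combination (8 * (D.k : ℂ)) * B2' - Q21 * R2 - Q22 * R3
  have v11 : Q11 = 2 * D.k + 2 := by
    apply mul_left_cancel₀ (mul_ne_zero (show (4 : ℂ) ≠ 0 by norm_num) hk0)
    linear_combination ((D.k : ℂ) + 1) * u1 - ((D.k : ℂ) - 1) * u2
  have v12 : Q12 = 2 - 2 * D.k := by
    apply mul_left_cancel₀ (mul_ne_zero (show (4 : ℂ) ≠ 0 by norm_num) hk0)
    linear_combination ((D.k : ℂ) + 1) * u2 - ((D.k : ℂ) - 1) * u1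
  have v22 : Q22 = 2 * D.k + 2 := by
    apply mul_left_cancel₀ (mul_ne_zero (show (4 : ℂ) ≠ 0 by norm_num) hk0)
    linear_combination ((D.k : ℂ) + 1) * u4 - ((D.k : ℂ) - 1) * u3
  have v21 : Q21 = 2 - 2 * D.k := by
    apply mul_left_cancel₀ (mul_ne_zero (show (4 : ℂ) ≠ 0 by norm_num) hk0)
    linear_combination ((D.k : ℂ) + 1) * u3 - ((D.k : ℂ) - 1) * u4
  have hsum : ∀ F : IrrCharacter G → ℂ,
      ∑ χ ∈ bset (principalBlock M G), F χ = ∑ χ : PB M G, F χ :=
    fun F => Finset.sum_subtype _ (fun χ => mem_bset) F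
  have hgram : ∀ c d : D.C, ¬ 2 ∣ orderOf c → ¬ 2 ∣ orderOf d →
      ∑ χ : PB M G,
        ((al χ : ℂ) + (be χ : ℂ) * f c) * conj ((al χ : ℂ) + (be χ : ℂ) * f d) =
      Q11 + Q12 * f d + f c * (Q21 + Q22 * f d) := by
    intro c d hc hd
    rw [← hΦ c d hc hd, hbs]
    have h := sum_sq_section (x := D.t) hM hc0 ht principalBlock_isPBlock hc hd (M := M)
    rw [overBlocks_principal hM hc0 ht, hsum] at h
    rw [← h]
    exact Finset.sum_congr rfl fun χ _ => by rw [halbe χ c hc, halbe χ d hd]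
  have g00 := hgram y y hyy hyy
  have g01 := hgram y 1 hyy hreg1
  have g11 := hgram 1 1 hreg1 hreg1
  simp only [hy0, hf1, mul_zero, add_zero, zero_mul, map_add, map_mul, map_intCast, v11, v12,
    v21, v22] at g00 g01 g11
  simp only [mul_add, add_mul, Finset.sum_add_distrib] at g01 g11
  have haa : ∑ χ, (al χ : ℂ) * (al χ : ℂ) = 2 * D.k + 2 := g00
  have hab' : ∑ χ, (al χ : ℂ) * (be χ : ℂ) = 2 - 2 * D.k := by
    apply mul_left_cancel₀ hq0
    rw [Finset.mul_sum]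
    have : ∑ χ, (D.q : ℂ) * ((al χ : ℂ) * (be χ : ℂ)) = ∑ χ, (al χ : ℂ) * ((be χ : ℂ) * (D.q : ℂ)) :=
      Finset.sum_congr rfl fun χ _ => by ring
    rw [this]
    linear_combination g01 - g00
  have hbb : ∑ χ, (be χ : ℂ) * (be χ : ℂ) = 2 * D.k + 2 := by
    apply mul_left_cancel₀ (mul_ne_zero hq0 hq0)
    rw [Finset.mul_sum]
    have e1 : ∑ χ, (D.q : ℂ) * (D.q : ℂ) * ((be χ : ℂ) * (be χ : ℂ)) =
        ∑ χ, (be χ : ℂ) * (D.q : ℂ) * ((be χ : ℂ) * (D.q : ℂ)) := Finset.sum_congr rfl fun χ _ => by ring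
    have e2 : ∑ χ, (al χ : ℂ) * ((be χ : ℂ) * (D.q : ℂ)) = (D.q : ℂ) * (2 - 2 * D.k) := by
      rw [← hab', Finset.mul_sum]; exact Finset.sum_congr rfl fun χ _ => by ring
    have e3 : ∑ χ, (be χ : ℂ) * (D.q : ℂ) * (al χ : ℂ) = (D.q : ℂ) * (2 - 2 * D.k) := by
      rw [← hab', Finset.mul_sum]; exact Finset.sum_congr rfl fun χ _ => by ring
    rw [e1]
    linear_combination g11 - g00 - e2 - e3
  refine ⟨by exact_mod_cast haa, by exact_mod_cast hbb, by exact_mod_cast hab', fun i hi => ?_⟩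
  have hne : ¬ IsConj D.t (D.σ ^ i) := by
    intro h
    obtain ⟨x, hx⟩ := isConj_iff.mp h
    refine D.sq_ne hi ?_
    rw [← hx, show x * D.t * x⁻¹ * (x * D.t * x⁻¹) = x * (D.t ^ 2) * x⁻¹ by rw [pow_two]; group,
      ← D.ht2, pow_orderOf_eq_one, mul_one, mul_inv_cancel]
  have horth : ∀ c : D.C, ¬ 2 ∣ orderOf c →
      ∑ χ, ((al χ : ℂ) + (be χ : ℂ) * f c) * ((χ : IrrCharacter G) : G → ℂ) (D.σ ^ i) = 0 := by
    intro c hc
    have h := block_orth (g := D.t * (c : G)) (h := (D.σ ^ i)) hM principalBlock_isPBlock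
      ⟨(c : G), rfl, (Subgroup.mem_centralizer_singleton_iff.mp c.2).symm, ht,
        by rwa [Subgroup.orderOf_coe]⟩ (D.pPart_rot i) hne (M := M)
    rw [hsum] at h
    have h' := congrArg conj h
    rw [map_sum, map_zero] at h'
    rw [← h']
    refine Finset.sum_congr rfl fun χ _ => ?_
    rw [halbe χ c hc, map_mul, map_add, map_mul, map_intCast, map_intCast, hreal,
      char_apply_inv (isCharacter_of_irr (χ : IrrCharacter G).2), Complex.conj_conj]
  have o0 := horth y hyy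
  have o1 := horth 1 hreg1
  simp only [hy0, mul_zero, add_zero] at o0
  refine ⟨o0, ?_⟩
  apply mul_left_cancel₀ hq0
  rw [mul_zero, Finset.mul_sum]
  simp only [hf1, add_mul, Finset.sum_add_distrib, o0, zero_add] at o1
  rw [← o1]
  exact Finset.sum_congr rfl fun χ _ => by ring

/-- A group with the data is not commutative. -/
theorem wsig_ne : D.w * D.σ ≠ D.σ * D.w := by
  intro h
  have h1 := D.hwσ
  rw [h, mul_inv_cancel_right] at h1
  have := D.two_le
  have := D.pow_inj (i := 1) (j := 2 * D.k - 1) (by omega) (by omega) (by rw [pow_one]; exact h1)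
  omega

/-- The columns of the principal block. -/
theorem exists_cols [IsSimpleGroup G] (hM : IsPModular 2 M) {ζ : ℂ} (hζ : IsPrimitiveRoot ζ (4 * D.k))
    [Fintype (PB M G)]
    [DecidableEq (PB M G)] :
    ∃ C : Cols (PB M G), C.k = D.k ∧ C.q = D.q ∧
      (∀ χ : PB M G, ((χ : IrrCharacter G) : G → ℂ) 1 = (C.deg χ : ℂ)) ∧
      (∀ χ : PB M G, ((χ : IrrCharacter G) : G → ℂ) D.t = (C.val χ : ℂ)) ∧
      ∀ χ : PB M G, ∀ j < 4 * D.k, (C.m χ j : ℂ) = D.mc ζ ((χ : IrrCharacter G) : G → ℂ) j := by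
  classical
  have hk2 := D.two_le
  haveI : NeZero (4 * D.k) := ⟨by omega⟩
  have hN : (4 * D.k : ℕ) ≠ 0 := NeZero.ne _
  have hm : ∀ (χ : PB M G) (j : ℕ), ∃ m : ℤ,
      j < 4 * D.k → D.mc ζ ((χ : IrrCharacter G) : G → ℂ) j = (m : ℂ) := by
    intro χ j
    by_cases hj : j < 4 * D.k
    · obtain ⟨m, hm⟩ := coef_int hζ D.pow_four (isCharacter_of_irr (χ : IrrCharacter G).2) hj.le
      exact ⟨m, fun _ => hm⟩
    · exact ⟨0, fun h => absurd h hj⟩
  choose m hm using hm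
  have hroot : ζ ^ (2 * D.k) = -1 :=
    (hζ.pow (by omega) (show 4 * D.k = 2 * D.k * 2 by ring)).eq_neg_one_of_two_right
  have hinv : ∀ χ : PB M G, ∀ l < 4 * D.k, ∑ j ∈ Finset.range (4 * D.k), (m χ j : ℂ) * (ζ ^ j) ^ l =
      ((χ : IrrCharacter G) : G → ℂ) (D.σ ^ l) := by
    intro χ l hl
    rw [← coef_inversion hζ hN ((χ : IrrCharacter G) : G → ℂ) hl]
    exact Finset.sum_congr rfl fun j hj => by rw [← hm χ j (Finset.mem_range.mp hj)]; rfl
  have hdeg : ∀ χ : PB M G, ((χ : IrrCharacter G) : G → ℂ) 1 = ((∑ j ∈ Finset.range (4 * D.k), m χ j : ℤ) : ℂ) := by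
    intro χ
    rw [← pow_zero D.σ, ← hinv χ 0 (by omega), Int.cast_sum]
    simp
  have hval : ∀ χ : PB M G, ((χ : IrrCharacter G) : G → ℂ) D.t =
      ((∑ j ∈ Finset.range (4 * D.k), (-1) ^ j * m χ j : ℤ) : ℂ) := by
    intro χ
    rw [D.ht, ← hinv χ (2 * D.k) (by omega), Int.cast_sum]
    refine Finset.sum_congr rfl fun j _ => ?_
    rw [← pow_mul, mul_comm j, pow_mul, hroot]
    push_cast
    ring
  -- reflection of the roots
  have hrm : ∀ i l : ℕ, l < 4 * D.k → (ζ ^ i) ^ rm D.k l = (ζ ^ ((2 * D.k - 1) * i)) ^ l := by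
    intro i l hl
    rw [← pow_mul, ← pow_mul]
    refine root_pow_congr hζ ?_
    calc i * rm D.k l ≡ i * ((2 * D.k - 1) * l) [MOD 4 * D.k] := (D.rm_modEq hl).mul_left i
      _ = (2 * D.k - 1) * i * l := by ring
  have hrr : ∀ j, j < 4 * D.k → rm D.k (rm D.k j) = j := by
    intro j hj
    have := Nat.even_iff.mp D.k_even
    unfold rm; split_ifs <;> omega
  have hsym : ∀ χ : PB M G, ∀ j < 4 * D.k, m χ (rm D.k j) = m χ j := by
    intro χ j hj
    have h1 := hm χ _ (D.rm_lt hj)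
    have h2 := hm χ j hj
    have e : D.mc ζ ((χ : IrrCharacter G) : G → ℂ) (rm D.k j) =
        D.mc ζ ((χ : IrrCharacter G) : G → ℂ) j := by
      unfold mc coef
      refine congrArg _ (Finset.sum_nbij' (rm D.k) (rm D.k)
        (fun l hl => Finset.mem_range.mpr (D.rm_lt (Finset.mem_range.mp hl)))
        (fun l hl => Finset.mem_range.mpr (D.rm_lt (Finset.mem_range.mp hl)))
        (fun l hl => hrr l (Finset.mem_range.mp hl)) (fun l hl => hrr l (Finset.mem_range.mp hl))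
        fun l hl => ?_)
      have hl' := Finset.mem_range.mp hl
      rw [D.value_rm (χ : IrrCharacter G) hl', hrm _ _ hl']
      congr 1
      rw [← pow_mul, ← pow_mul]
      refine root_pow_congr hζ (Nat.ModEq.mul_right _ ?_)
      rw [Nat.modEq_iff_dvd]
      obtain ⟨c, hc⟩ := (Nat.modEq_iff_dvd.mp (D.rm_modEq hj))
      push_cast [Nat.cast_sub (show 1 ≤ 2 * D.k by omega), Nat.cast_sub hj.le,
        Nat.cast_sub (D.rm_lt hj).le] at hc ⊢
      exact ⟨2 * D.k - 2 - c, by linear_combination -hc⟩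
    rw [h1, h2] at e
    exact_mod_cast e
  -- kernels
  have hE : ∀ a b : ℕ, Ok D.k a b → ∀ l, l < 4 * D.k → 2 * D.k ∣ l →
      (ζ ^ (4 * D.k - a)) ^ l = (ζ ^ (4 * D.k - b)) ^ l := by
    rintro a b ⟨ha, hb, hab⟩ l hl ⟨c, rfl⟩
    rw [← pow_mul, ← pow_mul, show (4 * D.k - a) * (2 * D.k * c) = 2 * D.k * ((4 * D.k - a) * c) by ring,
      show (4 * D.k - b) * (2 * D.k * c) = 2 * D.k * ((4 * D.k - b) * c) by ring, pow_mul ζ,
      pow_mul ζ (2 * D.k), hroot]
    refine neg_one_pow_congr ?_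
    rw [Nat.even_mul, Nat.even_mul, Nat.even_sub ha.le, Nat.even_sub hb.le, Nat.even_iff (n := a),
      Nat.even_iff (n := b), hab]
  have hdiff : ∀ (χ : PB M G) a b, Ok D.k a b → ((m χ a - m χ b : ℤ) : ℂ) = ((4 * D.k : ℕ) : ℂ)⁻¹ *
      ∑ l ∈ Finset.range (4 * D.k), ((χ : IrrCharacter G) : G → ℂ) (D.σ ^ l) *
        ((ζ ^ (4 * D.k - a)) ^ l - (ζ ^ (4 * D.k - b)) ^ l) := by
    intro χ a b hab
    rw [Int.cast_sub, ← hm χ a hab.1, ← hm χ b hab.2.1, mc, mc, coef, coef, ← mul_sub,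
      ← Finset.sum_sub_distrib]
    exact congrArg _ (Finset.sum_congr rfl fun l _ => by ring)
  have horth : ∀ (F : PB M G → ℤ),
      (∀ i, ¬ 2 * D.k ∣ i → ∑ χ, (F χ : ℂ) * ((χ : IrrCharacter G) : G → ℂ) (D.σ ^ i) = 0) →
      ∀ a b, Ok D.k a b → ∑ χ, F χ * (m χ a - m χ b) = 0 := by
    intro F hF a b hab
    apply Int.cast_injective (α := ℂ)
    rw [Int.cast_sum, Int.cast_zero]
    simp only [Int.cast_mul, hdiff _ a b hab, Finset.mul_sum]
    rw [Finset.sum_comm]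
    refine Finset.sum_eq_zero fun l hl => ?_
    by_cases hd : 2 * D.k ∣ l
    · simp [hE a b hab l (Finset.mem_range.mp hl) hd]
    · rw [← mul_zero (((4 * D.k : ℕ) : ℂ)⁻¹ * ((ζ ^ (4 * D.k - a)) ^ l - (ζ ^ (4 * D.k - b)) ^ l)),
        ← hF l hd, Finset.mul_sum]
      exact Finset.sum_congr rfl fun χ _ => by ring
  have hsum : ∀ F : IrrCharacter G → ℂ,
      ∑ χ ∈ bset (principalBlock M G), F χ = ∑ χ : PB M G, F χ :=
    fun F => Finset.sum_subtype _ (fun χ => mem_bset) F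
  -- the Gram matrix
  have hform : ∀ a b c d, Ok D.k a b → Ok D.k c d →
      ∑ χ, (m χ a - m χ b) * (m χ c - m χ d) = pr D.k a c - pr D.k a d - pr D.k b c + pr D.k b d := by
    intro a b c d hab hcd
    apply Int.cast_injective (α := ℂ)
    set N : ℂ := ((4 * D.k : ℕ) : ℂ) with hNd
    set E : ℕ → ℂ := fun l => (ζ ^ (4 * D.k - a)) ^ l - (ζ ^ (4 * D.k - b)) ^ l with hEd
    set E' : ℕ → ℂ := fun l => (ζ ^ c) ^ l - (ζ ^ d) ^ l with hE'd
    have hconj : ∀ χ : PB M G, ((m χ c - m χ d : ℤ) : ℂ) =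
        N⁻¹ * ∑ l ∈ Finset.range (4 * D.k), conj (((χ : IrrCharacter G) : G → ℂ) (D.σ ^ l)) * E' l := by
      intro χ
      have h := congrArg conj (hdiff χ c d hcd)
      rw [map_intCast, map_mul, map_inv₀, map_natCast, map_sum] at h
      rw [h]
      refine congrArg _ (Finset.sum_congr rfl fun l _ => ?_)
      rw [map_mul, map_sub, conj_pow_eq hζ hN hcd.1.le, conj_pow_eq hζ hN hcd.2.1.le]
    have e1 : ∑ χ, ((m χ a - m χ b : ℤ) : ℂ) * ((m χ c - m χ d : ℤ) : ℂ) =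
        N⁻¹ * N⁻¹ * ∑ l ∈ Finset.range (4 * D.k), ∑ i ∈ Finset.range (4 * D.k), E l * E' i *
          ∑ χ ∈ bset (principalBlock M G), (χ : G → ℂ) (D.σ ^ l) * conj ((χ : G → ℂ) (D.σ ^ i)) := by
      simp only [hsum, Finset.mul_sum]
      conv_rhs => arg 2; ext l; rw [Finset.sum_comm]
      rw [Finset.sum_comm (s := Finset.range (4 * D.k))]
      refine Finset.sum_congr rfl fun χ _ => ?_
      rw [hdiff χ a b hab, hconj χ, mul_mul_mul_comm, Finset.sum_mul_sum, Finset.mul_sum]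
      refine Finset.sum_congr rfl fun l _ => ?_
      rw [Finset.mul_sum]
      exact Finset.sum_congr rfl fun i _ => by simp only [hEd]; ring
    have e2 : ∀ l ∈ Finset.range (4 * D.k), ∑ i ∈ Finset.range (4 * D.k), E l * E' i *
        ∑ χ ∈ bset (principalBlock M G), (χ : G → ℂ) (D.σ ^ l) * conj ((χ : G → ℂ) (D.σ ^ i)) =
        N * (E l * E' l + E l * E' (rm D.k l)) := by
      intro l hl
      have hl' := Finset.mem_range.mp hl
      by_cases hd : 2 * D.k ∣ l
      · have : E l = 0 := sub_eq_zero.mpr (hE a b hab l hl' hd)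
        simp [this]
      rw [Finset.sum_congr rfl fun i hi => by
        rw [D.rot_orth hM hl' (Finset.mem_range.mp hi) hd]]
      rw [Finset.sum_congr rfl fun i _ => show E l * E' i * (N * ((if l = i then (1 : ℂ) else 0) +
          if rm D.k l = i then 1 else 0)) = (if l = i then N * (E l * E' i) else 0) +
          (if rm D.k l = i then N * (E l * E' i) else 0) by split_ifs <;> ring,
        Finset.sum_add_distrib, Finset.sum_ite_eq, Finset.sum_ite_eq, if_pos hl,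
        if_pos (Finset.mem_range.mpr (D.rm_lt hl'))]
      ring
    have hN0 : N ≠ 0 := Nat.cast_ne_zero.mpr hN
    have e3 : ∀ x z : ℕ, x < 4 * D.k → z < 4 * D.k →
        ∑ l ∈ Finset.range (4 * D.k), ((ζ ^ (4 * D.k - x)) ^ l * (ζ ^ z) ^ l +
          (ζ ^ (4 * D.k - x)) ^ l * (ζ ^ z) ^ rm D.k l) = N * (pr D.k x z : ℂ) := by
      intro x z hx hz
      have r1 : ∀ z', z' < 4 * D.k → ∑ l ∈ Finset.range (4 * D.k),
          (ζ ^ (4 * D.k - x)) ^ l * (ζ ^ z') ^ l = if x = z' then N else 0 := by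
        intro z' hz'
        simp only [← mul_pow, ← pow_add]
        rw [root_sum hζ]
        refine if_congr ?_ rfl rfl
        constructor
        · rintro ⟨e, he⟩
          rcases e with _ | _ | e
          · omega
          · omega
          · nlinarith [Nat.sub_le (4 * D.k) x]
        · rintro rfl
          exact ⟨1, by omega⟩
      rw [Finset.sum_add_distrib, r1 z hz,
        Finset.sum_congr rfl (g := fun l => (ζ ^ (4 * D.k - x)) ^ l * (ζ ^ rm D.k z) ^ l)
          (fun l hl => by rw [hrm z l (Finset.mem_range.mp hl), root_pow_congr hζ (D.rm_modEq hz).symm]),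
        r1 _ (D.rm_lt hz), pr]
      have hiff : x = rm D.k z ↔ rm D.k x = z :=
        ⟨fun h => by rw [h, hrr z hz], fun h => by rw [← h, hrr x hx]⟩
      push_cast
      simp only [hiff]
      split_ifs <;> ring
    push_cast
    simp only [← Int.cast_sub]
    rw [e1, Finset.sum_congr rfl e2, ← Finset.mul_sum]
    have e4 : ∑ l ∈ Finset.range (4 * D.k), (E l * E' l + E l * E' (rm D.k l)) =
        N * ((pr D.k a c : ℂ) - pr D.k a d - pr D.k b c + pr D.k b d) := by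
      rw [mul_add, mul_sub, mul_sub, ← e3 a c hab.1 hcd.1, ← e3 a d hab.1 hcd.2.1,
        ← e3 b c hab.2.1 hcd.1, ← e3 b d hab.2.1 hcd.2.1, ← Finset.sum_sub_distrib,
        ← Finset.sum_sub_distrib, ← Finset.sum_add_distrib]
      exact Finset.sum_congr rfl fun l _ => by simp only [hEd, hE'd]; ring
    rw [e4]
    push_cast
    field_simp
  obtain ⟨al, be, halv, htriv, hgram⟩ := D.exists_albe hM
  obtain ⟨haa, hbb, hab, hortt⟩ := hgram
  set o : PB M G := ⟨oneIrr G, oneIrr_mem hM⟩ with ho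
  have hm0 : ∀ j < 4 * D.k, m o j = if j = 0 then 1 else 0 := by
    intro j hj
    apply Int.cast_injective (α := ℂ)
    rw [← hm o j hj, mc, coef]
    show ((4 * D.k : ℕ) : ℂ)⁻¹ * ∑ l ∈ Finset.range (4 * D.k), 1 * (ζ ^ (4 * D.k - j)) ^ l = _
    simp only [one_mul, root_sum hζ]
    by_cases h0 : j = 0
    · subst h0
      simp only [Nat.sub_zero, dvd_refl, if_true]
      rw [inv_mul_cancel₀ (Nat.cast_ne_zero.mpr hN)]
      simp
    · rw [if_neg (fun h => by have := Nat.le_of_dvd (by omega) h; omega),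
        if_neg h0]
      simp
  have hd1 : ∀ χ : PB M G, χ ≠ o → 2 ≤ |∑ j ∈ Finset.range (4 * D.k), m χ j| := by
    intro χ hχ
    have h0 : 0 < charDegree ((χ : IrrCharacter G) : G → ℂ) := irr_charDegree_pos _
    have hd : (∑ j ∈ Finset.range (4 * D.k), m χ j) = (charDegree ((χ : IrrCharacter G) : G → ℂ) : ℤ) := by
      apply Int.cast_injective (α := ℂ)
      rw [← hdeg χ, Int.cast_natCast, irr_charDegree_cast]
    rw [hd, Nat.abs_cast]
    by_contra hlt
    have h1 : ((χ : IrrCharacter G) : G → ℂ) 1 = 1 := by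
      rw [← irr_charDegree_cast, show charDegree ((χ : IrrCharacter G) : G → ℂ) = 1 by omega, Nat.cast_one]
    obtain ⟨φ, hφ⟩ := exists_hom_of_degree_one (isCharacter_of_irr (χ : IrrCharacter G).2) h1
    rcases Subgroup.Normal.eq_bot_or_eq_top (inferInstance : φ.ker.Normal) with hb | hb
    · refine D.wsig_ne ((MonoidHom.ker_eq_bot_iff φ).mp hb ?_)
      rw [map_mul, map_mul, mul_comm]
    · refine hχ (Subtype.ext (Subtype.ext (funext fun g => ?_)))
      show ((χ : IrrCharacter G) : G → ℂ) g = 1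
      rw [hφ]
      show (φ g : ℂ) = 1
      rw [show φ g = 1 from MonoidHom.mem_ker.mp (hb ▸ Subgroup.mem_top g), Units.val_one]
  obtain ⟨c, hc⟩ := D.hk1
  refine ⟨⟨D.k, D.two_le, D.k_even, o, D.q, ⟨c, ?_, ?_⟩, m, fun χ => ∑ j ∈ Finset.range (4 * D.k), m χ j,
    fun χ => ∑ j ∈ Finset.range (4 * D.k), (-1) ^ j * m χ j, al, be, fun _ => rfl, fun _ => rfl, hsym,
    hm0, fun χ => ?_, (htriv o fun _ => rfl).1, (htriv o fun _ => rfl).2, hd1, hform,
    horth _ (fun i hi => ?_), horth al (fun i hi => (hortt i hi).1),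
    horth be (fun i hi => (hortt i hi).2), haa, hbb, hab⟩, rfl, rfl, hdeg, hval,
    fun χ j hj => (hm χ j hj).symm⟩
  · rw [← Int.not_even_iff_odd, even_iff_two_dvd]
    rintro ⟨e, rfl⟩
    exact D.hk2 ⟨e, by rw [hc]; ring⟩
  · rw [hc]
  · apply Int.cast_injective (α := ℂ)
    rw [← hval χ, halv χ]
    push_cast
    rfl
  · have h := block_orth (g := D.σ ^ i) (h := (1 : G)) hM principalBlock_isPBlock (D.pPart_rot i)
      ⟨1, mul_one _, Commute.one_right _, ⟨0, by simp⟩, by simp⟩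
      (fun h => D.sq_ne hi (by rw [isConj_one_left.mp h, mul_one]))
    rw [hsum] at h
    rw [← h]
    refine Finset.sum_congr rfl fun χ _ => ?_
    rw [← hdeg χ, inv_one]
    ring

end SDat

end CfsgLib.AlmostCyclic
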