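import Mathlib

/-!
# Integral columns of a principal block with semidihedral defect group

The combinatorial part: from the multiplicities of the members on a cyclic subgroup of index two
and two integral columns at the central involution, the values at the involution of the members
which are visible on the rotations are determined.
-/

set_option autoImplicit false

namespace CfsgLib.AlmostCyclic

open Finset

/-- The involution on the exponents induced by conjugation in a semidihedral group of order `8k`. -/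
def rm (k j : ℕ) : ℕ :=
  if j % 2 = 0 then (if j = 0 then 0 else 4 * k - j) else (if j < 2 * k then 2 * k - j else 6 * k - j)

/-- The pairing of two exponents. -/
def pr (k a b : ℕ) : ℤ := (if a = b then 1 else 0) + (if rm k a = b then 1 else 0)

/-- Two exponents of the same parity below `4k`. -/
def Ok (k a b : ℕ) : Prop := a < 4 * k ∧ b < 4 * k ∧ a % 2 = b % 2

universe u

/-- The data of the columns; `h = 2k`, the cyclic subgroup has order `4k`. -/
structure Cols (ι : Type u) [Fintype ι] [DecidableEq ι] where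
  k : ℕ
  k2 : 2 ≤ k
  kev : Even k
  o : ι
  q : ℤ
  hq : ∃ e : ℤ, Odd e ∧ q + 1 = 2 * k * e
  m : ι → ℕ → ℤ
  deg : ι → ℤ
  val : ι → ℤ
  al : ι → ℤ
  be : ι → ℤ
  hdeg : ∀ χ, deg χ = ∑ j ∈ range (4 * k), m χ j
  hval : ∀ χ, val χ = ∑ j ∈ range (4 * k), (-1) ^ j * m χ j
  hsym : ∀ χ, ∀ j < 4 * k, m χ (rm k j) = m χ j
  hm0 : ∀ j < 4 * k, m o j = if j = 0 then 1 else 0
  hval' : ∀ χ, val χ = al χ + q * be χ
  ha0 : al o = 1
  hb0 : be o = 0
  hd1 : ∀ χ, χ ≠ o → 2 ≤ |deg χ|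
  form : ∀ a b c d, Ok k a b → Ok k c d →
    ∑ χ, (m χ a - m χ b) * (m χ c - m χ d) = pr k a c - pr k a d - pr k b c + pr k b d
  orthd : ∀ a b, Ok k a b → ∑ χ, deg χ * (m χ a - m χ b) = 0
  ortha : ∀ a b, Ok k a b → ∑ χ, al χ * (m χ a - m χ b) = 0
  orthb : ∀ a b, Ok k a b → ∑ χ, be χ * (m χ a - m χ b) = 0
  haa : ∑ χ, al χ * al χ = 2 * k + 2
  hbb : ∑ χ, be χ * be χ = 2 * k + 2
  hab : ∑ χ, al χ * be χ = 2 - 2 * k

namespace Cols

variable {ι : Type u} [Fintype ι] [DecidableEq ι] (C : Cols ι)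

/-- The first rotation column. -/
def u (χ : ι) : ℤ := C.m χ 0 - C.m χ (2 * C.k)

/-- The second rotation column. -/
def v (χ : ι) : ℤ := (C.m χ 0 - C.m χ C.k) + (C.m χ (2 * C.k) - C.m χ (3 * C.k))

/-- The sum of the two columns at the involution. -/
def ga (χ : ι) : ℤ := C.al χ + C.be χ

/-- The difference of the two columns at the involution. -/
def de (χ : ι) : ℤ := C.al χ - C.be χ

theorem kmod : C.k % 2 = 0 := Nat.even_iff.1 C.kev

theorem ok_u : Ok C.k 0 (2 * C.k) := by have := C.k2; refine ⟨by omega, by omega, by omega⟩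

theorem ok_v1 : Ok C.k 0 C.k := by
  have := C.k2; have := C.kmod; refine ⟨by omega, by omega, by omega⟩

theorem ok_v2 : Ok C.k (2 * C.k) (3 * C.k) := by
  have := C.k2; have := C.kmod; refine ⟨by omega, by omega, by omega⟩

theorem u_o : C.u C.o = 1 := by
  have := C.k2
  rw [u, C.hm0 0 (by omega), C.hm0 _ (by omega), if_pos rfl, if_neg (by omega)]; rfl

theorem v_o : C.v C.o = 1 := by
  have := C.k2
  rw [v, C.hm0 0 (by omega), C.hm0 _ (by omega), C.hm0 _ (by omega), C.hm0 _ (by omega),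
    if_pos rfl, if_neg (by omega), if_neg (by omega), if_neg (by omega)]; rfl

theorem rm_vals : rm C.k 0 = 0 ∧ rm C.k (2 * C.k) = 2 * C.k ∧ rm C.k C.k = 3 * C.k ∧
    rm C.k (3 * C.k) = C.k := by
  have := C.k2
  have := C.kmod
  refine ⟨by simp [rm], ?_, ?_, ?_⟩
  · rw [rm, if_pos (by omega), if_neg (by omega)]; omega
  · rw [rm, if_pos (by omega), if_neg (by omega)]; omega
  · rw [rm, if_pos (by omega), if_neg (by omega)]; omega

theorem pr_diag {a b : ℕ} (ha : rm C.k a = a) (hb : rm C.k b = b) (hab : a ≠ b) :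
    pr C.k a a - pr C.k a b - pr C.k b a + pr C.k b b = 4 := by
  simp [pr, ha, hb, hab, Ne.symm hab]

theorem uu : ∑ χ, C.u χ * C.u χ = 4 := by
  have := C.k2
  obtain ⟨r0, r2, -, -⟩ := C.rm_vals
  unfold u
  rw [C.form _ _ _ _ C.ok_u C.ok_u]
  exact C.pr_diag r0 r2 (by omega)

theorem pr_values : pr C.k 0 0 = 2 ∧ pr C.k 0 C.k = 0 ∧ pr C.k 0 (2 * C.k) = 0 ∧ pr C.k 0 (3 * C.k) = 0 ∧
    pr C.k C.k 0 = 0 ∧ pr C.k C.k C.k = 1 ∧ pr C.k C.k (2 * C.k) = 0 ∧ pr C.k C.k (3 * C.k) = 1 ∧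
    pr C.k (2 * C.k) 0 = 0 ∧ pr C.k (2 * C.k) C.k = 0 ∧ pr C.k (2 * C.k) (2 * C.k) = 2 ∧
    pr C.k (2 * C.k) (3 * C.k) = 0 ∧ pr C.k (3 * C.k) 0 = 0 ∧ pr C.k (3 * C.k) C.k = 1 ∧
    pr C.k (3 * C.k) (2 * C.k) = 0 ∧ pr C.k (3 * C.k) (3 * C.k) = 1 := by
  have := C.k2
  obtain ⟨r0, r2, r1, r3⟩ := C.rm_vals
  have e1 : C.k ≠ 0 := by omega
  have e2 : C.k ≠ 2 * C.k := by omega
  have e3 : C.k ≠ 3 * C.k := by omega
  have e4 : 2 * C.k ≠ 3 * C.k := by omega
  have e5 : 2 * C.k ≠ 0 := by omega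
  have e6 : 3 * C.k ≠ 0 := by omega
  simp [pr, r0, r1, r2, r3, e1, e2, e3, e4, e5, e6, Ne.symm e1, Ne.symm e2, Ne.symm e3,
    Ne.symm e4, Ne.symm e5, Ne.symm e6]

theorem uv : ∑ χ, C.u χ * C.v χ = 0 := by
  unfold u v
  simp only [mul_add, sum_add_distrib]
  rw [C.form _ _ _ _ C.ok_u C.ok_v1, C.form _ _ _ _ C.ok_u C.ok_v2]
  obtain ⟨p00, p01, p02, p03, p10, p11, p12, p13, p20, p21, p22, p23, p30, p31, p32, p33⟩ :=
    C.pr_values
  rw [p00, p01, p20, p21, p02, p03, p22, p23]; ring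

theorem vv : ∑ χ, C.v χ * C.v χ = 8 := by
  unfold v
  simp only [mul_add, add_mul, sum_add_distrib]
  rw [C.form _ _ _ _ C.ok_v1 C.ok_v1, C.form _ _ _ _ C.ok_v1 C.ok_v2,
    C.form _ _ _ _ C.ok_v2 C.ok_v1, C.form _ _ _ _ C.ok_v2 C.ok_v2]
  obtain ⟨p00, p01, p02, p03, p10, p11, p12, p13, p20, p21, p22, p23, p30, p31, p32, p33⟩ :=
    C.pr_values
  rw [p00, p01, p10, p11, p02, p03, p12, p13, p20, p21, p30, p31, p22, p23, p32, p33]; ring

theorem gg : ∑ χ, C.ga χ * C.ga χ = 8 := by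
  have e : ∀ χ, C.ga χ * C.ga χ = C.al χ * C.al χ + 2 * (C.al χ * C.be χ) + C.be χ * C.be χ :=
    fun χ => by rw [ga]; ring
  simp only [e, sum_add_distrib, ← mul_sum, C.haa, C.hbb, C.hab]; ring

theorem dd : ∑ χ, C.de χ * C.de χ = 8 * C.k := by
  have e : ∀ χ, C.de χ * C.de χ = C.al χ * C.al χ - 2 * (C.al χ * C.be χ) + C.be χ * C.be χ :=
    fun χ => by rw [de]; ring
  simp only [e, sum_add_distrib, sum_sub_distrib, ← mul_sum, C.haa, C.hbb, C.hab]; ring

theorem gd : ∑ χ, C.ga χ * C.de χ = 0 := by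
  have e : ∀ χ, C.ga χ * C.de χ = C.al χ * C.al χ - C.be χ * C.be χ :=
    fun χ => by rw [ga, de]; ring
  simp only [e, sum_sub_distrib, C.haa, C.hbb]; ring

theorem orth_ga {a b : ℕ} (h : Ok C.k a b) : ∑ χ, C.ga χ * (C.m χ a - C.m χ b) = 0 := by
  simp only [ga, add_mul, sum_add_distrib, C.ortha a b h, C.orthb a b h, add_zero]

theorem orth_de {a b : ℕ} (h : Ok C.k a b) : ∑ χ, C.de χ * (C.m χ a - C.m χ b) = 0 := by
  simp only [de, sub_mul, sum_sub_distrib, C.ortha a b h, C.orthb a b h, sub_zero]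

theorem orth_u (f : ι → ℤ) (hf : ∀ a b, Ok C.k a b → ∑ χ, f χ * (C.m χ a - C.m χ b) = 0) :
    ∑ χ, f χ * C.u χ = 0 ∧ ∑ χ, f χ * C.v χ = 0 := by
  refine ⟨hf _ _ C.ok_u, ?_⟩
  unfold v
  simp only [mul_add, sum_add_distrib, hf _ _ C.ok_v1, hf _ _ C.ok_v2, add_zero]

/-- Values at the involution in terms of the two columns. -/
theorem two_val (χ : ι) : 2 * C.val χ = (1 + C.q) * C.ga χ + (1 - C.q) * C.de χ := by
  rw [C.hval', ga, de]; ring

theorem q_odd : Odd C.q := by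
  obtain ⟨e, -, he⟩ := C.hq
  exact ⟨C.k * e - 1, by linarith⟩

theorem ga_de_parity (χ : ι) : (2 : ℤ) ∣ C.ga χ - C.de χ := ⟨C.be χ, by rw [ga, de]; ring⟩

theorem u_v_parity (χ : ι) : (2 : ℤ) ∣ C.v χ - C.u χ := by
  have e : C.m χ (3 * C.k) = C.m χ C.k := by
    have h := C.hsym χ C.k (by have := C.k2; omega)
    rwa [rm, if_pos C.kmod, if_neg (by have := C.k2; omega),
      show 4 * C.k - C.k = 3 * C.k by omega] at h
  exact ⟨C.m χ (2 * C.k) - C.m χ C.k, by rw [u, v, e]; ring⟩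

/-- The degree is congruent to the first column modulo two. -/
theorem deg_parity (χ : ι) : (2 : ℤ) ∣ C.deg χ - C.u χ := by
  have hk := C.k2
  have hk' := C.kmod
  rw [C.hdeg]
  set S := ((range (4 * C.k)).erase 0).erase (2 * C.k) with hS
  have h1 : ∑ j ∈ range (4 * C.k), C.m χ j = C.m χ 0 + (C.m χ (2 * C.k) + ∑ j ∈ S, C.m χ j) := by
    rw [← add_sum_erase _ (fun j => C.m χ j) (mem_range.2 (show 0 < 4 * C.k by omega)),
      ← add_sum_erase _ (fun j => C.m χ j) (mem_erase.2 ⟨show 2 * C.k ≠ 0 by omega,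
        mem_range.2 (show 2 * C.k < 4 * C.k by omega)⟩)]
  have h2 : ((∑ j ∈ S, C.m χ j : ℤ) : ZMod 2) = 0 := by
    push_cast
    refine sum_involution (fun j _ => rm C.k j) (fun j hj => ?_) (fun j hj _ => ?_) (fun j hj => ?_)
      fun j hj => ?_
    · simp only [hS, mem_erase, mem_range] at hj
      rw [C.hsym χ j hj.2.2]
      exact CharTwo.add_self_eq_zero _
    · simp only [hS, mem_erase, mem_range] at hj
      unfold rm; split_ifs <;> omega
    · simp only [hS, mem_erase, mem_range] at hj ⊢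
      unfold rm; split_ifs <;> omega
    · simp only [hS, mem_erase, mem_range] at hj
      unfold rm; split_ifs <;> omega
  obtain ⟨c, hc⟩ := (ZMod.intCast_zmod_eq_zero_iff_dvd _ 2).1 h2
  exact ⟨C.m χ (2 * C.k) + c, by rw [h1, hc, u]; push_cast; ring⟩

theorem ga_parity (χ : ι) : (2 : ℤ) ∣ C.ga χ - C.u χ := by
  have h1 : (2 : ℤ) ∣ C.val χ - C.deg χ := by
    rw [C.hval, C.hdeg, ← sum_sub_distrib]
    refine dvd_sum fun j _ => ?_
    rcases Nat.even_or_odd j with h | h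
    · simp [h.neg_one_pow]
    · exact ⟨-C.m χ j, by rw [h.neg_one_pow]; ring⟩
  obtain ⟨c, hc⟩ := C.deg_parity χ
  obtain ⟨d, hd⟩ := h1
  obtain ⟨e, he⟩ := C.q_odd
  exact ⟨c + d - e * C.be χ, by
    have := C.hval' χ
    rw [ga]; rw [he] at this; linarith⟩

/-- The value at the involution of a member whose multiplicities are nearly constant. -/
theorem val_pattern (χ : ι) (e0 e1 c' c : ℤ)
    (hev : ∀ j < 4 * C.k, j % 2 = 0 → j ≠ C.k → j ≠ 3 * C.k → C.m χ j = e0)
    (hk1 : C.m χ C.k = e1)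
    (hod : ∀ j < 4 * C.k, j % 2 = 1 → j ≠ 1 → j ≠ 2 * C.k - 1 → C.m χ j = c')
    (h1 : C.m χ 1 = c) :
    (2 * C.k : ℤ) ∣ C.val χ - (2 * e1 - 2 * e0 + 2 * c' - 2 * c) := by
  have hk := C.k2
  have hk' := C.kmod
  have h3 : C.m χ (3 * C.k) = e1 := by
    have h := C.hsym χ C.k (by omega)
    rw [rm, if_pos hk', if_neg (by omega), show 4 * C.k - C.k = 3 * C.k by omega] at h
    rw [h, hk1]
  have h1' : C.m χ (2 * C.k - 1) = c := by
    have h := C.hsym χ 1 (by omega)
    rw [rm, if_neg (by omega), if_pos (by omega)] at h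
    rw [h, h1]
  have key : ∀ j ∈ range (4 * C.k), (-1 : ℤ) ^ j * C.m χ j =
      ((if j % 2 = 0 then e0 else -c') + (if j = C.k then e1 - e0 else 0)) +
      ((if j = 3 * C.k then e1 - e0 else 0) + (if j = 1 then c' - c else 0) +
        (if j = 2 * C.k - 1 then c' - c else 0)) := by
    intro j hj
    rw [mem_range] at hj
    rw [neg_one_pow_eq_pow_mod_two]
    by_cases hp : j % 2 = 0
    · rw [hp, pow_zero, one_mul, if_pos rfl, if_neg (show j ≠ 1 by omega),
        if_neg (show j ≠ 2 * C.k - 1 by omega)]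
      by_cases a : j = C.k
      · rw [if_pos a, if_neg (show j ≠ 3 * C.k by omega), a, hk1]; ring
      · by_cases b : j = 3 * C.k
        · rw [if_pos b, if_neg a, b, h3]; ring
        · rw [if_neg a, if_neg b, hev j hj hp a b]; ring
    · rw [show j % 2 = 1 by omega, pow_one, if_neg (by omega), if_neg (show j ≠ C.k by omega),
        if_neg (show j ≠ 3 * C.k by omega)]
      by_cases a : j = 1
      · rw [if_pos a, if_neg (show j ≠ 2 * C.k - 1 by omega), a, h1]; ring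
      · by_cases b : j = 2 * C.k - 1
        · rw [if_pos b, if_neg a, b, h1']; ring
        · rw [if_neg a, if_neg b, hod j hj (by omega) a b]; ring
  have hbase : ∀ n : ℕ, ∑ j ∈ range (2 * n), (if j % 2 = 0 then e0 else -c') = (n : ℤ) * (e0 - c') := by
    intro n
    induction n with
    | zero => simp
    | succ n ih =>
      rw [show 2 * (n + 1) = 2 * n + 1 + 1 by ring, sum_range_succ, sum_range_succ, ih,
        if_pos (by omega), if_neg (by omega)]
      push_cast; ring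
  rw [C.hval, sum_congr rfl key]
  simp only [sum_add_distrib, sum_ite_eq', mem_range]
  rw [if_pos (show C.k < 4 * C.k by omega), if_pos (show 3 * C.k < 4 * C.k by omega),
    if_pos (show 1 < 4 * C.k by omega), if_pos (show 2 * C.k - 1 < 4 * C.k by omega),
    show 4 * C.k = 2 * (2 * C.k) by ring, hbase]
  exact ⟨e0 - c', by push_cast; ring⟩

end Cols

end CfsgLib.AlmostCyclic
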