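import Cfsg.Agent.Lib.AlmostCyclic.SDCount
import Cfsg.Agent.Lib.AlmostCyclic.SDCols

/-!
# The order equation in the quasi-dihedral configuration
-/

set_option autoImplicit false
set_option linter.style.haveILetI false
set_option linter.unusedSectionVars false

namespace CfsgLib.AlmostCyclic

open Cfsg CfsgLib.CharTheory CfsgLib.Blocks CfsgLib.Blocks.Dihedral CfsgLib.GL2Char
open scoped ComplexConjugate

universe u

variable {G : Type u} [Group G]

namespace SDat

variable (D : SDat G) [Finite G]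

/-- The rotation inside the centraliser. -/
abbrev sC : D.C := ⟨D.σ, D.hSC D.hσS⟩

/-- The outer involution inside the centraliser. -/
abbrev wC : D.C := ⟨D.w, D.hSC D.hwS⟩

theorem sC_pow (i : ℕ) : ((D.sC ^ i : D.C) : G) = D.σ ^ i := by simp

/-- The rotation has image of order `2k`. -/
theorem order_phi : haveI := D.hp; orderOf (D.φ D.sC) = 2 * D.k := by
  haveI := D.hp
  refine Nat.dvd_antisymm (orderOf_dvd_of_pow_eq_one ?_) ?_
  · rw [← map_pow, show D.sC ^ (2 * D.k) = D.tC from Subtype.ext (by rw [sC_pow, ← D.ht])]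
    exact D.phi_tC
  · set j := orderOf (D.φ D.sC) with hj
    have h : D.φ (D.sC ^ j) = 1 := by rw [map_pow, hj, pow_orderOf_eq_one]
    have key : ∀ c : D.C, c ∈ D.O → (∃ i : ℕ, (c : G) = D.σ ^ i) → c = 1 := by
      rintro c hc ⟨i, hi⟩
      obtain ⟨a, ha⟩ := D.pow_two_part i
      refine orderOf_eq_one_iff.mp (Nat.eq_one_of_dvd_coprimes
        ((Nat.prime_two.coprime_iff_not_dvd.mpr
          (Nat.two_dvd_ne_zero.mpr (Nat.odd_iff.mp D.hOodd))).pow_left a)
        ?_ (Subgroup.orderOf_dvd_natCard _ hc))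
      rw [← Subgroup.orderOf_coe, hi, ha]
    rcases (D.hker _).mp h with h1 | h1
    · have e := congrArg Subtype.val (key _ h1 ⟨j, D.sC_pow j⟩)
      rw [sC_pow, Subgroup.coe_one, ← orderOf_dvd_iff_pow_eq_one, D.hσ] at e
      exact (dvd_mul_left _ 2).trans (by rwa [← mul_assoc])
    · have e := congrArg Subtype.val (key _ h1 ⟨j + 2 * D.k, by
        rw [Subgroup.coe_mul, sC_pow, pow_add, ← D.ht]⟩)
      rw [Subgroup.coe_mul, sC_pow, Subgroup.coe_one] at e
      have e' : D.σ ^ (j + 2 * D.k) = 1 := by rw [pow_add, ← D.ht]; exact e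
      rw [← orderOf_dvd_iff_pow_eq_one, D.hσ] at e'
      exact (Nat.dvd_add_left dvd_rfl).mp ((dvd_mul_left _ 2).trans (by rwa [← mul_assoc]))

/-- The torus of the image of the rotation. -/
theorem exists_torus_sigma : haveI := D.hp; ∃ T N : Subgroup (PG (ZMod D.p)), IsTorus T N ∧
    D.φ D.sC ∈ T ∧ (Nat.card T : ℤ) = |D.q + 1| ∧
    Nat.card T = 2 * D.k * ordCompl[2] (Nat.card T) := by
  haveI := D.hp
  have hk := D.two_le
  have hp2 : (2 : ZMod D.p) ≠ 0 := zmod_two_ne D.hp2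
  have hp3 : 3 ≤ D.p := by have := D.hp.out.two_le; have := D.hp2; omega
  have hord := D.order_phi
  have hnd : ¬ orderOf (D.φ D.sC) ∣ Fintype.card (ZMod D.p) := by
    rw [ZMod.card, hord]
    intro h
    have h2 : 2 ∣ D.p := (dvd_mul_right 2 D.k).trans h
    exact D.hp2 ((Nat.prime_dvd_prime_iff_eq Nat.prime_two D.hp.out).mp h2).symm
  obtain ⟨T, N, hT, hmem, hcard⟩ := exists_torus_mem (by rw [ZMod.card]; exact hp3) hp2 hnd
  rw [ZMod.card] at hcard
  have hdvd : 2 * D.k ∣ Nat.card T := by rw [← hord]; exact Subgroup.orderOf_dvd_natCard _ hmem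
  have h4 : 4 ∣ Nat.card T := by
    obtain ⟨j, hj⟩ := D.k_even
    exact (show 4 ∣ 2 * D.k from ⟨j, by omega⟩).trans hdvd
  have hq4 := D.hq4
  have hT' : (Nat.card T : ℤ) = |D.q + 1| := by
    rcases D.hq with e | e
    · have hc : Nat.card T = D.p + 1 := by
        rcases hcard with h | h
        · exfalso; omega
        · exact h
      rw [hc, e, abs_of_nonneg (by positivity)]
      push_cast; ring
    · have hc : Nat.card T = D.p - 1 := by
        rcases hcard with h | h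
        · exact h
        · exfalso; omega
      rw [hc, e, abs_of_nonpos (by omega), Nat.cast_sub (by omega)]
      push_cast; ring
  refine ⟨T, N, hT, hmem, hT', ?_⟩
  obtain ⟨e, he⟩ := D.hk
  have h2k : 2 * D.k = 2 ^ (e + 2) := by rw [he]; ring
  have hn4 : ¬ 4 * D.k ∣ Nat.card T := by
    intro h
    apply D.hk2
    rw [← dvd_abs, ← hT']
    exact_mod_cast Int.natCast_dvd_natCast.mpr h
  have hv : (Nat.card T).factorization 2 = e + 2 := by
    have hne : Nat.card T ≠ 0 := Nat.card_pos.ne'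
    have h1 := (Nat.prime_two.pow_dvd_iff_le_factorization hne).mp (h2k ▸ hdvd)
    have h2 : ¬ e + 3 ≤ (Nat.card T).factorization 2 := fun h => hn4 (by
      rw [show 4 * D.k = 2 ^ (e + 3) by rw [he]; ring]
      exact (Nat.prime_two.pow_dvd_iff_le_factorization hne).mpr h)
    omega
  rw [h2k, ← hv]
  exact (Nat.ordProj_mul_ordCompl_eq_self _ _).symm

/-- The squares of the rotations centralise the odd core. -/
theorem sq_centralizes_O (hG : AC G) : ∀ o ∈ D.O, Commute (D.sC ^ 2) o := by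
  haveI := D.hOn
  haveI : IsZGroup ↥D.O := (hG.subgroup D.C).isZGroup D.hOodd
  haveI := fit_isCyclic D.O
  haveI : Fintype G := Fintype.ofFinite G
  haveI hfn : (fit D.O).Normal := Subgroup.normalizer_eq_top_iff.mp (top_le_iff.mp (by
    rw [← Subgroup.normalizer_eq_top D.O]
    exact normalizer_le_fit D.O))
  have hk := D.two_le
  let f : D.C →* MulAut ↥(fit D.O) := MulAut.conjNormal
  have hwsw : D.wC * D.sC * D.wC⁻¹ = D.sC ^ (2 * D.k - 1) :=
    Subtype.ext (by rw [sC_pow]; exact D.hwσ)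
  have h1 : f (D.sC ^ (2 * D.k - 2)) = 1 := by
    have h := congrArg f hwsw
    rw [map_mul, map_mul, map_inv, mulAut_comm (f D.wC), mul_inv_cancel_right, map_pow,
      show 2 * D.k - 1 = 2 * D.k - 2 + 1 by omega, pow_succ] at h
    rw [map_pow]
    exact (mul_eq_right.mp h.symm)
  have hz : D.sC ^ 2 ∈ Subgroup.zpowers (D.sC ^ (2 * D.k - 2)) := by
    obtain ⟨i, hi⟩ := (D.gen_two (i := 2 * D.k - 2) (by
      obtain ⟨j, hj⟩ := D.k_even; omega)).2
    exact ⟨i, Subtype.ext (by rw [Subgroup.coe_zpow, sC_pow, sC_pow]; exact hi)⟩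
  set A := Subgroup.zpowers (D.sC ^ 2) with hA
  have hAf : A ≤ Subgroup.centralizer (fit D.O : Set D.C) := by
    refine (Subgroup.zpowers_le.mpr ?_)
    obtain ⟨i, hi⟩ := hz
    rw [← hi]
    refine zpow_mem ?_ i
    intro z hz
    have h := congrArg Subtype.val (DFunLike.congr_fun h1 ⟨z, hz⟩)
    rw [MulAut.conjNormal_apply] at h
    exact (mul_inv_eq_iff_eq_mul.mp h).symm
  have hcop : (Nat.card A).Coprime (Nat.card D.O) := by
    obtain ⟨a, ha⟩ := D.pow_two_part 2
    rw [hA, Nat.card_zpowers, ← Subgroup.orderOf_coe, sC_pow, ha]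
    exact (Nat.prime_two.coprime_iff_not_dvd.mpr
      (Nat.two_dvd_ne_zero.mpr (Nat.odd_iff.mp D.hOodd))).pow_left a
  have h := centralizes_of_fit D.O (A := A) (by rw [Subgroup.normalizer_eq_top]; exact le_top) hcop hAf
  intro o ho
  exact h ho _ (Subgroup.mem_zpowers _)

/-- An element of `G` commuting with the squares of the rotations lies in the centraliser. -/
theorem mem_C_of_commute {v : G} (h : Commute v (D.σ ^ 2)) : v ∈ D.C := by
  refine Subgroup.mem_centralizer_singleton_iff.mpr ?_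
  rw [D.ht, pow_mul]
  exact (h.pow_right D.k).eq

/-- The odd part of the centraliser of the squares of the rotations, its order and the part of it
centralised by the outer involution. -/
theorem K_facts (hG : AC G) {K : Subgroup G}
    (hK : ∀ v, v ∈ K ↔ Commute v (D.σ ^ 2) ∧ ¬ 2 ∣ orderOf v) :
    D.O.map D.C.subtype ≤ K ∧
    (∀ B : ℕ, (2 * D.k : ℤ) * B = |D.q + 1| → Nat.card K = Nat.card D.O * B) ∧
    K ⊓ Subgroup.centralizer ({D.w} : Set G) ≤ D.O.map D.C.subtype := by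
  classical
  haveI := D.hp
  haveI := D.hOn
  haveI : Fintype (PG (ZMod D.p)) := Fintype.ofFinite _
  have hk := D.two_le
  obtain ⟨T, N, hT, hmem, hcard, hB⟩ := D.exists_torus_sigma
  have hle : D.O.map D.C.subtype ≤ K := by
    rintro _ ⟨o, ho, rfl⟩
    refine (hK _).mpr ⟨?_, fun h => ?_⟩
    · have h := congrArg Subtype.val (D.sq_centralizes_O hG o ho).eq
      simp only [Subgroup.coe_mul, sC_pow] at h
      exact h.symm
    · rw [D.C.subtype_apply, Subgroup.orderOf_coe] at h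
      exact Nat.two_dvd_ne_zero.mpr (Nat.odd_iff.mp D.hOodd)
        (h.trans (Subgroup.orderOf_dvd_natCard _ ho))
  have hKC : K ≤ D.C := fun v hv => D.mem_C_of_commute ((hK v).mp hv).1
  have hρT : D.φ (D.sC ^ 2) ∈ T := by rw [map_pow]; exact pow_mem hmem 2
  have hρ1 : D.φ (D.sC ^ 2) ≠ 1 := fun h => by
    rw [map_pow, ← orderOf_dvd_iff_pow_eq_one, D.order_phi] at h
    have := Nat.le_of_dvd two_pos h
    omega
  -- odd elements centralising the image lie in the torus
  have hin : ∀ c : D.C, Commute c (D.sC ^ 2) → ¬ 2 ∣ orderOf c → D.φ c ∈ T := by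
    intro c hc ho
    have hN : D.φ c ∈ N := hT.ti _ hρT hρ1 _ (by
      rw [(hc.map D.φ).eq, mul_inv_cancel_right]; exact hρT)
    by_contra hcT
    have hinv := hT.inv _ hN hcT _ hmem
    have hsq : D.φ c * D.φ c * D.φ D.sC * (D.φ c * D.φ c)⁻¹ = D.φ D.sC := by
      calc _ = D.φ c * (D.φ c * D.φ D.sC * (D.φ c)⁻¹) * (D.φ c)⁻¹ := by group
        _ = _ := by rw [hinv, ← conj_inv, hinv, inv_inv]
    have hcom : Commute (D.φ c * D.φ c) (D.φ D.sC) := mul_inv_eq_iff_eq_mul.mp hsq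
    obtain ⟨m, hm⟩ := exists_pow_eq_self_of_coprime
      (Nat.prime_two.coprime_iff_not_dvd.2 (D.phi_odd ho)) (x := D.φ c)
    have hcm : Commute (D.φ c) (D.φ D.sC) := by
      rw [← hm, pow_two]; exact hcom.pow_left m
    rw [hcm.eq, mul_inv_cancel_right, eq_inv_iff_mul_eq_one, ← pow_two, ← orderOf_dvd_iff_pow_eq_one,
      D.order_phi] at hinv
    have := Nat.le_of_dvd two_pos hinv
    omega
  refine ⟨hle, fun B hB' => ?_, ?_⟩
  · have hBn : ordCompl[2] (Nat.card T) = B := by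
      have h1 : ((2 * D.k * ordCompl[2] (Nat.card T) : ℕ) : ℤ) = ((2 * D.k * B : ℕ) : ℤ) := by
        rw [← hB, hcard, ← hB']; push_cast; ring
      exact Nat.eq_of_mul_eq_mul_left (by omega) (Int.natCast_inj.mp h1)
    set K' := K.subgroupOf D.C with hK'
    let f : K' →* PG (ZMod D.p) := D.φ.comp K'.subtype
    have hK'mem : ∀ c : D.C, c ∈ K' ↔ Commute c (D.sC ^ 2) ∧ ¬ 2 ∣ orderOf c := by
      intro c
      rw [hK', Subgroup.mem_subgroupOf, hK, Subgroup.orderOf_coe]
      refine and_congr_left' ⟨fun h => Subtype.ext ?_, fun h => ?_⟩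
      · simp only [Subgroup.coe_mul, sC_pow]; exact h.eq
      · have h := congrArg Subtype.val h.eq
        simp only [Subgroup.coe_mul, sC_pow] at h
        exact h
    have hker : Nat.card f.ker = Nat.card D.O := by
      refine Nat.card_congr
        { toFun := fun z => ⟨(z : K').1, ?_⟩
          invFun := fun o => ⟨⟨o.1, (Subgroup.mem_subgroupOf).mpr (hle ⟨o, o.2, rfl⟩)⟩,
            (D.hker _).mpr (Or.inl o.2)⟩
          left_inv := fun _ => rfl
          right_inv := fun _ => rfl }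
      have hz : D.φ (z : K').1 = 1 := z.2
      rcases (D.hker _).mp hz with h | h
      · exact h
      · exfalso
        have ho := ((hK'mem _).mp (z : K').2).2
        have hodd : ¬ 2 ∣ orderOf ((z : K').1 * D.tC) := fun h' =>
          Nat.two_dvd_ne_zero.mpr (Nat.odd_iff.mp D.hOodd) (h'.trans (Subgroup.orderOf_dvd_natCard _ h))
        refine hodd ?_
        have hc : Commute (z : K').1 D.tC :=
          (Subgroup.mem_center_iff.mp D.tC_central _)
        rw [hc.orderOf_mul_eq_mul_orderOf_of_coprime (by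
          rw [D.tC_order]; exact (Nat.prime_two.coprime_iff_not_dvd.mpr ho).symm), D.tC_order]
        exact dvd_mul_left 2 _
    have hrange : Nat.card f.range = B := by
      rw [← hBn, ← card_odd_cyclic hT.cyc, Nat.card_eq_fintype_card, ← Fintype.card_subtype]
      refine Fintype.card_congr (Equiv.subtypeEquivRight fun g => ?_)
      constructor
      · rintro ⟨z, rfl⟩
        obtain ⟨h1, h2⟩ := (hK'mem _).mp z.2
        exact ⟨hin _ h1 h2, Nat.odd_iff.mpr (Nat.two_dvd_ne_zero.mp (D.phi_odd h2))⟩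
      · rintro ⟨hgT, hgo⟩
        obtain ⟨c, hc, rfl⟩ := D.exists_odd_lift g (Nat.two_dvd_ne_zero.mpr (Nat.odd_iff.mp hgo))
        refine ⟨⟨c, (hK'mem c).mpr ⟨?_, hc⟩⟩, rfl⟩
        -- the lift fixes the square of the rotation
        set n := (D.sC ^ 2)⁻¹ * (c * D.sC ^ 2 * c⁻¹) with hn
        have hcomm : Commute (D.φ c) (D.φ (D.sC ^ 2)) := by
          letI := hT.cyc.commGroup
          exact congrArg Subtype.val (mul_comm (⟨_, hgT⟩ : T) ⟨_, hρT⟩)
        have hφn : D.φ n = 1 := by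
          rw [hn, map_mul, map_mul, map_mul, map_inv, map_inv, hcomm.eq, mul_inv_cancel_right,
            inv_mul_cancel]
        have hsn : ∀ o : D.C, o ∈ D.O → Commute (D.sC ^ 2) o := D.sq_centralizes_O hG
        have htc : ∀ x : D.C, Commute x D.tC := fun x => Subgroup.mem_center_iff.mp D.tC_central x
        have hnc : Commute (D.sC ^ 2) n := by
          rcases (D.hker n).mp hφn with h | h
          · exact hsn n h
          · have := (hsn _ h).mul_right (htc (D.sC ^ 2))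
            rwa [mul_assoc, D.tC_sq, mul_one] at this
        have hconj : c * D.sC ^ 2 * c⁻¹ = D.sC ^ 2 * n := by rw [hn, mul_inv_cancel_left]
        have hnk : n ^ (2 * D.k) = 1 := by
          have h1 : (D.sC ^ 2) ^ (2 * D.k) = 1 := Subtype.ext (by
            rw [Subgroup.coe_pow, sC_pow, ← pow_mul, show 2 * (2 * D.k) = 4 * D.k by ring, D.pow_four]
            rfl)
          have h2 := congrArg (· ^ (2 * D.k)) hconj
          simp only [conj_pow, hnc.mul_pow, h1, one_mul, mul_one, mul_inv_cancel] at h2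
          exact h2.symm
        have honly : n = 1 ∨ n = D.tC := by
          have key : ∀ o : D.C, o ∈ D.O → o ^ (2 * D.k) = 1 → o = 1 := fun o ho h => by
            obtain ⟨e, he⟩ := D.hk
            refine orderOf_eq_one_iff.mp (Nat.eq_one_of_dvd_coprimes (a := 2 ^ (e + 2))
              ((Nat.prime_two.coprime_iff_not_dvd.mpr
                (Nat.two_dvd_ne_zero.mpr (Nat.odd_iff.mp D.hOodd))).pow_left _) ?_
              (Subgroup.orderOf_dvd_natCard _ ho))
            refine orderOf_dvd_of_pow_eq_one ?_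
            rw [show 2 ^ (e + 2) = 2 * D.k by rw [he]; ring]
            exact h
          rcases (D.hker n).mp hφn with h | h
          · exact Or.inl (key n h hnk)
          · right
            have h1 : D.tC ^ (2 * D.k) = 1 := by rw [pow_mul, pow_two, D.tC_sq, one_pow]
            have := key _ h (by rw [(htc n).mul_pow, hnk, h1, one_mul])
            rw [eq_comm, ← mul_left_inj D.tC, D.tC_sq]
            exact this.symm
        rcases honly with e | e
        · rw [e, mul_one] at hconj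
          exact mul_inv_eq_iff_eq_mul.mp hconj
        · rw [e] at hconj
          have h2 : c ^ 2 * D.sC ^ 2 * (c ^ 2)⁻¹ = D.sC ^ 2 := by
            calc c ^ 2 * D.sC ^ 2 * (c ^ 2)⁻¹ = c * (c * D.sC ^ 2 * c⁻¹) * c⁻¹ := by
                  rw [pow_two]; group
              _ = c * (D.sC ^ 2 * D.tC) * c⁻¹ := by rw [hconj]
              _ = c * D.sC ^ 2 * c⁻¹ * (c * D.tC * c⁻¹) := by group
              _ = D.sC ^ 2 := by
                rw [hconj, (htc c).eq, mul_inv_cancel_right, mul_assoc, D.tC_sq, mul_one]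
          obtain ⟨m, hm⟩ := exists_pow_eq_self_of_coprime
            (Nat.prime_two.coprime_iff_not_dvd.2 hc) (x := c)
          have h3 : Commute (c ^ 2) (D.sC ^ 2) := mul_inv_eq_iff_eq_mul.mp h2
          rw [← hm]
          exact h3.pow_left m
    rw [← Nat.card_congr (Subgroup.subgroupOfEquivOfLe hKC).toEquiv, ← hK', ← f.ker.card_mul_index,
      Subgroup.index_ker, hker, hrange]
  · rintro v ⟨hvK, hvw⟩
    obtain ⟨h1, h2⟩ := (hK v).mp hvK
    set c : D.C := ⟨v, hKC hvK⟩ with hc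
    have hcs : Commute c (D.sC ^ 2) := Subtype.ext (by
      simp only [Subgroup.coe_mul, sC_pow]; exact h1.eq)
    have hco : ¬ 2 ∣ orderOf c := by rwa [← Subgroup.orderOf_coe]
    have hcT := hin c hcs hco
    have hwC : D.φ D.wC * D.φ D.sC * (D.φ D.wC)⁻¹ = D.φ D.sC ^ (2 * D.k - 1) := by
      rw [← map_pow, ← map_inv, ← map_mul, ← map_mul]
      exact congrArg D.φ (Subtype.ext (by rw [sC_pow]; exact D.hwσ))
    have hne : D.φ D.sC ^ (2 * D.k - 1) ≠ D.φ D.sC := by
      intro h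
      nth_rewrite 2 [← pow_one (D.φ D.sC)] at h
      rw [pow_eq_pow_iff_modEq, D.order_phi] at h
      have := h.eq_of_lt_of_lt (by omega) (by omega)
      omega
    have hwN : D.φ D.wC ∈ N := hT.ti _ hmem (fun e => hne (by rw [e, one_pow])) _
      (by rw [hwC]; exact pow_mem hmem _)
    have hwT : D.φ D.wC ∉ T := fun h => by
      letI := hT.cyc.commGroup
      have : D.φ D.wC * D.φ D.sC = D.φ D.sC * D.φ D.wC :=
        congrArg Subtype.val (mul_comm (⟨_, h⟩ : T) ⟨_, hmem⟩)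
      rw [this, mul_inv_cancel_right] at hwC
      exact hne hwC.symm
    have hinv := hT.inv _ hwN hwT _ hcT
    have hcw : D.wC * c = c * D.wC := Subtype.ext (Subgroup.mem_centralizer_singleton_iff.mp hvw).symm
    rw [← map_mul, hcw, map_mul, mul_inv_cancel_right, eq_inv_iff_mul_eq_one, ← pow_two,
      ← orderOf_dvd_iff_pow_eq_one] at hinv
    have h1' : D.φ c = 1 := by
      refine orderOf_eq_one_iff.mp ?_
      rcases (Nat.dvd_prime Nat.prime_two).mp hinv with h | h
      · exact h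
      · exact absurd h.symm.dvd (D.phi_odd hco)
    rcases (D.hker c).mp h1' with h | h
    · exact ⟨c, h, rfl⟩
    · exfalso
      refine Nat.two_dvd_ne_zero.mpr (Nat.odd_iff.mp D.hOodd)
        (dvd_trans ?_ (Subgroup.orderOf_dvd_natCard _ h))
      have hct : Commute c D.tC := Subgroup.mem_center_iff.mp D.tC_central _
      rw [hct.orderOf_mul_eq_mul_orderOf_of_coprime (by
        rw [D.tC_order]; exact (Nat.prime_two.coprime_iff_not_dvd.mpr hco).symm), D.tC_order]
      exact dvd_mul_left 2 _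

/-- The order equation. -/
theorem exists_equation [IsSimpleGroup G] (hG : AC G) :
    ∃ (σ d : ℤ) (o' : ℕ), σ ≠ 0 ∧ 2 ≤ |1 + σ| ∧
      Nat.card D.O = o' * Nat.card ↥(D.O.map D.C.subtype ⊓ Subgroup.centralizer ({D.w} : Set G)) ∧
      d * (σ + 1 - D.q * D.q) = σ * (σ + 1) ∧
      (D.C.index : ℤ) * (σ - D.q + 1) ^ 2 =
        ((D.p : ℤ) * (D.p * D.p - 1)) * |D.q + 1| * (o' : ℤ) ^ 2 * (σ * (σ + 1)) := by
  classical
  haveI := D.hp
  haveI : Fintype G := Fintype.ofFinite G
  haveI : Fintype D.C := Fintype.ofFinite _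
  obtain ⟨M, hM⟩ := exists_isPModular (p := 2) Nat.prime_two
  haveI : Fintype (PB M G) := Fintype.ofFinite _
  have hk := D.two_le
  have hk4 : (4 * D.k : ℕ) ≠ 0 := by omega
  set ζ := Complex.exp (2 * Real.pi * Complex.I / ((4 * D.k : ℕ) : ℂ)) with hζdef
  have hζ : IsPrimitiveRoot ζ (4 * D.k) := Complex.isPrimitiveRoot_exp _ hk4
  obtain ⟨C, hCk, hCq, hCdeg, hCval, hCm⟩ := D.exists_cols hM hζ
  obtain ⟨a, b, d, σ, ha, hb, hd, hσ, haσ, hbd, hU, hV⟩ := C.values
  obtain ⟨K, hK, hW⟩ := D.exists_W_two hM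
  obtain ⟨hOK, hKcard, hKw⟩ := D.K_facts hG hK
  obtain ⟨T, N, -, -, hTcard, hTB⟩ := D.exists_torus_sigma
  set B := ordCompl[2] (Nat.card T) with hBdef
  have hB : (2 * D.k : ℤ) * B = |D.q + 1| := by rw [← hTcard, hTB]; push_cast; ring
  have hKc := hKcard B hB
  have hinter : K ⊓ Subgroup.centralizer ({D.w} : Set G) =
      D.O.map D.C.subtype ⊓ Subgroup.centralizer ({D.w} : Set G) :=
    le_antisymm (le_inf hKw inf_le_right) (inf_le_inf_right _ hOK)
  rw [hinter] at hW
  -- the two Fourier combinations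
  have hroot : ζ ^ (2 * D.k) = -1 :=
    (hζ.pow (by omega) (show 4 * D.k = 2 * D.k * 2 by ring)).eq_neg_one_of_two_right
  have hkz : (ζ ^ D.k) * (ζ ^ D.k) = -1 := by rw [← pow_add, ← two_mul, hroot]
  have hN0 : ((4 * D.k : ℕ) : ℂ) ≠ 0 := Nat.cast_ne_zero.mpr hk4
  have hk0 : (D.k : ℂ) ≠ 0 := Nat.cast_ne_zero.mpr (by omega)
  have hmc : ∀ (χ : PB M G) (j : ℕ), j < 4 * D.k → (C.m χ j : ℂ) =
      ((4 * D.k : ℕ) : ℂ)⁻¹ * ∑ l ∈ Finset.range (4 * D.k),
        ((χ : IrrCharacter G) : G → ℂ) (D.σ ^ l) * (ζ ^ (4 * D.k - j)) ^ l := fun χ j hj => hCm χ j hj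
  have hz0 : ζ ^ (4 * D.k - 0) = 1 := by rw [Nat.sub_zero, hζ.pow_eq_one]
  have hz2 : ζ ^ (4 * D.k - 2 * D.k) = -1 := by
    rw [show 4 * D.k - 2 * D.k = 2 * D.k by omega, hroot]
  have hz1 : ζ ^ (4 * D.k - D.k) = -(ζ ^ D.k) := by
    rw [show 4 * D.k - D.k = 2 * D.k + D.k by omega, pow_add, hroot]; ring
  have hz3 : ζ ^ (4 * D.k - 3 * D.k) = ζ ^ D.k := by rw [show 4 * D.k - 3 * D.k = D.k by omega]
  set s := fun (i : ℕ) (χ : PB M G) => ((χ : IrrCharacter G) : G → ℂ) (D.σ ^ i) with hs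
  have hu : ∀ χ, 2 * (D.k : ℂ) * (C.u χ : ℂ) =
      ∑ l ∈ (Finset.range (4 * D.k)).filter (fun l => l % 2 = 1), s l χ := by
    intro χ
    rw [Cols.u, hCk, Int.cast_sub, hmc χ 0 (by omega), hmc χ (2 * D.k) (by omega), hz0, hz2,
      ← mul_sub, ← Finset.sum_sub_distrib, Finset.sum_filter, Finset.mul_sum, Finset.mul_sum]
    refine Finset.sum_congr rfl fun l _ => ?_
    rw [one_pow]
    push_cast
    rcases Nat.even_or_odd l with h | h
    · rw [h.neg_one_pow, if_neg (by have := Nat.even_iff.mp h; omega)]; ring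
    · rw [h.neg_one_pow, if_pos (Nat.odd_iff.mp h), hs]; field_simp; ring
  have hv : ∀ χ, (D.k : ℂ) * (C.v χ : ℂ) =
      ∑ l ∈ (Finset.range (4 * D.k)).filter (fun l => l % 4 = 2), s l χ := by
    intro χ
    rw [Cols.v, hCk, Int.cast_add, Int.cast_sub, Int.cast_sub, hmc χ 0 (by omega),
      hmc χ D.k (by omega), hmc χ (2 * D.k) (by omega), hmc χ (3 * D.k) (by omega), hz0, hz1, hz2, hz3,
      ← mul_sub, ← mul_sub, ← mul_add, ← Finset.sum_sub_distrib, ← Finset.sum_sub_distrib,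
      ← Finset.sum_add_distrib, Finset.sum_filter, Finset.mul_sum, Finset.mul_sum]
    refine Finset.sum_congr rfl fun l _ => ?_
    obtain ⟨j, r, hr, rfl⟩ : ∃ j r, r < 4 ∧ l = 4 * j + r := ⟨l / 4, l % 4, by omega, by omega⟩
    have h4 : (ζ ^ D.k) ^ (4 * j) = 1 := by
      rw [pow_mul, show (ζ ^ D.k) ^ 4 = (ζ ^ D.k * ζ ^ D.k) * (ζ ^ D.k * ζ ^ D.k) by ring, hkz]
      simp
    have h4' : (-(ζ ^ D.k)) ^ (4 * j) = 1 := by
      rw [neg_pow, h4, mul_one, pow_mul]; norm_num
    have h1' : ((-1 : ℂ)) ^ (4 * j) = 1 := by rw [pow_mul]; norm_num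
    simp only [one_pow, pow_add (ζ ^ D.k), pow_add (-(ζ ^ D.k)), pow_add (-1 : ℂ), h4, h4', h1',
      one_mul]
    push_cast
    rw [show (4 * j + r) % 4 = r by omega, hs]
    interval_cases r
    · simp
    · simp
    · simp only [pow_two, neg_mul_neg, hkz]; rw [if_pos trivial]; field_simp; ring
    · simp only [show (3 : ℕ) = 2 + 1 from rfl, pow_succ, pow_zero, one_mul, neg_mul_neg, hkz]; simp
  have hswap : ∀ (f : PB M G → ℤ) (n : ℕ) (S : Finset ℕ),
      (∀ χ, (n : ℂ) * (f χ : ℂ) = ∑ l ∈ S, s l χ) →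
      (n : ℂ) * ∑ χ : PB M G, (f χ : ℂ) * ((C.val χ : ℂ) * C.val χ) / C.deg χ = ∑ l ∈ S, D.W M l := by
    intro f n S hf
    simp only [SDat.W]
    rw [Finset.sum_comm, Finset.mul_sum,
      ← Finset.sum_coe_sort (bset (principalBlock M G))]
    refine Fintype.sum_equiv (Equiv.subtypeEquivRight fun χ => (mem_bset).symm) _ _ fun χ => ?_
    show _ = ∑ l ∈ S, ((χ : IrrCharacter G) : G → ℂ) D.t ^ 2 *
      conj (((χ : IrrCharacter G) : G → ℂ) (D.σ ^ l)) / ((χ : IrrCharacter G) : G → ℂ) 1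
    rw [hCval, hCdeg, ← Finset.sum_div, ← Finset.mul_sum, ← map_sum, ← hf χ, map_mul, map_natCast,
      map_intCast]
    ring
  have hU' : ((∑ χ : PB M G, (C.u χ : ℚ) * ((C.val χ : ℚ) * C.val χ) / C.deg χ : ℚ) : ℂ) = 0 := by
    push_cast
    have h := hswap C.u (2 * D.k) _ (fun χ => by push_cast; exact hu χ)
    rw [Finset.sum_eq_zero (fun l hl => D.W_odd hM (Finset.mem_filter.mp hl).2
      (Finset.mem_range.mp (Finset.mem_filter.mp hl).1))] at h
    exact (mul_eq_zero.mp h).resolve_left (by push_cast; exact mul_ne_zero two_ne_zero hk0)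
  set c := Nat.card ↥(D.O.map D.C.subtype ⊓ Subgroup.centralizer ({D.w} : Set G)) with hc
  have hcnt : ((Finset.range (4 * D.k)).filter (fun l => l % 4 = 2)).card = D.k := by
    rw [show (Finset.range (4 * D.k)).filter (fun l => l % 4 = 2) =
      (Finset.range D.k).image (fun j => 4 * j + 2) by
        ext l
        simp only [Finset.mem_filter, Finset.mem_range, Finset.mem_image]
        exact ⟨fun h => ⟨l / 4, by omega, by omega⟩, fun ⟨j, hj, e⟩ => ⟨by omega, by omega⟩⟩,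
      Finset.card_image_of_injective _ (fun x y h => by simpa using h), Finset.card_range]
  have hV' : ((∑ χ : PB M G, (C.v χ : ℚ) * ((C.val χ : ℚ) * C.val χ) / C.deg χ : ℚ) : ℂ) *
      (Nat.card G : ℂ) * (c : ℂ) ^ 2 = 2 * (D.k : ℂ) * (Nat.card D.C : ℂ) ^ 2 * (Nat.card K : ℂ) := by
    push_cast
    refine mul_left_cancel₀ hk0 ?_
    have h := hswap C.v D.k _ hv
    rw [← mul_assoc, ← mul_assoc, h, Finset.sum_mul, Finset.sum_mul,
      Finset.sum_congr rfl (fun l hl => hW l (Finset.mem_filter.mp hl).2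
        (Finset.mem_range.mp (Finset.mem_filter.mp hl).1)), Finset.sum_const, hcnt, nsmul_eq_mul]
  rw [hU] at hU'
  rw [hV] at hV'
  have e1 : 1 - (C.q : ℚ) * C.q / a + (C.q : ℚ) * C.q / b + 1 / d = 0 := by exact_mod_cast hU'
  have e2 : (1 - (C.q : ℚ) * C.q / a - (C.q : ℚ) * C.q / b - 1 / d +
      2 * ((C.q : ℚ) - 1) * (C.q - 1) / σ) * (Nat.card G : ℚ) * (c : ℚ) ^ 2 =
      2 * (D.k : ℚ) * (Nat.card D.C : ℚ) ^ 2 * (Nat.card K : ℚ) := by exact_mod_cast hV'
  rw [hCq] at e1 e2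
  have ha0 : (a : ℚ) ≠ 0 := Int.cast_ne_zero.mpr fun e => by rw [e] at ha; norm_num at ha
  have hb0 : (b : ℚ) ≠ 0 := Int.cast_ne_zero.mpr fun e => by rw [e] at hb; norm_num at hb
  have hd0 : (d : ℚ) ≠ 0 := Int.cast_ne_zero.mpr fun e => by rw [e] at hd; norm_num at hd
  have hs0 : (σ : ℚ) ≠ 0 := Int.cast_ne_zero.mpr hσ
  have hq1 : (d : ℤ) + 1 ≠ 0 := fun e => by
    rw [show d = -1 by linarith] at hd; norm_num at hd
  have e3 : d * (σ + 1 - D.q * D.q) = σ * (σ + 1) := by
    have hb' : b = σ - d := by linarith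
    have h1 : ((d : ℚ) + 1) * ((a : ℚ) * b + (D.q : ℚ) * D.q * d) = 0 := by
      field_simp at e1
      have e5 : (a : ℚ) - b = d + 1 := by rw [haσ, hb']; push_cast; ring
      linear_combination e1 - (D.q : ℚ) * D.q * d * e5
    have h2 := (mul_eq_zero.mp h1).resolve_left (by exact_mod_cast hq1)
    have h2' : a * b + D.q * D.q * d = 0 := by exact_mod_cast h2
    rw [haσ, hb'] at h2'
    linear_combination -h2'
  have hcn : Nat.card D.O = Nat.card ↥(D.O.map D.C.subtype) :=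
    (Subgroup.card_map_of_injective D.C.subtype_injective).symm
  obtain ⟨o', ho'⟩ := Subgroup.card_dvd_of_le
    (inf_le_left : D.O.map D.C.subtype ⊓ Subgroup.centralizer ({D.w} : Set G) ≤ D.O.map D.C.subtype)
  refine ⟨σ, d, o', hσ, by rw [← haσ]; exact ha, by rw [hcn, ho', mul_comm], e3, ?_⟩
  have hG' : (Nat.card G : ℚ) = (D.C.index : ℚ) * (Nat.card D.C : ℚ) := by
    exact_mod_cast (D.C.index_mul_card).symm
  have hPG : (Nat.card (PG (ZMod D.p)) : ℚ) = (D.p : ℚ) * ((D.p : ℚ) * D.p - 1) := by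
    rw [card_PG, ZMod.card, Nat.cast_mul, Nat.cast_mul, Nat.cast_sub D.hp.out.one_lt.le]
    push_cast; ring
  have hC' : (Nat.card D.C : ℚ) = 2 * ((c : ℚ) * o') * (Nat.card (PG (ZMod D.p)) : ℚ) := by
    rw [D.card_C, hcn, ho']; push_cast; ring
  have hK' : (Nat.card K : ℚ) = (c : ℚ) * o' * B := by rw [hKc, hcn, ho']; push_cast; ring
  have hBq : 2 * (D.k : ℚ) * B = ((|D.q + 1| : ℤ) : ℚ) := by exact_mod_cast hB
  rw [hG', hK', hC', hPG] at e2
  have e6 : ((σ : ℚ) - D.q + 1) ^ 2 = ((1 - (D.q : ℚ) * D.q / a - (D.q : ℚ) * D.q / b - 1 / d +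
      2 * ((D.q : ℚ) - 1) * (D.q - 1) / σ) + (1 - (D.q : ℚ) * D.q / a + (D.q : ℚ) * D.q / b + 1 / d)) *
      σ * (σ + 1) / 2 := by
    rw [haσ] at ha0 ⊢
    push_cast at ha0 ⊢
    field_simp
    ring
  rw [e1, add_zero] at e6
  generalize hX : 1 - (D.q : ℚ) * D.q / a - (D.q : ℚ) * D.q / b - 1 / d +
      2 * ((D.q : ℚ) - 1) * (D.q - 1) / σ = X at e2 e6
  have hc0 : (c : ℚ) ≠ 0 := Nat.cast_ne_zero.mpr Nat.card_pos.ne'
  have ho0 : (o' : ℚ) ≠ 0 := Nat.cast_ne_zero.mpr fun e => by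
    rw [e, mul_zero] at ho'; exact Nat.card_pos.ne' ho'
  have hp0 : (D.p : ℚ) * ((D.p : ℚ) * D.p - 1) ≠ 0 := by rw [← hPG]; exact Nat.cast_ne_zero.mpr Nat.card_pos.ne'
  have goalQ : (D.C.index : ℚ) * ((σ : ℚ) - D.q + 1) ^ 2 =
      ((D.p : ℚ) * ((D.p : ℚ) * D.p - 1)) * ((|D.q + 1| : ℤ) : ℚ) * (o' : ℚ) ^ 2 * ((σ : ℚ) * (σ + 1)) := by
    refine mul_right_cancel₀ (mul_ne_zero (mul_ne_zero (mul_ne_zero two_ne_zero (pow_ne_zero 3 hc0)) ho0) hp0) ?_
    rw [← hBq, e6]
    linear_combination ((σ : ℚ) * (σ + 1) / 2) * e2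
  exact_mod_cast goalQ

end SDat

end CfsgLib.AlmostCyclic
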