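import Cfsg.Agent.Lib.AlmostCyclic.SDEq
import Cfsg.Agent.Lib.AlmostCyclic.SDArith
import Cfsg.Agent.Lib.AlmostCyclic.Exact

/-!
# The parameters left by the quasi-dihedral order equation
-/

set_option autoImplicit false
set_option linter.style.haveILetI false
set_option linter.unusedSectionVars false

namespace CfsgLib.AlmostCyclic

open Cfsg CfsgLib.GL2Char

universe u

variable {G : Type u} [Group G] [Finite G]

/-- Conjugate elements have centralisers of the same order. -/
theorem card_cent_conj {a b : G} (h : IsConj a b) :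
    Nat.card ↥(Subgroup.centralizer ({a} : Set G)) = Nat.card ↥(Subgroup.centralizer ({b} : Set G)) := by
  obtain ⟨g, rfl⟩ := isConj_iff.mp h
  refine Nat.card_congr ((MulAut.conj g).toEquiv.subtypeEquiv fun z => ?_)
  show z ∈ Subgroup.centralizer ({a} : Set G) ↔
    g * z * g⁻¹ ∈ Subgroup.centralizer ({g * a * g⁻¹} : Set G)
  rw [Subgroup.mem_centralizer_singleton_iff, Subgroup.mem_centralizer_singleton_iff]
  exact (Commute.conj_iff g).symm

/-- In `PG` the elements of order `p` have centralisers of order `p`. -/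
theorem card_cent_order_p {p : ℕ} [Fact p.Prime] (hp2 : p ≠ 2) {g : PG (ZMod p)} (hg : orderOf g = p) :
    Nat.card ↥(Subgroup.centralizer ({g} : Set (PG (ZMod p)))) = p := by
  have hp : p.Prime := Fact.out
  have h3 : 3 ≤ p := by have := hp.two_le; omega
  have hq : 3 ≤ Fintype.card (ZMod p) := by rwa [ZMod.card]
  obtain ⟨te, Ne, -, hcte, hcls, -⟩ := exists_tori (F := ZMod p) hq
  obtain ⟨-, hcts, -⟩ := ts_isTorus (F := ZMod p) hq
  have hg1 : g ≠ 1 := fun e => by rw [e, orderOf_one] at hg; omega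
  have key : ∀ (T : Subgroup (PG (ZMod p))) (t : PG (ZMod p)), t ∈ T → IsConj t g →
      p ∣ Nat.card T := by
    intro T t ht h
    obtain ⟨x, rfl⟩ := isConj_iff.mp h
    rw [CfsgLib.Involutions.orderOf_conj] at hg
    exact (dvd_of_eq hg.symm).trans (Subgroup.orderOf_dvd_natCard _ ht)
  rcases hcls g hg1 with ⟨t, ht, h⟩ | ⟨t, ht, h⟩ | h
  · have := key _ t ht h
    rw [hcts, ZMod.card] at this
    exact absurd (Nat.le_of_dvd (by omega) this) (by omega)
  · have := key _ t ht h
    rw [hcte, ZMod.card] at this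
    exact absurd ((Nat.dvd_add_right dvd_rfl).mp this) hp.not_dvd_one
  · rw [← card_cent_conj h, card_cent_u0 (zmod_two_ne hp2), ZMod.card]

/-- A four-group containing `t` and centralising `x` is impossible next to an element of order four,
unless there are larger two-groups. -/
theorem klein_condition {x y t : G} (hy : orderOf y = 4) (hxy : Commute y x) :
    (∃ Q : Subgroup G, IsPGroup 2 Q ∧ Q ≤ Subgroup.centralizer ({x} : Set G) ∧ ¬ Nat.card Q ∣ 4) ∨
      ∀ V : Subgroup G, IsKleinFour ↥V → t ∈ V → ¬ V ≤ Subgroup.centralizer ({x} : Set G) := by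
  refine or_iff_not_imp_left.mpr fun hno V hV _ hVx => ?_
  haveI := Fact.mk Nat.prime_two
  set H := Subgroup.centralizer ({x} : Set G) with hH
  have hV2 : IsPGroup 2 ↥(V.subgroupOf H) :=
    IsPGroup.of_card (n := 2) (by
      rw [Nat.card_congr (Subgroup.subgroupOfEquivOfLe hVx).toEquiv, hV.card_four]; rfl)
  obtain ⟨P0, hP0⟩ := hV2.exists_le_sylow
  set yH : H := ⟨y, Subgroup.mem_centralizer_singleton_iff.mpr hxy.eq⟩ with hyH
  have hY : IsPGroup 2 ↥(Subgroup.zpowers yH) :=
    IsPGroup.of_card (n := 2) (by rw [Nat.card_zpowers, hyH, Subgroup.orderOf_mk, hy]; rfl)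
  obtain ⟨P1, hP1⟩ := hY.exists_le_sylow
  have hP0c : Nat.card (P0 : Subgroup H) ∣ 4 := by
    by_contra hc
    refine hno ⟨(P0 : Subgroup H).map H.subtype, P0.isPGroup'.map _, ?_, ?_⟩
    · exact Subgroup.map_subtype_le _
    · rwa [Subgroup.card_map_of_injective H.subtype_injective]
  have heq : V.subgroupOf H = (P0 : Subgroup H) := Subgroup.eq_of_le_of_card_ge hP0 (by
    rw [Nat.card_congr (Subgroup.subgroupOfEquivOfLe hVx).toEquiv, hV.card_four]
    exact Nat.le_of_dvd (by norm_num) hP0c)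
  have hexp : ∀ z ∈ (P0 : Subgroup H), z ^ 2 = 1 := by
    intro z hz
    rw [← heq, Subgroup.mem_subgroupOf] at hz
    have h1 := Monoid.pow_exponent_eq_one (⟨(z : G), hz⟩ : V)
    rw [hV.exponent_two] at h1
    exact Subtype.ext (by have := congrArg Subtype.val h1; simpa using this)
  have hm : yH ∈ (P1 : Subgroup H) := hP1 (Subgroup.mem_zpowers _)
  have h2 : (⟨yH, hm⟩ : (P1 : Subgroup H)) ^ 2 = 1 := by
    apply (Sylow.equiv P1 P0).injective
    rw [map_pow, map_one]
    exact Subtype.ext (hexp _ (Sylow.equiv P1 P0 ⟨yH, hm⟩).2)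
  have h3 := orderOf_dvd_of_pow_eq_one h2
  rw [Subgroup.orderOf_mk, hyH, Subgroup.orderOf_mk, hy] at h3
  norm_num at h3

namespace SDat

variable (D : SDat G)

/-- A prime whose elements centralising `t` are suitably placed does not divide the number of
conjugates of `t`. -/
theorem exact_prime (hG : AC G) {r : ℕ} (hr : r.Prime) (hr2 : r ≠ 2) {x : G} (hx : orderOf x = r)
    (htx : Commute D.t x)
    (hno : r = 3 → (∃ Q : Subgroup G, IsPGroup 2 Q ∧ Q ≤ Subgroup.centralizer ({x} : Set G) ∧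
        ¬ Nat.card Q ∣ 4) ∨
      ∀ V : Subgroup G, IsKleinFour ↥V → D.t ∈ V → ¬ V ≤ Subgroup.centralizer ({x} : Set G)) :
    ¬ r ∣ D.C.index := by
  haveI := Fact.mk hr
  intro hd
  obtain ⟨P⟩ : Nonempty (Sylow r G) := inferInstance
  have h := card_sylow_dvd hG hr2 hx D.ht2 htx (fun i hi => D.hone _ i D.ht2 hi) P hno
  refine P.not_dvd_index ?_
  have h1 := Nat.mul_dvd_mul hd h
  rw [D.C.index_mul_card, ← (P : Subgroup G).index_mul_card] at h1
  exact Nat.dvd_of_mul_dvd_mul_right Nat.card_pos h1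

/-- At the prime three one step may be lost. -/
theorem nine_not_dvd (hG : AC G) {x : G} (hx : orderOf x = 3) (htx : Commute D.t x) :
    ¬ 9 ∣ D.C.index := by
  haveI := Fact.mk Nat.prime_three
  intro hd
  obtain ⟨P, hP⟩ := (IsPGroup.of_card (n := 1) (show Nat.card (Subgroup.zpowers x) = 3 ^ 1 by
    rw [Nat.card_zpowers, hx, pow_one])).exists_le_sylow
  have hdvd : Nat.card (P : Subgroup G) ∣ 3 * Nat.card D.C := by
    rcases exists_fixed_involution hG (by norm_num) hx P (hP (Subgroup.mem_zpowers x)) D.ht2 htx with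
      ⟨i, hi, hPi⟩ | ⟨-, ⟨i, hi, hPi⟩, -, -⟩
    · rw [show Nat.card D.C = Nat.card ↥(Subgroup.centralizer ({i} : Set G)) from
        card_cent_conj (D.hone _ i D.ht2 hi)]
      exact (Subgroup.card_dvd_of_le hPi).trans (dvd_mul_left _ _)
    · rw [show Nat.card D.C = Nat.card ↥(Subgroup.centralizer ({i} : Set G)) from
        card_cent_conj (D.hone _ i D.ht2 hi)]
      haveI := hG.isCyclic_pGroup Nat.prime_three (by norm_num) P.isPGroup'
      obtain ⟨g, hg⟩ := IsCyclic.exists_generator (α := (P : Subgroup G))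
      have hgc : orderOf (g : G) = Nat.card (P : Subgroup G) := by
        rw [Subgroup.orderOf_coe, orderOf_eq_card_of_forall_mem_zpowers hg]
      have h3 : orderOf ((g : G) ^ 3) ∣ Nat.card ↥(Subgroup.centralizer ({i} : Set G)) :=
        Subgroup.orderOf_dvd_natCard _ (Subgroup.mem_centralizer_singleton_iff.mpr (hPi _ g.2))
      rw [← hgc]
      refine dvd_trans ?_ (Nat.mul_dvd_mul_left 3 h3)
      refine orderOf_dvd_of_pow_eq_one ?_
      rw [pow_mul, pow_orderOf_eq_one]
  refine P.not_dvd_index ?_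
  have h1 : 3 * Nat.card (P : Subgroup G) ∣ Nat.card G := by
    rw [← D.C.index_mul_card]
    refine (Nat.mul_dvd_mul_left 3 hdvd).trans ?_
    rw [← mul_assoc]
    exact Nat.mul_dvd_mul hd dvd_rfl
  rw [← (P : Subgroup G).index_mul_card] at h1
  exact Nat.dvd_of_mul_dvd_mul_right Nat.card_pos h1

/-- The index of the centraliser of an involution is odd. -/
theorem index_odd : ¬ 2 ∣ D.C.index := by
  haveI := Fact.mk Nat.prime_two
  intro h
  exact D.S.not_dvd_index (h.trans (Subgroup.index_dvd_of_le D.hSC))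

/-- The quasi-dihedral order equation forces `q = -5` and a centralised odd core. -/
theorem exists_params [IsSimpleGroup G] (hG : AC G) :
    D.q = -5 ∧ (∀ o ∈ D.O, Commute D.wC o) ∧ D.C.index = 357 := by
  haveI := D.hp
  haveI : Fintype G := Fintype.ofFinite G
  have hk := D.two_le
  obtain ⟨σ, d, o', hσ, hσ1, hOc, hd, heq⟩ := D.exists_equation hG
  obtain ⟨K, hK, -⟩ := D.exists_K
  obtain ⟨hOK, hKc, -⟩ := D.K_facts hG hK
  obtain ⟨T, N, -, -, hTc, hTB⟩ := D.exists_torus_sigma
  set B := ordCompl[2] (Nat.card T) with hB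
  have hKc' := hKc B (by rw [← hTc, hTB]; push_cast; ring)
  have hPGc : Nat.card (PG (ZMod D.p)) = (D.p + 1) * D.p * (D.p - 1) := by rw [card_PG, ZMod.card]
  have hdvdC : ∀ r : ℕ, r ∣ (D.p + 1) * D.p * (D.p - 1) → r.Prime →
      ∃ x : G, orderOf x = r ∧ Commute D.t x := by
    intro r hr hr'
    haveI := Fact.mk hr'
    obtain ⟨x, hx⟩ := exists_prime_orderOf_dvd_card' (G := D.C) r (by
      rw [D.card_C, hPGc]; exact hr.trans (dvd_mul_left _ _))
    exact ⟨x, by rw [Subgroup.orderOf_coe, hx],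
      (Subgroup.mem_centralizer_singleton_iff.mp x.2).symm⟩
  have hKprime : ∀ r : ℕ, r.Prime → r ≠ 2 → r ∣ Nat.card K → ¬ r ∣ D.C.index := by
    intro r hr hr2 hrd
    haveI := Fact.mk hr
    obtain ⟨x, hx⟩ := exists_prime_orderOf_dvd_card' (G := K) r hrd
    obtain ⟨hxc, -⟩ := (hK _).mp x.2
    obtain ⟨j, hj⟩ := D.k_even
    refine D.exact_prime hG hr hr2 (x := (x : G)) (by rw [Subgroup.orderOf_coe, hx]) ?_
      (fun _ => klein_condition (y := D.σ ^ D.k) ?_ ?_)
    · rw [D.ht, pow_mul]; exact (hxc.pow_right D.k).symm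
    · rw [orderOf_pow' _ (by omega), D.hσ, Nat.gcd_eq_right (dvd_mul_left _ 4),
        Nat.mul_div_cancel _ (by omega)]
    · rw [hj, ← two_mul, pow_mul]; exact (hxc.pow_right j).symm
  have hoK : ∀ r : ℕ, r ∣ Nat.card D.O → r ∣ Nat.card K := fun r h => by
    rw [hKc']; exact h.trans (dvd_mul_right _ _)
  have hpN : ¬ D.p ∣ D.C.index := by
    by_cases hpK : D.p ∣ Nat.card K
    · exact hKprime _ D.hp.out D.hp2 hpK
    obtain ⟨x, hx, htx⟩ := hdvdC D.p ((dvd_mul_left _ _).trans (dvd_mul_right _ _)) D.hp.out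
    refine D.exact_prime hG D.hp.out D.hp2 hx htx fun _ => Or.inr fun V hV htV hVx => ?_
    set xC : D.C := ⟨x, Subgroup.mem_centralizer_singleton_iff.mpr htx.symm.eq⟩ with hxC
    have hxO : xC ∉ D.O := fun h => hpK (hoK _ (by
      rw [← hx, show orderOf x = orderOf xC from (Subgroup.orderOf_coe xC)]
      exact Subgroup.orderOf_dvd_natCard _ h))
    have hφx : orderOf (D.φ xC) = D.p := by
      refine ((Nat.dvd_prime D.hp.out).mp ?_).resolve_left fun h => ?_
      · exact (orderOf_map_dvd D.φ xC).trans (dvd_of_eq ((Subgroup.orderOf_coe xC).symm.trans hx))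
      · rcases (D.hker _).mp (orderOf_eq_one_iff.mp h) with h' | h'
        · exact hxO h'
        · refine Nat.two_dvd_ne_zero.mpr (Nat.odd_iff.mp D.hOodd)
            (dvd_trans ?_ (Subgroup.orderOf_dvd_natCard _ h'))
          have hc : Commute xC D.tC := Subgroup.mem_center_iff.mp D.tC_central _
          rw [hc.orderOf_mul_eq_mul_orderOf_of_coprime (by
            rw [D.tC_order, ← Subgroup.orderOf_coe, hx]
            exact ((Nat.coprime_primes D.hp.out Nat.prime_two).mpr D.hp2)), D.tC_order]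
          exact dvd_mul_left 2 _
    -- an involution of the four-group outside the kernel
    haveI := hV
    obtain ⟨i, hi1, hit⟩ : ∃ i : V, i ≠ 1 ∧ i ≠ ⟨D.t, htV⟩ := by
      by_contra hne
      push Not at hne
      have h4 := hV.card_four
      have hle : Nat.card V ≤ Nat.card ↥(Subgroup.zpowers (⟨D.t, htV⟩ : V)) :=
        Nat.card_le_card_of_injective (fun v => ⟨v, by
          by_cases h : v = 1
          · rw [h]; exact one_mem _
          · rw [hne v h]; exact Subgroup.mem_zpowers _⟩)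
          (fun a b h => by simpa using congrArg Subtype.val h)
      rw [Nat.card_zpowers, h4, Subgroup.orderOf_mk, D.ht2] at hle
      omega
    have hi2 : (i : G) * i = 1 := by
      have h1 := Monoid.pow_exponent_eq_one i
      rw [hV.exponent_two, pow_two] at h1
      exact congrArg Subtype.val h1
    have hit' : Commute (i : G) D.t := by
      letI := hV
      exact congrArg Subtype.val (mul_comm_of_exponent_two hV.exponent_two i ⟨D.t, htV⟩)
    set iC : D.C := ⟨i, Subgroup.mem_centralizer_singleton_iff.mpr hit'.eq⟩ with hiC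
    have hiC2 : iC * iC = 1 := Subtype.ext hi2
    have hodd : ∀ z : D.C, z ∈ D.O → z * z = 1 → z = 1 := fun z hz h => by
      refine orderOf_eq_one_iff.mp (Nat.eq_one_of_dvd_coprimes
        (Nat.prime_two.coprime_iff_not_dvd.mpr (Nat.two_dvd_ne_zero.mpr (Nat.odd_iff.mp D.hOodd)))
        (orderOf_dvd_of_pow_eq_one (by rw [pow_two]; exact h)) (Subgroup.orderOf_dvd_natCard _ hz))
    have hφi : D.φ iC ≠ 1 := by
      intro h
      rcases (D.hker _).mp h with h' | h'
      · exact hi1 (Subtype.ext (show (i : G) = 1 from congrArg Subtype.val (hodd _ h' hiC2)))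
      · refine hit (Subtype.ext ?_)
        have hc : Commute iC D.tC := Subtype.ext hit'.eq
        have h2 : iC * D.tC = D.tC * D.tC := by
          have h3 := hodd _ h' (by rw [hc.symm.mul_mul_mul_comm, hiC2, D.tC_sq, mul_one])
          rw [h3, D.tC_sq]
        show (i : G) = D.t
        exact congrArg Subtype.val (mul_right_cancel h2)
    have hmem : D.φ iC ∈ Subgroup.centralizer ({D.φ xC} : Set (PG (ZMod D.p))) := by
      refine Subgroup.mem_centralizer_singleton_iff.mpr ?_
      rw [← map_mul, ← map_mul]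
      exact congrArg D.φ (Subtype.ext (Subgroup.mem_centralizer_singleton_iff.mp (hVx i.2)))
    have h2d := Subgroup.orderOf_dvd_natCard _ hmem
    rw [card_cent_order_p D.hp2 hφx] at h2d
    have hord : orderOf (D.φ iC) = 2 := CfsgLib.Involutions.orderOf_eq_two_iff'.mpr
      ⟨by rw [← map_mul, hiC2, map_one], hφi⟩
    rw [hord] at h2d
    exact D.hp2 ((Nat.prime_dvd_prime_iff_eq Nat.prime_two D.hp.out).mp h2d).symm
  have hr : ∀ r : ℕ, r.Prime → r ≠ 2 → ((r : ℤ) ∣ D.q + 1 ∨ r ∣ o') → ¬ r ∣ D.C.index := by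
    rintro r hr hr2 (h | h)
    · refine hKprime r hr hr2 ?_
      have h1 : r ∣ Nat.card T := by
        rw [← dvd_abs, ← hTc] at h
        exact Int.natCast_dvd_natCast.mp h
      rw [hTB] at h1
      rw [hKc']
      refine dvd_mul_of_dvd_right ?_ _
      obtain ⟨e, he⟩ := D.hk
      refine ((Nat.coprime_primes hr Nat.prime_two).mpr hr2 |>.pow_right (e + 2)).dvd_of_dvd_mul_left ?_
      rwa [show 2 ^ (e + 2) = 2 * D.k by rw [he]; ring]
    · exact hKprime r hr hr2 (hoK r (h.trans ⟨_, hOc⟩))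
  have hqm : ∀ r : ℕ, (r : ℤ) ∣ D.q - 1 → r ∣ (D.p + 1) * D.p * (D.p - 1) := by
    intro r h
    rcases D.hq with e | e <;> rw [e] at h
    · refine dvd_mul_of_dvd_right (Int.natCast_dvd_natCast.mp ?_) _
      rwa [Nat.cast_sub D.hp.out.one_lt.le, Nat.cast_one]
    · refine dvd_mul_of_dvd_left (dvd_mul_of_dvd_left (Int.natCast_dvd_natCast.mp ?_) _) _
      rw [← Int.dvd_neg]
      push_cast
      rwa [show -((D.p : ℤ) + 1) = -(D.p : ℤ) - 1 by ring]
  have hr5 : ∀ r : ℕ, r.Prime → r ≠ 2 → r ≠ 3 → (r : ℤ) ∣ D.q - 1 → ¬ r ∣ D.C.index := by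
    intro r hr hr2 hr3 h
    obtain ⟨x, hx, htx⟩ := hdvdC r (hqm r h) hr
    exact D.exact_prime hG hr hr2 hx htx fun e => absurd e hr3
  have h9 : (3 : ℤ) ∣ D.q - 1 → ¬ 9 ∣ D.C.index := by
    intro h
    obtain ⟨x, hx, htx⟩ := hdvdC 3 (hqm 3 h) Nat.prime_three
    exact D.nine_not_dvd hG hx htx
  have ho : Odd o' := D.hOodd.of_dvd_nat ⟨_, hOc⟩
  obtain ⟨hq5, ho1, hN⟩ := SDArith.solve D.hp.out D.hp2 D.hq D.hq4 ho hσ
    (fun e => by rw [show 1 + σ = 0 by linarith] at hσ1; norm_num at hσ1) hd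
    (by exact_mod_cast heq) D.C.index_ne_zero_of_finite D.index_odd hpN hr hr5 h9
  refine ⟨hq5, fun o ho => ?_, hN⟩
  rw [ho1, one_mul] at hOc
  have hle : D.O.map D.C.subtype ≤ Subgroup.centralizer ({D.w} : Set G) := by
    refine inf_eq_left.mp (Subgroup.eq_of_le_of_card_ge inf_le_left ?_)
    rw [Subgroup.card_map_of_injective D.C.subtype_injective, hOc]
  exact Subtype.ext (Subgroup.mem_centralizer_singleton_iff.mp (hle ⟨o, ho, rfl⟩)).symm

end SDat

end CfsgLib.AlmostCyclic
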