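import Cfsg.Agent.Lib.AlmostCyclic.SDComb

/-!
# The members seen by the two rotation columns
-/

set_option autoImplicit false

namespace CfsgLib.AlmostCyclic

open Finset

universe u

variable {ι : Type u} [Fintype ι] [DecidableEq ι]

theorem abs_le_one_of_sq {a : ℤ} (h : a * a ≤ 3) : a = 0 ∨ a = 1 ∨ a = -1 := by
  have h1 : -2 < a ∧ a < 2 := ⟨by nlinarith, by nlinarith⟩
  omega

theorem sq_one_iff' {a : ℤ} : a * a = 1 ↔ a = 1 ∨ a = -1 := mul_self_eq_one_iff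

/-- An integral vector of norm two has two entries, each `±1`. -/
theorem two_supp (f : ι → ℤ) (h : ∑ χ, f χ * f χ = 2) :
    ∃ x y, x ≠ y ∧ f x * f x = 1 ∧ f y * f y = 1 ∧ ∀ z, z ≠ x → z ≠ y → f z = 0 := by
  have hS : ∀ z ∈ univ.filter (fun z => f z ≠ 0), f z * f z = 1 := by
    intro z hz
    have h1 : f z * f z ≤ 2 := h ▸ single_le_sum (f := fun i => f i * f i) (fun i _ => mul_self_nonneg _) (mem_univ z)
    rcases abs_le_one_of_sq (a := f z) (by omega) with e | e | e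
    · exact absurd e (mem_filter.1 hz).2
    · simp [e]
    · simp [e]
  have hc : (univ.filter (fun z => f z ≠ 0)).card = 2 := by
    rw [← sum_filter_of_ne (p := fun z => f z ≠ 0) (fun z _ hne e => hne (by rw [e, mul_zero])),
      sum_congr rfl hS, sum_const, nsmul_one] at h
    exact_mod_cast h
  obtain ⟨x, y, hxy, he⟩ := card_eq_two.1 hc
  refine ⟨x, y, hxy, hS x (by rw [he]; simp), hS y (by rw [he]; simp), fun z hzx hzy => ?_⟩
  by_contra hne
  have : z ∈ univ.filter (fun z => f z ≠ 0) := mem_filter.2 ⟨mem_univ z, hne⟩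
  rw [he] at this
  simp [hzx, hzy] at this

/-- Sums against a vector supported on two points. -/
theorem sum_two (f g : ι → ℤ) {x y : ι} (hxy : x ≠ y) (h0 : ∀ z, z ≠ x → z ≠ y → f z = 0) :
    ∑ χ, f χ * g χ = f x * g x + f y * g y := by
  rw [← sum_pair (f := fun χ => f χ * g χ) hxy]
  refine (sum_subset (subset_univ _) fun z _ hz => ?_).symm
  simp only [mem_insert, mem_singleton, not_or] at hz
  rw [h0 z hz.1 hz.2, zero_mul]

namespace Cols

variable (C : Cols ι)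

/-- The four members of odd first column and the member with second column two. -/
structure Frame where
  A : ι
  B : ι
  D : ι
  R : ι
  s : ℤ
  hs : s * s = 1
  hAo : A ≠ C.o
  hBo : B ≠ C.o
  hDo : D ≠ C.o
  hRo : R ≠ C.o
  hAB : A ≠ B
  hAD : A ≠ D
  hBD : B ≠ D
  hRA : R ≠ A
  hRB : R ≠ B
  hRD : R ≠ D
  uA : C.u A * C.u A = 1
  uB : C.u B * C.u B = 1
  uD : C.u D * C.u D = 1
  uR : C.u R = 0
  vA : C.v A = C.u A
  vB : C.v B = -C.u B
  vD : C.v D = -C.u D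
  vR : C.v R = 2 * s
  rest : ∀ χ, χ ≠ C.o → χ ≠ A → χ ≠ B → χ ≠ D → χ ≠ R → C.u χ = 0 ∧ C.v χ = 0

theorem exists_frame : Nonempty C.Frame := by
  set S := univ.erase C.o with hSdef
  have hu := C.uu
  have hv := C.vv
  have huv := C.uv
  rw [← add_sum_erase _ _ (mem_univ C.o), C.u_o] at hu huv
  rw [← add_sum_erase _ _ (mem_univ C.o), C.v_o] at hv
  rw [C.v_o] at huv
  have hbd : ∀ z ∈ S, C.u z * C.u z ≤ 3 := fun z hz => by
    have h1 := single_le_sum (f := fun i => C.u i * C.u i) (fun i _ => mul_self_nonneg _) hz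
    linarith
  have hsq : ∀ z ∈ S.filter (fun z => C.u z ≠ 0), C.u z * C.u z = 1 := fun z hz => by
    obtain ⟨h1, h2⟩ := mem_filter.1 hz
    rcases abs_le_one_of_sq (hbd z h1) with e | e | e
    · exact absurd e h2
    · simp [e]
    · simp [e]
  have hc : (S.filter (fun z => C.u z ≠ 0)).card = 3 := by
    rw [← sum_filter_of_ne (p := fun z => C.u z ≠ 0) (fun z _ hne e => hne (by rw [e, mul_zero])),
      sum_congr rfl hsq, sum_const, nsmul_one] at hu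
    have : ((S.filter (fun z => C.u z ≠ 0)).card : ℤ) = 3 := by linarith
    exact_mod_cast this
  obtain ⟨x, y, z, hxy, hxz, hyz, he⟩ := card_eq_three.1 hc
  have hm : ∀ w ∈ ({x, y, z} : Finset ι), w ≠ C.o ∧ C.u w * C.u w = 1 := fun w hw => by
    rw [← he] at hw
    exact ⟨ne_of_mem_erase (mem_filter.1 hw).1, hsq w hw⟩
  obtain ⟨hxo, hx1⟩ := hm x (by simp)
  obtain ⟨hyo, hy1⟩ := hm y (by simp)
  obtain ⟨hzo, hz1⟩ := hm z (by simp)
  have hu0 : ∀ w, w ≠ C.o → w ≠ x → w ≠ y → w ≠ z → C.u w = 0 := fun w h1 h2 h3 h4 => by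
    by_contra hne
    have : w ∈ S.filter (fun z => C.u z ≠ 0) := mem_filter.2 ⟨mem_erase.2 ⟨h1, mem_univ w⟩, hne⟩
    rw [he] at this
    simp [h2, h3, h4] at this
  set T := ((S.erase x).erase y).erase z with hT
  have split : ∀ f : ι → ℤ, ∑ i ∈ S, f i = f x + (f y + (f z + ∑ i ∈ T, f i)) := fun f => by
    rw [← add_sum_erase S f (mem_erase.2 ⟨hxo, mem_univ x⟩),
      ← add_sum_erase (S.erase x) f (mem_erase.2 ⟨hxy.symm, mem_erase.2 ⟨hyo, mem_univ y⟩⟩),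
      ← add_sum_erase _ f (mem_erase.2 ⟨hyz.symm,
        mem_erase.2 ⟨hxz.symm, mem_erase.2 ⟨hzo, mem_univ z⟩⟩⟩)]
  rw [split] at hv huv
  have hpar : ∀ w, C.u w * C.u w = 1 → (C.v w * C.v w = 1 ∨ 9 ≤ C.v w * C.v w) := fun w hw => by
    obtain ⟨c, hc'⟩ := C.u_v_parity w
    by_cases h3 : 3 ≤ C.v w ∨ C.v w ≤ -3
    · right; rcases h3 with h3 | h3 <;> nlinarith
    · left
      rcases sq_one_iff'.1 hw with e | e <;> rw [e] at hc' <;>
      · have : C.v w = 1 ∨ C.v w = -1 := by omega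
        rcases this with e' | e' <;> rw [e'] <;> norm_num
  have hT0 : 0 ≤ ∑ i ∈ T, C.v i * C.v i := sum_nonneg fun i _ => mul_self_nonneg _
  have hx2 := mul_self_nonneg (C.v x)
  have hy2 := mul_self_nonneg (C.v y)
  have hz2 := mul_self_nonneg (C.v z)
  have vx : C.v x * C.v x = 1 := (hpar x hx1).resolve_right fun h => by linarith
  have vy : C.v y * C.v y = 1 := (hpar y hy1).resolve_right fun h => by linarith
  have vz : C.v z * C.v z = 1 := (hpar z hz1).resolve_right fun h => by linarith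
  have hT4 : ∑ i ∈ T, C.v i * C.v i = 4 := by linarith
  have hTev : ∀ i ∈ T, C.v i = 0 ∨ C.v i = 2 ∨ C.v i = -2 := fun i hi => by
    have h1 := single_le_sum (f := fun i => C.v i * C.v i) (fun i _ => mul_self_nonneg _) hi
    simp only [hT, hSdef, mem_erase] at hi
    obtain ⟨c, hc'⟩ := C.u_v_parity i
    rw [hu0 i hi.2.2.2.1 hi.2.2.1 hi.2.1 hi.1] at hc'
    have h2 : -3 < C.v i ∧ C.v i < 3 := ⟨by nlinarith, by nlinarith⟩
    omega
  have hT1 : (T.filter fun i => C.v i ≠ 0).card = 1 := by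
    rw [← sum_filter_of_ne (p := fun z => C.v z ≠ 0) (fun z _ hne e => hne (by rw [e, mul_zero])),
      sum_congr rfl (g := fun _ => (4 : ℤ)) fun i hi => ?_, sum_const, nsmul_eq_mul] at hT4
    · have : ((T.filter fun i => C.v i ≠ 0).card : ℤ) = 1 := by linarith
      exact_mod_cast this
    · obtain ⟨h1, h2⟩ := mem_filter.1 hi
      rcases hTev i h1 with e | e | e
      · exact absurd e h2
      · simp [e]
      · simp [e]
  obtain ⟨R, hR⟩ := card_eq_one.1 hT1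
  obtain ⟨hRT, hRne⟩ := mem_filter.1 (show R ∈ T.filter fun i => C.v i ≠ 0 by rw [hR]; simp)
  obtain ⟨hRz, hRy, hRx, hRo, -⟩ : R ≠ z ∧ R ≠ y ∧ R ≠ x ∧ R ≠ C.o ∧ R ∈ (univ : Finset ι) := by
    simpa [hT, hSdef] using hRT
  have hrest : ∀ w, w ≠ C.o → w ≠ x → w ≠ y → w ≠ z → w ≠ R → C.u w = 0 ∧ C.v w = 0 := by
    intro w h1 h2 h3 h4 h5
    refine ⟨hu0 w h1 h2 h3 h4, ?_⟩
    by_contra hne
    have hw : w ∈ T.filter fun i => C.v i ≠ 0 := mem_filter.2 ⟨by simp [hT, hSdef, h1, h2, h3, h4], hne⟩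
    rw [hR, mem_singleton] at hw
    exact h5 hw
  obtain ⟨s, hs, hvR⟩ : ∃ s : ℤ, s * s = 1 ∧ C.v R = 2 * s := by
    rcases hTev R hRT with e | e | e
    · exact absurd e hRne
    · exact ⟨1, rfl, e⟩
    · exact ⟨-1, rfl, by rw [e]; rfl⟩
  have huR : C.u R = 0 := hu0 R hRo hRx hRy hRz
  have huvT : ∑ i ∈ T, C.u i * C.v i = 0 := sum_eq_zero fun i hi => by
    simp only [hT, hSdef, mem_erase] at hi
    rw [hu0 i hi.2.2.2.1 hi.2.2.1 hi.2.1 hi.1, zero_mul]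
  rw [huvT] at huv
  have hp : ∀ w, C.u w * C.u w = 1 → C.v w * C.v w = 1 →
      (C.u w * C.v w = 1 ∧ C.v w = C.u w) ∨ (C.u w * C.v w = -1 ∧ C.v w = -C.u w) := fun w h1 h2 => by
    rcases sq_one_iff'.1 h1 with a | a <;> rcases sq_one_iff'.1 h2 with b | b <;> rw [a, b] <;> norm_num
  rcases hp x hx1 vx with ⟨px, ex⟩ | ⟨px, ex⟩ <;> rcases hp y hy1 vy with ⟨py, ey⟩ | ⟨py, ey⟩ <;>
    rcases hp z hz1 vz with ⟨pz, ez⟩ | ⟨pz, ez⟩
  all_goals try (exfalso; omega)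
  · exact ⟨⟨x, y, z, R, s, hs, hxo, hyo, hzo, hRo, hxy, hxz, hyz, hRx, hRy, hRz, hx1, hy1, hz1,
      huR, ex, ey, ez, hvR, hrest⟩⟩
  · exact ⟨⟨y, x, z, R, s, hs, hyo, hxo, hzo, hRo, hxy.symm, hyz, hxz, hRy, hRx, hRz, hy1, hx1, hz1,
      huR, ey, ex, ez, hvR, fun w a b c d e => hrest w a c b d e⟩⟩
  · exact ⟨⟨z, x, y, R, s, hs, hzo, hxo, hyo, hRo, hxz.symm, hyz.symm, hxy, hRz, hRx, hRy, hz1, hx1, hy1,
      huR, ez, ex, ey, hvR, fun w a b c d e => hrest w a c d b e⟩⟩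

variable {C} (F : C.Frame)

/-- The members outside the five. -/
def Frame.Rest : Finset ι :=
  ((((univ.erase C.o).erase F.A).erase F.B).erase F.D).erase F.R

theorem Frame.mem_rest {χ : ι} :
    χ ∈ F.Rest ↔ χ ≠ C.o ∧ χ ≠ F.A ∧ χ ≠ F.B ∧ χ ≠ F.D ∧ χ ≠ F.R := by
  simp [Frame.Rest]; tauto

theorem Frame.split (f : ι → ℤ) :
    ∑ χ, f χ = f C.o + f F.A + f F.B + f F.D + f F.R + ∑ χ ∈ F.Rest, f χ := by
  rw [← add_sum_erase _ f (mem_univ C.o),
    ← add_sum_erase _ f (mem_erase.2 ⟨F.hAo, mem_univ _⟩),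
    ← add_sum_erase _ f (mem_erase.2 ⟨F.hAB.symm, mem_erase.2 ⟨F.hBo, mem_univ _⟩⟩),
    ← add_sum_erase _ f (mem_erase.2 ⟨F.hBD.symm, mem_erase.2 ⟨F.hAD.symm,
      mem_erase.2 ⟨F.hDo, mem_univ _⟩⟩⟩),
    ← add_sum_erase _ f (mem_erase.2 ⟨F.hRD, mem_erase.2 ⟨F.hRB, mem_erase.2 ⟨F.hRA,
      mem_erase.2 ⟨F.hRo, mem_univ _⟩⟩⟩⟩)]
  simp only [Frame.Rest]; ring

/-- The relations of a column orthogonal to the rotations. -/
theorem Frame.rel (f : ι → ℤ) (h1 : f C.o = 1)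
    (hf : ∀ a b, Ok C.k a b → ∑ χ, f χ * (C.m χ a - C.m χ b) = 0) :
    -C.u F.A * f F.A = 1 + F.s * f F.R ∧
      C.u F.B * f F.B + C.u F.D * f F.D = F.s * f F.R := by
  obtain ⟨hu, hv⟩ := C.orth_u f hf
  rw [F.split] at hu hv
  rw [sum_eq_zero fun χ hχ => by
    obtain ⟨a, b, c, d, e⟩ := F.mem_rest.1 hχ
    rw [(F.rest χ a b c d e).1, mul_zero], C.u_o, F.uR, h1] at hu
  rw [sum_eq_zero fun χ hχ => by
    obtain ⟨a, b, c, d, e⟩ := F.mem_rest.1 hχ
    rw [(F.rest χ a b c d e).2, mul_zero], C.v_o, F.vA, F.vB, F.vD, F.vR, h1] at hv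
  constructor <;> linarith

theorem deg_o : C.deg C.o = 1 := by
  rw [C.hdeg, sum_congr rfl fun j hj => C.hm0 j (mem_range.1 hj), sum_ite_eq', if_pos]
  exact mem_range.2 (by have := C.k2; omega)

theorem deg_ne (χ : ι) : C.deg χ ≠ 0 := by
  by_cases h : χ = C.o
  · rw [h, deg_o]; norm_num
  · intro e
    have := C.hd1 χ h
    rw [e] at this
    norm_num at this

end Cols

end CfsgLib.AlmostCyclic
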