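import Cfsg.Agent.Lib.AlmostCyclic.SDQuot
import Cfsg.Agent.Lib.Fusion.RankTwoSimple
import Cfsg.Agent.S1213

/-!
# Data of a simple group with almost cyclic, quasi-dihedral Sylow two-subgroups
-/

set_option autoImplicit false
set_option linter.style.haveILetI false
set_option linter.unusedSectionVars false

namespace CfsgLib.AlmostCyclic

open Subgroup Cfsg

universe u

/-- Everything the character computation needs to know about the group. -/
structure SDat (G : Type u) [Group G] where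
  k : ℕ
  hk : ∃ e, k = 2 ^ (e + 1)
  σ : G
  w : G
  t : G
  hσ : orderOf σ = 4 * k
  hw : orderOf w = 2
  hwσ : w * σ * w⁻¹ = σ ^ (2 * k - 1)
  ht : t = σ ^ (2 * k)
  ht2 : orderOf t = 2
  S : Sylow 2 G
  hQD : IsQuasiDihedral ↥(S : Subgroup G)
  hσS : σ ∈ (S : Subgroup G)
  hwS : w ∈ (S : Subgroup G)
  hS : Nat.card ↥(S : Subgroup G) = 8 * k
  hSC : (S : Subgroup G) ≤ Subgroup.centralizer ({t} : Set G)
  hone : ∀ a b : G, orderOf a = 2 → orderOf b = 2 → IsConj a b
  hfour : ∀ a b : G, orderOf a = 4 → orderOf b = 4 → IsConj a b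
  p : ℕ
  hp : Fact p.Prime
  hp2 : p ≠ 2
  q : ℤ
  hq : q = p ∨ q = -p
  hq4 : q % 4 = 3
  hk1 : (2 * k : ℤ) ∣ q + 1
  hk2 : ¬ (4 * k : ℤ) ∣ q + 1
  O : Subgroup ↥(Subgroup.centralizer ({t} : Set G))
  hOn : O.Normal
  hOodd : Odd (Nat.card O)
  φ : ↥(Subgroup.centralizer ({t} : Set G)) →* PG (ZMod p)
  hφ : Function.Surjective φ
  hker : ∀ a, φ a = 1 ↔ a ∈ O ∨ a * ⟨t, Subgroup.mem_centralizer_singleton_iff.mpr rfl⟩ ∈ O

/-- The two-part of `|PG|` determines the parameter. -/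
theorem exists_q {p : ℕ} [Fact p.Prime] (hp2 : p ≠ 2) {e : ℕ}
    (h1 : 2 ^ (e + 3) ∣ Nat.card (PG (ZMod p))) (h2 : ¬ 2 ^ (e + 4) ∣ Nat.card (PG (ZMod p))) :
    ∃ q : ℤ, (q = p ∨ q = -p) ∧ q % 4 = 3 ∧ (2 * (2 ^ (e + 1) : ℕ) : ℤ) ∣ q + 1 ∧
      ¬ (4 * (2 ^ (e + 1) : ℕ) : ℤ) ∣ q + 1 := by
  have hp := (Fact.out : p.Prime)
  have hcard : (Nat.card (PG (ZMod p)) : ℤ) = (p + 1) * p * (p - 1) := by
    rw [card_PG, ZMod.card, Nat.cast_mul, Nat.cast_mul, Nat.cast_sub hp.one_le]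
    push_cast
    rfl
  obtain ⟨m, hm⟩ := hp.odd_of_ne_two hp2
  have hz1 : ((2 ^ (e + 3) : ℕ) : ℤ) ∣ Nat.card (PG (ZMod p)) := Int.natCast_dvd_natCast.mpr h1
  have hz2 : ¬ ((2 ^ (e + 4) : ℕ) : ℤ) ∣ Nat.card (PG (ZMod p)) := fun h => h2 (Int.natCast_dvd_natCast.mp h)
  rw [hcard] at hz1 hz2
  push_cast at hz1 hz2 ⊢
  obtain ⟨q, hq, hq4⟩ : ∃ q : ℤ, (q = p ∨ q = -p) ∧ q % 4 = 3 := by
    rcases Nat.even_or_odd' m with ⟨j, rfl | rfl⟩
    · exact ⟨-p, Or.inr rfl, by rw [hm]; push_cast; omega⟩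
    · exact ⟨p, Or.inl rfl, by rw [hm]; push_cast; omega⟩
  obtain ⟨s, hs⟩ : ∃ s : ℤ, q = 4 * s + 3 := ⟨q / 4, by omega⟩
  set u : ℤ := if q = p then 1 else -1 with hu
  have hprod : ((p : ℤ) + 1) * p * ((p : ℤ) - 1) = u * ((q + 1) * q * (q - 1)) := by
    rcases hq with rfl | rfl
    · rw [hu, if_pos rfl]; ring
    · rw [hu, if_neg (by have := hp.pos; omega)]; ring
  have hu1 : u * u = 1 := by rw [hu]; split <;> norm_num
  have hdvd : ∀ x : ℤ, x ∣ ((p : ℤ) + 1) * p * ((p : ℤ) - 1) ↔ x ∣ (q + 1) * q * (q - 1) := fun x => by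
    rw [hprod]
    refine ⟨fun h => ?_, fun h => dvd_mul_of_dvd_right h u⟩
    have h' := dvd_mul_of_dvd_right h u
    rwa [← mul_assoc, hu1, one_mul] at h'
  rw [hdvd] at hz1 hz2
  have hodd : IsCoprime ((2 : ℤ) ^ (e + 2)) ((2 * s + 1) * q) := by
    refine IsCoprime.pow_left ?_
    rw [hs]
    refine IsCoprime.mul_right ⟨-s, 1, by ring⟩ ⟨-(2 * s + 1), 1, by ring⟩
  have e1 : (q + 1) * q * (q - 1) = 2 * ((q + 1) * ((2 * s + 1) * q)) := by rw [hs]; ring
  refine ⟨q, hq, hq4, ?_, ?_⟩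
  · rw [show (2 : ℤ) * 2 ^ (e + 1) = 2 ^ (e + 2) by ring]
    rw [e1, show (2 : ℤ) ^ (e + 3) = 2 * 2 ^ (e + 2) by ring, mul_dvd_mul_iff_left two_ne_zero] at hz1
    exact hodd.dvd_of_dvd_mul_right hz1
  · intro h
    refine hz2 ?_
    rw [e1, show (2 : ℤ) ^ (e + 4) = 2 * (4 * 2 ^ (e + 1)) by ring]
    exact mul_dvd_mul_left 2 (dvd_mul_of_dvd_left h _)

variable {G : Type u} [Group G] [Finite G] [IsSimpleGroup G]

/-- A simple group with quasi-dihedral Sylow two-subgroups and inductively known proper subgroups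
carries the data. -/
theorem exists_SDat (hind : Ind G) (S : Sylow 2 G) (hQD : IsQuasiDihedral ↥(S : Subgroup G)) :
    Nonempty (SDat G) := by
  haveI := Fact.mk Nat.prime_two
  obtain ⟨n, hn, hcard, d, hM⟩ := CfsgLib.QD.exists_data hQD
  set e := n - 3 with he
  have hM' : d.M = 2 ^ e := hM
  set k := 2 * d.M with hk
  have hk' : k = 2 ^ (e + 1) := by rw [hk, hM', pow_succ']
  have hcS : Nat.card ↥(S : Subgroup G) = 8 * k := by rw [d.hcard, hk]; ring
  have hcS' : Nat.card ↥(S : Subgroup G) = 2 ^ (e + 4) := by rw [hcS, hk']; ring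
  have h16 : 16 ∣ Nat.card G :=
    (show 16 ∣ Nat.card ↥(S : Subgroup G) by rw [hcS']; exact pow_dvd_pow 2 (show 4 ≤ e + 4 by omega)).trans
      (Subgroup.card_subgroup_dvd_card _)
  obtain ⟨hI, hF⟩ := CfsgLib.RankTwoSimple.classes_of_quasiDihedral S hQD h16
  have h4G : 4 ≤ Nat.card G := le_trans (by norm_num) (Nat.le_of_dvd Nat.card_pos h16)
  set σ : G := ((d.x : (S : Subgroup G)) : G) with hσdef
  set w : G := ((d.y : (S : Subgroup G)) : G) with hwdef
  set t : G := ((d.z : (S : Subgroup G)) : G) with htdef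
  have hσ : orderOf σ = 4 * k := by rw [hσdef, Subgroup.orderOf_coe, d.hx, hk]; ring
  have hw : orderOf w = 2 := by rw [hwdef, Subgroup.orderOf_coe, d.hy]
  have hwσ : w * σ * w⁻¹ = σ ^ (2 * k - 1) := by
    have h := congrArg Subtype.val d.hxy
    have hc : ((2 * k - 1 : ℕ) : ℤ) = 4 * (d.M : ℤ) - 1 := by
      rw [Nat.cast_sub (by have := d.hM; omega), hk]; push_cast; ring
    rw [← zpow_natCast, hc]
    simpa using h
  have ht : t = σ ^ (2 * k) := by
    rw [htdef, hσdef, CfsgLib.QD.Data.z, Subgroup.coe_zpow, ← zpow_natCast]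
    congr 1
    rw [hk]
    push_cast
    ring
  have ht2 : orderOf t = 2 := by rw [htdef, Subgroup.orderOf_coe, CfsgLib.QD.orderOf_z]
  have hwt : w ≠ t := fun h =>
    CfsgLib.QD.y_not_mem d ((Subtype.ext h : d.y = d.z) ▸ CfsgLib.QD.z_mem_X d)
  have hSC : (S : Subgroup G) ≤ Subgroup.centralizer ({t} : Set G) := fun g hg =>
    Subgroup.mem_centralizer_singleton_iff.mpr
      (congrArg Subtype.val (Subgroup.mem_center_iff.mp (CfsgLib.QD.z_central d) ⟨g, hg⟩))
  set C := Subgroup.centralizer ({t} : Set G) with hC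
  have hCne : C ≠ ⊤ := by
    intro h
    have hz : t ∈ Subgroup.center G := Subgroup.mem_center_iff.mpr fun g =>
      Subgroup.mem_centralizer_singleton_iff.mp (show g ∈ C by rw [h]; exact Subgroup.mem_top g)
    rcases Subgroup.Normal.eq_bot_or_eq_top (inferInstance : (Subgroup.center G).Normal) with hb | hb
    · rw [hb, Subgroup.mem_bot] at hz
      rw [hz, orderOf_one] at ht2
      norm_num at ht2
    · have hc : w * σ = σ * w := (Subgroup.mem_center_iff.mp (hb ▸ Subgroup.mem_top σ) w)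
      rw [hc, mul_inv_cancel_right] at hwσ
      nth_rewrite 1 [← pow_one σ] at hwσ
      rw [pow_eq_pow_iff_modEq, hσ] at hwσ
      have := hwσ.eq_of_lt_of_lt (by have := d.hM; omega) (by have := d.hM; omega)
      have := d.hM
      omega
  let SC : Sylow 2 C := S.subtype hSC
  have hSCc : (SC : Subgroup C) = (S : Subgroup G).subgroupOf C := Sylow.coe_subtype ..
  have hQDC : IsQuasiDihedral (SC : Subgroup C) := by
    rw [hSCc]
    exact qd_congr (Subgroup.subgroupOfEquivOfLe hSC).symm hQD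
  have htC : t ∈ C := Subgroup.mem_centralizer_singleton_iff.mpr rfl
  have htc : (⟨t, htC⟩ : C) ∈ Subgroup.center C := Subgroup.mem_center_iff.mpr fun g =>
    Subtype.ext (Subgroup.mem_centralizer_singleton_iff.mp g.2)
  have ht2' : orderOf (⟨t, htC⟩ : C) = 2 := by rw [Subgroup.orderOf_mk, ht2]
  obtain ⟨p, hp, hp2, O, hOn, ψ, hO, hψ, hψk⟩ : ∃ (p : ℕ) (_ : Fact p.Prime) (_ : p ≠ 2)
      (O : Subgroup C) (_ : O.Normal) (ψ : C →* PG (ZMod p)), Odd (Nat.card O) ∧ Function.Surjective ψ ∧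
      ∀ a, ψ a = 1 ↔ a ∈ O ∨ a * ⟨t, htC⟩ ∈ O := by
    by_cases hsol : Group.IsSolvable C
    · have hne : ∀ a : ℕ, (oddCore C).index ≠ 2 ^ a := by
        intro a ha
        obtain ⟨R, -, ⟨K, hKn, -, hK2, hKq⟩, -⟩ := Cfsg.Agent.S1213.result S (Or.inl hQD)
          (fun H hH => CfsgLib.RankTwoSimple.not_index_two h4G (Subgroup.normal_of_index_eq_two hH) hH) t ht2
        obtain ⟨P⟩ : Nonempty (Sylow 2 K) := inferInstance
        obtain ⟨m, -, ⟨eP⟩⟩ := hKq P
        haveI := hKn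
        haveI : ((oddCore C).subgroupOf K).Normal := inferInstance
        obtain ⟨i, hia, hi⟩ : ∃ i ≤ a, ((oddCore C).subgroupOf K).index = 2 ^ i := by
          refine (Nat.dvd_prime_pow Nat.prime_two).mp ?_
          rw [← ha]
          exact Subgroup.relIndex_dvd_index_of_normal (oddCore C) K
        have hi0 : i ≠ 0 := by
          intro h0
          rw [h0, pow_zero, Subgroup.index_eq_one, Subgroup.subgroupOf_eq_top] at hi
          have hK : Nat.card K ∣ Nat.card (oddCore C) := Subgroup.card_dvd_of_le hi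
          have h2 : 2 ∣ Nat.card K := by
            refine dvd_trans ?_ (Subgroup.card_subgroup_dvd_card (P : Subgroup K))
            rw [Nat.card_congr eP.toEquiv, Nat.card_eq_fintype_card, QuaternionGroup.card]
            exact ⟨2 * 2 ^ m, by ring⟩
          exact Nat.not_even_iff_odd.mpr CfsgLib.odd_card_oddCore (even_iff_two_dvd.mpr (h2.trans hK))
        obtain ⟨H, hH⟩ := Sylow.exists_subgroup_card_pow_prime 2 (n := i - 1)
          (G := K ⧸ (oddCore C).subgroupOf K)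
          (by rw [← Subgroup.index_eq_card, hi]; exact pow_dvd_pow 2 (Nat.sub_le i 1))
        refine hK2 (H.comap (QuotientGroup.mk' _)) ?_
        rw [Subgroup.index_comap_of_surjective _ (QuotientGroup.mk'_surjective _)]
        have h1 := H.card_mul_index
        rw [hH, ← Subgroup.index_eq_card, hi] at h1
        refine Nat.eq_of_mul_eq_mul_left (pow_pos two_pos (i - 1)) (h1.trans ?_)
        rw [← pow_succ]
        congr 1
        omega
      obtain ⟨O, hOn, h3, ψ, h⟩ := solvable_quot SC hQDC ht2'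
        (by rw [hSCc]; exact (d.z : (S : Subgroup G)).2) htc hne
      exact ⟨3, h3, by norm_num, O, hOn, ψ, h⟩
    · obtain ⟨D⟩ := (hind C hCne hsol).dec
      obtain ⟨O, hOn, hp, ψ, h⟩ := nonsolvable_quot SC hQDC ht2' htc
        (w := ⟨w, hSC (d.y : (S : Subgroup G)).2⟩) (by rw [Subgroup.orderOf_mk, hw])
        (fun h => hwt (congrArg (fun z : C => (z : G)) h))
        ⟨⟨σ ^ k, hSC (pow_mem (d.x : (S : Subgroup G)).2 k)⟩, Subtype.ext (by
          show σ ^ k * σ ^ k = t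
          rw [ht, ← pow_add, two_mul])⟩ D
      exact ⟨D.p, hp, by have := D.hp5; omega, O, hOn, ψ, h⟩
  haveI := hp
  let P := SC.mapSurjective hψ
  have hinter : Nat.card (P : Subgroup (PG (ZMod p))) * 2 = Nat.card (SC : Subgroup C) := by
    have hP : (P : Subgroup (PG (ZMod p))) = (SC : Subgroup C).map ψ := Sylow.coe_mapSurjective ..
    have h1 := Subgroup.card_eq_card_quotient_mul_card_subgroup (ψ.subgroupMap (SC : Subgroup C)).ker
    rw [Nat.card_congr (QuotientGroup.quotientKerEquivOfSurjective _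
      (ψ.subgroupMap_surjective (SC : Subgroup C))).toEquiv] at h1
    rw [h1, hP]
    congr 1
    symm
    rw [Nat.card_eq_two_iff]
    have htSC : (⟨t, htC⟩ : C) ∈ (SC : Subgroup C) := by rw [hSCc]; exact (d.z : (S : Subgroup G)).2
    have hodd : ∀ x ∈ (SC : Subgroup C), x ∈ O → x = 1 := by
      intro x hx hxO
      obtain ⟨i, hi⟩ := IsPGroup.iff_orderOf.mp SC.2 ⟨x, hx⟩
      rw [Subgroup.orderOf_mk] at hi
      have h2 : orderOf x ∣ Nat.card O := by rw [← Subgroup.orderOf_mk x hxO]; exact orderOf_dvd_natCard _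
      rcases Nat.eq_zero_or_pos i with rfl | hi0
      · exact orderOf_eq_one_iff.mp hi
      · exact absurd (even_iff_two_dvd.mpr (((dvd_pow_self 2 (by omega)).trans hi.symm.dvd).trans h2))
          (Nat.not_even_iff_odd.mpr hO)
    have htk : ψ ⟨t, htC⟩ = 1 := (hψk _).mpr (Or.inr (by
      have htt : (⟨t, htC⟩ : C) * ⟨t, htC⟩ = 1 := CfsgLib.Involutions.mul_self_eq_one_of_orderOf ht2'
      rw [htt]; exact one_mem _))
    refine ⟨1, ⟨⟨_, htSC⟩, Subtype.ext htk⟩, fun h => ?_, Set.eq_univ_of_forall fun x => ?_⟩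
    · have := congrArg (fun z : (ψ.subgroupMap (SC : Subgroup C)).ker => (((z : (SC : Subgroup C)) : C) : G)) h
      simp only [Subgroup.coe_one] at this
      rw [← this, orderOf_one] at ht2
      norm_num at ht2
    · rcases (hψk _).mp (congrArg Subtype.val x.2) with h | h
      · exact Or.inl (Subtype.ext (Subtype.ext (hodd _ x.1.2 h)))
      · refine Or.inr (Subtype.ext (Subtype.ext ?_))
        have h2 := hodd _ (mul_mem x.1.2 htSC) h
        have htt : (⟨t, htC⟩ : C) * ⟨t, htC⟩ = 1 := CfsgLib.Involutions.mul_self_eq_one_of_orderOf ht2'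
        exact mul_right_cancel (h2.trans htt.symm)
  have hPc : Nat.card (P : Subgroup (PG (ZMod p))) = 2 ^ (e + 3) := by
    rw [Nat.card_congr (show (SC : Subgroup C) ≃ (S : Subgroup G) from
      (Equiv.setCongr (by rw [hSCc])).trans (Subgroup.subgroupOfEquivOfLe hSC).toEquiv), hcS',
      pow_succ 2 (e + 3)] at hinter
    omega
  obtain ⟨q, hq, hq4, hk1, hk2⟩ := exists_q (p := p) hp2 (e := e)
    (hPc ▸ Subgroup.card_subgroup_dvd_card _) (fun h => by
      have hm := (Nat.Prime.pow_dvd_iff_le_factorization Nat.prime_two Nat.card_pos.ne').mp h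
      rw [Sylow.card_eq_multiplicity] at hPc
      have := Nat.pow_right_injective le_rfl hPc
      omega)
  rw [← hk'] at hk1 hk2
  exact ⟨⟨k, ⟨e, hk'⟩, σ, w, t, hσ, hw, hwσ, ht, ht2, S, hQD, (d.x : (S : Subgroup G)).2,
    (d.y : (S : Subgroup G)).2, hcS, hSC,
    fun a b ha hb => CfsgLib.RankTwoSimple.isConj_of_card_classes hI ha hb,
    fun a b ha hb => CfsgLib.RankTwoSimple.isConj_of_card_classes hF ha hb,
    p, hp, hp2, q, hq, hq4, hk1, hk2, O, hOn, hO, ψ, hψ, hψk⟩⟩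

end CfsgLib.AlmostCyclic
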