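import Cfsg.Agent.Lib.AlmostCyclic.SDLocal

/-!
# No simple group of this kind has quasi-dihedral Sylow two-subgroups
-/

set_option autoImplicit false
set_option linter.style.haveILetI false
set_option linter.unusedSectionVars false

namespace CfsgLib.AlmostCyclic

open Cfsg CfsgLib.GL2Char

universe u

variable {G : Type u} [Group G] [Finite G]

namespace SDat

variable (D : SDat G)

/-- Elements of the Sylow two-subgroup are rotations or reflections. -/
theorem S_cases {s : G} (hs : s ∈ (D.S : Subgroup G)) :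
    ∃ i : ℤ, s = D.σ ^ i ∨ s = D.σ ^ i * D.w := by
  obtain ⟨d, hdx, hdy, -⟩ := D.exists_dat
  obtain ⟨i, hi | hi⟩ := CfsgLib.QD.cases_elem d ⟨s, hs⟩
  · exact ⟨i, Or.inl (by have := congrArg Subtype.val hi; simpa [hdx] using this)⟩
  · exact ⟨i, Or.inr (by have := congrArg Subtype.val hi; simpa [hdx, hdy] using this)⟩

/-- If the outer involution centralises the odd core then so does the Sylow two-subgroup. -/
theorem S_centralizes_O (hG : AC G) (hw : ∀ o ∈ D.O, Commute D.wC o) :
    ∀ s : D.C, (s : G) ∈ (D.S : Subgroup G) → ∀ o ∈ D.O, Commute s o := by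
  haveI := D.hOn
  have hk := D.two_le
  obtain ⟨j, hj⟩ := D.k_even
  set H := Subgroup.centralizer (D.O : Set D.C) with hH
  have hHn : H.Normal := inferInstance
  have h2 : D.sC ^ 2 ∈ H := fun o ho => (D.sq_centralizes_O hG o ho).eq.symm
  have hwH : D.wC ∈ H := fun o ho => (hw o ho).eq.symm
  have hkH : D.sC ^ D.k ∈ H := by rw [hj, ← two_mul, pow_mul]; exact pow_mem h2 j
  -- the two classes of elements of order four
  have ho1 : orderOf (D.σ ^ D.k) = 4 := by
    rw [orderOf_pow' _ (by omega), D.hσ, Nat.gcd_eq_right (dvd_mul_left _ 4),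
      Nat.mul_div_cancel _ (by omega)]
  have hsq : (D.w * D.σ) ^ 2 = D.t := by
    have hw2 : D.w * D.w = 1 := CfsgLib.Involutions.mul_self_eq_one_of_orderOf D.hw
    calc (D.w * D.σ) ^ 2 = D.w * D.σ * D.w⁻¹ * (D.w * D.w) * D.σ := by rw [pow_two]; group
      _ = D.t := by
        rw [D.hwσ, hw2, mul_one, ← pow_succ, D.ht, show 2 * D.k - 1 + 1 = 2 * D.k by omega]
  have ho2 : orderOf (D.w * D.σ) = 4 := by
    haveI := Fact.mk Nat.prime_two
    refine orderOf_eq_prime_pow (p := 2) (n := 1) ?_ ?_
    · rw [pow_one, hsq]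
      exact fun h => by have := D.ht2; rw [h, orderOf_one] at this; norm_num at this
    · rw [show 2 ^ (1 + 1) = 2 * 2 from rfl, pow_mul, hsq, ← D.ht2, pow_orderOf_eq_one]
  obtain ⟨g, hg⟩ := isConj_iff.mp (D.hfour _ _ ho1 ho2)
  have hgC : g ∈ D.C := by
    refine Subgroup.mem_centralizer_singleton_iff.mpr ?_
    have h := congrArg (· ^ 2) hg
    simp only [conj_pow, hsq, ← pow_mul] at h
    rw [mul_comm D.k 2, ← D.ht] at h
    exact mul_inv_eq_iff_eq_mul.mp h
  have hwsH : D.wC * D.sC ∈ H := by
    have h := hHn.conj_mem _ hkH ⟨g, hgC⟩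
    have e : (⟨g, hgC⟩ : D.C) * D.sC ^ D.k * (⟨g, hgC⟩ : D.C)⁻¹ = D.wC * D.sC :=
      Subtype.ext (by simp only [Subgroup.coe_mul, Subgroup.coe_inv, sC_pow]; exact hg)
    rwa [e] at h
  have hsH : D.sC ∈ H := by
    have := H.mul_mem (H.inv_mem hwH) hwsH
    rwa [inv_mul_cancel_left] at this
  intro s hs o ho
  suffices s ∈ H from (this o ho).symm
  obtain ⟨i, hi | hi⟩ := D.S_cases hs
  · rw [show s = D.sC ^ i from Subtype.ext (by rw [Subgroup.coe_zpow]; exact hi)]
    exact zpow_mem hsH i
  · rw [show s = D.sC ^ i * D.wC from Subtype.ext (by rw [Subgroup.coe_mul, Subgroup.coe_zpow]; exact hi)]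
    exact H.mul_mem (zpow_mem hsH i) hwH

/-- If the outer involution centralises the odd core, and `p ≥ 5`, then the odd core is trivial. -/
theorem O_trivial [IsSimpleGroup G] (hG : AC G) (hind : Ind G) (hw : ∀ o ∈ D.O, Commute D.wC o)
    (hp5 : 5 ≤ D.p) : Nat.card D.O = 1 := by
  haveI := D.hp
  haveI := D.hOn
  haveI h2 : Fact (Nat.Prime 2) := ⟨Nat.prime_two⟩
  have hk := D.two_le
  by_contra hne
  set r := (Nat.card D.O).minFac with hr
  have hrp : r.Prime := Nat.minFac_prime hne
  have hrd : r ∣ Nat.card D.O := Nat.minFac_dvd _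
  haveI := Fact.mk hrp
  have hr2 : r ≠ 2 := fun e => Nat.two_dvd_ne_zero.mpr (Nat.odd_iff.mp D.hOodd) (e ▸ hrd)
  obtain ⟨Q⟩ : Nonempty (Sylow r D.O) := inferInstance
  obtain ⟨y, hy⟩ := exists_prime_orderOf_dvd_card' (G := (Q : Subgroup D.O)) r (by
    rw [Sylow.card_eq_multiplicity]
    exact dvd_pow_self r (hrp.factorization_pos_of_dvd Nat.card_pos.ne' hrd).ne')
  set QC := (Q : Subgroup D.O).map D.O.subtype with hQC
  set yC : D.C := ((y : D.O) : D.C) with hyC
  have hyO : yC ∈ D.O := (y : D.O).2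
  have hyo : orderOf yC = r := by rw [hyC, Subgroup.orderOf_coe, Subgroup.orderOf_coe, hy]
  set Z := Subgroup.zpowers yC with hZ
  set Nc := Subgroup.normalizer (Z : Set D.C) with hNc
  -- the normaliser covers the quotient by the odd core
  have hQle : Subgroup.normalizer (QC : Set D.C) ≤ Nc := by
    haveI : IsCyclic QC := (hG.subgroup D.C).isCyclic_pGroup hrp hr2 (Q.isPGroup'.map _)
    have hyQ : yC ∈ QC := ⟨(y : D.O), y.2, rfl⟩
    have key : ∀ g ∈ Subgroup.normalizer (QC : Set D.C), g * yC * g⁻¹ ∈ Z := by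
      intro g hg
      let e : ↥QC ≃* ↥QC := QC.normalizerMonoidHom ⟨g, hg⟩
      have e1 : Subgroup.zpowers (e ⟨yC, hyQ⟩) = Subgroup.zpowers (⟨yC, hyQ⟩ : ↥QC) :=
        CfsgLib.PowerGraph.subgroup_eq_of_card (by
          rw [Nat.card_zpowers, Nat.card_zpowers, MulEquiv.orderOf_eq])
      obtain ⟨i, hi⟩ := (e1 ▸ Subgroup.mem_zpowers (e ⟨yC, hyQ⟩) :
        e ⟨yC, hyQ⟩ ∈ Subgroup.zpowers (⟨yC, hyQ⟩ : ↥QC))
      exact ⟨i, congrArg Subtype.val hi⟩
    have key' : ∀ g ∈ Subgroup.normalizer (QC : Set D.C), ∀ x ∈ Z, g * x * g⁻¹ ∈ Z := by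
      rintro g hg _ ⟨i, rfl⟩
      show g * yC ^ i * g⁻¹ ∈ Z
      rw [← conj_zpow]
      exact zpow_mem (key g hg) i
    intro g hg
    rw [hNc, Subgroup.mem_normalizer_iff]
    refine fun x => ⟨key' g hg x, fun hx => ?_⟩
    simpa [mul_assoc] using key' g⁻¹ (inv_mem hg) _ hx
  have hsurj : ∀ x : PG (ZMod D.p), ∃ a ∈ Nc, D.φ a = x := by
    intro x
    obtain ⟨c, rfl⟩ := D.hφ x
    have htop := Q.normalizer_sup_eq_top
    obtain ⟨a, ha, b, hb, rfl⟩ := Subgroup.mem_sup_of_normal_right.mp
      (show c ∈ Subgroup.normalizer (QC : Set D.C) ⊔ D.O by rw [hQC, htop]; trivial)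
    exact ⟨a, hQle ha, by rw [map_mul, (D.hker b).mpr (Or.inl hb), mul_one]⟩
  -- every element of the normaliser centralises `y`
  have hScent := D.S_centralizes_O hG hw
  set f := Z.normalizerMonoidHom with hf
  have hfker : ∀ a : Nc, f a = 1 ↔ Commute (a : D.C) yC := by
    intro a
    have e : Subgroup.centralizer (Z : Set D.C) = Subgroup.centralizer ({yC} : Set D.C) := by
      rw [hZ, Subgroup.zpowers_eq_closure, Subgroup.centralizer_closure]
    rw [← MonoidHom.mem_ker, hf, Subgroup.normalizerMonoidHom_ker, Subgroup.mem_subgroupOf, e,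
      Subgroup.mem_centralizer_singleton_iff]
    rfl
  haveI : IsCyclic Z := inferInstance
  have hkerO : ∀ a : Nc, (a : D.C) ∈ D.O → f a = 1 := by
    intro a ha
    refine orderOf_eq_one_iff.mp (Nat.eq_one_of_dvd_coprimes (a := Nat.card D.O) (b := r - 1) ?_
      ((orderOf_map_dvd f a).trans (by
        rw [← Subgroup.orderOf_coe]; exact Subgroup.orderOf_dvd_natCard _ ha)) ?_)
    · refine Nat.coprime_of_dvd' fun l hl hlo hlr => ?_
      have h1 : r ≤ l := Nat.minFac_le_of_dvd hl.two_le hlo
      have h4 := hrp.two_le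
      have h3 := Nat.le_of_dvd (by omega) hlr
      omega
    · have h := orderOf_dvd_natCard (f a)
      rwa [IsCyclic.card_mulAut, show Nat.card Z = r from (Nat.card_zpowers yC).trans hyo,
        Nat.totient_prime hrp] at h
  have hsq : ∀ a : Nc, f a * f a = 1 := by
    intro a
    obtain ⟨x, hx⟩ := isConj_iff.mp (pg_real D.hp2 (D.φ a))
    obtain ⟨b, hb, rfl⟩ := hsurj x
    set n : Nc := ⟨b, hb⟩ * a * ⟨b, hb⟩⁻¹ * a with hn
    have hfn : f n = f a * f a := by
      rw [hn, map_mul, map_mul, map_mul, map_inv, mulAut_comm (f ⟨b, hb⟩), mul_inv_cancel_right]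
    have hφn : D.φ (n : D.C) = 1 := by
      rw [hn]
      simp only [Subgroup.coe_mul, Subgroup.coe_inv, map_mul, map_inv]
      rw [hx, inv_mul_cancel]
    rw [← hfn]
    rcases (D.hker _).mp hφn with h | h
    · exact hkerO n h
    · have hy' : Commute ((n : D.C) * D.tC) yC := by
        have htn : (n : D.C) * D.tC ∈ Nc :=
          mul_mem n.2 (Subgroup.centralizer_le_normalizer _ (fun z _ =>
            Subgroup.mem_center_iff.mp D.tC_central z))
        exact (hfker ⟨_, htn⟩).mp (hkerO ⟨_, htn⟩ h)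
      refine (hfker n).mpr ?_
      have := hy'.mul_left (Subgroup.mem_center_iff.mp D.tC_central yC :
        Commute yC D.tC).symm
      rwa [mul_assoc, D.tC_sq, mul_one] at this
  have hcent : ∀ a ∈ Nc, Commute a yC := by
    intro a ha
    refine (hfker ⟨a, ha⟩).mp (orderOf_eq_one_iff.mp ?_)
    have hSN : (D.S : Subgroup G).subgroupOf D.C ≤ Nc := fun s hs =>
      Subgroup.centralizer_le_normalizer _ (fun z hz => by
        obtain ⟨i, rfl⟩ := hz
        exact ((hScent s hs yC hyO).zpow_right i).eq.symm)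
    have hle : ((D.S : Subgroup G).subgroupOf D.C).subgroupOf Nc ≤ f.ker := fun s hs =>
      MonoidHom.mem_ker.mpr ((hfker s).mpr (hScent (s : D.C) hs yC hyO))
    have hodd : ¬ 2 ∣ Nat.card f.range := by
      intro h
      rw [← Subgroup.index_ker] at h
      have h' := h.trans (Subgroup.index_dvd_of_le hle)
      let SC : Sylow 2 D.C := D.S.subtype D.hSC
      have hSC : (SC : Subgroup D.C) = (D.S : Subgroup G).subgroupOf D.C := Sylow.coe_subtype ..
      let SN : Sylow 2 Nc := SC.subtype (hSC.symm ▸ hSN)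
      have hSN' : (SN : Subgroup Nc) = ((D.S : Subgroup G).subgroupOf D.C).subgroupOf Nc := by
        rw [← hSC]; exact Sylow.coe_subtype ..
      rw [← hSN'] at h'
      exact SN.not_dvd_index h'
    rcases (Nat.dvd_prime Nat.prime_two).mp
      (orderOf_dvd_of_pow_eq_one (x := f ⟨a, ha⟩) (n := 2) (by rw [pow_two]; exact hsq ⟨a, ha⟩)) with h | h
    · exact h
    · refine absurd ((h.symm.dvd).trans ?_) hodd
      exact Subgroup.orderOf_dvd_natCard f.range (x := f ⟨a, ha⟩) ⟨_, rfl⟩
  -- the normaliser in `G` lies in the centraliser of `t`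
  set z : G := (yC : G) with hzdef
  have hzo : orderOf z = r := by rw [hzdef, Subgroup.orderOf_coe, hyo]
  set Mz := Subgroup.normalizer (Subgroup.zpowers z : Set G) with hMz
  have hMne : Mz ≠ ⊤ := by
    intro h
    have hn : (Subgroup.zpowers z).Normal := Subgroup.normalizer_eq_top_iff.mp h
    rcases hn.eq_bot_or_eq_top with e | e
    · rw [Subgroup.zpowers_eq_bot] at e
      rw [e, orderOf_one] at hzo
      exact hrp.one_lt.ne hzo
    · have h1 := Subgroup.orderOf_dvd_natCard (Subgroup.zpowers z) (show D.t ∈ Subgroup.zpowers z by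
        rw [e]; trivial)
      rw [D.ht2, Nat.card_zpowers, hzo] at h1
      exact hr2 ((Nat.prime_dvd_prime_iff_eq Nat.prime_two hrp).mp h1).symm
  have hNcM : ∀ a ∈ Nc, (a : G) ∈ Mz := by
    intro a ha
    refine Subgroup.centralizer_le_normalizer _ ?_
    rintro _ ⟨i, rfl⟩
    exact ((show Commute z (a : G) from (congrArg Subtype.val (hcent a ha).eq).symm).zpow_left i).eq
  have hSM : ∀ s ∈ (D.S : Subgroup G), s ∈ Mz := fun s hs =>
    hNcM ⟨s, D.hSC hs⟩ (Subgroup.centralizer_le_normalizer _ (fun x hx => by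
      obtain ⟨i, rfl⟩ := hx
      exact ((hScent ⟨s, D.hSC hs⟩ hs yC hyO).zpow_right i).eq.symm))
  have hMns : ¬ Group.IsSolvable Mz := by
    intro h
    refine pg_not_solvable hp5 ?_
    let g : ↥(Mz.subgroupOf D.C) →* PG (ZMod D.p) := D.φ.comp (Mz.subgroupOf D.C).subtype
    have hg : Function.Surjective g := fun x => by
      obtain ⟨a, ha, rfl⟩ := hsurj x
      exact ⟨⟨a, Subgroup.mem_subgroupOf.mpr (hNcM a ha)⟩, rfl⟩
    let ι : ↥(Mz.subgroupOf D.C) →* Mz :=
      { toFun := fun a => ⟨((a : D.C) : G), Subgroup.mem_subgroupOf.mp a.2⟩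
        map_one' := rfl
        map_mul' := fun _ _ => rfl }
    haveI : Group.IsSolvable ↥(Mz.subgroupOf D.C) := solvable_of_solvable_injective (f := ι)
      (fun a b e => Subtype.ext (Subtype.ext (congrArg Subtype.val e :)))
    exact solvable_of_surjective hg
  have hMC : Mz ≤ D.C := by
    obtain ⟨E⟩ := (hind Mz hMne hMns).dec
    haveI := Fact.mk E.hp
    haveI := E.hL
    let sM : Mz := ⟨D.σ, hSM _ D.hσS⟩
    let wM : Mz := ⟨D.w, hSM _ D.hwS⟩
    let tM : Mz := ⟨D.t, hSM _ (by rw [D.ht]; exact pow_mem D.hσS _)⟩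
    have htsM : tM = (sM ^ 2) ^ D.k := Subtype.ext (by
      show D.t = (D.σ ^ 2) ^ D.k
      rw [D.ht, pow_mul])
    have hXn := E.hX
    have htXL : tM ∈ E.X ⊔ E.L := by
      rw [htsM]
      refine pow_mem ?_ _
      rcases (Nat.dvd_prime Nat.prime_two).mp E.hidx with h | h
      · rw [Subgroup.index_eq_one] at h; rw [h]; trivial
      · exact Subgroup.sq_mem_of_index_two h _
    have hLe : 2 ∣ Nat.card E.L := by
      by_contra h
      have hodd : Odd (Nat.card E.X * Nat.card E.L) :=
        E.hodd.mul (Nat.odd_iff.mpr (Nat.two_dvd_ne_zero.mp h))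
      rw [← E.hcard] at hodd
      have h1 := Subgroup.orderOf_dvd_natCard _ htXL
      rw [Subgroup.orderOf_mk, D.ht2] at h1
      exact Nat.two_dvd_ne_zero.mpr (Nat.odd_iff.mp hodd) h1
    have htL : tM ∈ E.L := mem_of_pow_card E.hcomm E.hcop htXL (by
      obtain ⟨j, hj⟩ := hLe
      rw [hj, pow_mul, show tM ^ 2 = 1 from Subtype.ext (by
        show D.t ^ 2 = 1
        rw [← D.ht2, pow_orderOf_eq_one]), one_pow])
    have hiso : Nonempty (↥E.L ≃* Matrix.ProjectiveSpecialLinearGroup (Fin 2) (ZMod E.p)) ∨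
      Nonempty (↥E.L ≃* Matrix.SpecialLinearGroup (Fin 2) (ZMod E.p)) := E.iso
    rcases hiso with ⟨⟨e⟩⟩ | ⟨⟨e⟩⟩
    · -- a projective group cannot be extended to a quasi-dihedral Sylow subgroup
      exfalso
      obtain ⟨ea⟩ := exists_autEquiv (p := E.p)
      let cj : Mz →* MulAut E.L := MulAut.conjNormal
      let f2 : Mz →* PG (ZMod E.p) := ea.symm.toMonoidHom.comp ((MulAut.congr e).toMonoidHom.comp cj)
      have hft : f2 tM ≠ 1 := by
        intro h
        have h1 : cj tM = 1 := by
          apply (MulAut.congr e).injective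
          apply ea.symm.injective
          rw [map_one, map_one]
          exact h
        have hz : (⟨tM, htL⟩ : E.L) ∈ Subgroup.center E.L := Subgroup.mem_center_iff.mpr fun l => by
          refine Subtype.ext ?_
          have h2 := congrArg Subtype.val (DFunLike.congr_fun h1 l)
          rw [MulAut.conjNormal_apply] at h2
          exact (mul_inv_eq_iff_eq_mul.mp h2).symm
        have hz' : e ⟨tM, htL⟩ ∈
            Subgroup.center (Matrix.ProjectiveSpecialLinearGroup (Fin 2) (ZMod E.p)) :=
          Subgroup.mem_center_iff.mpr fun x => by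
            obtain ⟨l, rfl⟩ := e.surjective x
            rw [← map_mul, ← map_mul, Subgroup.mem_center_iff.mp hz l]
        rw [psl_center_bot E.hp5, Subgroup.mem_bot] at hz'
        have h3 := e.injective (hz'.trans (map_one e).symm)
        have h4 : D.t = 1 := congrArg Subtype.val (congrArg Subtype.val h3)
        have := D.ht2
        rw [h4, orderOf_one] at this
        norm_num at this
      have hp2' : E.p ≠ 2 := by have := E.hp5; omega
      have hs_ord : orderOf (f2 sM) = 4 * D.k := by
        obtain ⟨e', he'⟩ := D.hk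
        rw [show 4 * D.k = 2 ^ (e' + 2 + 1) by rw [he']; ring]
        refine orderOf_eq_prime_pow ?_ ?_
        · rw [← map_pow, show 2 ^ (e' + 2) = 2 * D.k by rw [he']; ring]
          intro h
          refine hft ?_
          rw [show tM = sM ^ (2 * D.k) from by rw [htsM, pow_mul]]
          exact h
        · rw [← map_pow, show 2 ^ (e' + 2 + 1) = 4 * D.k by rw [he']; ring,
            show sM ^ (4 * D.k) = 1 from Subtype.ext D.pow_four, map_one]
      obtain ⟨T, N, hT, hsT, -⟩ := exists_torus_mem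
        (by rw [ZMod.card]; have := E.hp5; omega) (zmod_two_ne hp2')
        (show ¬ orderOf (f2 sM) ∣ Fintype.card (ZMod E.p) by
          rw [ZMod.card, hs_ord]
          intro h
          exact hp2' ((Nat.prime_dvd_prime_iff_eq Nat.prime_two E.hp).mp
            ((dvd_mul_of_dvd_left (by norm_num) _).trans h)).symm)
      have hconj : f2 wM * f2 sM * (f2 wM)⁻¹ = f2 sM ^ (2 * D.k - 1) := by
        rw [← map_pow, ← map_inv, ← map_mul, ← map_mul]
        exact congrArg f2 (Subtype.ext D.hwσ)
      have hne : ∀ i, i < 4 * D.k → i ≠ 2 * D.k - 1 → f2 sM ^ (2 * D.k - 1) ≠ f2 sM ^ i := by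
        intro i hi hi' h
        rw [pow_eq_pow_iff_modEq, hs_ord] at h
        exact hi' (h.eq_of_lt_of_lt (by omega) hi).symm
      have hwN : f2 wM ∈ N := hT.ti _ hsT
        (fun h => by rw [h, orderOf_one] at hs_ord; omega) _ (by rw [hconj]; exact pow_mem hsT _)
      by_cases hwT : f2 wM ∈ T
      · letI := hT.cyc.commGroup
        have hc : f2 wM * f2 sM = f2 sM * f2 wM :=
          congrArg Subtype.val (mul_comm (⟨_, hwT⟩ : T) ⟨_, hsT⟩)
        rw [hc, mul_inv_cancel_right] at hconj
        exact hne 1 (by omega) (by omega) (by rw [pow_one, ← hconj])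
      · rw [hT.inv _ hwN hwT _ hsT] at hconj
        refine hne (4 * D.k - 1) (by omega) (by omega) ?_
        rw [← hconj]
        refine inv_eq_of_mul_eq_one_right ?_
        rw [← pow_succ', show 4 * D.k - 1 + 1 = 4 * D.k by omega, ← hs_ord, pow_orderOf_eq_one]
    · -- the centre of the special linear group is generated by `t`
      have hcc : Nat.card (Subgroup.center E.L) = 2 := by
        rw [Nat.card_congr (Subgroup.centerCongr e).toEquiv,
          card_center_SLp (by have := E.hp5; omega)]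
      obtain ⟨zL, hzL⟩ := exists_prime_orderOf_dvd_card' (G := Subgroup.center E.L) 2 (by rw [hcc])
      set zM : Mz := ((zL : E.L) : Mz) with hzM
      have hz2 : orderOf zM = 2 := by rw [hzM, Subgroup.orderOf_coe, Subgroup.orderOf_coe, hzL]
      have hzcent : ∀ m : Mz, m * zM * m⁻¹ = zM := by
        intro m
        let e' : E.L ≃* E.L := MulAut.conjNormal m
        have hmem : e' (zL : E.L) ∈ Subgroup.center E.L := by
          rw [Subgroup.mem_center_iff]
          intro x
          obtain ⟨x, rfl⟩ := e'.surjective x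
          rw [← map_mul, ← map_mul, Subgroup.mem_center_iff.mp zL.2 x]
        have hne : e' (zL : E.L) ≠ 1 := fun h => by
          have h' : (zL : E.L) = 1 := e'.injective (h.trans (map_one e').symm)
          rw [← Subgroup.orderOf_coe, h', orderOf_one] at hzL
          norm_num at hzL
        have huniq : ∀ a b : Subgroup.center E.L, a ≠ 1 → b ≠ 1 → a = b := by
          classical
          intro a b ha hb
          by_contra hab
          have h3 : ({1, a, b} : Finset (Subgroup.center E.L)).card = 3 := by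
            rw [Finset.card_insert_of_notMem (by simp [Ne.symm ha, Ne.symm hb]),
              Finset.card_pair hab]
          haveI : Fintype (Subgroup.center E.L) := Fintype.ofFinite _
          have h4 := Finset.card_le_univ ({1, a, b} : Finset (Subgroup.center E.L))
          rw [h3, ← Nat.card_eq_fintype_card, hcc] at h4
          omega
        have := huniq ⟨_, hmem⟩ zL (fun h => hne (congrArg Subtype.val h))
          (fun h => by rw [h, orderOf_one] at hzL; norm_num at hzL)
        have h5 : ((e' (zL : E.L) : E.L) : Mz) = zM := congrArg (fun a : Subgroup.center E.L =>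
          ((a : E.L) : Mz)) this
        rwa [show ((e' (zL : E.L) : E.L) : Mz) = m * zM * m⁻¹ from MulAut.conjNormal_apply ..] at h5
      have hzC : (zM : G) ∈ D.C := by
        refine Subgroup.mem_centralizer_singleton_iff.mpr ?_
        have h := congrArg Subtype.val (mul_inv_eq_iff_eq_mul.mp (hzcent tM))
        exact h.symm
      set zC : D.C := ⟨zM, hzC⟩ with hzCdef
      have hzc : zC * zC = 1 := CfsgLib.Involutions.mul_self_eq_one_of_orderOf (by
        rw [Subgroup.orderOf_mk, Subgroup.orderOf_coe, hz2])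
      have hφz : D.φ zC ∈ Subgroup.center (PG (ZMod D.p)) := by
        refine Subgroup.mem_center_iff.mpr fun x => ?_
        obtain ⟨a, ha, rfl⟩ := hsurj x
        rw [← map_mul, ← map_mul]
        refine congrArg D.φ (Subtype.ext ?_)
        have h := congrArg Subtype.val (mul_inv_eq_iff_eq_mul.mp (hzcent ⟨(a : G), hNcM a ha⟩))
        exact h
      have hφz1 : D.φ zC = 1 := by
        have hp2' : D.p ≠ 2 := D.hp2
        by_contra hne
        have hu : D.φ zC ∈ Subgroup.centralizer ({u0 (F := ZMod D.p)} : Set (PG (ZMod D.p))) :=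
          Subgroup.mem_centralizer_singleton_iff.mpr (Subgroup.mem_center_iff.mp hφz _).symm
        have h1 := Subgroup.orderOf_dvd_natCard _ hu
        rw [card_cent_u0 (zmod_two_ne hp2'), ZMod.card] at h1
        have h2' : orderOf (D.φ zC) = 2 := CfsgLib.Involutions.orderOf_eq_two_iff'.mpr
          ⟨by rw [← map_mul, hzc, map_one], hne⟩
        rw [h2'] at h1
        exact hp2' ((Nat.prime_dvd_prime_iff_eq Nat.prime_two D.hp.out).mp h1).symm
      have hodd : ∀ x : D.C, x ∈ D.O → x * x = 1 → x = 1 := fun x hx h =>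
        orderOf_eq_one_iff.mp (Nat.eq_one_of_dvd_coprimes
          (Nat.prime_two.coprime_iff_not_dvd.mpr (Nat.two_dvd_ne_zero.mpr (Nat.odd_iff.mp D.hOodd)))
          (orderOf_dvd_of_pow_eq_one (by rw [pow_two]; exact h)) (Subgroup.orderOf_dvd_natCard _ hx))
      have hzt : zC = D.tC := by
        rcases (D.hker zC).mp hφz1 with h | h
        · exfalso
          have h1 := congrArg Subtype.val (hodd zC h hzc)
          rw [← Subgroup.orderOf_coe, show (zM : G) = 1 from h1, orderOf_one] at hz2
          norm_num at hz2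
        · have hc : Commute zC D.tC := Subgroup.mem_center_iff.mp D.tC_central _
          have h1 := hodd _ h (by rw [hc.symm.mul_mul_mul_comm, hzc, D.tC_sq, mul_one])
          rw [← mul_left_inj D.tC, h1, D.tC_sq]
      intro m hm
      refine Subgroup.mem_centralizer_singleton_iff.mpr ?_
      have h : m * (zM : G) = (zM : G) * m :=
        congrArg Subtype.val (mul_inv_eq_iff_eq_mul.mp (hzcent ⟨m, hm⟩))
      rw [show (zM : G) = D.t from congrArg Subtype.val hzt] at h
      exact h
  -- the transfer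
  obtain ⟨P, hP⟩ := (IsPGroup.of_card (n := 1) (show Nat.card (Subgroup.zpowers z) = r ^ 1 by
    rw [Nat.card_zpowers, hzo, pow_one])).exists_le_sylow
  haveI := hG.isCyclic_pGroup hrp hr2 P.isPGroup'
  have hPC : Subgroup.normalizer (P : Set G) ≤ Subgroup.centralizer (P : Set G) := by
    intro g hg
    have hzP : z ∈ (P : Subgroup G) := hP (Subgroup.mem_zpowers z)
    have hgM : ∀ x ∈ Subgroup.normalizer (P : Set G), x * z * x⁻¹ ∈ Subgroup.zpowers z := by
      intro x hx
      let e : ↥(P : Subgroup G) ≃* ↥(P : Subgroup G) := (P : Subgroup G).normalizerMonoidHom ⟨x, hx⟩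
      have e1 : Subgroup.zpowers (e ⟨z, hzP⟩) = Subgroup.zpowers (⟨z, hzP⟩ : ↥(P : Subgroup G)) :=
        CfsgLib.PowerGraph.subgroup_eq_of_card (by
          rw [Nat.card_zpowers, Nat.card_zpowers, MulEquiv.orderOf_eq])
      obtain ⟨i, hi⟩ := (e1 ▸ Subgroup.mem_zpowers (e ⟨z, hzP⟩) :
        e ⟨z, hzP⟩ ∈ Subgroup.zpowers (⟨z, hzP⟩ : ↥(P : Subgroup G)))
      exact ⟨i, congrArg Subtype.val hi⟩
    have hfix : ∀ x ∈ Subgroup.normalizer (P : Set G), Commute x z := by
      intro x hx
      have hxM : x ∈ Mz := by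
        have key' : ∀ x ∈ Subgroup.normalizer (P : Set G), ∀ v ∈ Subgroup.zpowers z,
            x * v * x⁻¹ ∈ Subgroup.zpowers z := by
          rintro x hx _ ⟨i, rfl⟩
          show x * z ^ i * x⁻¹ ∈ Subgroup.zpowers z
          rw [← conj_zpow]
          exact zpow_mem (hgM x hx) i
        refine Subgroup.mem_normalizer_iff.mpr fun v => ⟨key' x hx v, fun hv => ?_⟩
        simpa [mul_assoc] using key' x⁻¹ (inv_mem hx) _ hv
      have hxC := hMC hxM
      refine congrArg Subtype.val (hcent ⟨x, hxC⟩ ?_).eq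
      rw [hNc, Subgroup.mem_normalizer_iff]
      intro v
      have h := Subgroup.mem_normalizer_iff.mp hxM (v : G)
      have hiff : ∀ v : D.C, v ∈ Z ↔ (v : G) ∈ Subgroup.zpowers z := fun v => by
        constructor
        · rintro ⟨i, rfl⟩; exact ⟨i, by rw [hzdef]; simp⟩
        · rintro ⟨i, hi⟩; exact ⟨i, Subtype.ext (by rw [Subgroup.coe_zpow]; exact hi)⟩
      rw [hiff, hiff]
      exact h
    obtain ⟨g1, g2, hg12, -, ⟨j, hj⟩, hg2, hg1g, hg2g⟩ := CfsgLib.Blocks.exists_pPart hrp g
    have hg2N : g2 ∈ Subgroup.normalizer (P : Set G) := (Subgroup.zpowers_le.mpr hg) hg2g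
    have hg1P : g1 ∈ (P : Subgroup G) := by
      have hg1N : g1 ∈ Subgroup.normalizer (P : Set G) := (Subgroup.zpowers_le.mpr hg) hg1g
      have hR : IsPGroup r ↥(Subgroup.zpowers g1 ⊔ (P : Subgroup G)) :=
        IsPGroup.to_sup_of_normal_right' (IsPGroup.of_card (n := j) (by rw [Nat.card_zpowers, hj]))
          P.isPGroup' (Subgroup.zpowers_le.mpr hg1N)
      exact P.3 hR le_sup_right ▸ Subgroup.mem_sup_left (Subgroup.mem_zpowers g1)
    rw [← hg12]
    letI : IsMulCommutative ↥(P : Subgroup G) := inferInstance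
    refine mul_mem (Subgroup.le_centralizer (P : Subgroup G) hg1P) ?_
    set A := Subgroup.zpowers g2 with hA
    have hAP : A ≤ Subgroup.normalizer ((P : Subgroup G) : Set G) := Subgroup.zpowers_le.mpr hg2N
    obtain ⟨n, hn⟩ := P.isPGroup'.exists_card_eq
    have hcop : (Nat.card A).Coprime (Nat.card (P : Subgroup G)) := by
      rw [hA, Nat.card_zpowers, hn]
      exact ((hrp.coprime_iff_not_dvd.mpr hg2).symm).pow_right n
    have hbot : ⁅(P : Subgroup G), A⁆ = ⊥ := by
      by_contra hne'
      obtain ⟨l, hl, hld⟩ := Nat.exists_prime_and_dvd (n := Nat.card ↥⁅(P : Subgroup G), A⁆) fun h =>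
        hne' (Subgroup.eq_bot_of_card_eq _ h)
      have hle := CfsgLib.commutator_le_of_le_normalizer hAP
      have hlr : l = r := by
        have h1 := hld.trans (Subgroup.card_dvd_of_le hle)
        rw [hn] at h1
        exact (Nat.prime_dvd_prime_iff_eq hl hrp).mp (hl.dvd_of_dvd_pow h1)
      subst hlr
      obtain ⟨v, hv⟩ := exists_prime_orderOf_dvd_card' r hld
      have e1 : Subgroup.zpowers (⟨z, hzP⟩ : ↥(P : Subgroup G)) = Subgroup.zpowers ⟨v, hle v.2⟩ :=
        CfsgLib.PowerGraph.subgroup_eq_of_card (by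
          rw [Nat.card_zpowers, Nat.card_zpowers, Subgroup.orderOf_mk, Subgroup.orderOf_mk, hzo,
            Subgroup.orderOf_coe, hv])
      have hzc : z ∈ ⁅(P : Subgroup G), A⁆ := by
        obtain ⟨i, hi⟩ := (e1 ▸ Subgroup.mem_zpowers _ :
          (⟨z, hzP⟩ : ↥(P : Subgroup G)) ∈ Subgroup.zpowers ⟨(v : G), hle v.2⟩)
        have hi' : (v : G) ^ i = z := congrArg Subtype.val hi
        rw [← hi']
        exact zpow_mem v.2 i
      have h2' : z ∈ ((P : Subgroup G) ⊓ Subgroup.centralizer (A : Set G)) ⊓ ⁅(P : Subgroup G), A⁆ :=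
        ⟨⟨hzP, fun a ha => ((hfix a (hAP ha))).eq⟩, hzc⟩
      rw [CfsgLib.coprime_abelian_disjoint A _ hAP hcop, Subgroup.mem_bot] at h2'
      rw [h2', orderOf_one] at hzo
      exact hrp.one_lt.ne hzo
    rw [Subgroup.commutator_eq_bot_iff_le_centralizer] at hbot
    intro x hx
    exact (hbot hx g2 (Subgroup.mem_zpowers g2)).symm
  have hc := MonoidHom.ker_transferSylow_isComplement' P hPC
  have h1 := hc.card_mul
  rcases (inferInstance : (MonoidHom.transferSylow P hPC).ker.Normal).eq_bot_or_eq_top with h | h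
  · rw [h, Subgroup.card_bot, one_mul] at h1
    obtain ⟨n, hn⟩ := P.isPGroup'.exists_card_eq
    have h2' := (D.ht2 ▸ orderOf_dvd_natCard D.t : 2 ∣ Nat.card G)
    rw [← h1, hn] at h2'
    exact hr2 ((Nat.prime_dvd_prime_iff_eq Nat.prime_two hrp).mp (Nat.prime_two.dvd_of_dvd_pow h2')).symm
  · rw [h, Subgroup.card_top] at h1
    have h2' : Nat.card (P : Subgroup G) = 1 :=
      (Nat.mul_eq_left Nat.card_pos.ne').mp h1
    have h3 := Subgroup.orderOf_dvd_natCard _ (hP (Subgroup.mem_zpowers z))
    rw [h2', hzo] at h3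
    exact hrp.not_dvd_one h3

/-- The last parameters are contradictory. -/
theorem no_small [IsSimpleGroup G] (hG : AC G) (hq : D.q = -5) (ho : Nat.card D.O = 1)
    (hN : D.C.index = 357) : False := by
  haveI := D.hp
  haveI := D.hOn
  have hp5 : D.p = 5 := by rcases D.hq with e | e <;> omega
  haveI : Fact (Nat.Prime 5) := ⟨by norm_num⟩
  haveI : Fact (Nat.Prime 7) := ⟨by norm_num⟩
  haveI : Fact (Nat.Prime 17) := ⟨by norm_num⟩
  haveI : Fact (Nat.Prime 2) := ⟨Nat.prime_two⟩
  haveI : Fintype G := Fintype.ofFinite G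
  haveI : Fintype D.C := Fintype.ofFinite _
  have hk2 : D.k = 2 := by
    have h1 := D.hk1
    rw [hq] at h1
    have := D.two_le
    have h2 := Int.le_of_dvd (by norm_num) (Int.dvd_neg.mpr h1)
    omega
  have hCc : Nat.card D.C = 240 := by
    rw [D.card_C, ho, card_PG, ZMod.card, hp5]
  have hGc : Nat.card G = 85680 := by rw [← D.C.index_mul_card, hN, hCc]
  -- involutions centralise nothing of order seven or seventeen
  have hinvC : ∀ (i z : G), orderOf i = 2 → Commute i z → orderOf z ∣ 240 := by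
    intro i z hi hc
    rw [← hCc, show Nat.card D.C = Nat.card ↥(Subgroup.centralizer ({i} : Set G)) from
      card_cent_conj (D.hone _ i D.ht2 hi)]
    exact Subgroup.orderOf_dvd_natCard _ (Subgroup.mem_centralizer_singleton_iff.mpr hc.eq.symm)
  have hodd : ∀ z : G, ¬ orderOf z ∣ 240 → ¬ 2 ∣ Nat.card ↥(Subgroup.centralizer ({z} : Set G)) := by
    intro z hz h
    obtain ⟨i, hi⟩ := exists_prime_orderOf_dvd_card' (G := ↥(Subgroup.centralizer ({z} : Set G))) 2 h
    exact hz (hinvC (i : G) z (by rw [Subgroup.orderOf_coe, hi])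
      (Subgroup.mem_centralizer_singleton_iff.mp i.2))
  -- an element of order five in the centraliser
  obtain ⟨y, hy⟩ := exists_prime_orderOf_dvd_card' (G := D.C) 5 (by rw [hCc]; norm_num)
  have hφy : orderOf (D.φ y) = D.p := by
    refine Eq.trans ?_ hp5.symm
    refine ((Nat.dvd_prime (Fact.out : Nat.Prime 5)).mp (hy ▸ orderOf_map_dvd D.φ y)).resolve_left
      fun h => ?_
    have hbot : D.O = ⊥ := Subgroup.eq_bot_of_card_eq _ ho
    rcases (D.hker y).mp (orderOf_eq_one_iff.mp h) with h' | h'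
    · rw [hbot, Subgroup.mem_bot] at h'
      rw [h', orderOf_one] at hy
      norm_num at hy
    · rw [hbot, Subgroup.mem_bot] at h'
      rw [eq_inv_of_mul_eq_one_left h', orderOf_inv, D.tC_order] at hy
      norm_num at hy
  set z : G := (y : G) with hz
  have hzo : orderOf z = 5 := by rw [hz, Subgroup.orderOf_coe, hy]
  set H := Subgroup.centralizer ({z} : Set G) with hH
  have hzH : z ∈ H := Subgroup.mem_centralizer_singleton_iff.mpr rfl
  have htH : D.t ∈ H :=
    Subgroup.mem_centralizer_singleton_iff.mpr (Subgroup.mem_centralizer_singleton_iff.mp y.2).symm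
  -- the centraliser of `y` inside the centraliser of `t`
  have hCy : Nat.card ↥(Subgroup.centralizer ({y} : Set D.C)) = 10 := by
    set Cy := Subgroup.centralizer ({y} : Set D.C) with hCydef
    let f : Cy →* PG (ZMod D.p) := D.φ.comp Cy.subtype
    have hbot : D.O = ⊥ := Subgroup.eq_bot_of_card_eq _ ho
    have hker : Nat.card f.ker ∣ 2 := by
      have hle : f.ker.map Cy.subtype ≤ Subgroup.zpowers D.tC := by
        rintro _ ⟨a, ha, rfl⟩
        rcases (D.hker (a : D.C)).mp ha with h | h <;> rw [hbot, Subgroup.mem_bot] at h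
        · show (a : D.C) ∈ _
          rw [h]; exact one_mem _
        · show (a : D.C) ∈ _
          rw [eq_inv_of_mul_eq_one_left h]
          exact inv_mem (Subgroup.mem_zpowers _)
      have h := Subgroup.card_dvd_of_le hle
      rwa [Subgroup.card_map_of_injective Cy.subtype_injective, Nat.card_zpowers, D.tC_order] at h
    have hrange : Nat.card f.range ∣ 5 := by
      refine (Subgroup.card_dvd_of_le (show f.range ≤
        Subgroup.centralizer ({D.φ y} : Set (PG (ZMod D.p))) from ?_)).trans
        (dvd_of_eq ((card_cent_order_p D.hp2 hφy).trans hp5))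
      rintro _ ⟨a, rfl⟩
      refine Subgroup.mem_centralizer_singleton_iff.mpr ?_
      show D.φ a * D.φ y = D.φ y * D.φ a
      rw [← map_mul, ← map_mul, Subgroup.mem_centralizer_singleton_iff.mp a.2]
    have hle : Nat.card Cy ∣ 10 := by
      rw [← f.ker.card_mul_index, Subgroup.index_ker]
      exact Nat.mul_dvd_mul hker hrange
    have h5 : 5 ∣ Nat.card Cy :=
      hy ▸ Subgroup.orderOf_dvd_natCard Cy (Subgroup.mem_centralizer_singleton_iff.mpr rfl)
    have h2' : 2 ∣ Nat.card Cy :=
      D.tC_order ▸ Subgroup.orderOf_dvd_natCard Cy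
        (Subgroup.mem_centralizer_singleton_iff.mpr (Subgroup.mem_center_iff.mp D.tC_central y).symm)
    exact Nat.dvd_antisymm hle (Nat.Coprime.mul_dvd_of_dvd_of_dvd (by norm_num) h2' h5)
  obtain ⟨j0, hj0, hMC⟩ := card_normalizer_zpowers (G := D.C) (Fact.out : Nat.Prime 5) hy
  have hj04 : j0 = 4 := by
    obtain ⟨P, hP⟩ := (IsPGroup.of_card (n := 1) (show Nat.card (Subgroup.zpowers y) = 5 ^ 1 by
      rw [Nat.card_zpowers, hy, pow_one])).exists_le_sylow
    have hPc : Nat.card (P : Subgroup D.C) = 5 := by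
      rw [Sylow.card_eq_multiplicity, hCc, show (240 : ℕ) = 5 * 48 by norm_num,
        Nat.factorization_mul (by norm_num) (by norm_num), Finsupp.add_apply,
        Nat.Prime.factorization_self (Fact.out : Nat.Prime 5),
        Nat.factorization_eq_zero_of_not_dvd (show ¬ 5 ∣ 48 by norm_num)]
      norm_num
    have hPeq : Subgroup.zpowers y = (P : Subgroup D.C) :=
      Subgroup.eq_of_le_of_card_ge hP (by rw [hPc, Nat.card_zpowers, hy])
    have hn5 := card_sylow_modEq_one 5 D.C
    have hidx := P.card_eq_index_normalizer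
    have hmul := (Subgroup.normalizer ((P : Subgroup D.C) : Set D.C)).card_mul_index
    rw [← hPeq, hMC, hCy, hCc] at hmul
    rw [show (P : Set D.C) = (Subgroup.zpowers y : Set D.C) from (congrArg SetLike.coe hPeq).symm]
      at hidx
    rw [hidx] at hn5
    unfold Nat.ModEq at hn5
    generalize (Subgroup.normalizer (Subgroup.zpowers y : Set D.C)).index = n at hmul hn5
    have hj4 : j0 ≤ 4 := Nat.le_of_dvd (by norm_num) hj0
    interval_cases j0 <;> omega
  subst hj04
  obtain ⟨j, hj, hM⟩ := card_normalizer_zpowers (G := G) (Fact.out : Nat.Prime 5) hzo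
  set M := Subgroup.normalizer (Subgroup.zpowers z : Set G) with hMdef
  have hj4 : j = 4 := by
    -- the automorphisms induced inside `C` are all of them
    have hle : 40 * Nat.card H ∣ Nat.card M * 10 := by
      let i1 : ↥(Subgroup.normalizer (Subgroup.zpowers y : Set D.C)) →* G :=
        D.C.subtype.comp (Subgroup.normalizer (Subgroup.zpowers y : Set D.C)).subtype
      have hi1 : i1.range ≤ M := by
        rintro _ ⟨a, rfl⟩
        have h := Subgroup.mem_normalizer_iff.mp a.2
        have hiff : ∀ v : D.C, v ∈ Subgroup.zpowers y ↔ (v : G) ∈ Subgroup.zpowers z := fun v => by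
          constructor
          · rintro ⟨i, rfl⟩; exact ⟨i, by rw [hz]; simp⟩
          · rintro ⟨i, hi⟩; exact ⟨i, Subtype.ext (by rw [Subgroup.coe_zpow]; exact hi)⟩
        have h' : ∀ v : G, v ∈ Subgroup.zpowers z → (i1 a) * v * (i1 a)⁻¹ ∈ Subgroup.zpowers z := by
          intro v hv
          obtain ⟨i, rfl⟩ := hv
          exact (hiff _).mp ((h (y ^ i)).mp ⟨i, rfl⟩) |> fun h1 => by simpa [hz, i1] using h1
        rw [hMdef, Subgroup.mem_normalizer_iff]
        intro v
        refine ⟨h' v, fun hv => ?_⟩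
        obtain ⟨i, hi⟩ := hv
        have h2 := (h ((a : D.C)⁻¹ * y ^ i * (a : D.C))).mpr ⟨i, by group⟩
        have h3 := (hiff _).mp h2
        have hi' : z ^ i = i1 a * v * (i1 a)⁻¹ := hi
        have : v = (i1 a)⁻¹ * z ^ i * i1 a := by rw [hi']; group
        rw [this]
        simpa [hz, i1, mul_assoc] using h3
      have hH' : H ≤ M := by
        refine le_trans (le_of_eq ?_) (Subgroup.centralizer_le_normalizer _)
        rw [hH, Subgroup.zpowers_eq_closure, Subgroup.centralizer_closure]
      have hic : Nat.card i1.range = 40 := by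
        rw [← Nat.card_congr (MonoidHom.ofInjective (f := i1)
          (D.C.subtype_injective.comp (Subgroup.subtype_injective _))).toEquiv, hMC, hCy]
      have hint : Nat.card ↥(i1.range ⊓ H) ∣ 10 := by
        rw [← hCy, ← Subgroup.card_map_of_injective
          (K := Subgroup.centralizer ({y} : Set D.C)) D.C.subtype_injective]
        refine Subgroup.card_dvd_of_le ?_
        rintro g ⟨⟨a, rfl⟩, hg⟩
        exact ⟨(a : D.C), Subgroup.mem_centralizer_singleton_iff.mpr
          (Subtype.ext (Subgroup.mem_centralizer_singleton_iff.mp hg)), rfl⟩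
      have hHn : (H.subgroupOf M).Normal := by
        have : H.subgroupOf M = (Subgroup.zpowers z).normalizerMonoidHom.ker := by
          have e : Subgroup.centralizer (Subgroup.zpowers z : Set G) = H := by
            rw [hH, Subgroup.zpowers_eq_closure, Subgroup.centralizer_closure]
          rw [Subgroup.normalizerMonoidHom_ker, e]
        rw [this]
        exact MonoidHom.normal_ker _
      have h1 : (H.subgroupOf i1.range).index ∣ (H.subgroupOf M).index := by
        haveI := hHn
        have h := Subgroup.relIndex_dvd_index_of_normal (H.subgroupOf M) (i1.range.subgroupOf M)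
        rw [Subgroup.relIndex_subgroupOf hi1] at h
        exact h
      have e1 : Nat.card ↥(i1.range ⊓ H) * (H.subgroupOf i1.range).index = 40 := by
        rw [← hic, ← (H.subgroupOf i1.range).card_mul_index]
        congr 1
        rw [← Subgroup.card_map_of_injective (K := H.subgroupOf i1.range) i1.range.subtype_injective,
          Subgroup.subgroupOf_map_subtype, inf_comm]
      have e2 : Nat.card H * (H.subgroupOf M).index = Nat.card M := by
        rw [← Nat.card_congr (Subgroup.subgroupOfEquivOfLe hH').toEquiv, Subgroup.card_mul_index]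
      rw [← e1, ← e2]
      obtain ⟨c, hc⟩ := h1
      obtain ⟨c', hc'⟩ := hint
      rw [hc, hc']
      exact ⟨c * c', by ring⟩
    rw [hM] at hle
    have h2' : 4 ∣ j := by
      have hpos := Nat.card_pos (α := H)
      obtain ⟨c, hc⟩ := hle
      exact ⟨c, Nat.eq_of_mul_eq_mul_left (show 0 < 10 * Nat.card H by omega) (by linarith)⟩
    exact Nat.dvd_antisymm hj h2'
  subst hj4
  -- the number of Sylow five-subgroups
  obtain ⟨P, hP⟩ := (IsPGroup.of_card (n := 1) (show Nat.card (Subgroup.zpowers z) = 5 ^ 1 by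
    rw [Nat.card_zpowers, hzo, pow_one])).exists_le_sylow
  have hPc : Nat.card (P : Subgroup G) = 5 := by
    rw [Sylow.card_eq_multiplicity, hGc, show (85680 : ℕ) = 5 * 17136 by norm_num,
      Nat.factorization_mul (by norm_num) (by norm_num), Finsupp.add_apply,
      Nat.Prime.factorization_self (Fact.out : Nat.Prime 5),
      Nat.factorization_eq_zero_of_not_dvd (show ¬ 5 ∣ 17136 by norm_num)]
    norm_num
  have hPeq : Subgroup.zpowers z = (P : Subgroup G) :=
    Subgroup.eq_of_le_of_card_ge hP (by rw [hPc, Nat.card_zpowers, hzo])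
  have hn5 := card_sylow_modEq_one 5 G
  rw [P.card_eq_index_normalizer,
    show (P : Set G) = (Subgroup.zpowers z : Set G) from (congrArg SetLike.coe hPeq).symm,
    ← hMdef] at hn5
  have hmul := M.card_mul_index
  rw [hM, hGc] at hmul
  -- twice an odd number times five
  have hH10 : 10 ∣ Nat.card H :=
    Nat.Coprime.mul_dvd_of_dvd_of_dvd (m := 2) (n := 5) (by norm_num)
      (D.ht2 ▸ Subgroup.orderOf_dvd_natCard H htH) (hzo ▸ Subgroup.orderOf_dvd_natCard H hzH)
  obtain ⟨f, hf⟩ := hH10
  have hHeq : Nat.card H = 10 * f := hf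
  have hfn : f * M.index = 2142 := by
    have : Nat.card H * 4 * M.index = 85680 := hmul
    rw [hHeq] at this
    linarith
  unfold Nat.ModEq at hn5
  -- a Sylow two-subgroup of the centraliser of `y` has order two
  have hfodd : ¬ 2 ∣ f := by
    intro h2f
    have h4 : 2 ^ 2 ∣ Nat.card H := by
      obtain ⟨c, hc⟩ := h2f
      exact ⟨5 * c, by rw [hHeq, hc]; ring⟩
    obtain ⟨T0, hT0⟩ := (IsPGroup.of_card (n := 1)
      (show Nat.card (Subgroup.zpowers (⟨D.t, htH⟩ : H)) = 2 ^ 1 by
        rw [Nat.card_zpowers, Subgroup.orderOf_mk, D.ht2, pow_one])).exists_le_sylow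
    have hT4 : 4 ≤ Nat.card (T0 : Subgroup H) :=
      Nat.le_of_dvd Nat.card_pos (T0.pow_dvd_card_of_pow_dvd_card h4)
    set TC := ((T0 : Subgroup H).map H.subtype) ⊓ D.C with hTC
    have hTC2 : Nat.card TC ≤ 2 := by
      have h10 : Nat.card TC ∣ 10 := by
        rw [← hCy, ← Subgroup.card_map_of_injective
          (K := Subgroup.centralizer ({y} : Set D.C)) D.C.subtype_injective]
        refine Subgroup.card_dvd_of_le ?_
        rintro g ⟨⟨a, -, rfl⟩, hg⟩
        exact ⟨⟨(a : G), hg⟩, Subgroup.mem_centralizer_singleton_iff.mpr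
          (Subtype.ext (Subgroup.mem_centralizer_singleton_iff.mp a.2)), rfl⟩
      obtain ⟨n, hn⟩ := ((T0.isPGroup'.map H.subtype).to_le inf_le_left :
        IsPGroup 2 TC).exists_card_eq
      rw [hn] at h10 ⊢
      rcases n with _ | _ | n
      · norm_num
      · norm_num
      · have h4' : 4 ∣ 10 := (pow_dvd_pow 2 (show 2 ≤ n + 1 + 1 by omega)).trans h10
        norm_num at h4'
    haveI : Nontrivial (T0 : Subgroup H) := Finite.one_lt_card_iff_nontrivial.mp (by omega)
    haveI := T0.isPGroup'.center_nontrivial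
    obtain ⟨c, hc⟩ := exists_ne (1 : Subgroup.center (T0 : Subgroup H))
    have hmemC : ∀ a : (T0 : Subgroup H), Commute a ⟨⟨D.t, htH⟩, hT0 (Subgroup.mem_zpowers _)⟩ →
        ((a : H) : G) ∈ TC := fun a ha => ⟨⟨(a : H), a.2, rfl⟩,
      Subgroup.mem_centralizer_singleton_iff.mpr (congrArg Subtype.val (congrArg Subtype.val ha.eq))⟩
    have hctC := hmemC (c : (T0 : Subgroup H)) (Subgroup.mem_center_iff.mp c.2 _).symm
    have htC : D.t ∈ TC :=
      ⟨⟨⟨D.t, htH⟩, hT0 (Subgroup.mem_zpowers _), rfl⟩, Subgroup.mem_centralizer_singleton_iff.mpr rfl⟩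
    have hTCeq : Subgroup.zpowers D.t = TC :=
      Subgroup.eq_of_le_of_card_ge (Subgroup.zpowers_le.mpr htC) (by rw [Nat.card_zpowers, D.ht2]; exact hTC2)
    rw [← hTCeq] at hctC
    have hct : (((c : (T0 : Subgroup H)) : H) : G) = D.t := by
      obtain ⟨i, hi⟩ := hctC
      rcases Int.even_or_odd' i with ⟨l, rfl | rfl⟩
      · exfalso
        refine hc (Subtype.ext (Subtype.ext (Subtype.ext ?_)))
        rw [← hi]
        show D.t ^ (2 * l) = 1
        rw [zpow_mul, show D.t ^ (2 : ℤ) = 1 from by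
          rw [zpow_two]; exact CfsgLib.Involutions.mul_self_eq_one_of_orderOf D.ht2, one_zpow]
      · rw [← hi]
        show D.t ^ (2 * l + 1) = D.t
        rw [zpow_add, zpow_mul, show D.t ^ (2 : ℤ) = 1 from by
          rw [zpow_two]; exact CfsgLib.Involutions.mul_self_eq_one_of_orderOf D.ht2, one_zpow,
          one_mul, zpow_one]
    have hall : ((T0 : Subgroup H).map H.subtype) ≤ TC := by
      rintro _ ⟨a, ha, rfl⟩
      refine hmemC ⟨a, ha⟩ ?_
      have h := Subgroup.mem_center_iff.mp c.2 ⟨a, ha⟩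
      refine Subtype.ext (Subtype.ext ?_)
      have h' := congrArg Subtype.val (congrArg Subtype.val h)
      simp only [Subgroup.coe_mul, hct] at h' ⊢
      exact h'
    have := Subgroup.card_le_of_le hall
    rw [Subgroup.card_map_of_injective H.subtype_injective] at this
    omega
  have h7 : ¬ 7 ∣ f := by
    intro h7
    obtain ⟨x, hx⟩ := exists_prime_orderOf_dvd_card' (G := H) 7 (by rw [hHeq]; exact h7.trans (dvd_mul_left _ _))
    obtain ⟨j7, hj7, hN7⟩ := card_normalizer_zpowers (G := G) (Fact.out : Nat.Prime 7)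
      (show orderOf (x : G) = 7 by rw [Subgroup.orderOf_coe, hx])
    obtain ⟨hnot⟩ : Nonempty (¬ orderOf (x : G) ∣ 240) :=
      ⟨by rw [Subgroup.orderOf_coe, hx]; norm_num⟩
    have hoddC := hodd _ hnot
    have h4 : 4 ∣ Nat.card ↥(Subgroup.normalizer (Subgroup.zpowers (x : G) : Set G)) := by
      exact quarter_dvd D hGc hM (Fact.out : Nat.Prime 7) (by rw [Subgroup.orderOf_coe, hx]) x.2
        (by norm_num)
    rw [hN7] at h4
    have h5 : 4 ∣ j7 := (Nat.Coprime.pow_left 2
      (Nat.prime_two.coprime_iff_not_dvd.mpr hoddC) :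
      Nat.Coprime (2 ^ 2) _).dvd_of_dvd_mul_left h4
    have := h5.trans hj7
    norm_num at this
  have h17 : 17 ∣ f := by
    by_contra h17
    have hd : f ∣ 2142 := ⟨_, hfn.symm⟩
    have hc : Nat.Coprime f (7 * 17) :=
      Nat.Coprime.mul_right ((Fact.out : Nat.Prime 7).coprime_iff_not_dvd.mpr h7).symm
        ((Fact.out : Nat.Prime 17).coprime_iff_not_dvd.mpr h17).symm
    have hd18 : f ∣ 18 := hc.dvd_of_dvd_mul_right (show f ∣ 18 * (7 * 17) by norm_num; exact hd)
    have hf0 : f ≤ 18 := Nat.le_of_dvd (by norm_num) hd18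
    interval_cases f <;> omega
  obtain ⟨f', rfl⟩ := h17
  replace hfodd : ¬ 2 ∣ f' := fun h => hfodd (h.trans (dvd_mul_left _ _))
  have hf' : f' = 1 := by
    have h126 : f' * M.index = 126 := by linarith
    have hc : Nat.Coprime f' 7 :=
      ((Fact.out : Nat.Prime 7).coprime_iff_not_dvd.mpr fun h => h7 (h.trans (dvd_mul_left _ _))).symm
    have hd18 : f' ∣ 18 := hc.dvd_of_dvd_mul_right (show f' ∣ 18 * 7 by norm_num; exact ⟨_, h126.symm⟩)
    have hf0 : f' ≤ 18 := Nat.le_of_dvd (by norm_num) hd18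
    interval_cases f' <;> omega
  subst hf'
  -- the elements of order seventeen
  obtain ⟨x, hx⟩ := exists_prime_orderOf_dvd_card' (G := H) 17 (by rw [hHeq]; norm_num)
  have hxo : orderOf (x : G) = 17 := by rw [Subgroup.orderOf_coe, hx]
  obtain ⟨j17, hj17, hN17⟩ := card_normalizer_zpowers (G := G) (Fact.out : Nat.Prime 17) hxo
  have hnot : ¬ orderOf (x : G) ∣ 240 := by rw [hxo]; norm_num
  have hoddC := hodd _ hnot
  set Cx := Subgroup.centralizer ({(x : G)} : Set G) with hCx
  set N17 := Subgroup.normalizer (Subgroup.zpowers (x : G) : Set G) with hN17def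
  have h4 : 4 ∣ Nat.card N17 := quarter_dvd D hGc hM (Fact.out : Nat.Prime 17) hxo x.2 (by norm_num)
  rw [hN17] at h4
  have h4j : 4 ∣ j17 := (Nat.Coprime.pow_left 2
      (Nat.prime_two.coprime_iff_not_dvd.mpr hoddC) :
      Nat.Coprime (2 ^ 2) _).dvd_of_dvd_mul_left h4
  have hxz : Commute z (x : G) := (Subgroup.mem_centralizer_singleton_iff.mp x.2).symm
  have h85 : 85 ∣ Nat.card Cx := Nat.Coprime.mul_dvd_of_dvd_of_dvd (m := 5) (n := 17) (by norm_num)
    (hzo ▸ Subgroup.orderOf_dvd_natCard Cx (Subgroup.mem_centralizer_singleton_iff.mpr hxz.eq))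
    (hxo ▸ Subgroup.orderOf_dvd_natCard Cx (Subgroup.mem_centralizer_singleton_iff.mpr rfl))
  obtain ⟨c, hc⟩ := h85
  -- no element of order sixteen, and no cyclic Sylow two-subgroup
  have hj8 : j17 ∣ 8 := by
    obtain ⟨l, hl, hjl⟩ := (Nat.dvd_prime_pow Nat.prime_two).mp
      (show j17 ∣ 2 ^ 4 by norm_num; exact hj17)
    rcases (show l ≤ 3 ∨ l = 4 by omega) with h | h
    · rw [hjl]; exact (pow_dvd_pow 2 h : 2 ^ l ∣ 2 ^ 3)
    exfalso
    rw [h] at hjl
    obtain ⟨T⟩ : Nonempty (Sylow 2 N17) := inferInstance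
    have hTc : Nat.card (T : Subgroup N17) = 16 := by
      have h1 : 2 ^ 4 ∣ Nat.card (T : Subgroup N17) := by
        apply Sylow.pow_dvd_card_of_pow_dvd_card
        rw [hN17, hjl]; exact dvd_mul_left _ _
      have h2' : Nat.card (T : Subgroup N17) ∣ Nat.card ↥(D.S : Subgroup G) := by
        obtain ⟨T', hT'⟩ := (T.isPGroup'.map N17.subtype).exists_le_sylow
        refine (dvd_of_eq ?_).trans ((Subgroup.card_dvd_of_le hT').trans (dvd_of_eq ?_))
        · rw [Subgroup.card_map_of_injective N17.subtype_injective]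
        · rw [Sylow.card_eq_multiplicity, Sylow.card_eq_multiplicity]
      rw [D.hS, hk2] at h2'
      exact Nat.dvd_antisymm h2' h1
    let g : ↥(T : Subgroup N17) →* MulAut ↥(Subgroup.zpowers (x : G)) :=
      (Subgroup.zpowers (x : G)).normalizerMonoidHom.comp (T : Subgroup N17).subtype
    have hg : Function.Injective g := by
      rw [injective_iff_map_eq_one]
      intro a ha
      have h1 : ((a : N17) : G) ∈ Cx := by
        have h2' : (a : N17) ∈ (Subgroup.zpowers (x : G)).normalizerMonoidHom.ker := ha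
        have e : Subgroup.centralizer (Subgroup.zpowers (x : G) : Set G) = Cx := by
          rw [hCx, Subgroup.zpowers_eq_closure, Subgroup.centralizer_closure]
        rw [Subgroup.normalizerMonoidHom_ker, Subgroup.mem_subgroupOf, e] at h2'
        exact h2'
      obtain ⟨b, hb⟩ := IsPGroup.iff_orderOf.mp T.isPGroup' a
      refine orderOf_eq_one_iff.mp ?_
      rcases Nat.eq_zero_or_pos b with rfl | hb0
      · simpa using hb
      · exfalso
        refine hoddC ((dvd_pow_self 2 hb0.ne').trans ?_)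
        rw [← hb, ← Subgroup.orderOf_coe, ← Subgroup.orderOf_coe]
        exact Subgroup.orderOf_dvd_natCard Cx h1
    haveI : IsCyclic (MulAut ↥(Subgroup.zpowers (x : G))) := by
      exact isCyclic_mulAut_prime (Fact.out : Nat.Prime 17) hxo
    haveI : IsCyclic ↥(T : Subgroup N17) := isCyclic_of_injective g hg
    obtain ⟨gen, hgen⟩ := IsCyclic.exists_generator (α := ↥(T : Subgroup N17))
    have ho16 : orderOf ((gen : N17) : G) = 16 := by
      rw [Subgroup.orderOf_coe, Subgroup.orderOf_coe, orderOf_eq_card_of_forall_mem_zpowers hgen, hTc]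
    obtain ⟨T', hT'⟩ := (IsPGroup.of_card (n := 4)
      (show Nat.card (Subgroup.zpowers ((gen : N17) : G)) = 2 ^ 4 by
        rw [Nat.card_zpowers, ho16]; norm_num)).exists_le_sylow
    have heq : Subgroup.zpowers ((gen : N17) : G) = (T' : Subgroup G) :=
      Subgroup.eq_of_le_of_card_ge hT' (by
        rw [Sylow.card_eq_multiplicity, ← D.S.card_eq_multiplicity, D.hS, hk2, Nat.card_zpowers, ho16])
    haveI : IsCyclic ↥(T' : Subgroup G) := heq ▸ inferInstance
    haveI : IsCyclic ↥(D.S : Subgroup G) :=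
      isCyclic_of_surjective (Sylow.equiv T' D.S).toMonoidHom (Sylow.equiv T' D.S).surjective
    letI := IsCyclic.commGroup (α := ↥(D.S : Subgroup G))
    exact D.wsig_ne (congrArg Subtype.val
      (mul_comm (⟨D.w, D.hwS⟩ : ↥(D.S : Subgroup G)) ⟨D.σ, D.hσS⟩))
  obtain ⟨P17, hP17⟩ := (IsPGroup.of_card (n := 1)
    (show Nat.card (Subgroup.zpowers (x : G)) = 17 ^ 1 by rw [Nat.card_zpowers, hxo, pow_one])).exists_le_sylow
  have hP17c : Nat.card (P17 : Subgroup G) = 17 := by
    rw [Sylow.card_eq_multiplicity, hGc, show (85680 : ℕ) = 17 * 5040 by norm_num,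
      Nat.factorization_mul (by norm_num) (by norm_num), Finsupp.add_apply,
      Nat.Prime.factorization_self (Fact.out : Nat.Prime 17),
      Nat.factorization_eq_zero_of_not_dvd (show ¬ 17 ∣ 5040 by norm_num)]
    norm_num
  have hP17eq : Subgroup.zpowers (x : G) = (P17 : Subgroup G) :=
    Subgroup.eq_of_le_of_card_ge hP17 (by rw [hP17c, Nat.card_zpowers, hxo])
  have hn17 := card_sylow_modEq_one 17 G
  rw [P17.card_eq_index_normalizer,
    show (P17 : Set G) = (Subgroup.zpowers (x : G) : Set G) from (congrArg SetLike.coe hP17eq).symm,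
    ← hN17def] at hn17
  have hmul17 := N17.card_mul_index
  rw [hN17, hc, hGc] at hmul17
  unfold Nat.ModEq at hn17
  have hcodd : ¬ 2 ∣ c := fun h => hoddC (by rw [hc]; exact dvd_mul_of_dvd_right h _)
  have hc7 : c = 7 := by
    have h252 : c * N17.index ∣ 252 := by
      obtain ⟨a, rfl⟩ := h4j
      exact ⟨a, by linarith⟩
    have hd63 : c ∣ 63 :=
      ((Nat.prime_two.coprime_iff_not_dvd.mpr hcodd).symm.pow_right 2).dvd_of_dvd_mul_left
        (show c ∣ 2 ^ 2 * 63 by exact (dvd_mul_right c _).trans h252)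
    have hc0 : c ≤ 63 := Nat.le_of_dvd (by norm_num) hd63
    have hj0' : j17 = 4 ∨ j17 = 8 := by
      have := Nat.le_of_dvd (by norm_num) hj8
      interval_cases j17 <;> omega
    rcases hj0' with rfl | rfl <;> interval_cases c <;> omega
  subst hc7
  -- a Sylow five-subgroup of the centraliser of `x` is normal
  have hzC : z ∈ Cx := Subgroup.mem_centralizer_singleton_iff.mpr hxz.eq
  set zc : Cx := ⟨z, hzC⟩ with hzc
  have hzco : orderOf zc = 5 := by rw [hzc, Subgroup.orderOf_mk, hzo]
  obtain ⟨P5, hP5⟩ := (IsPGroup.of_card (n := 1) (show Nat.card (Subgroup.zpowers zc) = 5 ^ 1 by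
    rw [Nat.card_zpowers, hzco, pow_one])).exists_le_sylow
  have hP5c : Nat.card (P5 : Subgroup Cx) = 5 := by
    rw [Sylow.card_eq_multiplicity, hc, show 85 * 7 = 5 * 119 by norm_num,
      Nat.factorization_mul (by norm_num) (by norm_num), Finsupp.add_apply,
      Nat.Prime.factorization_self (Fact.out : Nat.Prime 5),
      Nat.factorization_eq_zero_of_not_dvd (show ¬ 5 ∣ 119 by norm_num)]
    norm_num
  have hP5eq : Subgroup.zpowers zc = (P5 : Subgroup Cx) :=
    Subgroup.eq_of_le_of_card_ge hP5 (by rw [hP5c, Nat.card_zpowers, hzco])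
  obtain ⟨s, hs⟩ := exists_prime_orderOf_dvd_card' (G := Cx) 7 (by rw [hc]; norm_num)
  have hnormal : Subgroup.normalizer ((P5 : Subgroup Cx) : Set Cx) = ⊤ := by
    have hd := P5.card_dvd_index
    have hi := (P5 : Subgroup Cx).card_mul_index
    rw [hP5c, hc] at hi
    have hi' : (P5 : Subgroup Cx).index = 119 := by omega
    rw [hi'] at hd
    have hm := card_sylow_modEq_one 5 Cx
    unfold Nat.ModEq at hm
    have hn0 : Nat.card (Sylow 5 Cx) ≤ 119 := Nat.le_of_dvd (by norm_num) hd
    have h1 : Nat.card (Sylow 5 Cx) = 1 := by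
      generalize Nat.card (Sylow 5 Cx) = n at hd hm hn0
      obtain ⟨m, hm'⟩ := hd
      interval_cases n <;> omega
    rw [P5.card_eq_index_normalizer, Subgroup.index_eq_one] at h1
    exact h1
  have hsM : (s : G) ∈ M := by
    have hn := Subgroup.normalizer_eq_top_iff.mp hnormal
    rw [← hP5eq] at hn
    rw [hMdef]
    have key : ∀ a : Cx, ∀ v ∈ Subgroup.zpowers z, (a : G) * v * (a : G)⁻¹ ∈ Subgroup.zpowers z := by
      rintro a _ ⟨i, rfl⟩
      obtain ⟨l, hl⟩ := hn.conj_mem (zc ^ i) ⟨i, rfl⟩ a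
      exact ⟨l, by have := congrArg Subtype.val hl; simpa [hzc] using this⟩
    rw [Subgroup.mem_normalizer_iff]
    refine fun v => ⟨key s v, fun hv => ?_⟩
    simpa [mul_assoc] using key s⁻¹ _ hv
  have hso : orderOf (s : G) = 7 := by rw [Subgroup.orderOf_coe, hs]
  have h1 := Subgroup.orderOf_dvd_natCard M hsM
  rw [hso, hM, hHeq] at h1
  norm_num at h1

end SDat

/-- No simple group with almost cyclic Sylow subgroups has quasi-dihedral Sylow two-subgroups. -/
theorem no_quasidihedral [IsSimpleGroup G] (hG : AC G) (hind : Ind G) (S : Sylow 2 G)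
    (hQD : IsQuasiDihedral ↥(S : Subgroup G)) : False := by
  obtain ⟨D⟩ := exists_SDat hind S hQD
  obtain ⟨hq, hw, hN⟩ := D.exists_params hG
  have hp5 : 5 ≤ D.p := by rcases D.hq with e | e <;> omega
  exact D.no_small hG hq (D.O_trivial hG hind hw hp5) hN

end CfsgLib.AlmostCyclic
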