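import Cfsg.Agent.Lib.AlmostCyclic.Str
import Cfsg.Agent.Lib.QuasiDihedralClasses
import Cfsg.Agent.Lib.SL2Orders
import Cfsg.Agent.Lib.Basic
import Cfsg.Prelude.Def_CaseTheorems

/-!
# Preparations for the quasi-dihedral case
-/

set_option autoImplicit false
set_option linter.style.haveILetI false
set_option linter.unusedSectionVars false

namespace CfsgLib.AlmostCyclic

open Subgroup Cfsg Matrix

universe u

theorem qd_congr {A B : Type*} [Group A] [Group B] (e : A ≃* B) (h : IsQuasiDihedral A) :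
    IsQuasiDihedral B := by
  obtain ⟨n, hn, hc, x, y, hx, hy, hxy⟩ := h
  refine ⟨n, hn, by rw [← Nat.card_congr e.toEquiv, hc], e x, e y, by rw [e.orderOf_eq, hx],
    by rw [e.orderOf_eq, hy], by rw [← map_inv, ← map_mul, ← map_mul, hxy, map_pow]⟩

section QD

variable {S : Type*} [Group S] [Finite S] (d : CfsgLib.QD.Data S)

/-- An element commuting with two noncommuting elements of a quasi-dihedral group is central. -/
theorem qd_cent {g a b : S} (hga : Commute g a) (hgb : Commute g b) (hab : ¬ Commute a b) :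
    g = 1 ∨ g = d.z := by
  obtain ⟨i, rfl | rfl⟩ := CfsgLib.QD.cases_elem d g
  · by_cases hi : 4 * (d.M : ℤ) ∣ i
    · exact CfsgLib.QD.zpow_sq_eq_one_cases d hi
    exfalso
    have key : ∀ c : S, Commute (d.x ^ i) c → ∃ j : ℤ, c = d.x ^ j := by
      intro c hc
      obtain ⟨j, rfl | rfl⟩ := CfsgLib.QD.cases_elem d c
      · exact ⟨j, rfl⟩
      · exact absurd ((CfsgLib.QD.commute_xy_iff d).mp hc) hi
    obtain ⟨j, rfl⟩ := key a hga
    obtain ⟨l, rfl⟩ := key b hgb
    exact hab ((Commute.refl d.x).zpow_zpow j l)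
  · exfalso
    have key : ∀ c : S, Commute (d.x ^ i * d.y) c →
        ∃ z ∈ Subgroup.center S, c = z ∨ c = z * (d.x ^ i * d.y) := by
      intro c hc
      obtain ⟨j, rfl | rfl⟩ := CfsgLib.QD.cases_elem d c
      · refine ⟨_, ?_, Or.inl rfl⟩
        have h4 := (CfsgLib.QD.commute_xy_iff d).mp hc.symm
        rcases CfsgLib.QD.zpow_sq_eq_one_cases d h4 with e | e <;> rw [e]
        · exact one_mem _
        · exact CfsgLib.QD.z_central d
      · have e : d.x ^ j * d.y = d.x ^ (j - i) * (d.x ^ i * d.y) := by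
          rw [← mul_assoc, ← _root_.zpow_add, sub_add_cancel]
        refine ⟨d.x ^ (j - i), ?_, Or.inr e⟩
        rw [e] at hc
        have h4 : Commute (d.x ^ (j - i)) (d.x ^ i * d.y) := by
          have h := hc.mul_right (Commute.refl (d.x ^ i * d.y)).inv_right
          rw [mul_inv_cancel_right] at h
          exact h.symm
        rcases CfsgLib.QD.zpow_sq_eq_one_cases d ((CfsgLib.QD.commute_xy_iff d).mp h4) with e' | e' <;>
          rw [e']
        · exact one_mem _
        · exact CfsgLib.QD.z_central d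
    obtain ⟨z, hz, ha⟩ := key a hga
    obtain ⟨z', hz', hb⟩ := key b hgb
    have hzc : ∀ c, Commute z c := fun c => (Subgroup.mem_center_iff.mp hz c).symm
    have hzc' : ∀ c, Commute z' c := fun c => (Subgroup.mem_center_iff.mp hz' c).symm
    rcases ha with rfl | rfl
    · exact hab (hzc b)
    rcases hb with rfl | rfl
    · exact hab (hzc' _).symm
    · exact hab (((hzc _).mul_left ((hzc' _).symm.mul_right (Commute.refl _))))

end QD

section SL

variable {p : ℕ} [Fact p.Prime]

local notation "SLp" => Matrix.SpecialLinearGroup (Fin 2) (ZMod p)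
local notation "PSLp" => Matrix.ProjectiveSpecialLinearGroup (Fin 2) (ZMod p)

theorem psl_center_bot (hp : 5 ≤ p) : Subgroup.center PSLp = ⊥ := by
  haveI : IsSimpleGroup PSLp := Matrix.ProjectiveSpecialLinearGroup.rank_two_simple
    (by rw [Nat.card_zmod]; omega)
  refine (Subgroup.Normal.eq_bot_or_eq_top (inferInstance : (Subgroup.center PSLp).Normal)).resolve_right
    fun h => ?_
  have hc : PSL2.mk (PSL2.uSL (1 : ZMod p) * PSL2.vSL 1) = PSL2.mk (PSL2.vSL 1 * PSL2.uSL (1 : ZMod p)) := by
    have := Subgroup.mem_center_iff.mp (h ▸ Subgroup.mem_top (PSL2.mk (PSL2.uSL (1 : ZMod p)) : PSLp))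
      (PSL2.mk (PSL2.vSL (1 : ZMod p)))
    exact (map_mul PSL2.mk _ _).trans (this.symm.trans (map_mul PSL2.mk _ _).symm)
  have h2 := Subgroup.mem_center_iff.mp
    ((QuotientGroup.eq (s := Subgroup.center SLp)).mp hc) (PSL2.uSL (1 : ZMod p))
  have h3 := congrArg (fun g : SLp => g.1 0 0) h2
  have h4 : (1 : ZMod p) = 0 := by
    simp [Matrix.SpecialLinearGroup.coe_inv, PSL2.coe_uSL, PSL2.coe_vSL, Matrix.adjugate_fin_two_of,
      Matrix.mul_apply, Fin.sum_univ_two] at h3
  exact one_ne_zero h4

end SL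

end CfsgLib.AlmostCyclic
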