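import Cfsg.Agent.Lib.AlmostCyclic.SDPrep
import Cfsg.Agent.Lib.PSolvable
import Cfsg.Agent.S2879
import Mathlib.GroupTheory.Transfer

/-!
# The centraliser of an involution maps onto `PG`
-/

set_option autoImplicit false
set_option linter.style.haveILetI false
set_option linter.unusedSectionVars false

namespace CfsgLib.AlmostCyclic

open Subgroup Cfsg Matrix

universe u

variable {C : Type u} [Group C] [Finite C]

theorem lift_kernel (O : Subgroup C) [O.Normal] {t : C} (htt : t * t = 1)
    {p : ℕ} [Fact p.Prime] (ψ : C ⧸ O →* PG (ZMod p)) (hsurj : Function.Surjective ψ)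
    (hker : ∀ a, ψ a = 1 ↔ a = 1 ∨ a = (t : C ⧸ O)) :
    Function.Surjective (ψ.comp (QuotientGroup.mk' O)) ∧
      ∀ a : C, ψ.comp (QuotientGroup.mk' O) a = 1 ↔ a ∈ O ∨ a * t ∈ O := by
  refine ⟨hsurj.comp (QuotientGroup.mk'_surjective O), fun a => ?_⟩
  show ψ (a : C ⧸ O) = 1 ↔ _
  rw [hker, QuotientGroup.eq_one_iff, QuotientGroup.eq_iff_div_mem, div_eq_mul_inv,
    inv_eq_of_mul_eq_one_right htt]

/-- A normal subgroup with a central Sylow subgroup of order two is small if there is no odd core. -/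
theorem normal_eq_pair (hO : oddCore C = ⊥) (N : Subgroup C) [N.Normal] (T : Sylow 2 C) {t : C}
    (ht : orderOf t = 2) (htc : t ∈ Subgroup.center C) (htN : t ∈ N)
    (hsmall : ∀ g ∈ N, g ∈ (T : Subgroup C) → g = 1 ∨ g = t) : ∀ g ∈ N, g = 1 ∨ g = t := by
  haveI := Fact.mk Nat.prime_two
  have hall : ∀ g ∈ N, ∀ n : ℕ, orderOf g = 2 ^ n → g = 1 ∨ g = t := by
    intro g hg n hn
    obtain ⟨R, hR⟩ := (IsPGroup.of_card (G := Subgroup.zpowers g) (n := n)
      (by rw [Nat.card_zpowers, hn])).exists_le_sylow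
    obtain ⟨c, hc⟩ := MulAction.exists_smul_eq C R T
    have hcg : c * g * c⁻¹ ∈ (T : Subgroup C) := by
      rw [← hc, Sylow.coe_subgroup_smul]
      exact Subgroup.smul_mem_pointwise_smul g (MulAut.conj c) _ (hR (Subgroup.mem_zpowers g))
    rcases hsmall _ (Subgroup.Normal.conj_mem inferInstance g hg c) hcg with h | h
    · exact Or.inl (conj_eq_one_iff.mp h)
    · refine Or.inr ?_
      have := Subgroup.mem_center_iff.mp htc c
      calc g = c⁻¹ * (c * g * c⁻¹) * c := by group
        _ = c⁻¹ * t * c := by rw [h]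
        _ = t := by rw [mul_assoc, ← this, inv_mul_cancel_left]
  obtain ⟨P⟩ : Nonempty (Sylow 2 N) := inferInstance
  have hP : ∀ x ∈ (P : Subgroup N), (x : C) = 1 ∨ (x : C) = t := by
    intro x hx
    obtain ⟨n, hn⟩ := IsPGroup.iff_orderOf.mp P.2 ⟨x, hx⟩
    exact hall x x.2 n (by rw [Subgroup.orderOf_coe]; rwa [Subgroup.orderOf_mk] at hn)
  have hNC : Subgroup.normalizer ((P : Subgroup N) : Set N) ≤
      Subgroup.centralizer ((P : Subgroup N) : Set N) := by
    intro c _ x hx
    apply Subtype.ext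
    show (x : C) * c = c * x
    rcases hP x hx with h | h <;> rw [h]
    · rw [one_mul, mul_one]
    · exact (Subgroup.mem_center_iff.mp htc c).symm
  set M : Subgroup N := (MonoidHom.transferSylow P hNC).ker with hM
  have hMo : Odd (Nat.card M) := by
    rw [← Nat.not_even_iff_odd, even_iff_two_dvd]
    exact MonoidHom.not_dvd_card_ker_transferSylow P hNC
  have hodd : ∀ x : N, x ∈ M ↔ Odd (orderOf x) := by
    intro x
    constructor
    · intro hx
      exact hMo.of_dvd_nat (by rw [← Subgroup.orderOf_mk x hx]; exact orderOf_dvd_natCard _)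
    · intro hx
      obtain ⟨n, hn⟩ := IsPGroup.iff_orderOf.mp P.2 (MonoidHom.transferSylow P hNC x)
      rw [hM, MonoidHom.mem_ker, ← orderOf_eq_one_iff, hn]
      rcases Nat.eq_zero_or_pos n with rfl | hn0
      · rfl
      · exfalso
        have h2 : 2 ∣ orderOf x := ((dvd_pow_self 2 (by omega)).trans hn.symm.dvd).trans
          (orderOf_map_dvd _ _)
        exact Nat.not_even_iff_odd.mpr hx (even_iff_two_dvd.mpr h2)
  haveI hMn : (M.map N.subtype).Normal := by
    refine ⟨?_⟩
    rintro _ ⟨x, hx, rfl⟩ c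
    refine ⟨⟨c * x * c⁻¹, Subgroup.Normal.conj_mem inferInstance _ x.2 c⟩, (hodd _).mpr ?_, rfl⟩
    rw [← Subgroup.orderOf_coe]
    show Odd (orderOf (MulAut.conj c (x : C)))
    rw [MulEquiv.orderOf_eq, Subgroup.orderOf_coe]
    exact (hodd x).mp hx
  have hbot : M = ⊥ := by
    have h := CfsgLib.le_oddCore (N := M.map N.subtype)
      (by rw [Subgroup.card_map_of_injective N.subtype_injective]; exact hMo)
    rw [hO, le_bot_iff] at h
    exact (Subgroup.map_eq_bot_iff_of_injective _ N.subtype_injective).mp h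
  have hPtop : (P : Subgroup N) = ⊤ := by
    have := MonoidHom.ker_transferSylow_isComplement' P hNC
    rw [← hM, hbot] at this
    exact Subgroup.isComplement'_bot_left.mp this
  exact fun g hg => hP ⟨g, hg⟩ (by rw [hPtop]; exact Subgroup.mem_top _)

theorem sl23_four_mul : ∀ a b : Matrix.SpecialLinearGroup (Fin 2) (ZMod 3),
    a ^ 4 = 1 → b ^ 4 = 1 → (a * b) ^ 4 = 1 := by decide +kernel

theorem sl23_noncomm : ∃ a b : Matrix.SpecialLinearGroup (Fin 2) (ZMod 3),
    a ^ 4 = 1 ∧ b ^ 4 = 1 ∧ ¬ a * b = b * a := by decide +kernel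

/-- The solvable case: the quotient by the odd core maps onto `PG` over three elements. -/
theorem solvable_quot [Group.IsSolvable C] (S : Sylow 2 C) (hQD : IsQuasiDihedral (S : Subgroup C))
    {t : C} (ht : orderOf t = 2) (htS : t ∈ (S : Subgroup C)) (htc : t ∈ Subgroup.center C)
    (hne : ∀ a : ℕ, (oddCore C).index ≠ 2 ^ a) :
    ∃ (O : Subgroup C) (_ : O.Normal) (_ : Fact (Nat.Prime 3)) (ψ : C →* PG (ZMod 3)),
      Odd (Nat.card O) ∧ Function.Surjective ψ ∧ ∀ a, ψ a = 1 ↔ a ∈ O ∨ a * t ∈ O := by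
  haveI := Fact.mk Nat.prime_two
  haveI h3 := Fact.mk Nat.prime_three
  set O := oddCore C with hO
  haveI : O.Normal := by rw [hO]; infer_instance
  have hOodd : Odd (Nat.card O) := CfsgLib.odd_card_oddCore
  set f := QuotientGroup.mk' O with hf
  have hfs : Function.Surjective f := QuotientGroup.mk'_surjective O
  have hinj : ∀ x ∈ (S : Subgroup C), x ∈ O → x = 1 := by
    intro x hx hxO
    obtain ⟨n, hn⟩ := IsPGroup.iff_orderOf.mp S.2 ⟨x, hx⟩
    rw [Subgroup.orderOf_mk] at hn
    have h1 : orderOf x ∣ Nat.card O := by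
      rw [← Subgroup.orderOf_mk x hxO]; exact orderOf_dvd_natCard _
    refine orderOf_eq_one_iff.mp ?_
    rcases Nat.eq_zero_or_pos n with rfl | hn0
    · exact hn
    · exfalso
      exact Nat.not_even_iff_odd.mpr hOodd
        (even_iff_two_dvd.mpr (((dvd_pow_self 2 (by omega)).trans hn.symm.dvd).trans h1))
  let T : Sylow 2 (C ⧸ O) := S.mapSurjective hfs
  have hTmap : (T : Subgroup (C ⧸ O)) = (S : Subgroup C).map f := Sylow.coe_mapSurjective ..
  have hQDT : IsQuasiDihedral (T : Subgroup (C ⧸ O)) := by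
    rw [hTmap]
    refine qd_congr (MulEquiv.ofBijective (f.subgroupMap (S : Subgroup C))
      ⟨?_, f.subgroupMap_surjective _⟩) hQD
    rw [injective_iff_map_eq_one]
    intro x hx
    exact Subtype.ext (hinj x x.2 ((QuotientGroup.eq_one_iff (x : C)).mp (congrArg Subtype.val hx)))
  have hOq : oddCore (C ⧸ O) = ⊥ := CfsgLib.pPrimeCore_quotient_eq_bot 2
  have hTne : (T : Subgroup (C ⧸ O)) ≠ ⊤ := by
    intro h
    obtain ⟨n, hn⟩ := T.2.exists_card_eq
    rw [h, Subgroup.card_top] at hn
    exact hne n hn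
  have htbc : (t : C ⧸ O) ∈ Subgroup.center (C ⧸ O) := by
    rw [Subgroup.mem_center_iff]
    intro x
    induction x using QuotientGroup.induction_on with
    | H g => rw [← QuotientGroup.mk_mul, ← QuotientGroup.mk_mul, Subgroup.mem_center_iff.mp htc g]
  have htb1 : (t : C ⧸ O) ≠ 1 := fun h => by
    rw [hinj t htS ((QuotientGroup.eq_one_iff t).mp h), orderOf_one] at ht
    norm_num at ht
  have htt : t * t = 1 := CfsgLib.Involutions.mul_self_eq_one_of_orderOf ht
  have htbt : (t : C ⧸ O) * (t : C ⧸ O) = 1 := by rw [← QuotientGroup.mk_mul, htt]; rfl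
  have htbo : orderOf (t : C ⧸ O) = 2 := orderOf_eq_prime (by rw [pow_two]; exact htbt) htb1
  have htT : (t : C ⧸ O) ∈ (T : Subgroup (C ⧸ O)) := by rw [hTmap]; exact ⟨t, htS, rfl⟩
  obtain ⟨n, hn3, hcardT, d, -⟩ := CfsgLib.QD.exists_data hQDT
  have hcent : ∀ g : (T : Subgroup (C ⧸ O)), g ∈ Subgroup.center (T : Subgroup (C ⧸ O)) →
      (g : C ⧸ O) = 1 ∨ (g : C ⧸ O) = ((d.z : (T : Subgroup (C ⧸ O))) : C ⧸ O) := by
    intro g hg
    rw [CfsgLib.QD.center_eq_zpowers d] at hg
    obtain ⟨i, rfl⟩ := hg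
    show ((d.z ^ i : (T : Subgroup (C ⧸ O))) : C ⧸ O) = 1 ∨ _
    have h2 := CfsgLib.Involutions.mul_self_eq_one_of_orderOf (CfsgLib.QD.orderOf_z d)
    rcases Int.even_or_odd' i with ⟨j, rfl | rfl⟩
    · left
      rw [_root_.zpow_mul, zpow_two, h2, _root_.one_zpow, Subgroup.coe_one]
    · right
      dsimp only
      rw [_root_.zpow_add, _root_.zpow_mul, zpow_two, h2, _root_.one_zpow, one_mul, zpow_one]
  have hdz : ((d.z : (T : Subgroup (C ⧸ O))) : C ⧸ O) = (t : C ⧸ O) := by
    rcases hcent ⟨_, htT⟩ (Subgroup.mem_center_iff.mpr fun g =>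
      Subtype.ext (Subgroup.mem_center_iff.mp htbc (g : C ⧸ O))) with h | h
    · exact absurd h htb1
    · exact h.symm
  have hZ : ((T : Subgroup (C ⧸ O)) ⊓
      Subgroup.centralizer ((T : Subgroup (C ⧸ O)) : Set (C ⧸ O))).Normal := by
    refine ⟨fun g hg c => ?_⟩
    have hgc : g ∈ Subgroup.center (C ⧸ O) := by
      rcases hcent ⟨g, hg.1⟩ (Subgroup.mem_center_iff.mpr fun a => Subtype.ext (hg.2 a a.2)) with h | h
      · rw [show g = 1 from h]; exact one_mem _
      · rw [show g = (t : C ⧸ O) from h.trans hdz]; exact htbc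
    rw [Subgroup.mem_center_iff.mp hgc c, mul_inv_cancel_right]
    exact hg
  haveI : Group.IsSolvable (C ⧸ O) := inferInstance
  obtain ⟨U, hUn, ⟨e⟩⟩ :=
    Cfsg.Agent.S2879.result (G := C ⧸ O) (inferInstance : Group.IsSolvable (C ⧸ O)) hOq T (Or.inr hQDT) hTne hZ
  haveI := hUn
  let K : Subgroup (C ⧸ O) :=
    { carrier := {x | x ∈ U ∧ x ^ 4 = 1}
      one_mem' := ⟨U.one_mem, one_pow 4⟩
      mul_mem' := fun {x y} hx hy => ⟨U.mul_mem hx.1 hy.1, by
        have h := sl23_four_mul (e ⟨x, hx.1⟩) (e ⟨y, hy.1⟩)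
          (by rw [← map_pow, show (⟨x, hx.1⟩ : U) ^ 4 = 1 from Subtype.ext hx.2, map_one])
          (by rw [← map_pow, show (⟨y, hy.1⟩ : U) ^ 4 = 1 from Subtype.ext hy.2, map_one])
        rw [← map_mul, ← map_pow, EmbeddingLike.map_eq_one_iff] at h
        exact congrArg Subtype.val h⟩
      inv_mem' := fun {x} hx => ⟨U.inv_mem hx.1, by rw [inv_pow, hx.2, inv_one]⟩ }
  haveI : K.Normal := ⟨fun x hx c => ⟨hUn.conj_mem x hx.1 c, by
    rw [conj_pow, hx.2, mul_one, mul_inv_cancel]⟩⟩
  have hK2 : IsPGroup 2 K := fun x => ⟨2, Subtype.ext x.2.2⟩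
  have hKT : K ≤ (T : Subgroup (C ⧸ O)) := (CfsgLib.le_pCore hK2).trans (CfsgLib.pCore_le_sylow T)
  have hmemK : ∀ a, a ^ 4 = 1 → ((e.symm a : U) : C ⧸ O) ∈ K := fun a ha => ⟨(e.symm a).2, by
    rw [← Subgroup.coe_pow, ← map_pow, ha, map_one, Subgroup.coe_one]⟩
  obtain ⟨a, b, ha, hb, hab⟩ := sl23_noncomm
  -- the central involution lies in `U`
  have htU : (t : C ⧸ O) ∈ U := by
    set z : U := e.symm (-1) with hz
    have hz2 : (z : C ⧸ O) ∈ K := hmemK _ (by decide +kernel)
    have hz1 : z ≠ 1 := fun h => by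
      rw [hz, EmbeddingLike.map_eq_one_iff] at h
      exact absurd h (by decide +kernel)
    have hzc : ∀ x : U, x * z = z * x := fun x => by
      apply e.injective
      rw [map_mul, map_mul, hz, MulEquiv.apply_symm_apply, mul_neg, neg_mul, mul_one, one_mul]
    have hzzc : (⟨(z : C ⧸ O), hKT hz2⟩ : (T : Subgroup (C ⧸ O))) ∈
        Subgroup.center (T : Subgroup (C ⧸ O)) := by
      rw [Subgroup.mem_center_iff]
      intro g
      apply Subtype.ext
      show (g : C ⧸ O) * z = z * g
      -- conjugation fixes the only involution of `U`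
      have hc := hUn.conj_mem _ z.2 (g : C ⧸ O)
      have h2 : (e ⟨_, hc⟩) * (e ⟨_, hc⟩) = 1 := by
        rw [← map_mul, EmbeddingLike.map_eq_one_iff]
        apply Subtype.ext
        show (g : C ⧸ O) * z * (g : C ⧸ O)⁻¹ * ((g : C ⧸ O) * z * (g : C ⧸ O)⁻¹) = 1
        have hzz : z * z = 1 := by
          apply e.injective
          rw [map_mul, map_one, hz, MulEquiv.apply_symm_apply, neg_mul_neg, one_mul]
        have hzz' : (z : C ⧸ O) * z = 1 := congrArg Subtype.val hzz
        calc _ = (g : C ⧸ O) * ((z : C ⧸ O) * z) * (g : C ⧸ O)⁻¹ := by group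
          _ = 1 := by rw [hzz', mul_one, mul_inv_cancel]
      rcases SL2Orders.eq_one_or_neg_one_of_sq (zmod_two_ne (p := 3) (by norm_num)) _ h2 with h | h
      · rw [EmbeddingLike.map_eq_one_iff] at h
        exact absurd (conj_eq_one_iff.mp (congrArg Subtype.val h)) (fun h' => hz1 (Subtype.ext h'))
      · have h' : (⟨_, hc⟩ : U) = z :=
          e.injective (h.trans (e.apply_symm_apply (-1)).symm)
        exact mul_inv_eq_iff_eq_mul.mp (congrArg Subtype.val h')
    rcases hcent _ hzzc with h | h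
    · exact absurd (Subtype.ext h) hz1
    · rw [← hdz, ← h]; exact z.2
  have hker : ∀ g : C ⧸ O, (∀ l ∈ U, g * l = l * g) → g = 1 ∨ g = (t : C ⧸ O) := by
    intro g hg
    refine normal_eq_pair hOq (Subgroup.centralizer (U : Set (C ⧸ O))) T htbo htbc
      (fun l _ => Subgroup.mem_center_iff.mp htbc l) (fun x hx hxT => ?_) g (fun l hl => (hg l hl).symm)
    have hcx : ∀ c, c ^ 4 = 1 → ∀ hc : ((e.symm c : U) : C ⧸ O) ∈ (T : Subgroup (C ⧸ O)),
        Commute (⟨x, hxT⟩ : (T : Subgroup (C ⧸ O))) ⟨_, hc⟩ := fun c _ hc =>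
      Subtype.ext (hx _ (e.symm c).2).symm
    have hnc : ¬ Commute (⟨_, hKT (hmemK a ha)⟩ : (T : Subgroup (C ⧸ O))) ⟨_, hKT (hmemK b hb)⟩ := by
      intro h
      have h' := congrArg (fun x : (T : Subgroup (C ⧸ O)) => (x : C ⧸ O)) h.eq
      exact hab (e.symm.injective (by rw [map_mul, map_mul]; exact Subtype.ext h'))
    rcases qd_cent d (hcx a ha (hKT (hmemK a ha))) (hcx b hb (hKT (hmemK b hb))) hnc with h | h
    · exact Or.inl (congrArg Subtype.val h)
    · exact Or.inr ((congrArg Subtype.val h).trans hdz)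
  obtain ⟨ψ, hψ, hψk⟩ := exists_to_PG (p := 3) (by norm_num) U e hker
    (fun l _ => (Subgroup.mem_center_iff.mp htbc l).symm) htU htb1 T.2 (by
      intro h
      rw [SLCard.card_SL_two, ZMod.card, show 3 * (3 ^ 2 - 1) = 24 by norm_num, hcardT] at h
      have h16 : 2 ^ 4 ∣ 24 := (pow_dvd_pow 2 (show 4 ≤ n + 1 by omega)).trans h
      norm_num at h16)
  obtain ⟨h1, h2⟩ := lift_kernel O htt ψ hψ hψk
  exact ⟨O, inferInstance, h3, _, hOodd, h1, h2⟩

/-- The nonsolvable case. -/
theorem nonsolvable_quot (S : Sylow 2 C) (hQD : IsQuasiDihedral (S : Subgroup C))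
    {t w : C} (ht : orderOf t = 2) (htc : t ∈ Subgroup.center C)
    (hw : orderOf w = 2) (hwt : w ≠ t) (hsq : ∃ s, s * s = t) (D : Dec C) :
    ∃ (O : Subgroup C) (_ : O.Normal) (_ : Fact D.p.Prime) (ψ : C →* PG (ZMod D.p)),
      Odd (Nat.card O) ∧ Function.Surjective ψ ∧ ∀ a, ψ a = 1 ↔ a ∈ O ∨ a * t ∈ O := by
  haveI := Fact.mk Nat.prime_two
  haveI hp := Fact.mk D.hp
  haveI := D.hX
  haveI := D.hL
  have hp2 : D.p ≠ 2 := by have := D.hp5; omega
  have htt : t * t = 1 := CfsgLib.Involutions.mul_self_eq_one_of_orderOf ht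
  have htG : t ∈ D.X ⊔ D.L := by
    obtain ⟨s, hs⟩ := hsq
    rcases (Nat.dvd_prime Nat.prime_two).mp D.hidx with h | h
    · rw [Subgroup.index_eq_one.mp h]; exact Subgroup.mem_top _
    · rw [← hs]; exact Subgroup.mul_self_mem_of_index_two h s
  have hinL : ∀ i ∈ D.X ⊔ D.L, orderOf i = 2 → i ∈ D.L := by
    intro i hi hi2
    refine mem_of_pow_card D.hcomm D.hcop hi (orderOf_dvd_iff_pow_eq_one.mp ?_)
    have h2 : orderOf i ∣ Nat.card D.X * Nat.card D.L := by
      rw [← D.hcard, ← Subgroup.orderOf_mk i hi]; exact orderOf_dvd_natCard _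
    rw [hi2] at h2 ⊢
    exact (Nat.Coprime.dvd_of_dvd_mul_left (Nat.coprime_two_left.mpr D.hodd) h2)
  have htL : t ∈ D.L := hinL t htG ht
  have ht1 : t ≠ 1 := fun h => by rw [h, orderOf_one] at ht; norm_num at ht
  have hne : ¬ Nonempty (↥D.L ≃* Matrix.ProjectiveSpecialLinearGroup (Fin 2) (ZMod D.p)) := by
    rintro ⟨e⟩
    have h : e ⟨t, htL⟩ ∈ Subgroup.center _ := Subgroup.mem_center_iff.mpr fun g => by
      obtain ⟨l, rfl⟩ := e.surjective g
      rw [← map_mul, ← map_mul]
      exact congrArg e (Subtype.ext (Subgroup.mem_center_iff.mp htc (l : C)))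
    rw [psl_center_bot D.hp5, Subgroup.mem_bot, EmbeddingLike.map_eq_one_iff] at h
    exact ht1 (congrArg Subtype.val h)
  obtain ⟨e⟩ := D.iso.resolve_left hne
  have hneg : ∀ (i : C) (hi : i ∈ D.L), orderOf i = 2 → e ⟨i, hi⟩ = -1 := by
    intro i hi hi2
    refine (SL2Orders.eq_one_or_neg_one_of_sq (zmod_two_ne hp2) _ ?_).resolve_left fun h => ?_
    · rw [← map_mul, EmbeddingLike.map_eq_one_iff]
      exact Subtype.ext (CfsgLib.Involutions.mul_self_eq_one_of_orderOf hi2)
    · rw [EmbeddingLike.map_eq_one_iff] at h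
      rw [show i = 1 from congrArg Subtype.val h, orderOf_one] at hi2
      norm_num at hi2
  have hidx : (D.X ⊔ D.L).index = 2 := by
    refine ((Nat.dvd_prime Nat.prime_two).mp D.hidx).resolve_left fun h => hwt ?_
    have hwL := hinL w (by rw [Subgroup.index_eq_one.mp h]; exact Subgroup.mem_top _) hw
    exact congrArg Subtype.val (e.injective ((hneg w hwL hw).trans (hneg t htL ht).symm))
  -- two-parts
  set f := (Nat.card D.L).factorization 2 with hf
  have hXf : (Nat.card D.X).factorization 2 = 0 :=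
    Nat.factorization_eq_zero_of_not_dvd fun h =>
      Nat.not_even_iff_odd.mpr D.hodd (even_iff_two_dvd.mpr h)
  have hCf : (Nat.card C).factorization 2 = f + 1 := by
    have h := (D.X ⊔ D.L).card_mul_index
    rw [hidx, D.hcard] at h
    have h0 : Nat.card D.X ≠ 0 := Nat.card_pos.ne'
    have h0' : Nat.card D.L ≠ 0 := Nat.card_pos.ne'
    rw [← h, Nat.factorization_mul (mul_ne_zero h0 h0') two_ne_zero, Finsupp.add_apply,
      Nat.factorization_mul h0 h0', Finsupp.add_apply, hXf, zero_add,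
      Nat.prime_two.factorization_self]
  have hScard : ∀ P : Sylow 2 C, Nat.card (P : Subgroup C) = 2 ^ (f + 1) := fun P => by
    rw [Sylow.card_eq_multiplicity, hCf]
  obtain ⟨Q⟩ : Nonempty (Sylow 2 D.L) := inferInstance
  set Q' := (Q : Subgroup D.L).map D.L.subtype with hQ'
  have hQcard : Nat.card Q' = 2 ^ f := by
    rw [hQ', Subgroup.card_map_of_injective D.L.subtype_injective, Sylow.card_eq_multiplicity]
  -- the centraliser of `L`
  have hcent : ∀ a : C, (∀ l ∈ D.L, a * l = l * a) → a * t ∈ D.X ∨ a ∈ D.X := by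
    intro a ha
    by_cases haG : a ∈ D.X ⊔ D.L
    · rw [← SetLike.mem_coe, Subgroup.normal_mul] at haG
      obtain ⟨x, hx, l, hl, rfl⟩ := haG
      have hlc : e ⟨l, hl⟩ ∈ Subgroup.center _ := Subgroup.mem_center_iff.mpr fun g => by
        obtain ⟨m, rfl⟩ := e.surjective g
        rw [← map_mul, ← map_mul]
        refine congrArg e (Subtype.ext ?_)
        show (m : C) * l = l * m
        have h1 := ha m m.2
        have h2 := D.hcomm x hx m m.2
        have : x * ((m : C) * l) = x * (l * m) := by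
          calc x * ((m : C) * l) = m * (x * l) := by rw [← mul_assoc, h2, mul_assoc]
            _ = x * l * m := h1.symm
            _ = x * (l * m) := mul_assoc _ _ _
        exact mul_left_cancel this
      obtain ⟨u, v, huv, huniv⟩ := Nat.card_eq_two_iff.mp (card_center_SLp (p := D.p) hp2)
      have hpair : ∀ g : Subgroup.center (Matrix.SpecialLinearGroup (Fin 2) (ZMod D.p)), g = u ∨ g = v :=
        fun g => by
          have := huniv ▸ Set.mem_univ g
          exact this
      have hnegc : (-1 : Matrix.SpecialLinearGroup (Fin 2) (ZMod D.p)) ∈ Subgroup.center _ :=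
        Subgroup.mem_center_iff.mpr fun g => by rw [mul_neg, neg_mul, mul_one, one_mul]
      have hne1 : (-1 : Matrix.SpecialLinearGroup (Fin 2) (ZMod D.p)) ≠ 1 := fun h => ht1 (by
        have := (hneg t htL ht).trans h
        rw [EmbeddingLike.map_eq_one_iff] at this
        exact congrArg Subtype.val this)
      have hl1 : l = 1 ∨ l = t := by
        have hcases : e ⟨l, hl⟩ = 1 ∨ e ⟨l, hl⟩ = -1 := by
          rcases hpair ⟨_, hlc⟩ with h1 | h1 <;> rcases hpair ⟨_, one_mem _⟩ with h2 | h2 <;>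
            rcases hpair ⟨_, hnegc⟩ with h3 | h3
          all_goals first
            | exact absurd (congrArg Subtype.val (h3.trans h2.symm)) hne1
            | exact Or.inl (congrArg Subtype.val (h1.trans h2.symm))
            | exact Or.inr (congrArg Subtype.val (h1.trans h3.symm))
        rcases hcases with h | h
        · rw [EmbeddingLike.map_eq_one_iff] at h; exact Or.inl (congrArg Subtype.val h)
        · exact Or.inr (congrArg Subtype.val (e.injective (h.trans (hneg t htL ht).symm)))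
      rcases hl1 with rfl | rfl
      · right
        show x * 1 ∈ D.X
        rwa [mul_one]
      · left
        show x * _ * _ ∈ D.X
        rwa [mul_assoc, htt, mul_one]
    · exfalso
      obtain ⟨j, r, hr, hjr⟩ := Nat.exists_eq_pow_mul_and_not_dvd (orderOf_pos a).ne' 2 (by norm_num)
      have hr1 : Odd r := Nat.not_even_iff_odd.mp fun h => hr (even_iff_two_dvd.mp h)
      set b := a ^ r with hb
      have hbG : b ∉ D.X ⊔ D.L := by
        obtain ⟨i, rfl⟩ := hr1
        rw [hb, pow_succ, pow_mul, pow_two, Subgroup.mul_mem_cancel_left _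
          (Subgroup.pow_mem _ (Subgroup.mul_self_mem_of_index_two hidx a) i)]
        exact haG
      have hbp : IsPGroup 2 (Subgroup.zpowers b) := by
        refine IsPGroup.of_card (n := j) ?_
        rw [Nat.card_zpowers, hb, orderOf_pow' _ (fun h => by subst h; exact hr (dvd_zero 2)), hjr,
          Nat.gcd_eq_right (Dvd.intro_left _ rfl), Nat.mul_div_cancel _ (Nat.pos_of_ne_zero fun h => by
            subst h; exact hr (dvd_zero 2))]
      have hbc : ∀ l ∈ D.L, b * l = l * b := fun l hl => ((show Commute a l from ha l hl).pow_left r).eq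
      have hQL : Q' ≤ D.L := Subgroup.map_subtype_le _
      have hsup : IsPGroup 2 ↥(Q' ⊔ Subgroup.zpowers b) := by
        refine IsPGroup.to_sup_of_normal_left' (Q.2.map _) hbp ?_
        rw [Subgroup.zpowers_le]
        refine Subgroup.centralizer_le_normalizer _ ?_
        intro y hy
        exact (hbc y (hQL hy)).symm
      obtain ⟨P, hP⟩ := hsup.exists_le_sylow
      have hlt : Q' < Q' ⊔ Subgroup.zpowers b := lt_of_le_of_ne le_sup_left fun h => hbG
        (Subgroup.mem_sup_right (hQL (h ▸ Subgroup.mem_sup_right (Subgroup.mem_zpowers b))))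
      have heq : Q' ⊔ Subgroup.zpowers b = (P : Subgroup C) := by
        refine Subgroup.eq_of_le_of_card_ge hP ?_
        rw [hScard P]
        obtain ⟨i, hi⟩ := hsup.exists_card_eq
        rw [hi]
        refine Nat.pow_le_pow_right two_pos ?_
        have h1 : Nat.card Q' < Nat.card ↥(Q' ⊔ Subgroup.zpowers b) :=
          Set.ncard_lt_ncard hlt
        rw [hQcard, hi, Nat.pow_lt_pow_iff_right (by norm_num)] at h1
        omega
      have hbP : b ∈ (P : Subgroup C) := hP (Subgroup.mem_sup_right (Subgroup.mem_zpowers b))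
      have hbz : ∀ y ∈ (P : Subgroup C), y * b = b * y := by
        have : (P : Subgroup C) ≤ Subgroup.centralizer ({b} : Set C) := by
          rw [← heq, sup_le_iff, Subgroup.zpowers_le]
          exact ⟨fun y hy => Subgroup.mem_centralizer_singleton_iff.mpr (hbc y (hQL hy)).symm,
            Subgroup.mem_centralizer_singleton_iff.mpr rfl⟩
        exact fun y hy => Subgroup.mem_centralizer_singleton_iff.mp (this hy)
      have htP : t ∈ (P : Subgroup C) := by
        have h2 : IsPGroup 2 ↥(Subgroup.zpowers t) :=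
          IsPGroup.of_card (n := 1) (by rw [Nat.card_zpowers, ht, pow_one])
        haveI : (Subgroup.zpowers t).Normal := ⟨fun y hy c => by
          obtain ⟨i, rfl⟩ := hy
          rw [Subgroup.mem_center_iff.mp (zpow_mem htc i) c, mul_inv_cancel_right]
          exact ⟨i, rfl⟩⟩
        exact ((CfsgLib.le_pCore h2).trans (CfsgLib.pCore_le_sylow P)) (Subgroup.mem_zpowers t)
      obtain ⟨n, -, -, d, -⟩ := CfsgLib.QD.exists_data (qd_congr (S.equiv P) hQD)
      have hz : ∀ (y : C) (hy : y ∈ (P : Subgroup C)), (∀ u ∈ (P : Subgroup C), u * y = y * u) →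
          (⟨y, hy⟩ : (P : Subgroup C)) = 1 ∨ (⟨y, hy⟩ : (P : Subgroup C)) = d.z := by
        intro y hy hyc
        refine qd_cent d (a := d.x ^ (1 : ℤ)) (b := d.x ^ (0 : ℤ) * d.y) (Subtype.ext (hyc _ (Subtype.prop _)).symm)
          (Subtype.ext (hyc _ (Subtype.prop _)).symm) fun h => ?_
        have h4 := (CfsgLib.QD.commute_xy_iff d).mp h
        have := Int.le_of_dvd one_pos h4
        have := d.hM
        omega
      have hb1 : b ≠ 1 := fun h => hbG (h ▸ one_mem _)
      refine hbG ?_
      have e1 := (hz b hbP hbz).resolve_left fun h => hb1 (congrArg Subtype.val h)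
      have e2 := (hz t htP fun u _ => Subgroup.mem_center_iff.mp htc u).resolve_left
        fun h => ht1 (congrArg Subtype.val h)
      rw [show b = t from congrArg Subtype.val (e1.trans e2.symm)]
      exact htG
  set g := QuotientGroup.mk' D.X with hg
  have hinjL : ∀ l ∈ D.L, l ∈ D.X → l = 1 := by
    intro l hl hlX
    exact orderOf_eq_one_iff.mp (Nat.eq_one_of_dvd_coprimes D.hcop
      (by rw [← Subgroup.orderOf_mk l hlX]; exact orderOf_dvd_natCard _)
      (by rw [← Subgroup.orderOf_mk l hl]; exact orderOf_dvd_natCard _))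
  haveI : (D.L.map g).Normal := D.hL.map g (QuotientGroup.mk'_surjective _)
  have hbij : Function.Bijective (g.subgroupMap D.L) := by
    refine ⟨?_, g.subgroupMap_surjective _⟩
    rw [injective_iff_map_eq_one]
    intro x hx
    exact Subtype.ext (hinjL x x.2 ((QuotientGroup.eq_one_iff (x : C)).mp (congrArg Subtype.val hx)))
  let e' := (MulEquiv.ofBijective _ hbij).symm.trans e
  have hker : ∀ a : C ⧸ D.X, (∀ l ∈ D.L.map g, a * l = l * a) → a = 1 ∨ a = (t : C ⧸ D.X) := by
    intro a
    induction a using QuotientGroup.induction_on with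
    | H a =>
      intro hal
      have ha : ∀ l ∈ D.L, a * l = l * a := by
        intro l hl
        have h := hal _ ⟨l, hl, rfl⟩
        rw [hg, QuotientGroup.mk'_apply, ← QuotientGroup.mk_mul, ← QuotientGroup.mk_mul,
          QuotientGroup.eq_iff_div_mem, div_eq_mul_inv] at h
        refine mul_inv_eq_one.mp (hinjL _ ?_ h)
        rw [_root_.mul_inv_rev, show a * l * (a⁻¹ * l⁻¹) = a * l * a⁻¹ * l⁻¹ by group]
        exact D.L.mul_mem (D.hL.conj_mem l hl a) (D.L.inv_mem hl)
      rcases hcent a ha with h | h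
      · right
        rw [QuotientGroup.eq_iff_div_mem, div_eq_mul_inv, inv_eq_of_mul_eq_one_right htt]
        exact h
      · exact Or.inl ((QuotientGroup.eq_one_iff a).mpr h)
  obtain ⟨ψ, hψ, hψk⟩ := exists_to_PG (p := D.p) hp2 (D.L.map g) e' hker (t := (t : C ⧸ D.X))
    (by
      rintro _ ⟨l, -, rfl⟩
      rw [hg, QuotientGroup.mk'_apply, ← QuotientGroup.mk_mul, ← QuotientGroup.mk_mul,
        Subgroup.mem_center_iff.mp htc l])
    ⟨t, htL, rfl⟩ (fun h => ht1 (hinjL t htL ((QuotientGroup.eq_one_iff t).mp h)))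
    (T := ((S : Subgroup C).map g)) (S.2.map g) (by
      intro h
      rw [← Nat.card_congr e.toEquiv] at h
      have hSg : Nat.card ((S : Subgroup C).map g) = 2 ^ (f + 1) := by
        rw [← hScard S]
        refine (Nat.card_congr (MulEquiv.ofBijective (g.subgroupMap (S : Subgroup C))
          ⟨?_, g.subgroupMap_surjective _⟩).toEquiv).symm
        rw [injective_iff_map_eq_one]
        intro x hx
        have hxX : (x : C) ∈ D.X := (QuotientGroup.eq_one_iff (x : C)).mp (congrArg Subtype.val hx)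
        obtain ⟨i, hi⟩ := IsPGroup.iff_orderOf.mp S.2 x
        have h1 : orderOf x ∣ Nat.card D.X := by
          rw [← Subgroup.orderOf_coe, ← Subgroup.orderOf_mk (x : C) hxX]; exact orderOf_dvd_natCard _
        rw [hi] at h1
        rcases Nat.eq_zero_or_pos i with rfl | hi0
        · exact orderOf_eq_one_iff.mp hi
        · exfalso
          exact Nat.not_even_iff_odd.mpr D.hodd (even_iff_two_dvd.mpr ((dvd_pow_self 2 (by omega)).trans h1))
      rw [hSg] at h
      have := (Nat.Prime.pow_dvd_iff_le_factorization Nat.prime_two Nat.card_pos.ne').mp h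
      omega)
  obtain ⟨h1, h2⟩ := lift_kernel D.X htt ψ hψ hψk
  exact ⟨D.X, D.hX, hp, _, D.hodd, h1, h2⟩

end CfsgLib.AlmostCyclic
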