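import Cfsg.Agent.Lib.AlmostCyclic.SDIface
import Cfsg.Agent.Lib.AlmostCyclic.SDComb
import Cfsg.Agent.Lib.Blocks.Dihedral.Section
import Cfsg.Agent.Lib.Blocks.Dihedral.Fourier
import Cfsg.Agent.Lib.DihedralClasses

/-!
# The rotations of the quasi-dihedral configuration
-/

set_option autoImplicit false
set_option linter.style.haveILetI false
set_option linter.unusedSectionVars false

namespace CfsgLib.AlmostCyclic

open Cfsg CfsgLib.CharTheory CfsgLib.Blocks CfsgLib.Blocks.AbelianFree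
open scoped ComplexConjugate

universe u

variable {G : Type u} [Group G]

namespace SDat

variable (D : SDat G)

theorem two_le : 2 ≤ D.k := by
  obtain ⟨e, he⟩ := D.hk
  rw [he]
  exact Nat.le_self_pow (by omega) 2

theorem k_even : Even D.k := by
  obtain ⟨e, he⟩ := D.hk
  exact ⟨2 ^ e, by rw [he, pow_succ]; ring⟩

theorem four_pow : ∃ a : ℕ, 4 * D.k = 2 ^ (a + 1) := by
  obtain ⟨e, he⟩ := D.hk
  exact ⟨e + 2, by rw [he]; ring⟩

theorem pow_eq {i j : ℕ} : D.σ ^ i = D.σ ^ j ↔ i ≡ j [MOD 4 * D.k] := by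
  rw [pow_eq_pow_iff_modEq, D.hσ]

theorem pow_inj {i j : ℕ} (hi : i < 4 * D.k) (hj : j < 4 * D.k) (h : D.σ ^ i = D.σ ^ j) : i = j :=
  (D.pow_eq.mp h).eq_of_lt_of_lt hi hj

theorem pow_four : D.σ ^ (4 * D.k) = 1 := by rw [← D.hσ, pow_orderOf_eq_one]

theorem pow_two_part (i : ℕ) : ∃ a : ℕ, orderOf (D.σ ^ i) = 2 ^ a := by
  obtain ⟨a, ha⟩ := D.four_pow
  have h : orderOf (D.σ ^ i) ∣ 2 ^ (a + 1) :=
    orderOf_dvd_of_pow_eq_one (by rw [← ha, ← pow_mul, mul_comm, pow_mul, D.pow_four, one_pow])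
  obtain ⟨b, -, hb⟩ := (Nat.dvd_prime_pow Nat.prime_two).mp h
  exact ⟨b, hb⟩

theorem mem_cent (i : ℕ) : Subgroup.zpowers D.σ ≤ Subgroup.centralizer ({D.σ ^ i} : Set G) := by
  rintro x ⟨j, rfl⟩
  exact Subgroup.mem_centralizer_singleton_iff.mpr (((Commute.refl D.σ).zpow_left j).pow_right i).eq

/-- Conjugation by `w` on the powers of the rotation. -/
theorem w_pow (i : ℕ) : D.w * D.σ ^ i * D.w⁻¹ = D.σ ^ ((2 * D.k - 1) * i) := by
  rw [← conj_pow, D.hwσ, ← pow_mul]

variable [Finite G]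

/-- The quasi-dihedral generators. -/
theorem exists_dat : ∃ d : CfsgLib.QD.Data ↥(D.S : Subgroup G),
    ((d.x : ↥(D.S : Subgroup G)) : G) = D.σ ∧ ((d.y : ↥(D.S : Subgroup G)) : G) = D.w ∧
      2 * d.M = D.k := by
  obtain ⟨e, he⟩ := D.hk
  refine ⟨⟨2 ^ e, ⟨D.σ, D.hσS⟩, ⟨D.w, D.hwS⟩, Nat.two_pow_pos e, ?_, ?_, ?_, ?_⟩, rfl, rfl, ?_⟩
  · rw [Subgroup.orderOf_mk, D.hσ, he]; ring
  · rw [Subgroup.orderOf_mk, D.hw]
  · apply Subtype.ext
    simp only [Subgroup.coe_mul, Subgroup.coe_inv, Subgroup.coe_zpow]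
    rw [D.hwσ, ← zpow_natCast, Nat.cast_sub (by have := Nat.two_pow_pos e; rw [he, pow_succ]; omega), he]
    push_cast
    congr 1
    ring
  · rw [D.hS, he]; ring
  · show 2 * 2 ^ e = D.k
    exact (he.trans (pow_succ' 2 e)).symm

theorem sq_ne {i : ℕ} (hi : ¬ 2 * D.k ∣ i) : D.σ ^ i * D.σ ^ i ≠ 1 := by
  rw [← pow_add]
  intro h
  have h2 := orderOf_dvd_of_pow_eq_one h
  rw [D.hσ, show 4 * D.k = 2 * (2 * D.k) by ring, ← two_mul] at h2
  exact hi (Nat.dvd_of_mul_dvd_mul_left two_pos h2)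

theorem not_dvd {i : ℕ} (h0 : i ≠ 0) (hlt : i < 4 * D.k) (h2 : i ≠ 2 * D.k) : ¬ 2 * D.k ∣ i := by
  rintro ⟨c, rfl⟩
  rcases c with _ | _ | c
  · simp at h0
  · simp at h2
  · nlinarith

/-- Two-subgroups of the centraliser of a rotation are small. -/
theorem card_cent_two {i : ℕ} (hi : ¬ 2 * D.k ∣ i) {T : Subgroup G} (hT : IsPGroup 2 T)
    (hTc : ∀ x ∈ T, Commute x (D.σ ^ i)) : Nat.card T ≤ 4 * D.k := by
  classical
  haveI := Fact.mk Nat.prime_two
  obtain ⟨d, hdx, -, hdk⟩ := D.exists_dat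
  set u := D.σ ^ i with hu
  have hU : IsPGroup 2 ↥(Subgroup.zpowers u) := by
    obtain ⟨a, ha⟩ := D.pow_two_part i
    exact IsPGroup.of_card (n := a) (by rw [Nat.card_zpowers, hu, ha])
  have hsup : IsPGroup 2 ↥(T ⊔ Subgroup.zpowers u) := by
    refine IsPGroup.to_sup_of_normal_right' hT hU ?_
    intro x hx
    refine Subgroup.centralizer_le_normalizer _ ?_
    rintro _ ⟨j, rfl⟩
    exact ((hTc x hx).zpow_right j).eq.symm
  obtain ⟨g, hg⟩ := DihedralFusion.exists_conj_le (S := D.S) hsup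
  have hmem : ∀ x ∈ T ⊔ Subgroup.zpowers u, g * x * g⁻¹ ∈ (D.S : Subgroup G) := fun x hx =>
    hg ⟨x, hx, rfl⟩
  set u' : ↥(D.S : Subgroup G) :=
    ⟨g * u * g⁻¹, hmem u (Subgroup.mem_sup_right (Subgroup.mem_zpowers u))⟩ with hu'
  let f : T → ↥(D.S : Subgroup G) := fun x => ⟨g * x * g⁻¹, hmem _ (Subgroup.mem_sup_left x.2)⟩
  have hf : Function.Injective f := fun x y h => Subtype.ext (by
    have := congrArg Subtype.val h
    simpa [f] using this)
  have hfc : ∀ x, Commute (f x) u' := fun x => Subtype.ext ((Commute.conj_iff g).mpr (hTc x x.2)).eq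
  have hu2 : u' * u' ≠ 1 := fun h => D.sq_ne hi (by
    have h1 : g * u * g⁻¹ * (g * u * g⁻¹) = 1 := congrArg Subtype.val h
    rwa [show g * u * g⁻¹ * (g * u * g⁻¹) = g * (u * u) * g⁻¹ by group, conj_eq_one_iff] at h1)
  obtain ⟨a, ha | ha⟩ := CfsgLib.QD.cases_elem d u'
  · -- the image of the rotation is a rotation
    have hX : ∀ x, f x ∈ d.X := by
      intro x
      obtain ⟨b, hb | hb⟩ := CfsgLib.QD.cases_elem d (f x)
      · exact hb ▸ CfsgLib.QD.zpow_mem_X d b
      · exfalso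
        have h4 := (CfsgLib.QD.commute_xy_iff d).mp (ha ▸ hb ▸ (hfc x).symm)
        rcases CfsgLib.QD.zpow_sq_eq_one_cases d h4 with e | e <;> rw [← ha] at e
        · exact hu2 (by rw [e, one_mul])
        · exact hu2 (by
            rw [e]
            exact CfsgLib.Involutions.mul_self_eq_one_of_orderOf (CfsgLib.QD.orderOf_z d))
    calc Nat.card T ≤ Nat.card d.X := Nat.card_le_card_of_injective (fun x => (⟨f x, hX x⟩ : d.X))
          fun x y h => hf (congrArg Subtype.val h)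
      _ = 4 * D.k := by rw [CfsgLib.QD.card_X]; omega
  · -- otherwise the centraliser has order at most four
    let F : Finset ↥(D.S : Subgroup G) := {1, d.z, u', d.z * u'}
    have hz : ∀ b : ℤ, Commute (d.x ^ b) u' → d.x ^ b = 1 ∨ d.x ^ b = d.z := fun b hb =>
      CfsgLib.QD.zpow_sq_eq_one_cases d ((CfsgLib.QD.commute_xy_iff d).mp (ha ▸ hb))
    have hF : ∀ x, f x ∈ F := by
      intro x
      simp only [F, Finset.mem_insert, Finset.mem_singleton]
      obtain ⟨b, hb | hb⟩ := CfsgLib.QD.cases_elem d (f x)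
      · rcases hz b (hb ▸ hfc x) with e | e
        · exact Or.inl (hb.trans e)
        · exact Or.inr (Or.inl (hb.trans e))
      · have e : f x = d.x ^ (b - a) * u' := by
          rw [hb, ha, ← mul_assoc, ← zpow_add, sub_add_cancel]
        have hc : Commute (d.x ^ (b - a)) u' := by
          have h := (hfc x).mul_left (Commute.refl u').inv_left
          rwa [e, mul_inv_cancel_right] at h
        rcases hz _ hc with e' | e' <;> rw [e, e']
        · simp
        · simp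
    calc Nat.card T ≤ Nat.card F := Nat.card_le_card_of_injective (fun x => (⟨f x, hF x⟩ : F))
          fun x y h => hf (congrArg Subtype.val h)
      _ ≤ 4 := by rw [Nat.card_eq_finsetCard]; exact Finset.card_le_four
      _ ≤ 4 * D.k := by have := D.two_le; omega

/-- The rotations are a Sylow subgroup of the centraliser of a rotation. -/
theorem exists_rot_sylow {i : ℕ} (hi : ¬ 2 * D.k ∣ i) :
    ∃ P : Sylow 2 ↥(Subgroup.centralizer ({D.σ ^ i} : Set G)),
      (P : Subgroup ↥(Subgroup.centralizer ({D.σ ^ i} : Set G))) =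
        (Subgroup.zpowers D.σ).subgroupOf (Subgroup.centralizer ({D.σ ^ i} : Set G)) := by
  haveI := Fact.mk Nat.prime_two
  set H := Subgroup.centralizer ({D.σ ^ i} : Set G) with hH
  obtain ⟨a, ha⟩ := D.four_pow
  have hc : Nat.card ↥((Subgroup.zpowers D.σ).subgroupOf H) = 4 * D.k := by
    rw [Nat.card_congr (Subgroup.subgroupOfEquivOfLe (D.mem_cent i)).toEquiv, Nat.card_zpowers, D.hσ]
  obtain ⟨P, hP⟩ := (IsPGroup.of_card (n := a + 1) (hc.trans ha)).exists_le_sylow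
  refine ⟨P, (Subgroup.eq_of_le_of_card_ge hP ?_).symm⟩
  rw [hc, ← Subgroup.card_map_of_injective (f := H.subtype) H.subtype_injective]
  refine D.card_cent_two hi (P.2.map _) ?_
  rintro _ ⟨x, -, rfl⟩
  exact Subgroup.mem_centralizer_singleton_iff.mp x.2

/-- The centraliser of a rotation has a normal two-complement. -/
theorem exists_rot_compl {i : ℕ} (hi : ¬ 2 * D.k ∣ i) :
    ∃ K : Subgroup ↥(Subgroup.centralizer ({D.σ ^ i} : Set G)), K.Normal ∧ ¬ 2 ∣ Nat.card K ∧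
      K.index = 4 * D.k := by
  haveI := Fact.mk Nat.prime_two
  set H := Subgroup.centralizer ({D.σ ^ i} : Set G) with hH
  obtain ⟨P, hP⟩ := D.exists_rot_sylow hi
  have hPc : Nat.card (P : Subgroup H) = 4 * D.k := by
    rw [hP, Nat.card_congr (Subgroup.subgroupOfEquivOfLe (D.mem_cent i)).toEquiv, Nat.card_zpowers, D.hσ]
  have hcyc : IsCyclic (P : Subgroup H) := by
    rw [hP]
    exact (Subgroup.subgroupOfEquivOfLe (D.mem_cent i)).isCyclic.mpr inferInstance
  have h2 : 2 ∣ Nat.card H := by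
    refine dvd_trans ?_ (Subgroup.card_subgroup_dvd_card (P : Subgroup H))
    exact ⟨2 * D.k, by rw [hPc]; ring⟩
  have hmin : (Nat.card H).minFac = 2 :=
    le_antisymm (Nat.minFac_le_of_dvd le_rfl h2)
      (Nat.minFac_prime (fun h => by rw [h] at h2; norm_num at h2)).two_le
  have hle := IsCyclic.normalizer_le_centralizer hmin hcyc
  refine ⟨(MonoidHom.transferSylow P hle).ker, inferInstance,
    MonoidHom.not_dvd_card_ker_transferSylow P hle, ?_⟩
  rw [(MonoidHom.ker_transferSylow_isComplement' P hle).symm.index_eq_card, hPc]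

/-- Automorphisms of a cyclic group commute. -/
theorem mulAut_comm {A : Type*} [Group A] [Finite A] [IsCyclic A] (a b : MulAut A) : a * b = b * a :=
  (IsCyclic.mulAutMulEquiv A).injective (by rw [map_mul, map_mul, mul_comm])

/-- Fused rotations are conjugate under `w`. -/
theorem rot_fusion {i j : ℕ} (hi : ¬ 2 * D.k ∣ i) (h : IsConj (D.σ ^ i) (D.σ ^ j)) :
    j ≡ i [MOD 4 * D.k] ∨ j ≡ (2 * D.k - 1) * i [MOD 4 * D.k] := by
  classical
  haveI := Fact.mk Nat.prime_two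
  obtain ⟨g, hg⟩ := isConj_iff.mp h
  have hj : ¬ 2 * D.k ∣ j := fun hd => D.sq_ne hi (by
    obtain ⟨c, rfl⟩ := hd
    have e : g * (D.σ ^ i * D.σ ^ i) * g⁻¹ = 1 := by
      rw [show g * (D.σ ^ i * D.σ ^ i) * g⁻¹ = g * D.σ ^ i * g⁻¹ * (g * D.σ ^ i * g⁻¹) by group, hg,
        ← pow_add, ← two_mul, show 2 * (2 * D.k * c) = 4 * D.k * c by ring, pow_mul, D.pow_four, one_pow]
    exact conj_eq_one_iff.mp e)
  set H := Subgroup.centralizer ({D.σ ^ j} : Set G) with hH
  set Z := Subgroup.zpowers D.σ with hZ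
  obtain ⟨P, hP⟩ := D.exists_rot_sylow hj
  have hy : g * D.σ * g⁻¹ ∈ H := by
    rw [hH, Subgroup.mem_centralizer_singleton_iff, ← hg]
    exact ((Commute.conj_iff g).mpr ((Commute.refl D.σ).pow_right i)).eq
  obtain ⟨a, ha⟩ := D.four_pow
  obtain ⟨Q, hQ⟩ := (IsPGroup.of_card (G := Subgroup.zpowers (⟨_, hy⟩ : H)) (n := a + 1)
    (by rw [Nat.card_zpowers, Subgroup.orderOf_mk, CfsgLib.Involutions.orderOf_conj, D.hσ, ha])).exists_le_sylow
  obtain ⟨c, hc⟩ := MulAction.exists_smul_eq H Q P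
  set n : G := (c : G) * g with hn
  have hmem : n * D.σ * n⁻¹ ∈ Z := by
    have h1 : c * (⟨_, hy⟩ : H) * c⁻¹ ∈ (P : Subgroup H) := by
      rw [← hc, Sylow.coe_subgroup_smul]
      exact Subgroup.smul_mem_pointwise_smul _ (MulAut.conj c) _ (hQ (Subgroup.mem_zpowers _))
    rw [hP, Subgroup.mem_subgroupOf] at h1
    rw [hn, mul_inv_rev]
    simpa [mul_assoc] using h1
  have hnN : n ∈ Subgroup.normalizer (Z : Set G) := by
    refine Subgroup.mem_normalizer_fintype fun y hy' => ?_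
    obtain ⟨t, rfl⟩ := hy'
    show n * D.σ ^ t * n⁻¹ ∈ Z
    rw [← conj_zpow]
    exact zpow_mem hmem t
  have hni : n * D.σ ^ i * n⁻¹ = D.σ ^ j := by
    rw [hn, mul_inv_rev, show (c : G) * g * D.σ ^ i * (g⁻¹ * (c : G)⁻¹) = c * (g * D.σ ^ i * g⁻¹) * (c : G)⁻¹
      by group, hg, Subgroup.mem_centralizer_singleton_iff.mp c.2, mul_inv_cancel_right]
  -- the action on the cyclic subgroup
  set N := Subgroup.normalizer (Z : Set G) with hN
  set act := Z.normalizerMonoidHom with hact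
  have hSN : (D.S : Subgroup G) ≤ N := by
    intro s hs
    obtain ⟨d, hdx, -, -⟩ := D.exists_dat
    refine Subgroup.mem_normalizer_fintype fun y hy' => ?_
    obtain ⟨t, rfl⟩ := hy'
    have h1 := (CfsgLib.QD.normal_X d).conj_mem _ (CfsgLib.QD.zpow_mem_X d t) (⟨s, hs⟩ : ↥(D.S : Subgroup G))
    obtain ⟨m, hm⟩ := h1
    refine ⟨m, ?_⟩
    have h2 := congrArg Subtype.val hm
    simp only [Subgroup.coe_zpow, Subgroup.coe_mul, Subgroup.coe_inv, hdx] at h2
    exact h2
  obtain ⟨b, r, hr, hbr⟩ :=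
    Nat.exists_eq_pow_mul_and_not_dvd (orderOf_pos (⟨n, hnN⟩ : N)).ne' 2 (by norm_num)
  set n' : N := ⟨n, hnN⟩ with hn'
  obtain ⟨R, hR⟩ := (IsPGroup.of_card (G := Subgroup.zpowers (n' ^ r)) (n := b) (by
    rw [Nat.card_zpowers, orderOf_pow' _ (fun e => by subst e; exact hr (dvd_zero 2)), hbr,
      Nat.gcd_eq_right (Dvd.intro_left _ rfl), Nat.mul_div_cancel _ (Nat.pos_of_ne_zero fun e => by
        subst e; exact hr (dvd_zero 2))])).exists_le_sylow
  obtain ⟨x, hx⟩ := MulAction.exists_smul_eq N R (D.S.subtype hSN)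
  set s : N := x * n' ^ r * x⁻¹ with hs
  have hsS : (s : G) ∈ (D.S : Subgroup G) := by
    have h1 : s ∈ ((D.S.subtype hSN : Sylow 2 N) : Subgroup N) := by
      rw [← hx, Sylow.coe_subgroup_smul]
      exact Subgroup.smul_mem_pointwise_smul _ (MulAut.conj x) _ (hR (Subgroup.mem_zpowers _))
    rwa [Sylow.coe_subtype, Subgroup.mem_subgroupOf] at h1
  have hsval : ∀ m : ℕ, (s : G) * D.σ ^ m * (s : G)⁻¹ = D.σ ^ m ∨
      (s : G) * D.σ ^ m * (s : G)⁻¹ = D.σ ^ ((2 * D.k - 1) * m) := by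
    intro m
    obtain ⟨d, hdx, hdy, -⟩ := D.exists_dat
    obtain ⟨t, e | e⟩ := CfsgLib.QD.cases_elem d (⟨(s : G), hsS⟩ : ↥(D.S : Subgroup G))
    · left
      have e' : (s : G) = D.σ ^ t := (congrArg Subtype.val e).trans (by rw [Subgroup.coe_zpow, hdx])
      rw [e', (((Commute.refl D.σ).zpow_left t).pow_right m).eq, mul_inv_cancel_right]
    · right
      have e' : (s : G) = D.σ ^ t * D.w := (congrArg Subtype.val e).trans
        (by rw [Subgroup.coe_mul, Subgroup.coe_zpow, hdx, hdy])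
      rw [e', mul_inv_rev, show D.σ ^ t * D.w * D.σ ^ m * (D.w⁻¹ * (D.σ ^ t)⁻¹) =
        D.σ ^ t * (D.w * D.σ ^ m * D.w⁻¹) * (D.σ ^ t)⁻¹ by group, D.w_pow,
        (((Commute.refl D.σ).zpow_left t).pow_right _).eq, mul_inv_cancel_right]
  haveI : IsCyclic Z := inferInstance
  have hext : ∀ α β : MulAut Z, α ⟨D.σ, Subgroup.mem_zpowers _⟩ = β ⟨D.σ, Subgroup.mem_zpowers _⟩ → α = β := by
    intro α β h'
    refine MulEquiv.ext fun y => ?_
    obtain ⟨t, ht⟩ := Subgroup.mem_zpowers_iff.mp y.2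
    have : y = (⟨D.σ, Subgroup.mem_zpowers _⟩ : Z) ^ t := Subtype.ext (by rw [Subgroup.coe_zpow]; exact ht.symm)
    rw [this, map_zpow, map_zpow, h']
  have hsn : act s = act n' ^ r := by
    rw [hs, map_mul, map_mul, map_inv, map_pow, mulAut_comm (act x), mul_inv_cancel_right]
  have hs2 : act s * act s = 1 := by
    apply hext
    apply Subtype.ext
    show (s : G) * ((s : G) * D.σ * (s : G)⁻¹) * (s : G)⁻¹ = D.σ
    have e0 := hsval 1
    rw [mul_one, pow_one] at e0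
    rcases e0 with e | e
    · rw [e, e]
    · rw [e]
      rcases hsval (2 * D.k - 1) with e' | e'
      · exfalso
        have h3 : D.σ ^ ((2 * D.k - 1) * 1) = D.σ ^ 1 := by
          rw [mul_one, pow_one]
          have h4 : (s : G) * D.σ * (s : G)⁻¹ = (s : G) * D.σ ^ (2 * D.k - 1) * (s : G)⁻¹ := by
            rw [e']; exact e
          exact (mul_left_cancel (mul_right_cancel h4)).symm
        have := D.pow_inj (by have := D.two_le; omega) (by have := D.two_le; omega) h3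
        have := D.two_le
        omega
      · rw [e']
        conv_rhs => rw [← pow_one D.σ]
        rw [D.pow_eq]
        obtain ⟨c, hc⟩ := D.k_even
        have := D.two_le
        refine (Nat.modEq_iff_dvd' (Nat.one_le_iff_ne_zero.mpr (Nat.mul_ne_zero (by omega) (by omega)))).mpr
          ⟨D.k - 1, ?_⟩ |>.symm
        obtain ⟨t, ht⟩ : ∃ t, D.k = t + 1 := ⟨D.k - 1, by omega⟩
        rw [ht, show 2 * (t + 1) - 1 = 2 * t + 1 by omega, show t + 1 - 1 = t by omega,
          show (2 * t + 1) * (2 * t + 1) = 4 * (t + 1) * t + 1 by ring, Nat.add_sub_cancel]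
  have h2r : act n' ^ (2 * r) = 1 := by rw [mul_comm, pow_mul, ← hsn, pow_two, hs2]
  have hord : orderOf (act n') ∣ 2 := by
    have h1 : orderOf (act n') ∣ 2 ^ a := by
      refine (orderOf_dvd_natCard _).trans ?_
      rw [IsCyclic.card_mulAut, Nat.card_zpowers, D.hσ, ha, Nat.totient_prime_pow_succ Nat.prime_two]
      simp
    have h3 := Nat.dvd_gcd (orderOf_dvd_of_pow_eq_one h2r) h1
    refine h3.trans ?_
    have hco : r.Coprime (2 ^ a) :=
      ((Nat.prime_two.coprime_iff_not_dvd.mpr hr).symm).pow_right a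
    rw [Nat.Coprime.gcd_mul_right_cancel _ hco]
    exact Nat.gcd_dvd_left _ _
  have heq : act n' = act s := by
    obtain ⟨c, rfl⟩ : ∃ c, r = 2 * c + 1 := ⟨r / 2, by omega⟩
    rw [hsn, pow_succ, pow_mul, orderOf_dvd_iff_pow_eq_one.mp hord, one_pow, one_mul]
  have hZi : D.σ ^ i ∈ Z := Subgroup.pow_mem _ (Subgroup.mem_zpowers _) i
  have hfin : (s : G) * D.σ ^ i * (s : G)⁻¹ = D.σ ^ j := by
    rw [← hni]
    exact congrArg (fun α : MulAut Z => ((α ⟨_, hZi⟩ : Z) : G)) heq.symm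
  rcases hsval i with e | e
  · exact Or.inl (D.pow_eq.mp (hfin.symm.trans e))
  · exact Or.inr (D.pow_eq.mp (hfin.symm.trans e))

omit [Finite G] in
theorem rm_lt {i : ℕ} (hi : i < 4 * D.k) : rm D.k i < 4 * D.k := by
  have := D.two_le
  unfold rm
  split_ifs <;> omega

omit [Finite G] in
theorem rm_modEq {i : ℕ} (hi : i < 4 * D.k) : rm D.k i ≡ (2 * D.k - 1) * i [MOD 4 * D.k] := by
  have hk := D.two_le
  obtain ⟨t, ht⟩ : ∃ t, D.k = t + 1 := ⟨D.k - 1, by omega⟩
  rw [Nat.modEq_iff_dvd]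
  push_cast [Nat.cast_sub (show 1 ≤ 2 * D.k by omega)]
  rcases Nat.even_or_odd' i with ⟨c, rfl | rfl⟩
  · rw [rm, if_pos (by omega)]
    split_ifs with h0
    · rw [h0]; simp
    · refine ⟨(c : ℤ) - 1, ?_⟩
      push_cast [Nat.cast_sub (show 2 * c ≤ 4 * D.k by omega)]
      ring
  · rw [rm, if_neg (by omega)]
    split_ifs with h0
    · refine ⟨(c : ℤ), ?_⟩
      push_cast [Nat.cast_sub (show 2 * c + 1 ≤ 2 * D.k by omega)]
      ring
    · refine ⟨(c : ℤ) - 1, ?_⟩
      push_cast [Nat.cast_sub (show 2 * c + 1 ≤ 6 * D.k by omega)]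
      ring

omit [Finite G] in
theorem isConj_rm {i : ℕ} (hi : i < 4 * D.k) : IsConj (D.σ ^ i) (D.σ ^ rm D.k i) :=
  isConj_iff.mpr ⟨D.w, by rw [D.w_pow, D.pow_eq]; exact (D.rm_modEq hi).symm⟩

variable [Fintype G] {M : Ideal AlgInt}

theorem pPart_rot (i : ℕ) : IsPPart 2 (D.σ ^ i) (D.σ ^ i) :=
  ⟨1, mul_one _, Commute.one_right _, D.pow_two_part i, by simp⟩

/-- Summed over a section through a rotation, only the principal block survives. -/
theorem rot_key (hM : IsPModular 2 M) {i : ℕ} (hi : ¬ 2 * D.k ∣ i) (χ : IrrCharacter G) :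
    ∑ v ∈ regC 2 (D.σ ^ i), (χ : G → ℂ) (D.σ ^ i * v) =
      ((regC 2 (D.σ ^ i)).card : ℂ) * (ind (principalBlock M G) χ * (χ : G → ℂ) (D.σ ^ i)) := by
  obtain ⟨K, hKn, hK, hidx⟩ := D.exists_rot_compl hi
  haveI := hKn
  obtain ⟨a, ha⟩ := D.four_pow
  rw [← Dihedral.section_key hM (D.pow_two_part i) K hK (hidx.trans ha) χ
    (one_mem_regC Nat.prime_two _), mul_one]

/-- The block members are constant on such a section. -/
theorem rot_const (hM : IsPModular 2 M) {i : ℕ} (hi : ¬ 2 * D.k ∣ i) {χ : IrrCharacter G}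
    (hχ : χ ∈ principalBlock M G) {v : G} (hv : v ∈ regC 2 (D.σ ^ i)) :
    (χ : G → ℂ) (D.σ ^ i * v) = (χ : G → ℂ) (D.σ ^ i) := by
  obtain ⟨K, hKn, hK, hidx⟩ := D.exists_rot_compl hi
  haveI := hKn
  obtain ⟨a, ha⟩ := D.four_pow
  exact Dihedral.section_const hM (D.pow_two_part i) K hK (hidx.trans ha) hχ hv

theorem value_rm (χ : IrrCharacter G) {i : ℕ} (hi : i < 4 * D.k) :
    (χ : G → ℂ) (D.σ ^ rm D.k i) = (χ : G → ℂ) (D.σ ^ i) := by
  rw [← D.pow_eq.mpr (D.rm_modEq hi).symm, ← D.w_pow]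
  exact isClassFunction_irr χ.2 _ _

/-- The Gram matrix of the rotation columns of the principal block. -/
theorem rot_orth (hM : IsPModular 2 M) {i j : ℕ} (hi : i < 4 * D.k) (hj : j < 4 * D.k)
    (hi0 : ¬ 2 * D.k ∣ i) :
    ∑ χ ∈ bset (principalBlock M G), (χ : G → ℂ) (D.σ ^ i) * conj ((χ : G → ℂ) (D.σ ^ j)) =
      ((4 * D.k : ℕ) : ℂ) * ((if i = j then 1 else 0) + if rm D.k i = j then 1 else 0) := by
  classical
  have hne : rm D.k i ≠ i := by
    have h2 := D.two_le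
    have h3 := Nat.even_iff.mp D.k_even
    have h4 : i ≠ 0 := fun e => hi0 (e ▸ dvd_zero _)
    have h5 : i ≠ 2 * D.k := fun e => hi0 (e ▸ dvd_rfl)
    unfold rm
    split_ifs <;> omega
  obtain ⟨a, ha⟩ := D.four_pow
  obtain ⟨K, hKn, hK, hidx⟩ := D.exists_rot_compl hi0
  haveI := hKn
  by_cases hc : IsConj (D.σ ^ i) (D.σ ^ j)
  · have hval : ∀ χ : IrrCharacter G, (χ : G → ℂ) (D.σ ^ j) = (χ : G → ℂ) (D.σ ^ i) := fun χ => by
      obtain ⟨g, hg⟩ := isConj_iff.mp hc
      rw [← hg]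
      exact isClassFunction_irr χ.2 _ _
    simp only [hval]
    rw [Dihedral.section_norm hM (D.pow_two_part i) K hK (hidx.trans ha), hidx]
    rcases D.rot_fusion hi0 hc with e | e
    · obtain rfl := e.eq_of_lt_of_lt hj hi
      rw [if_pos rfl, if_neg hne, add_zero, mul_one]
    · obtain rfl := (e.trans (D.rm_modEq hi).symm).eq_of_lt_of_lt hj (D.rm_lt hi)
      rw [if_pos rfl, if_neg fun h => hne h.symm, zero_add, mul_one]
  · rw [if_neg (fun h : i = j => hc (h ▸ IsConj.refl _)),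
      if_neg (fun h : rm D.k i = j => hc (h ▸ D.isConj_rm hi)), add_zero, mul_zero,
      Finset.sum_congr rfl fun χ _ => by rw [← char_apply_inv (isCharacter_of_irr χ.2)]]
    exact block_orth hM principalBlock_isPBlock (D.pPart_rot i) (D.pPart_rot j) hc

end SDat

end CfsgLib.AlmostCyclic
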