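import Cfsg.Agent.Lib.AlmostCyclic.SDFrame

/-!
# The two stars of norm two vectors on the rotations
-/

set_option autoImplicit false

namespace CfsgLib.AlmostCyclic

open Finset

universe u

/-- The even exponents away from the four special ones. -/
def EvJ (k j : ℕ) : Prop := j < 4 * k ∧ j % 2 = 0 ∧ j ≠ 0 ∧ j ≠ k ∧ j ≠ 2 * k ∧ j ≠ 3 * k

/-- The odd exponents away from the two special ones. -/
def OdJ (k j : ℕ) : Prop := j < 4 * k ∧ j % 2 = 1 ∧ j ≠ 1 ∧ j ≠ 2 * k - 1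

theorem pr_zero {k a b : ℕ} (h : a ≠ b) (h' : rm k a ≠ b) : pr k a b = 0 := by
  rw [pr, if_neg h, if_neg h', add_zero]

namespace Cols

variable {ι : Type u} [Fintype ι] [DecidableEq ι] {C : Cols ι}

theorem w_ok {j : ℕ} (h : EvJ C.k j) : Ok C.k j C.k := by
  have := C.k2
  have := C.kmod
  obtain ⟨a, b, -⟩ := h
  exact ⟨a, by omega, by omega⟩

theorem z_ok {j : ℕ} (h : OdJ C.k j) : Ok C.k j 1 := by
  have := C.k2
  obtain ⟨a, b, -⟩ := h
  exact ⟨a, by omega, by omega⟩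

theorem ww {j j' : ℕ} (h : EvJ C.k j) (h' : EvJ C.k j') :
    ∑ χ, (C.m χ j - C.m χ C.k) * (C.m χ j' - C.m χ C.k) = pr C.k j j' + 1 := by
  have := C.k2
  have := C.kmod
  obtain ⟨-, -, r1, r3⟩ := C.rm_vals
  rw [C.form _ _ _ _ (w_ok h) (w_ok h'), C.pr_values.2.2.2.2.2.1]
  obtain ⟨a, b, c, d, e, f⟩ := h
  obtain ⟨a', b', c', d', e', f'⟩ := h'
  rw [pr_zero (a := j) (b := C.k) d (by rw [rm, if_pos b, if_neg c]; omega),
    pr_zero (a := C.k) (b := j') (Ne.symm d') (by rw [r1]; exact Ne.symm f')]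
  ring

theorem wu {j : ℕ} (h : EvJ C.k j) : ∑ χ, (C.m χ j - C.m χ C.k) * C.u χ = 0 := by
  have := C.k2
  have := C.kmod
  unfold u
  rw [C.form _ _ _ _ (w_ok h) C.ok_u]
  obtain ⟨p00, p01, p02, p03, p10, p11, p12, p13, p20, p21, p22, p23, p30, p31, p32, p33⟩ :=
    C.pr_values
  obtain ⟨a, b, c, d, e, f⟩ := h
  rw [pr_zero (a := j) (b := 0) c (by rw [rm, if_pos b, if_neg c]; omega),
    pr_zero (a := j) (b := 2 * C.k) e (by rw [rm, if_pos b, if_neg c]; omega), p10, p12]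
  ring

theorem wv {j : ℕ} (h : EvJ C.k j) : ∑ χ, (C.m χ j - C.m χ C.k) * C.v χ = 2 := by
  have := C.k2
  have := C.kmod
  unfold v
  simp only [mul_add, sum_add_distrib]
  rw [C.form _ _ _ _ (w_ok h) C.ok_v1, C.form _ _ _ _ (w_ok h) C.ok_v2]
  obtain ⟨p00, p01, p02, p03, p10, p11, p12, p13, p20, p21, p22, p23, p30, p31, p32, p33⟩ :=
    C.pr_values
  obtain ⟨a, b, c, d, e, f⟩ := h
  rw [pr_zero (a := j) (b := 0) c (by rw [rm, if_pos b, if_neg c]; omega),
    pr_zero (a := j) (b := C.k) d (by rw [rm, if_pos b, if_neg c]; omega),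
    pr_zero (a := j) (b := 2 * C.k) e (by rw [rm, if_pos b, if_neg c]; omega),
    pr_zero (a := j) (b := 3 * C.k) f (by rw [rm, if_pos b, if_neg c]; omega),
    p10, p11, p12, p13]
  ring

theorem rm_one : rm C.k 1 = 2 * C.k - 1 := by
  rw [rm, if_neg (by norm_num), if_pos (by have := C.k2; omega)]

theorem zz {j j' : ℕ} (h : OdJ C.k j) (h' : OdJ C.k j') :
    ∑ χ, (C.m χ j - C.m χ 1) * (C.m χ j' - C.m χ 1) = pr C.k j j' + 1 := by
  have := C.k2
  have := C.kmod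
  obtain ⟨a, b, c, d⟩ := h
  obtain ⟨a', b', c', d'⟩ := h'
  rw [C.form _ _ _ _ (z_ok ⟨a, b, c, d⟩) (z_ok ⟨a', b', c', d'⟩),
    pr_zero (a := j) (b := 1) c (by rw [rm, if_neg (by omega)]; split_ifs <;> omega),
    pr_zero (a := 1) (b := j') (Ne.symm c') (by rw [rm_one]; exact Ne.symm d')]
  rw [show pr C.k 1 1 = 1 by
    rw [pr, if_pos rfl, if_neg (by rw [rm_one]; omega), add_zero]]
  ring

theorem z_even {j a b : ℕ} (h : OdJ C.k j) (hab : Ok C.k a b) (ha : a % 2 = 0) :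
    ∑ χ, (C.m χ j - C.m χ 1) * (C.m χ a - C.m χ b) = 0 := by
  have := C.k2
  have := C.kmod
  rw [C.form _ _ _ _ (z_ok h) hab]
  obtain ⟨c, d, -⟩ := h
  obtain ⟨-, -, e⟩ := hab
  have h1 : ∀ x y : ℕ, x % 2 = 1 → y % 2 = 0 → x < 4 * C.k → pr C.k x y = 0 := fun x y hx hy hx' =>
    pr_zero (by omega) (by rw [rm, if_neg (by omega)]; split_ifs <;> omega)
  rw [h1 j a d ha c, h1 j b d (by omega) c, h1 1 a rfl ha (by omega), h1 1 b rfl (by omega) (by omega)]
  ring

variable (F : C.Frame)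

/-- Every even vector passes through the member with second column two. -/
theorem Frame.w_shape {j : ℕ} (h : EvJ C.k j) :
    C.m F.R j - C.m F.R C.k = F.s ∧ ∃ y ∈ F.Rest,
      (C.m y j - C.m y C.k) * (C.m y j - C.m y C.k) = 1 ∧
      ∀ χ, χ ≠ F.R → χ ≠ y → C.m χ j - C.m χ C.k = 0 := by
  have hk := C.k2
  have hk' := C.kmod
  -- the two possibilities for one exponent
  have key : ∀ i, EvJ C.k i →
      (C.m F.R i - C.m F.R C.k = F.s ∧ ∃ y ∈ F.Rest,
        (C.m y i - C.m y C.k) * (C.m y i - C.m y C.k) = 1 ∧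
        ∀ χ, χ ≠ F.R → χ ≠ y → C.m χ i - C.m χ C.k = 0) ∨
      ∃ y, (y = F.B ∨ y = F.D) ∧ C.m F.A i - C.m F.A C.k = C.u F.A ∧
        C.m y i - C.m y C.k = -C.u y ∧ C.u y * C.deg y = C.u F.A * C.deg F.A ∧
        ∀ χ, χ ≠ F.A → χ ≠ y → C.m χ i - C.m χ C.k = 0 := by
    intro i hi
    set f : ι → ℤ := fun χ => C.m χ i - C.m χ C.k with hf
    have h2 : ∑ χ, f χ * f χ = 2 := by
      obtain ⟨a, b, c, d, e, g⟩ := hi
      rw [ww ⟨a, b, c, d, e, g⟩ ⟨a, b, c, d, e, g⟩, pr, if_pos rfl,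
        if_neg (by rw [rm, if_pos b, if_neg c]; omega)]
      norm_num
    have ho : f C.o = 0 := by
      obtain ⟨a, b, c, d, e, g⟩ := hi
      simp only [hf, C.hm0 _ a, C.hm0 _ (show C.k < 4 * C.k by omega), if_neg c,
        if_neg (show C.k ≠ 0 by omega)]
      norm_num
    obtain ⟨x, y, hxy, hx, hy, h0⟩ := two_supp f h2
    have hv : f x * C.v x + f y * C.v y = 2 := by rw [← sum_two f _ hxy h0]; exact wv hi
    have hu : f x * C.u x + f y * C.u y = 0 := by rw [← sum_two f _ hxy h0]; exact wu hi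
    have hd : f x * C.deg x + f y * C.deg y = 0 := by
      rw [← sum_two f _ hxy h0]
      simp only [hf, mul_comm _ (C.deg _)]
      exact C.orthd _ _ (w_ok hi)
    have hx0 : x ≠ C.o := fun e => by rw [e, ho] at hx; norm_num at hx
    have hy0 : y ≠ C.o := fun e => by rw [e, ho] at hy; norm_num at hy
    -- the values of the second column at the support
    have hcl : ∀ z, z ≠ C.o → z = F.R ∨ z ∈ F.Rest ∨ z = F.A ∨ z = F.B ∨ z = F.D := fun z hz => by
      rw [F.mem_rest]; tauto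
    have hu1 := F.uA; have hu2 := F.uB; have hu3 := F.uD; have hs := F.hs
    have hsmall : ∀ z, z ≠ C.o → z ≠ F.R → ∀ t : ℤ, t * t = 1 →
        (t * C.v z = 0 ∧ z ∈ F.Rest) ∨ ((t * C.v z = 1 ∨ t * C.v z = -1) ∧ (z = F.A ∨ z = F.B ∨ z = F.D)) := by
      intro z hz hzR t ht
      rcases hcl z hz with e | e | e | e | e
      · exact absurd e hzR
      · obtain ⟨a, b, c, d, e'⟩ := F.mem_rest.1 e
        exact Or.inl ⟨by rw [(F.rest z a b c d e').2, mul_zero], e⟩
      · refine Or.inr ⟨?_, Or.inl e⟩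
        rw [e, F.vA]
        rcases sq_one_iff'.1 ht with a | a <;> rcases sq_one_iff'.1 hu1 with b | b <;> rw [a, b] <;> norm_num
      · refine Or.inr ⟨?_, Or.inr (Or.inl e)⟩
        rw [e, F.vB]
        rcases sq_one_iff'.1 ht with a | a <;> rcases sq_one_iff'.1 hu2 with b | b <;> rw [a, b] <;> norm_num
      · refine Or.inr ⟨?_, Or.inr (Or.inr e)⟩
        rw [e, F.vD]
        rcases sq_one_iff'.1 ht with a | a <;> rcases sq_one_iff'.1 hu3 with b | b <;> rw [a, b] <;> norm_num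
    have withR : ∀ a b : ι, a ≠ b → f a * f a = 1 → f b * f b = 1 → a = F.R → b ≠ C.o →
        f a * C.v a + f b * C.v b = 2 → (∀ χ, χ ≠ a → χ ≠ b → f χ = 0) →
        f F.R = F.s ∧ ∃ y ∈ F.Rest, f y * f y = 1 ∧ ∀ χ, χ ≠ F.R → χ ≠ y → f χ = 0 := by
      intro a b hab ha hb e hb0 hsum hsupp
      subst e
      rw [F.vR] at hsum
      rcases hsmall b hb0 (Ne.symm hab) (f b) hb with ⟨e0, hr⟩ | ⟨e0, -⟩
      · refine ⟨?_, b, hr, hb, hsupp⟩
        rw [e0, add_zero] at hsum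
        have : f F.R * F.s = 1 := by linarith
        linear_combination F.s * this - f F.R * hs
      · exfalso
        rcases sq_one_iff'.1 ha with p | p <;> rcases sq_one_iff'.1 hs with p' | p' <;>
          rw [p, p'] at hsum <;> omega
    by_cases hxR : x = F.R
    · exact Or.inl (withR x y hxy hx hy hxR hy0 hv h0)
    by_cases hyR : y = F.R
    · exact Or.inl (withR y x hxy.symm hy hx hyR hx0 (by linarith) fun χ a b => h0 χ b a)
    right
    rcases hsmall x hx0 hxR (f x) hx with ⟨ex, -⟩ | ⟨ex, cx⟩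
    · rcases hsmall y hy0 hyR (f y) hy with ⟨ey, -⟩ | ⟨ey, -⟩ <;> (exfalso; omega)
    rcases hsmall y hy0 hyR (f y) hy with ⟨ey, -⟩ | ⟨ey, cy⟩
    · exfalso; omega
    have fx : f x * C.v x = 1 := by omega
    have fy : f y * C.v y = 1 := by omega
    have hfv : ∀ (t vv : ℤ), t * t = 1 → t * vv = 1 → t = vv := fun t vv h1 h2 => by
      rcases sq_one_iff'.1 h1 with e | e <;> subst e <;> omega
    have gx := hfv _ _ hx fx
    have gy := hfv _ _ hy fy
    have hne : ∀ z, (z = F.B ∨ z = F.D) → C.v z = -C.u z := fun z hz => by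
      rcases hz with e | e <;> rw [e]
      · exact F.vB
      · exact F.vD
    have finish : ∀ z, z ≠ F.A → (z = F.A ∨ z = F.B ∨ z = F.D) → f F.A = C.v F.A → f z = C.v z →
        f F.A * C.deg F.A + f z * C.deg z = 0 → (∀ χ, χ ≠ F.A → χ ≠ z → f χ = 0) →
        ∃ y, (y = F.B ∨ y = F.D) ∧ f F.A = C.u F.A ∧
          f y = -C.u y ∧ C.u y * C.deg y = C.u F.A * C.deg F.A ∧
          ∀ χ, χ ≠ F.A → χ ≠ y → f χ = 0 := by
      intro z hzA hz e1 e2 e3 e4
      have hz' := hz.resolve_left hzA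
      rw [F.vA] at e1; rw [hne z hz'] at e2
      exact ⟨z, hz', e1, e2, by rw [e1, e2] at e3; linarith, e4⟩
    by_cases hxA : x = F.A
    · subst hxA; exact finish y hxy.symm cy gx gy hd h0
    by_cases hyA : y = F.A
    · subst hyA; exact finish x hxy cx gy gx (by linarith) fun χ a b => h0 χ b a
    exfalso
    rw [gx, gy, hne x (cx.resolve_left hxA), hne y (cy.resolve_left hyA)] at hu
    have q1 : ∀ z, (z = F.B ∨ z = F.D) → C.u z * C.u z = 1 := fun z hz => by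
      rcases hz with e | e <;> rw [e]
      · exact F.uB
      · exact F.uD
    have := q1 x (cx.resolve_left hxA)
    have := q1 y (cy.resolve_left hyA)
    linarith
  rcases key j h with hg | ⟨y, hy, a1, a2, a3, a4⟩
  · exact hg
  exfalso
  obtain ⟨hj1, hj2, hj3, hj4, hj5, hj6⟩ := h
  have hk4 : 4 ≤ C.k := by omega
  obtain ⟨j', hj', hne1, hne2⟩ : ∃ j', EvJ C.k j' ∧ j' ≠ j ∧ rm C.k j ≠ j' := by
    by_cases e : j = 2 ∨ j = 4 * C.k - 2
    · by_cases e4 : C.k = 4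
      · exact ⟨6, ⟨by omega, by omega, by omega, by omega, by omega, by omega⟩, by omega,
          by rw [rm, if_pos hj2, if_neg hj3]; omega⟩
      · exact ⟨4, ⟨by omega, by omega, by omega, by omega, by omega, by omega⟩, by omega,
          by rw [rm, if_pos hj2, if_neg hj3]; omega⟩
    · exact ⟨2, ⟨by omega, by omega, by omega, by omega, by omega, by omega⟩, by omega,
        by rw [rm, if_pos hj2, if_neg hj3]; omega⟩
  have hip := ww (C := C) ⟨hj1, hj2, hj3, hj4, hj5, hj6⟩ hj'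
  rw [pr_zero hne1.symm hne2] at hip
  have hyA : y ≠ F.A := by
    rcases hy with e | e <;> rw [e]
    · exact F.hAB.symm
    · exact F.hAD.symm
  rw [sum_two _ _ hyA.symm a4, a1, a2] at hip
  rcases key j' hj' with ⟨-, y', hy', -, b4⟩ | ⟨y', hy', b1, b2, b3, b4⟩
  · obtain ⟨-, c1, c2, c3, -⟩ := F.mem_rest.1 hy'
    have e1 : C.m F.A j' - C.m F.A C.k = 0 := b4 _ F.hRA.symm (Ne.symm c1)
    have e2 : C.m y j' - C.m y C.k = 0 := by
      rcases hy with e | e <;> rw [e]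
      · exact b4 _ F.hRB.symm (Ne.symm c2)
      · exact b4 _ F.hRD.symm (Ne.symm c3)
    rw [e1, e2] at hip
    norm_num at hip
  · by_cases hyy : y' = y
    · subst hyy
      rw [b1, b2] at hip
      have h1 : C.u F.A * C.u F.A = 1 := F.uA
      have h2 : C.u y' * C.u y' = 1 := by
        rcases hy with e | e <;> rw [e]
        · exact F.uB
        · exact F.uD
      linarith
    · obtain ⟨r1, r2⟩ := F.rel C.deg deg_o fun a b hab => C.orthd a b hab
      have hBD : C.u F.B * C.deg F.B + C.u F.D * C.deg F.D = 2 * (C.u F.A * C.deg F.A) := by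
        rcases hy with e | e <;> rcases hy' with e' | e' <;> subst e <;> subst e'
        · exact absurd rfl hyy
        · linarith
        · linarith
        · exact absurd rfl hyy
      obtain ⟨c, hc⟩ : ∃ c, C.u F.A * C.deg F.A = c := ⟨_, rfl⟩
      rw [neg_mul] at r1
      omega

/-- The odd vectors avoid the five members. -/
theorem Frame.z_outside (hk4 : 4 ≤ C.k) {j : ℕ} (h : OdJ C.k j) {χ : ι}
    (hχ : C.m χ j - C.m χ 1 ≠ 0) : χ ∈ F.Rest := by
  have hk' := C.kmod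
  have facts : ∀ i, OdJ C.k i → ∃ x y, x ≠ y ∧
      (C.m x i - C.m x 1) * (C.m x i - C.m x 1) = 1 ∧ (C.m y i - C.m y 1) * (C.m y i - C.m y 1) = 1 ∧
      (∀ z, z ≠ x → z ≠ y → C.m z i - C.m z 1 = 0) ∧
      ((x ∈ F.Rest ∧ y ∈ F.Rest) ∨ ((x = F.B ∨ x = F.D) ∧ (y = F.B ∨ y = F.D))) := by
    intro i hi
    set f : ι → ℤ := fun χ => C.m χ i - C.m χ 1 with hf
    have h2 : ∑ χ, f χ * f χ = 2 := by
      obtain ⟨a, b, c, d⟩ := hi
      rw [zz ⟨a, b, c, d⟩ ⟨a, b, c, d⟩, pr, if_pos rfl,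
        if_neg (by rw [rm, if_neg (by omega)]; split_ifs <;> omega)]
      norm_num
    have ho : f C.o = 0 := by
      obtain ⟨a, b, c, d⟩ := hi
      simp only [hf, C.hm0 _ a, C.hm0 _ (show 1 < 4 * C.k by omega), if_neg (show i ≠ 0 by omega),
        if_neg (show (1:ℕ) ≠ 0 by norm_num)]
      norm_num
    obtain ⟨x, y, hxy, hx, hy, h0⟩ := two_supp f h2
    refine ⟨x, y, hxy, hx, hy, h0, ?_⟩
    have hv : f x * C.v x + f y * C.v y = 0 := by
      rw [← sum_two f _ hxy h0]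
      unfold v
      simp only [mul_add, sum_add_distrib, hf]
      rw [z_even hi C.ok_v1 (by omega), z_even hi C.ok_v2 (by omega), add_zero]
    have hu : f x * C.u x + f y * C.u y = 0 := by
      rw [← sum_two f _ hxy h0]; exact z_even hi C.ok_u (by omega)
    have hx0 : x ≠ C.o := fun e => by rw [e, ho] at hx; norm_num at hx
    have hy0 : y ≠ C.o := fun e => by rw [e, ho] at hy; norm_num at hy
    have hs := F.hs; have hu1 := F.uA; have hu2 := F.uB; have hu3 := F.uD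
    have cl : ∀ z, z ≠ C.o → (z ∈ F.Rest ∧ C.u z = 0 ∧ C.v z = 0) ∨
        (z = F.R ∧ C.u z = 0 ∧ (C.v z = 2 ∨ C.v z = -2)) ∨
        (z = F.A ∧ (C.u z = 1 ∨ C.u z = -1) ∧ C.v z = C.u z) ∨
        ((z = F.B ∨ z = F.D) ∧ (C.u z = 1 ∨ C.u z = -1) ∧ C.v z = -C.u z) := by
      intro z hz
      by_cases e1 : z = F.A
      · subst e1; exact Or.inr (Or.inr (Or.inl ⟨rfl, sq_one_iff'.1 hu1, F.vA⟩))
      by_cases e2 : z = F.B
      · subst e2; exact Or.inr (Or.inr (Or.inr ⟨Or.inl rfl, sq_one_iff'.1 hu2, F.vB⟩))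
      by_cases e3 : z = F.D
      · subst e3; exact Or.inr (Or.inr (Or.inr ⟨Or.inr rfl, sq_one_iff'.1 hu3, F.vD⟩))
      by_cases e4 : z = F.R
      · subst e4
        refine Or.inr (Or.inl ⟨rfl, F.uR, ?_⟩)
        rcases sq_one_iff'.1 hs with e | e <;> rw [F.vR, e] <;> norm_num
      · exact Or.inl ⟨F.mem_rest.2 ⟨hz, e1, e2, e3, e4⟩, F.rest z hz e1 e2 e3 e4⟩
    rcases cl x hx0 with ⟨cx, a, b⟩ | ⟨cx, a, b⟩ | ⟨cx, a, b⟩ | ⟨cx, a, b⟩ <;>
      rcases cl y hy0 with ⟨cy, a', b'⟩ | ⟨cy, a', b'⟩ | ⟨cy, a', b'⟩ | ⟨cy, a', b'⟩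
    all_goals first
      | exact Or.inl ⟨cx, cy⟩
      | exact Or.inr ⟨cx, cy⟩
      | exact absurd (cx.trans cy.symm) hxy
      | (exfalso
         rcases sq_one_iff'.1 hx with p | p <;> rcases sq_one_iff'.1 hy with p' | p' <;>
           rw [p, p'] at hv hu <;> omega)
  obtain ⟨x, y, hxy, hx, hy, h0, hcase⟩ := facts j h
  rcases hcase with ⟨hxr, hyr⟩ | ⟨hxB, hyB⟩
  · by_cases e : χ = x
    · exact e ▸ hxr
    by_cases e' : χ = y
    · exact e' ▸ hyr
    exact absurd (h0 χ e e') hχ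
  exfalso
  obtain ⟨h1, h2, h3, h4⟩ := h
  obtain ⟨j', hj', hne1, hne2⟩ : ∃ j', OdJ C.k j' ∧ j' ≠ j ∧ rm C.k j ≠ j' := by
    by_cases e : j = 2 * C.k + 1 ∨ j = 4 * C.k - 1
    · exact ⟨2 * C.k + 3, ⟨by omega, by omega, by omega, by omega⟩, by omega,
        by rw [rm, if_neg (by omega), if_neg (by omega)]; omega⟩
    · exact ⟨2 * C.k + 1, ⟨by omega, by omega, by omega, by omega⟩, by omega,
        by rw [rm, if_neg (by omega)]; split_ifs <;> omega⟩
  have hip := zz (C := C) ⟨h1, h2, h3, h4⟩ hj'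
  rw [pr_zero hne1.symm hne2, sum_two _ _ hxy h0] at hip
  obtain ⟨x', y', hxy', hx', hy', h0', hcase'⟩ := facts j' hj'
  rcases hcase' with ⟨r1, r2⟩ | ⟨c1, c2⟩
  · have hz : ∀ w, (w = F.B ∨ w = F.D) → C.m w j' - C.m w 1 = 0 := fun w hw => by
      obtain ⟨-, -, a2, a3, -⟩ := F.mem_rest.1 r1
      obtain ⟨-, -, b2, b3, -⟩ := F.mem_rest.1 r2
      rcases hw with e | e <;> rw [e]
      · exact h0' _ (Ne.symm a2) (Ne.symm b2)
      · exact h0' _ (Ne.symm a3) (Ne.symm b3)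
    rw [hz x hxB, hz y hyB] at hip
    norm_num at hip
  · have sup : ∀ w, (w = F.B ∨ w = F.D) →
        (C.m w j' - C.m w 1) * (C.m w j' - C.m w 1) = 1 := fun w hw => by
      rcases c1 with e1 | e1 <;> rcases c2 with e2 | e2 <;> rcases hw with e | e <;> subst e1 <;>
        subst e2 <;> subst e <;>
        first
          | exact hx'
          | exact hy'
          | exact absurd rfl hxy'
    have h5 := sup x hxB
    have h6 := sup y hyB
    rcases sq_one_iff'.1 hx with p1 | p1 <;> rcases sq_one_iff'.1 hy with p2 | p2 <;>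
      rcases sq_one_iff'.1 h5 with p3 | p3 <;> rcases sq_one_iff'.1 h6 with p4 | p4 <;>
      rw [p1, p2, p3, p4] at hip <;> norm_num at hip

end Cols

end CfsgLib.AlmostCyclic
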