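import Cfsg.Agent.Lib.AlmostCyclic.SDRot

/-!
# The Steinberg character of the centraliser of the involution
-/

set_option autoImplicit false
set_option linter.style.haveILetI false
set_option linter.unusedSectionVars false

namespace CfsgLib.AlmostCyclic

open Cfsg CfsgLib.CharTheory CfsgLib.Blocks CfsgLib.GL2Char
open scoped ComplexConjugate

universe u

section PG

variable {p : ℕ} [Fact p.Prime]

local notation "PGp" => PG (ZMod p)

/-- The values of the Steinberg character. -/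
theorem st_cases (hp : p ≠ 2) (ψ : IrrCharacter PGp)
    (hψ : ∀ g : GL (Fin 2) (ZMod p), (ψ : PGp → ℂ) (pm g) = st 1 g) :
    (ψ : PGp → ℂ) 1 = (p : ℂ) ∧
      (∀ g : PGp, ∃ n : ℤ, (ψ : PGp → ℂ) g = n ∧
        (Odd n ∨ Odd (Nat.card ↥(Subgroup.centralizer ({g} : Set PGp))))) ∧
      ∃ u : PGp, orderOf u = p ∧ (ψ : PGp → ℂ) u = 0 ∧
        ∀ i : ℕ, ¬ p ∣ i → (ψ : PGp → ℂ) (u ^ i) = 0 := by
  have hpp := (Fact.out : p.Prime)
  have h2 := zmod_two_ne (p := p) hp
  have hodd : Odd p := hpp.odd_of_ne_two hp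
  have hq : 3 ≤ Fintype.card (ZMod p) := by rw [ZMod.card]; have := hpp.two_le; omega
  have hcl : ∀ x g, (ψ : PGp → ℂ) (x * g * x⁻¹) = (ψ : PGp → ℂ) g := fun x g =>
    isClassFunction_irr ψ.2 g x
  have hconst : ∀ a b : PGp, IsConj a b → (ψ : PGp → ℂ) b = (ψ : PGp → ℂ) a := fun a b h => by
    obtain ⟨x, rfl⟩ := isConj_iff.mp h
    exact hcl x a
  have v1 : (ψ : PGp → ℂ) 1 = (p : ℂ) := by
    rw [← map_one (pm (F := ZMod p)), hψ, st_one, ZMod.card]
  have vu : (ψ : PGp → ℂ) u0 = 0 := by rw [hψ, st_bor_unip _ _ one_ne_zero]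
  obtain ⟨te, Ne, hte, hcte, hcls, hse, hsu, heu, hell⟩ := exists_tori (F := ZMod p) hq
  obtain ⟨hcs, hcts, hts⟩ := ts_isTorus (F := ZMod p) hq
  refine ⟨v1, fun g => ?_, ?_⟩
  · by_cases hg : g = 1
    · exact ⟨(p : ℤ), by rw [hg, v1]; simp, Or.inl (Int.odd_coe_nat p |>.mpr hodd)⟩
    rcases hcls g hg with ⟨a, ha, h⟩ | ⟨a, ha, h⟩ | h
    · have ha1 : a ≠ 1 := fun e => hg (by
        obtain ⟨x, rfl⟩ := isConj_iff.mp h
        rw [e, mul_one, mul_inv_cancel])
      refine ⟨1, ?_, Or.inl odd_one⟩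
      rw [hconst _ _ h]
      obtain ⟨c, ⟨a', b', rfl⟩, rfl⟩ := ha
      have hab : a' ≠ b' := fun e => ha1 (pm_eq_one.mpr ⟨a', by rw [e]⟩)
      rw [hψ, st_bor_ne _ hab]
      simp
    · have ha1 : a ≠ 1 := fun e => hg (by
        obtain ⟨x, rfl⟩ := isConj_iff.mp h
        rw [e, mul_one, mul_inv_cancel])
      refine ⟨-1, ?_, Or.inl odd_one.neg⟩
      rw [hconst _ _ h]
      obtain ⟨c, hc, rfl⟩ := hell a ha ha1
      rw [hψ, st_ell _ hc, MulChar.one_apply (isUnit_iff_ne_zero.mpr (det_ne c))]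
      simp
    · refine ⟨0, by rw [hconst _ _ h, vu]; simp, Or.inr ?_⟩
      obtain ⟨x, rfl⟩ := isConj_iff.mp h
      have e : (Subgroup.centralizer ({u0 (F := ZMod p)} : Set PGp)).map (MulAut.conj x).toMonoidHom =
          Subgroup.centralizer ({x * u0 * x⁻¹} : Set PGp) := by
        ext y
        rw [Subgroup.mem_centralizer_singleton_iff]
        constructor
        · rintro ⟨z, hz, rfl⟩
          exact ((Commute.conj_iff x).mpr (Subgroup.mem_centralizer_singleton_iff.mp hz)).eq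
        · intro hy
          refine ⟨x⁻¹ * y * x, Subgroup.mem_centralizer_singleton_iff.mpr ?_, by simp [mul_assoc]⟩
          calc x⁻¹ * y * x * u0 = x⁻¹ * (y * (x * u0 * x⁻¹)) * x := by group
            _ = x⁻¹ * (x * u0 * x⁻¹ * y) * x := by rw [hy]
            _ = u0 * (x⁻¹ * y * x) := by group
      rw [← e, Subgroup.card_map_of_injective (MulAut.conj x).injective, card_cent_u0 h2, ZMod.card]
      exact hodd
  · have hu0 : u0 (F := ZMod p) ≠ 1 := fun e => by
      obtain ⟨a, ha⟩ := pm_eq_one.mp e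
      exact one_ne_zero (bor_injective ha).2.2
    have hdvd : orderOf (u0 (F := ZMod p)) ∣ p := by
      have := Subgroup.orderOf_dvd_natCard _
        (Subgroup.mem_centralizer_singleton_iff.mpr rfl :
          u0 (F := ZMod p) ∈ Subgroup.centralizer ({u0 (F := ZMod p)} : Set PGp))
      rwa [card_cent_u0 h2, ZMod.card] at this
    have hord : orderOf (u0 (F := ZMod p)) = p :=
      ((Nat.dvd_prime hpp).mp hdvd).resolve_left fun h => hu0 (orderOf_eq_one_iff.mp h)
    refine ⟨u0, hord, vu, fun i hi => ?_⟩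
    by_cases h1 : u0 (F := ZMod p) ^ i = 1
    · exact absurd (hord ▸ orderOf_dvd_of_pow_eq_one h1) hi
    have hnt : ∀ T : Subgroup PGp, Nat.card T = p - 1 ∨ Nat.card T = p + 1 →
        ∀ a ∈ T, a ≠ 1 → ¬ IsConj a (u0 (F := ZMod p) ^ i) := by
      intro T hT a ha ha1 h
      obtain ⟨x, hx⟩ := isConj_iff.mp h
      have ho : orderOf a ∣ p := by
        rw [← CfsgLib.Involutions.orderOf_conj x a, hx]
        exact (orderOf_pow_dvd i).trans hdvd
      have ho2 : orderOf a ∣ Nat.card T := Subgroup.orderOf_dvd_natCard _ ha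
      refine ha1 (orderOf_eq_one_iff.mp (Nat.eq_one_of_dvd_coprimes ?_ ho ho2))
      rw [hpp.coprime_iff_not_dvd]
      intro hd
      have := hpp.two_le
      rcases hT with hT | hT <;> rw [hT] at hd
      · have := Nat.le_of_dvd (by omega) hd; omega
      · have := (Nat.dvd_add_right (dvd_refl p)).mp hd
        have := Nat.le_of_dvd one_pos this
        omega
    rcases hcls _ h1 with ⟨a, ha, h⟩ | ⟨a, ha, h⟩ | h
    · exact absurd h (hnt _ (Or.inl (hcts.trans (by rw [ZMod.card]))) a ha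
        fun e => h1 (isConj_one_right.mp (e ▸ h)))
    · exact absurd h (hnt _ (Or.inr (hcte.trans (by rw [ZMod.card]))) a ha
        fun e => h1 (isConj_one_right.mp (e ▸ h)))
    · rw [hconst _ _ h, vu]

end PG

variable {G : Type u} [Group G]

namespace SDat

variable (D : SDat G)

/-- The centraliser of the involution. -/
abbrev C : Subgroup G := Subgroup.centralizer ({D.t} : Set G)

/-- The involution, inside its centraliser. -/
abbrev tC : D.C := ⟨D.t, Subgroup.mem_centralizer_singleton_iff.mpr rfl⟩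

theorem tC_order : orderOf D.tC = 2 := by rw [Subgroup.orderOf_mk, D.ht2]

theorem tC_sq : D.tC * D.tC = 1 := CfsgLib.Involutions.mul_self_eq_one_of_orderOf D.tC_order

theorem tC_central : D.tC ∈ Subgroup.center D.C := Subgroup.mem_center_iff.mpr fun g =>
  Subtype.ext (Subgroup.mem_centralizer_singleton_iff.mp g.2)

variable [Finite G]

theorem tC_not_mem : D.tC ∉ D.O := by
  intro h
  have h2 : 2 ∣ Nat.card D.O := by
    rw [← D.tC_order, ← Subgroup.orderOf_mk D.tC h]; exact orderOf_dvd_natCard _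
  exact Nat.not_even_iff_odd.mpr D.hOodd (even_iff_two_dvd.mpr h2)

theorem phi_tC : D.φ D.tC = 1 := (D.hker _).mpr (Or.inr (by rw [D.tC_sq]; exact one_mem _))

theorem card_C : haveI := D.hp; Nat.card D.C = 2 * Nat.card D.O * Nat.card (PG (ZMod D.p)) := by
  haveI := D.hp
  haveI := D.hOn
  have hle : D.O ≤ D.φ.ker := fun a ha => (D.hker a).mpr (Or.inl ha)
  have hidx : (D.O.subgroupOf D.φ.ker).index = 2 := by
    rw [Subgroup.index_eq_two_iff]
    refine ⟨⟨D.tC, D.phi_tC⟩, fun b => ?_⟩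
    simp only [Subgroup.mem_subgroupOf, Subgroup.coe_mul]
    rcases (D.hker b).mp b.2 with h | h
    · exact Or.inr ⟨h, fun h' => D.tC_not_mem ((Subgroup.mul_mem_cancel_left D.O h).mp h')⟩
    · exact Or.inl ⟨h, fun h' => D.tC_not_mem ((Subgroup.mul_mem_cancel_left D.O h').mp h)⟩
  have hk : Nat.card D.φ.ker = 2 * Nat.card D.O := by
    rw [← (D.O.subgroupOf D.φ.ker).card_mul_index, hidx,
      Nat.card_congr (Subgroup.subgroupOfEquivOfLe hle).toEquiv, mul_comm]
  rw [← D.φ.ker.card_mul_index, hk, Subgroup.index_ker,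
    MonoidHom.range_eq_top.mpr D.hφ, Subgroup.card_top]

theorem phi_odd {c : D.C} (hc : ¬ 2 ∣ orderOf c) : haveI := D.hp; ¬ 2 ∣ orderOf (D.φ c) := by
  haveI := D.hp
  exact fun h => hc (h.trans (orderOf_map_dvd D.φ c))

theorem exists_odd_lift : haveI := D.hp; ∀ (g : PG (ZMod D.p)) (_ : ¬ 2 ∣ orderOf g),
    ∃ c : D.C, ¬ 2 ∣ orderOf c ∧ D.φ c = g := by
  haveI := D.hp
  intro g hg
  obtain ⟨a, ha⟩ := D.hφ g
  obtain ⟨z, b, hab, -, ⟨j, hj⟩, hb, hzg, -⟩ := exists_pPart Nat.prime_two a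
  refine ⟨b, hb, ?_⟩
  obtain ⟨i, hi⟩ := hzg
  have h1 : D.φ z = 1 := by
    refine orderOf_eq_one_iff.mp (Nat.eq_one_of_dvd_coprimes
      ((Nat.prime_two.coprime_iff_not_dvd.mpr hg).pow_left j) (hj ▸ orderOf_map_dvd D.φ z) ?_)
    rw [← hi]
    show orderOf (D.φ (a ^ i)) ∣ orderOf g
    rw [map_zpow, ha]
    exact orderOf_dvd_of_mem_zpowers ⟨i, rfl⟩
  rw [← ha, ← hab, map_mul, h1, one_mul]

/-- Sums over the two-regular elements of the centraliser. -/
theorem sum_regular [Fintype G] [Fintype D.C] : haveI := D.hp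
    ∀ (f : PG (ZMod D.p) → ℂ),
    ∑ c ∈ Finset.univ.filter (fun c : D.C => ¬ 2 ∣ orderOf c), f (D.φ c) =
      (Nat.card D.O : ℂ) * ∑ g ∈ Finset.univ.filter (fun g : PG (ZMod D.p) => Odd (orderOf g)), f g := by
  classical
  haveI := D.hp
  haveI := D.hOn
  intro f
  rw [Finset.mul_sum, ← Finset.sum_fiberwise_of_maps_to
    (t := Finset.univ.filter (fun g : PG (ZMod D.p) => Odd (orderOf g))) (g := fun c => D.φ c)
    (fun c hc => Finset.mem_filter.mpr ⟨Finset.mem_univ _,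
      Nat.not_even_iff_odd.mp fun h => D.phi_odd (Finset.mem_filter.mp hc).2 (even_iff_two_dvd.mp h)⟩)]
  refine Finset.sum_congr rfl fun g hg => ?_
  rw [Finset.sum_congr rfl fun c hc => by rw [(Finset.mem_filter.mp hc).2], Finset.sum_const,
    nsmul_eq_mul]
  congr 2
  obtain ⟨c₀, hc₀, hφ₀⟩ := D.exists_odd_lift g fun h =>
    Nat.not_even_iff_odd.mpr (Finset.mem_filter.mp hg).2 (even_iff_two_dvd.mpr h)
  rw [Nat.card_eq_fintype_card, ← Finset.card_univ]
  symm
  refine Finset.card_bij (fun o _ => c₀ * (o : D.C)) (fun o _ => ?_)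
    (fun a _ b _ h => Subtype.ext (mul_left_cancel h)) (fun c hc => ?_)
  · simp only [Finset.mem_filter, Finset.mem_univ, true_and]
    refine ⟨?_, by rw [map_mul, (D.hker o).mpr (Or.inl o.2), mul_one, hφ₀]⟩
    intro h
    have h1 : orderOf (c₀ * (o : D.C)) ∣ orderOf c₀ * Nat.card D.O := by
      refine orderOf_dvd_of_pow_eq_one ?_
      have h2 : (c₀ * (o : D.C)) ^ orderOf c₀ ∈ D.O := by
        rw [← QuotientGroup.eq_one_iff, QuotientGroup.mk_pow, QuotientGroup.mk_mul,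
          (QuotientGroup.eq_one_iff (o : D.C)).mpr o.2, mul_one, ← QuotientGroup.mk_pow,
          pow_orderOf_eq_one]
        rfl
      rw [pow_mul]
      exact congrArg Subtype.val (pow_card_eq_one' (x := (⟨_, h2⟩ : D.O)))
    rcases Nat.prime_two.dvd_mul.mp (h.trans h1) with h' | h'
    · exact hc₀ h'
    · exact Nat.not_even_iff_odd.mpr D.hOodd (even_iff_two_dvd.mpr h')
  · simp only [Finset.mem_filter, Finset.mem_univ, true_and] at hc
    have h1 : D.φ (c₀⁻¹ * c) = 1 := by rw [map_mul, map_inv, hφ₀, hc.2, inv_mul_cancel]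
    rcases (D.hker _).mp h1 with h | h
    · exact ⟨⟨_, h⟩, Finset.mem_univ _, mul_inv_cancel_left c₀ c⟩
    · exfalso
      refine D.tC_not_mem ?_
      rw [← QuotientGroup.eq_one_iff]
      set n := orderOf c₀ * orderOf c with hn
      have hno : Odd n := by
        rw [← Nat.not_even_iff_odd, even_iff_two_dvd]
        intro h'
        exact (Nat.prime_two.dvd_mul.mp h').elim hc₀ hc.1
      have hq : (c : D.C ⧸ D.O) * (D.tC : D.C ⧸ D.O) = (c₀ : D.C ⧸ D.O) := by
        rw [← QuotientGroup.mk_mul, QuotientGroup.eq]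
        have hct : c₀⁻¹ * c * D.tC = (c₀⁻¹ * (c * D.tC)) := mul_assoc _ _ _
        have h' : (c₀⁻¹ * (c * D.tC))⁻¹ ∈ D.O := D.O.inv_mem (hct ▸ h)
        rwa [mul_inv_rev, inv_inv] at h'
      have hcomm : Commute (c : D.C ⧸ D.O) (D.tC : D.C ⧸ D.O) := by
        show _ = _
        rw [← QuotientGroup.mk_mul, ← QuotientGroup.mk_mul, Subgroup.mem_center_iff.mp D.tC_central c]
      have hp1 := congrArg (fun x => x ^ n) hq
      simp only [hcomm.mul_pow] at hp1
      rw [← QuotientGroup.mk_pow, ← QuotientGroup.mk_pow, ← QuotientGroup.mk_pow,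
        orderOf_dvd_iff_pow_eq_one.mp (hn ▸ dvd_mul_left _ _),
        orderOf_dvd_iff_pow_eq_one.mp (show orderOf c₀ ∣ n from hn ▸ dvd_mul_right _ _), QuotientGroup.mk_one, one_mul] at hp1
      obtain ⟨i, hi⟩ := hno
      rwa [hi, pow_succ, pow_mul, pow_two, D.tC_sq, one_pow, one_mul] at hp1

/-- The signed Steinberg character of the centraliser. -/
theorem exists_f2 [Fintype G] [Fintype D.C] {M : Ideal AlgInt} (hM : IsPModular 2 M) :
    haveI := D.hp
    ∃ (θ : IrrCharacter D.C) (s : ℤ), (s = 1 ∨ s = -1) ∧ θ ∈ principalBlock M D.C ∧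
      (∀ c, conj ((θ : D.C → ℂ) c) = (θ : D.C → ℂ) c) ∧
      (s : ℂ) * (θ : D.C → ℂ) 1 = (D.q : ℂ) ∧
      ((8 * D.k : ℕ) : ℂ) * ((Finset.univ.filter fun c : D.C => ¬ 2 ∣ orderOf c).card : ℂ) =
        (Nat.card D.C : ℂ) * ((D.k : ℂ) + 1) ∧
      ((8 * D.k : ℕ) : ℂ) * ∑ c ∈ Finset.univ.filter (fun c : D.C => ¬ 2 ∣ orderOf c),
          (s : ℂ) * (θ : D.C → ℂ) c = (Nat.card D.C : ℂ) * ((D.k : ℂ) - 1) ∧
      ((8 * D.k : ℕ) : ℂ) * ∑ c ∈ Finset.univ.filter (fun c : D.C => ¬ 2 ∣ orderOf c),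
          (θ : D.C → ℂ) c * (θ : D.C → ℂ) c = (Nat.card D.C : ℂ) * ((D.k : ℂ) + 1) ∧
      ∃ (y : D.C) (n : ℕ), orderOf y = D.p ^ (n + 1) ∧
        ∀ i : ℕ, (D.p ∣ i → (θ : D.C → ℂ) (y ^ i) = (θ : D.C → ℂ) 1) ∧
          (¬ D.p ∣ i → (θ : D.C → ℂ) (y ^ i) = 0) := by
  classical
  haveI := D.hp
  have hpp := D.hp.out
  obtain ⟨ψ, hψ⟩ := exists_stP (F := ZMod D.p)
  obtain ⟨v1, hval, u, hu, -, hui⟩ := st_cases D.hp2 ψ hψ
  let θ : IrrCharacter D.C :=
    ⟨fun c => (ψ : PG (ZMod D.p) → ℂ) (D.φ c), isIrrCharacter_comp_surjective ψ.2 D.φ D.hφ⟩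
  have hθ : ∀ c, (θ : D.C → ℂ) c = (ψ : PG (ZMod D.p) → ℂ) (D.φ c) := fun _ => rfl
  have hp2 : (2 : ℕ) < D.p := by have := hpp.two_le; have := D.hp2; omega
  have hq3 : 3 ≤ Fintype.card (ZMod D.p) := by rw [ZMod.card]; omega
  have hodd : Odd D.p := hpp.odd_of_ne_two D.hp2
  obtain ⟨e, he⟩ := D.hk
  have hreal : ∀ g, conj ((ψ : PG (ZMod D.p) → ℂ) g) = (ψ : PG (ZMod D.p) → ℂ) g := by
    intro g
    obtain ⟨m, hm, -⟩ := hval g
    rw [hm]; simp
  -- the principal block
  have hblock : θ ∈ principalBlock M D.C := by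
    intro g
    obtain ⟨m, hmodd⟩ := hodd
    have hθ1 : (θ : D.C → ℂ) 1 = (D.p : ℂ) := by rw [hθ, map_one, v1]
    set K := (Subgroup.centralizer ({g} : Set D.C)).index with hK
    have hpne : (D.p : ℂ) ≠ 0 := Nat.cast_ne_zero.mpr hpp.ne_zero
    have hkey : ∃ n : ℤ, (θ : D.C → ℂ) g = n ∧ (2 : ℤ) ∣ (K : ℤ) * ((D.p : ℤ) - n) := by
      obtain ⟨n, hv, hn⟩ := hval (D.φ g)
      refine ⟨n, hv, ?_⟩
      rcases hn with hn | h
      · refine dvd_mul_of_dvd_right ?_ _
        obtain ⟨i, hi⟩ := hn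
        exact ⟨(m : ℤ) - i, by rw [hi]; omega⟩
      · have hK2 : 2 ∣ K := by
          by_contra h2
          haveI := Fact.mk Nat.prime_two
          obtain ⟨P⟩ : Nonempty (Sylow 2 ↥(Subgroup.centralizer ({g} : Set D.C))) := inferInstance
          have hcard : 8 * D.k ∣ Nat.card (P : Subgroup ↥(Subgroup.centralizer ({g} : Set D.C))) := by
            rw [Sylow.card_eq_multiplicity,
              show 8 * D.k = 2 ^ (e + 4) by rw [he]; ring]
            refine pow_dvd_pow 2 ?_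
            have h8 : 2 ^ (e + 4) ∣ Nat.card ↥(Subgroup.centralizer ({g} : Set D.C)) := by
              have h9 : 2 ^ (e + 4) ∣ Nat.card D.C := by
                rw [show 2 ^ (e + 4) = Nat.card ↥(D.S : Subgroup G) by rw [D.hS, he]; ring]
                exact Subgroup.card_dvd_of_le D.hSC
              rw [← (Subgroup.centralizer ({g} : Set D.C)).card_mul_index] at h9
              exact (((Nat.prime_two.coprime_iff_not_dvd.mpr h2)).pow_left _).dvd_of_dvd_mul_right h9
            exact (Nat.Prime.pow_dvd_iff_le_factorization Nat.prime_two Nat.card_pos.ne').mp h8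
          let f : ↥(P : Subgroup ↥(Subgroup.centralizer ({g} : Set D.C))) →*
              ↥(Subgroup.centralizer ({D.φ g} : Set (PG (ZMod D.p)))) :=
            ((D.φ.comp (Subgroup.centralizer ({g} : Set D.C)).subtype).comp
              (P : Subgroup ↥(Subgroup.centralizer ({g} : Set D.C))).subtype).codRestrict _
              (fun x => Subgroup.mem_centralizer_singleton_iff.mpr (by
                have := congrArg D.φ (Subgroup.mem_centralizer_singleton_iff.mp
                  (x : ↥(Subgroup.centralizer ({g} : Set D.C))).2)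
                simpa using this))
          have hf : ∀ x, f x = 1 := by
            intro x
            obtain ⟨i, hi⟩ := IsPGroup.iff_orderOf.mp P.2 x
            refine orderOf_eq_one_iff.mp (Nat.eq_one_of_dvd_coprimes
              (((Nat.prime_two.coprime_iff_not_dvd.mpr fun h' =>
                Nat.not_even_iff_odd.mpr h (even_iff_two_dvd.mpr h'))).pow_left i)
              (hi ▸ orderOf_map_dvd f x) (orderOf_dvd_natCard _))
          have hle : ((P : Subgroup ↥(Subgroup.centralizer ({g} : Set D.C))).map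
              (Subgroup.centralizer ({g} : Set D.C)).subtype) ≤ D.φ.ker := by
            rintro _ ⟨x, hx, rfl⟩
            exact congrArg Subtype.val (hf ⟨x, hx⟩)
          have h10 := Subgroup.card_dvd_of_le hle
          rw [Subgroup.card_map_of_injective (Subgroup.centralizer ({g} : Set D.C)).subtype_injective] at h10
          have h11 := hcard.trans h10
          have hk : Nat.card D.φ.ker = 2 * Nat.card D.O := by
            have h12 := D.φ.ker.card_mul_index
            rw [Subgroup.index_ker, MonoidHom.range_eq_top.mpr D.hφ, Subgroup.card_top, D.card_C] at h12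
            exact Nat.eq_of_mul_eq_mul_right Nat.card_pos h12
          rw [hk, show 8 * D.k = 2 * (4 * D.k) by ring] at h11
          exact Nat.not_even_iff_odd.mpr D.hOodd (even_iff_two_dvd.mpr
            ((Dvd.intro (2 * D.k) (by ring) : 2 ∣ 4 * D.k).trans (Nat.dvd_of_mul_dvd_mul_left two_pos h11)))
        exact dvd_mul_of_dvd_left (Int.natCast_dvd_natCast.mpr hK2) _
    obtain ⟨n, hn, l, hl⟩ := hkey
    refine ⟨⟨((2 * l : ℤ) : ℂ), isIntegral_intCast _⟩,
      ⟨((D.p : ℤ) : ℂ), isIntegral_intCast _⟩, ?_, ?_, ?_⟩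
    · have h2M : ((2 : ℕ) : AlgInt) ∈ M := hM.2.2
      have e : (⟨((2 * l : ℤ) : ℂ), isIntegral_intCast _⟩ : AlgInt) = ((2 : ℕ) : AlgInt) * (l : AlgInt) :=
        Subtype.ext (by push_cast; rfl)
      rw [e]
      exact M.mul_mem_right _ h2M
    · intro hmem
      haveI := hM.2.1
      apply this.ne_top
      rw [Ideal.eq_top_iff_one]
      have h2M : ((2 : ℕ) : AlgInt) ∈ M := hM.2.2
      have e : (1 : AlgInt) = (⟨((D.p : ℤ) : ℂ), isIntegral_intCast _⟩ : AlgInt) -
          ((2 : ℕ) : AlgInt) * (m : AlgInt) := Subtype.ext (by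
          show (1 : ℂ) = ((D.p : ℤ) : ℂ) - ((2 : ℕ) : ℂ) * ((m : ℕ) : ℂ)
          rw [hmodd]; push_cast; ring)
      rw [e]
      exact M.sub_mem hmem (M.mul_mem_right _ h2M)
    · show ((2 * l : ℤ) : ℂ) / ((D.p : ℤ) : ℂ) =
        (K : ℂ) * 1 / 1 - (K : ℂ) * (θ : D.C → ℂ) g / (θ : D.C → ℂ) 1
      rw [hn, hθ1, div_one, mul_one, Int.cast_natCast]
      field_simp
      have := congrArg (fun z : ℤ => (z : ℂ)) hl
      push_cast at this ⊢
      linear_combination -this
  obtain ⟨S1, S2, S3⟩ := odd_sums (F := ZMod D.p) hq3 (by rw [ZMod.card]; exact hodd)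
    (zmod_two_ne D.hp2) ψ hψ
  rw [ZMod.card] at S1 S2 S3
  obtain ⟨c, hc⟩ := D.hk1
  have hcodd : Odd c := by
    rw [← Int.not_even_iff_odd, even_iff_two_dvd]
    rintro ⟨d, rfl⟩
    exact D.hk2 ⟨d, by rw [hc]; ring⟩
  set A : ℕ := ordCompl[2] (D.p - 1) with hA
  set B : ℕ := ordCompl[2] (D.p + 1) with hB
  have hcomp : ∀ (n j m : ℕ), n = 2 ^ j * m → Odd m → ordCompl[2] n = m := by
    intro n j m hn hm
    have h0 : m ≠ 0 := fun e => by rw [e] at hm; exact absurd hm (by decide)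
    have hf : n.factorization 2 = j := by
      rw [hn, Nat.factorization_mul (pow_ne_zero _ two_ne_zero) h0, Finsupp.add_apply,
        Nat.Prime.factorization_pow Nat.prime_two, Finsupp.single_eq_same,
        Nat.factorization_eq_zero_of_not_dvd (fun h =>
          Nat.not_even_iff_odd.mpr hm (even_iff_two_dvd.mpr h)), add_zero]
    show n / 2 ^ n.factorization 2 = m
    rw [hf, hn, Nat.mul_div_cancel_left _ (pow_pos two_pos j)]
  obtain ⟨s, hs, hsq, hAB⟩ : ∃ s : ℤ, (s = 1 ∨ s = -1) ∧ (s : ℂ) * (D.p : ℂ) = (D.q : ℂ) ∧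
      ((s = 1 ∧ (D.p : ℂ) = 2 * (A : ℂ) + 1 ∧ 2 * (D.k : ℂ) * (B : ℂ) = (D.p : ℂ) + 1) ∨
        (s = -1 ∧ 2 * (D.k : ℂ) * (A : ℂ) = (D.p : ℂ) - 1 ∧ (D.p : ℂ) = 2 * (B : ℂ) - 1)) := by
    have hkk : (2 * D.k : ℤ) = ((2 ^ (e + 2) : ℕ) : ℤ) := by rw [he]; push_cast; ring
    rcases D.hq with hq | hq
    · refine ⟨1, Or.inl rfl, by rw [hq]; simp, Or.inl ⟨rfl, ?_, ?_⟩⟩
      · have hA' : A = D.p / 2 := by
          rw [hA]
          refine hcomp _ 1 _ ?_ ?_
          · obtain ⟨m, hm⟩ := hodd; omega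
          · have := D.hq4; rw [hq] at this
            rw [Nat.odd_iff]; omega
        rw [hA']
        obtain ⟨m, hm⟩ := hodd
        rw [show D.p / 2 = m by omega, hm]
        push_cast
        ring
      · rw [hq] at hc
        obtain ⟨c', rfl⟩ : ∃ c' : ℕ, c = c' := ⟨c.toNat, (Int.toNat_of_nonneg (by
          by_contra hneg
          have := D.two_le
          nlinarith)).symm⟩
        have hB' : B = c' := by
          rw [hB]
          refine hcomp _ (e + 2) _ ?_ (Int.odd_coe_nat c' |>.mp hcodd)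
          rw [hkk] at hc
          exact_mod_cast hc
        rw [hB']
        exact_mod_cast hc.symm
    · refine ⟨-1, Or.inr rfl, by rw [hq]; push_cast; ring, Or.inr ⟨rfl, ?_, ?_⟩⟩
      · rw [hq] at hc
        obtain ⟨c', rfl⟩ : ∃ c' : ℕ, c = -(c' : ℤ) := ⟨(-c).toNat, by
          rw [Int.toNat_of_nonneg, neg_neg]
          by_contra hneg
          have := D.two_le
          have := hpp.two_le
          nlinarith⟩
        have hc2 : ((D.p - 1 : ℕ) : ℤ) = ((2 ^ (e + 2) * c' : ℕ) : ℤ) := by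
          rw [Nat.cast_sub hpp.one_le, Nat.cast_mul, ← hkk]
          push_cast
          linarith
        have hA' : A = c' := by
          rw [hA]
          exact hcomp _ (e + 2) _ (by exact_mod_cast hc2)
            (Int.odd_coe_nat c' |>.mp (by simpa using hcodd.neg))
        rw [hA']
        have : (2 * D.k : ℤ) * c' = (D.p : ℤ) - 1 := by linarith
        exact_mod_cast this
      · have hB' : B = D.p / 2 + 1 := by
          rw [hB]
          refine hcomp _ 1 _ ?_ ?_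
          · obtain ⟨m, hm⟩ := hodd; omega
          · have := D.hq4; rw [hq] at this
            rw [Nat.odd_iff]; omega
        rw [hB']
        obtain ⟨m, hm⟩ := hodd
        rw [show D.p / 2 = m by omega, hm]
        push_cast
        ring
  have hC : (Nat.card D.C : ℂ) = 2 * (Nat.card D.O : ℂ) * (((D.p : ℂ) + 1) * D.p * ((D.p : ℂ) - 1)) := by
    rw [D.card_C, card_PG, ZMod.card]
    push_cast [Nat.cast_sub hpp.one_le]
    ring
  refine ⟨θ, s, hs, hblock, fun c => hreal _, by rw [hθ, map_one, v1]; exact hsq, ?_, ?_, ?_, ?_⟩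
  · rw [Finset.card_eq_sum_ones, Nat.cast_sum, Nat.cast_one]
    rw [D.sum_regular (fun _ => (1 : ℂ)), Finset.sum_const, nsmul_eq_mul, mul_one, hC]
    generalize ((Finset.univ.filter fun g : PG (ZMod D.p) => Odd (orderOf g)).card : ℂ) = N at S1 ⊢
    push_cast
    rcases hAB with ⟨-, h1, h2⟩ | ⟨-, h1, h2⟩
    · rw [h1] at S1 h2 ⊢
      linear_combination (4 * (D.k : ℂ) * (Nat.card D.O : ℂ)) * S1 +
        (2 * (Nat.card D.O : ℂ) * (2 * (A : ℂ) + 1) * (2 * (A : ℂ))) * h2
    · rw [h2] at S1 h1 ⊢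
      linear_combination (4 * (D.k : ℂ) * (Nat.card D.O : ℂ)) * S1 +
        (2 * (Nat.card D.O : ℂ) * (2 * (B : ℂ) - 1) * (2 * (B : ℂ))) * h1
  · rw [← Finset.mul_sum]
    simp only [hθ]
    rw [D.sum_regular (fun g => (ψ : PG (ZMod D.p) → ℂ) g), hC]
    generalize (∑ g ∈ Finset.univ.filter (fun g : PG (ZMod D.p) => Odd (orderOf g)),
      (ψ : PG (ZMod D.p) → ℂ) g) = N at S2 ⊢
    push_cast
    rcases hAB with ⟨hs1, h1, h2⟩ | ⟨hs1, h1, h2⟩ <;> subst hs1 <;> push_cast
    · rw [h1] at S2 h2 ⊢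
      linear_combination (4 * (D.k : ℂ) * (Nat.card D.O : ℂ)) * S2 -
        (2 * (Nat.card D.O : ℂ) * (2 * (A : ℂ) + 1) * (2 * (A : ℂ))) * h2
    · rw [h2] at S2 h1 ⊢
      linear_combination (-4 * (D.k : ℂ) * (Nat.card D.O : ℂ)) * S2 -
        (2 * (Nat.card D.O : ℂ) * (2 * (B : ℂ) - 1) * (2 * (B : ℂ))) * h1
  · simp only [hθ]
    rw [D.sum_regular (fun g => (ψ : PG (ZMod D.p) → ℂ) g * (ψ : PG (ZMod D.p) → ℂ) g), hC]
    generalize (∑ g ∈ Finset.univ.filter (fun g : PG (ZMod D.p) => Odd (orderOf g)),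
      (ψ : PG (ZMod D.p) → ℂ) g * (ψ : PG (ZMod D.p) → ℂ) g) = N at S3 ⊢
    push_cast
    rcases hAB with ⟨-, h1, h2⟩ | ⟨-, h1, h2⟩
    · rw [h1] at S3 h2 ⊢
      linear_combination (4 * (D.k : ℂ) * (Nat.card D.O : ℂ)) * S3 +
        (2 * (Nat.card D.O : ℂ) * (2 * (A : ℂ) + 1) * (2 * (A : ℂ))) * h2
    · rw [h2] at S3 h1 ⊢
      linear_combination (4 * (D.k : ℂ) * (Nat.card D.O : ℂ)) * S3 +
        (2 * (Nat.card D.O : ℂ) * (2 * (B : ℂ) - 1) * (2 * (B : ℂ))) * h1
  · obtain ⟨a, ha⟩ := D.hφ u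
    obtain ⟨z, b, hab, -, ⟨j, hj⟩, hb, -, hbg⟩ := exists_pPart hpp a
    have hb1 : D.φ b = 1 := by
      obtain ⟨i, hi⟩ := hbg
      refine orderOf_eq_one_iff.mp (Nat.eq_one_of_dvd_coprimes
        (hpp.coprime_iff_not_dvd.mpr hb).symm (orderOf_map_dvd D.φ b) ?_)
      rw [← hi]
      show orderOf (D.φ (a ^ i)) ∣ D.p
      rw [map_zpow, ha]
      refine dvd_trans ?_ hu.dvd
      exact orderOf_dvd_of_mem_zpowers ⟨i, rfl⟩
    have hz : D.φ z = u := by rw [← ha, ← hab, map_mul, hb1, mul_one]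
    have hj0 : j ≠ 0 := by
      intro h
      rw [h, pow_zero, orderOf_eq_one_iff] at hj
      rw [hj, map_one] at hz
      rw [← hz, orderOf_one] at hu
      exact hpp.one_lt.ne hu
    refine ⟨z, j - 1, by rw [hj]; congr 1; omega, fun i => ⟨fun hi => ?_, fun hi => ?_⟩⟩
    · rw [hθ (z ^ i), hθ 1, map_pow, map_one, hz, orderOf_dvd_iff_pow_eq_one.mp (hu.dvd.trans hi)]
    · rw [hθ, map_pow, hz]
      exact hui i hi

end SDat

end CfsgLib.AlmostCyclic
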