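import Cfsg.Agent.Lib.AlmostCyclic.PGLSums
import Cfsg.Agent.Lib.PSL2.Aut
import Cfsg.Agent.Lib.SLCard

/-!
# From a normal `SL₂(p)` to the projective group
-/

set_option autoImplicit false
set_option linter.style.haveILetI false
set_option linter.unusedSectionVars false

namespace CfsgLib.AlmostCyclic

open Matrix Subgroup CfsgLib.GL2Char

universe u

variable {p : ℕ} [Fact p.Prime]

local notation "SLp" => Matrix.SpecialLinearGroup (Fin 2) (ZMod p)
local notation "PSLp" => Matrix.ProjectiveSpecialLinearGroup (Fin 2) (ZMod p)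

theorem zmod_two_ne (hp : p ≠ 2) : (2 : ZMod p) ≠ 0 := by
  intro h
  have h' : ((2 : ℕ) : ZMod p) = 0 := by exact_mod_cast h
  rw [ZMod.natCast_eq_zero_iff] at h'
  exact hp ((Nat.prime_dvd_prime_iff_eq Fact.out Nat.prime_two).mp h')

/-- Homomorphisms from `SL₂` to groups of exponent two are trivial. -/
theorem sl_hom_trivial (hp : p ≠ 2) {A : Type*} [Group A] (f : SLp →* A) (hA : ∀ a : A, a * a = 1)
    (x : SLp) : f x = 1 := by
  have h2 := zmod_two_ne (p := p) hp
  have hu : ∀ t, f (PSL2.uSL t) = 1 := fun t => by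
    have e : PSL2.uSL t = PSL2.uSL (t / 2) * PSL2.uSL (t / 2) := by
      refine Subtype.ext ?_
      show (PSL2.uSL t).1 = (PSL2.uSL (t / 2)).1 * (PSL2.uSL (t / 2)).1
      rw [PSL2.coe_uSL, PSL2.coe_uSL]
      ext i j
      fin_cases i <;> fin_cases j <;> simp [Matrix.mul_apply, Fin.sum_univ_two]
      field_simp
      ring
    rw [e, map_mul, hA]
  have hv : ∀ t, f (PSL2.vSL t) = 1 := fun t => by
    have e : PSL2.vSL t = PSL2.vSL (t / 2) * PSL2.vSL (t / 2) := by
      refine Subtype.ext ?_
      show (PSL2.vSL t).1 = (PSL2.vSL (t / 2)).1 * (PSL2.vSL (t / 2)).1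
      rw [PSL2.coe_vSL, PSL2.coe_vSL]
      ext i j
      fin_cases i <;> fin_cases j <;> simp [Matrix.mul_apply, Fin.sum_univ_two]
      field_simp
      ring
    rw [e, map_mul, hA]
  have hc : ∀ A : SLp, A.1 1 0 ≠ 0 → f A = 1 := by
    intro A hA'
    have e : A = PSL2.uSL ((A.1 0 0 - 1) / A.1 1 0) * PSL2.vSL (A.1 1 0) *
        PSL2.uSL ((A.1 1 1 - 1) / A.1 1 0) := by
      apply Subtype.ext
      have hdet := A.2
      rw [Matrix.det_fin_two] at hdet
      show A.1 = (PSL2.uSL ((A.1 0 0 - 1) / A.1 1 0)).1 * (PSL2.vSL (A.1 1 0)).1 *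
        (PSL2.uSL ((A.1 1 1 - 1) / A.1 1 0)).1
      rw [PSL2.coe_uSL, PSL2.coe_vSL, PSL2.coe_uSL]
      ext i j
      fin_cases i <;> fin_cases j <;> simp [Matrix.mul_apply, Fin.sum_univ_two] <;>
        field_simp <;> first | ring1 | linear_combination (-1 : ZMod p) * hdet
    rw [e, map_mul, map_mul, hu, hv, hu, one_mul, one_mul]
  by_cases hx : x.1 1 0 = 0
  · have h' := hc (PSL2.vSL 1 * x) (by
      have hdet := x.2
      rw [Matrix.det_fin_two, hx, mul_zero, sub_zero] at hdet
      simp [PSL2.coe_vSL, Matrix.mul_apply, Fin.sum_univ_two, hx]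
      exact fun h => by simp [h] at hdet)
    rw [map_mul, hv, one_mul] at h'
    exact h'
  · exact hc x hx

theorem card_center_SLp (hp : p ≠ 2) : Nat.card (Subgroup.center SLp) = 2 := by
  rw [SLCard.card_SL_center (by norm_num), ZMod.card]
  obtain ⟨m, hm⟩ := (Fact.out : p.Prime).odd_of_ne_two hp
  rw [hm, Nat.add_sub_cancel, Nat.gcd_mul_right_right]

/-- The automorphism group of `PSL₂(p)` is `PG`. -/
theorem exists_autEquiv : Nonempty (PG (ZMod p) ≃* MulAut PSLp) := by
  have hkill : Subgroup.center (GL (Fin 2) (ZMod p)) ≤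
      (PSL2.diagAut (F := ZMod p)).ker := by
    intro g hg
    rw [MonoidHom.mem_ker]
    refine MulEquiv.ext fun x => QuotientGroup.induction_on x fun A => ?_
    show PSL2.diagAut g (PSL2.mk A) = PSL2.mk A
    rw [PSL2.diagAut_apply]
    refine congrArg PSL2.mk (Subtype.ext ?_)
    rw [PSL2.coe_conjSL]
    obtain ⟨a, rfl⟩ := mem_center_bor.mp hg
    obtain ⟨r, hr⟩ := Matrix.GeneralLinearGroup.mem_center_iff_val_mem_range_scalar.mp hg
    rw [← hr, (Matrix.scalar_commute r (fun r' => Commute.all r r') A.1).eq, mul_assoc, hr,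
      ← Units.val_mul, mul_inv_cancel, Units.val_one, mul_one]
  refine ⟨MulEquiv.ofBijective (QuotientGroup.lift _ PSL2.diagAut hkill) ⟨?_, fun φ => ?_⟩⟩
  · rw [injective_iff_map_eq_one]
    intro x
    induction x using QuotientGroup.induction_on with
    | H g =>
      intro hg
      rw [QuotientGroup.eq_one_iff]
      obtain ⟨-, r, hr⟩ := PSL2.scalar_of_fix g (RingEquiv.refl (ZMod p)) (by
        rw [show PSL2.diagAut g = 1 from hg]
        refine MulEquiv.ext fun x => QuotientGroup.induction_on x fun A => ?_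
        show PSL2.mk A = PSL2.fieldAut (RingEquiv.refl (ZMod p)) (PSL2.mk A)
        rw [PSL2.fieldAut_apply]
        exact congrArg PSL2.mk (Subtype.ext (by ext i j; rfl)))
      exact Matrix.GeneralLinearGroup.mem_center_iff_val_mem_range_scalar.mpr ⟨r, hr.symm⟩
  · obtain ⟨g, e, rfl⟩ := PSL2.exists_diag_field p φ
    refine ⟨(g : PG (ZMod p)), ?_⟩
    have he : e = RingEquiv.refl (ZMod p) := RingEquiv.ext fun x => by
      have : (e : ZMod p →+* ZMod p) = RingHom.id _ := Subsingleton.elim _ _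
      exact congrArg (fun f : ZMod p →+* ZMod p => f x) this
    subst he
    show PSL2.diagAut g = _
    refine MulEquiv.ext fun x => QuotientGroup.induction_on x fun A => ?_
    show PSL2.diagAut g (PSL2.mk A) = PSL2.diagAut g (PSL2.fieldAut (RingEquiv.refl (ZMod p)) (PSL2.mk A))
    rw [PSL2.fieldAut_apply]
    exact congrArg (fun z => PSL2.diagAut g (PSL2.mk z)) (Subtype.ext (by ext i j; rfl))

variable {H : Type u} [Group H] [Finite H]

/-- A group with a normal `SL₂(p)` whose centraliser is the central involution maps onto `PG`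
if its two-part is larger. -/
theorem exists_to_PG (hp : p ≠ 2) (L : Subgroup H) [L.Normal] (e : ↥L ≃* SLp) {t : H}
    (hker : ∀ a : H, (∀ l ∈ L, a * l = l * a) → a = 1 ∨ a = t)
    (htc : ∀ l ∈ L, t * l = l * t) (htL : t ∈ L) (ht : t ≠ 1)
    {T : Subgroup H} (hT : IsPGroup 2 ↥T) (hbig : ¬ Nat.card ↥T ∣ Nat.card SLp) :
    ∃ ψ : H →* PG (ZMod p), Function.Surjective ψ ∧ ∀ a, ψ a = 1 ↔ a = 1 ∨ a = t := by
  obtain ⟨Θ⟩ := exists_autEquiv (p := p)
  let Ψ : H →* MulAut PSLp :=
    (PSL2.centreQuotAut SLp).comp ((MulAut.congr e).toMonoidHom.comp (MulAut.conjNormal (H := L)))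
  have hΨ : ∀ a (l : SLp), Ψ a (PSL2.mk l) = PSL2.mk (e (MulAut.conjNormal a (e.symm l))) :=
    fun a l => rfl
  have hcard2 := card_center_SLp (p := p) hp
  have hkerΨ : ∀ a, Ψ a = 1 ↔ a = 1 ∨ a = t := by
    intro a
    constructor
    · intro ha
      refine hker a fun l hl => ?_
      have hmk : ∀ x : SLp, e (MulAut.conjNormal a (e.symm x)) * x⁻¹ ∈ Subgroup.center SLp := by
        intro x
        have h1 := hΨ a x
        rw [ha, MulAut.one_apply] at h1
        have h2 := (QuotientGroup.eq (s := Subgroup.center SLp)).mp h1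
        have h3 := (inferInstance : (Subgroup.center SLp).Normal).conj_mem _ h2 x
        rwa [mul_inv_cancel_left] at h3
      have hsq : ∀ z : Subgroup.center SLp, z * z = 1 := fun z => by
        have h7 : z ^ Nat.card (Subgroup.center SLp) = 1 := pow_card_eq_one'
        rwa [hcard2, pow_two] at h7
      let f : SLp →* Subgroup.center SLp :=
        { toFun := fun x => ⟨e (MulAut.conjNormal a (e.symm x)) * x⁻¹, hmk x⟩
          map_one' := Subtype.ext (by simp)
          map_mul' := fun x y => Subtype.ext (by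
            have hz := Subgroup.mem_center_iff.mp (hmk y) x⁻¹
            simp only [map_mul, _root_.mul_inv_rev, Subgroup.coe_mul]
            rw [mul_assoc (e (MulAut.conjNormal a (e.symm x))),
              mul_assoc (e (MulAut.conjNormal a (e.symm x))) x⁻¹, hz, mul_assoc]) }
      have h4 := congrArg Subtype.val (sl_hom_trivial hp f hsq (e ⟨l, hl⟩))
      have h5 : MulAut.conjNormal a (⟨l, hl⟩ : L) = ⟨l, hl⟩ := by
        apply e.injective
        have h6 : e (MulAut.conjNormal a (e.symm (e ⟨l, hl⟩))) * (e ⟨l, hl⟩)⁻¹ = 1 := h4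
        rwa [mul_inv_eq_one, MulEquiv.symm_apply_apply] at h6
      exact mul_inv_eq_iff_eq_mul.mp (congrArg Subtype.val h5)
    · rintro (rfl | rfl)
      · exact map_one _
      · refine MulEquiv.ext fun x => QuotientGroup.induction_on x fun l => ?_
        show Ψ a (PSL2.mk l) = PSL2.mk l
        rw [hΨ]
        refine congrArg PSL2.mk ?_
        rw [show MulAut.conjNormal a (e.symm l) = e.symm l from Subtype.ext (by
          rw [MulAut.conjNormal_apply, htc _ (e.symm l).2, mul_inv_cancel_right]),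
          MulEquiv.apply_symm_apply]
  let ψ : H →* PG (ZMod p) := Θ.symm.toMonoidHom.comp Ψ
  have hψ : ∀ a, ψ a = 1 ↔ a = 1 ∨ a = t := fun a => by
    rw [← hkerΨ a]
    exact EmbeddingLike.map_eq_one_iff (f := Θ.symm)
  refine ⟨ψ, ?_, hψ⟩
  have htt : t * t = 1 := by
    have := (hψ (t * t)).mp (by rw [map_mul, (hψ t).mpr (Or.inr rfl), mul_one])
    rcases this with h | h
    · exact h
    · exact absurd (mul_right_cancel (h.trans (one_mul t).symm)) ht
  have hker2 : Nat.card ψ.ker = 2 := by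
    rw [Nat.card_eq_two_iff]
    refine ⟨1, ⟨t, (hψ t).mpr (Or.inr rfl)⟩, fun h => ht (congrArg Subtype.val h).symm, ?_⟩
    refine Set.eq_univ_of_forall fun a => ?_
    rcases (hψ a).mp a.2 with h | h
    · exact Or.inl (Subtype.ext h)
    · exact Or.inr (Subtype.ext h)
  have himg : ∀ U : Subgroup H, t ∈ U → Nat.card (U.map ψ) * 2 = Nat.card U := by
    intro U htU
    have h1 := Subgroup.card_eq_card_quotient_mul_card_subgroup (ψ.subgroupMap U).ker
    rw [Nat.card_congr (QuotientGroup.quotientKerEquivOfSurjective _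
      (ψ.subgroupMap_surjective U)).toEquiv] at h1
    rw [h1]
    congr 1
    refine hker2.symm.trans (Nat.card_congr (Equiv.symm
      { toFun := fun z => ⟨((z : U) : H), congrArg Subtype.val z.2⟩
        invFun := fun w => ⟨⟨(w : H), ?_⟩, Subtype.ext w.2⟩
        left_inv := fun _ => rfl
        right_inv := fun _ => rfl }))
    rcases (hψ w).mp w.2 with h | h <;> rw [h]
    · exact one_mem _
    · exact htU
  have hL := himg L htL
  rw [Nat.card_congr e.toEquiv] at hL
  have hsl : Nat.card SLp = Nat.card (PG (ZMod p)) := by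
    rw [SLCard.card_SL_two, card_PG, ZMod.card, show p ^ 2 - 1 = (p + 1) * (p - 1) by
      rw [← Nat.sq_sub_sq, one_pow]]
    ring
  rw [← MonoidHom.range_eq_top]
  apply Subgroup.eq_top_of_card_eq
  have hdvd : Nat.card (L.map ψ) ∣ Nat.card ψ.range :=
    Subgroup.card_dvd_of_le (Subgroup.map_le_range ψ L)
  obtain ⟨m, hm⟩ := Subgroup.card_subgroup_dvd_card ψ.range
  obtain ⟨n, hn⟩ := hdvd
  have hmn : n * m = 2 := by
    have h0 : 0 < Nat.card (L.map ψ) := Nat.card_pos
    refine Nat.eq_of_mul_eq_mul_left h0 ?_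
    rw [← mul_assoc, ← hn, ← hm, ← hsl, hL]
  rcases (Nat.dvd_prime Nat.prime_two).mp (Dvd.intro m hmn) with h | h
  · exfalso
    subst h
    have hT' : IsPGroup 2 ↥(T ⊔ Subgroup.zpowers t) := by
      refine IsPGroup.to_sup_of_normal_right' hT
        (IsPGroup.of_card (n := 1) (by
          rw [Nat.card_zpowers, orderOf_eq_prime (by rw [pow_two, htt]) ht, pow_one])) ?_
      intro a _
      rw [Subgroup.mem_normalizer_iff]
      intro x
      have hat : a * t * a⁻¹ = t := by
        rcases (hψ (a * t * a⁻¹)).mp (by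
          rw [map_mul, map_mul, (hψ t).mpr (Or.inr rfl), mul_one, map_inv, mul_inv_cancel]) with h | h
        · exact absurd (conj_eq_one_iff.mp h) ht
        · exact h
      constructor
      · rintro ⟨i, rfl⟩
        exact ⟨i, by show t ^ i = a * t ^ i * a⁻¹; rw [← conj_zpow, hat]⟩
      · rintro ⟨i, hi⟩
        refine ⟨i, ?_⟩
        have hi' : t ^ i = a * x * a⁻¹ := hi
        show t ^ i = x
        have h2 : a * t ^ i * a⁻¹ = a * x * a⁻¹ := by rw [← conj_zpow, hat, hi']
        exact mul_left_cancel (mul_right_cancel h2)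
    refine hbig ((Subgroup.card_dvd_of_le (le_sup_left : T ≤ T ⊔ Subgroup.zpowers t)).trans ?_)
    rw [← himg _ (Subgroup.mem_sup_right (Subgroup.mem_zpowers t)), ← hL]
    refine Nat.mul_dvd_mul_right ?_ 2
    have h1 : Nat.card ((T ⊔ Subgroup.zpowers t).map ψ) ∣ Nat.card ψ.range :=
      Subgroup.card_dvd_of_le (Subgroup.map_le_range ψ _)
    rwa [hn, mul_one] at h1
  · subst h
    rw [hm, show m = 1 by omega, mul_one]

end CfsgLib.AlmostCyclic
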