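import Cfsg.Agent.Lib.AlmostCyclic.Basic
import Cfsg.Agent.Lib.AlmostCyclic.ToPGL

/-!
# The structure asserted for nonsolvable groups with almost cyclic Sylow subgroups
-/

set_option autoImplicit false
set_option linter.style.haveILetI false
set_option linter.unusedSectionVars false

namespace CfsgLib.AlmostCyclic

open Subgroup Cfsg

universe u

/-- Almost a direct product of an odd metacyclic group and `PSL₂(p)` or `SL₂(p)`. -/
def Str (G : Type u) [Group G] : Prop :=
  ∃ G₀ : Subgroup G, G₀.Normal ∧ G₀.index ∣ 2 ∧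
    ∃ X L : Subgroup ↥G₀, X.Normal ∧ L.Normal ∧ X ⊓ L = ⊥ ∧ X ⊔ L = ⊤ ∧
      (Nat.card X).Coprime (Nat.card L) ∧ Odd (Nat.card X) ∧
      (∃ (C : Subgroup ↥X) (_ : C.Normal), IsCyclic C ∧ IsCyclic (↥X ⧸ C)) ∧
      ∃ (p : ℕ) (_ : Fact p.Prime), 5 ≤ p ∧
        (Nonempty (↥L ≃* Matrix.ProjectiveSpecialLinearGroup (Fin 2) (ZMod p)) ∨
         Nonempty (↥L ≃* Matrix.SpecialLinearGroup (Fin 2) (ZMod p)))

/-- The hypothesis of the strong induction. -/
def Ind (G : Type u) [Group G] : Prop :=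
  ∀ H : Subgroup G, H ≠ ⊤ → ¬ Group.IsSolvable ↥H → Str ↥H

/-- Elements of order prime to `|A|` in a product `A·B` of commuting coprime groups lie in `B`. -/
theorem mem_of_pow_card {G : Type u} [Group G] [Finite G] {A B : Subgroup G}
    (hc : ∀ a ∈ A, ∀ b ∈ B, a * b = b * a) (hcop : (Nat.card A).Coprime (Nat.card B))
    {g : G} (hg : g ∈ A ⊔ B) (h : g ^ Nat.card B = 1) : g ∈ B := by
  have hAB : A ≤ Subgroup.normalizer (B : Set G) := fun a ha => by
    refine Subgroup.centralizer_le_normalizer _ ?_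
    intro b hb
    exact (hc a ha b hb).symm
  rw [← SetLike.mem_coe, Subgroup.coe_mul_of_left_le_normalizer_right A B hAB] at hg
  obtain ⟨a, ha, b, hb, rfl⟩ := hg
  have h1 : b ^ Nat.card B = 1 := by
    have : (⟨b, hb⟩ : B) ^ Nat.card B = 1 := pow_card_eq_one'
    exact congrArg Subtype.val this
  rw [(show Commute a b from hc a ha b hb).mul_pow, h1, mul_one] at h
  have h2 : a ^ Nat.card A = 1 := by
    have : (⟨a, ha⟩ : A) ^ Nat.card A = 1 := pow_card_eq_one'
    exact congrArg Subtype.val this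
  have h3 : a = 1 := orderOf_eq_one_iff.mp (Nat.eq_one_of_dvd_coprimes hcop
    (orderOf_dvd_of_pow_eq_one h2) (orderOf_dvd_of_pow_eq_one h))
  show a * b ∈ B
  rw [h3, one_mul]
  exact hb

/-- The structure read inside the whole group. -/
structure Dec (G : Type u) [Group G] where
  X : Subgroup G
  L : Subgroup G
  p : ℕ
  hp : p.Prime
  hp5 : 5 ≤ p
  hX : X.Normal
  hL : L.Normal
  hidx : (X ⊔ L).index ∣ 2
  hcomm : ∀ x ∈ X, ∀ l ∈ L, x * l = l * x
  hcop : (Nat.card X).Coprime (Nat.card L)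
  hodd : Odd (Nat.card X)
  hcard : Nat.card ↥(X ⊔ L) = Nat.card X * Nat.card L
  iso : haveI := Fact.mk hp
    Nonempty (↥L ≃* Matrix.ProjectiveSpecialLinearGroup (Fin 2) (ZMod p)) ∨
      Nonempty (↥L ≃* Matrix.SpecialLinearGroup (Fin 2) (ZMod p))

theorem Str.dec {G : Type u} [Group G] [Finite G] (h : Str G) : Nonempty (Dec G) := by
  obtain ⟨G₀, hG₀, hidx, X, L, hX, hL, hinf, hsup, hcop, hodd, -, p, hp, hp5, hiso⟩ := h
  have hsup' : X.map G₀.subtype ⊔ L.map G₀.subtype = G₀ := by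
    rw [← Subgroup.map_sup, hsup, ← MonoidHom.range_eq_map, Subgroup.range_subtype]
  have hdis : Disjoint X L := disjoint_iff.mpr hinf
  have hcomm : ∀ x ∈ X.map G₀.subtype, ∀ l ∈ L.map G₀.subtype, x * l = l * x := by
    rintro _ ⟨x, hx, rfl⟩ _ ⟨l, hl, rfl⟩
    exact congrArg Subtype.val (Subgroup.commute_of_normal_of_disjoint X L hX hL hdis x l hx hl).eq
  have hcX : Nat.card (X.map G₀.subtype) = Nat.card X :=
    Subgroup.card_map_of_injective G₀.subtype_injective
  have hcL : Nat.card (L.map G₀.subtype) = Nat.card L :=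
    Subgroup.card_map_of_injective G₀.subtype_injective
  have hconj : ∀ (A B : Subgroup G), A ⊔ B = G₀ → (∀ a ∈ A, ∀ b ∈ B, a * b = b * a) →
      (Nat.card A).Coprime (Nat.card B) → B.Normal := by
    intro A B hAB hc hco
    refine ⟨fun b hb g => mem_of_pow_card hc hco ?_ ?_⟩
    · rw [hAB]
      exact hG₀.conj_mem _ (hAB ▸ Subgroup.mem_sup_right hb) g
    · have : (⟨b, hb⟩ : B) ^ Nat.card B = 1 := pow_card_eq_one'
      rw [conj_pow, show b ^ Nat.card B = 1 from congrArg Subtype.val this, mul_one, mul_inv_cancel]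
  refine ⟨⟨X.map G₀.subtype, L.map G₀.subtype, p, hp.out, hp5, ?_, ?_, ?_, hcomm, ?_, ?_, ?_, ?_⟩⟩
  · exact hconj (L.map G₀.subtype) _ (by rw [sup_comm, hsup']) (fun a ha b hb => (hcomm b hb a ha).symm)
      (by rw [hcX, hcL]; exact hcop.symm)
  · exact hconj (X.map G₀.subtype) _ hsup' hcomm (by rw [hcX, hcL]; exact hcop)
  · rw [hsup']; exact hidx
  · rw [hcX, hcL]; exact hcop
  · rw [hcX]; exact hodd
  · rw [hsup', hcX, hcL]
    haveI := hX
    exact (Subgroup.IsComplement'.card_mul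
      (Subgroup.isComplement'_of_disjoint_and_mul_eq_univ hdis (by
        rw [← Subgroup.normal_mul, hsup, Subgroup.coe_top]))).symm
  · rcases hiso with he | he <;> obtain ⟨e⟩ := he
    · exact Or.inl ⟨(L.equivMapOfInjective _ G₀.subtype_injective).symm.trans e⟩
    · exact Or.inr ⟨(L.equivMapOfInjective _ G₀.subtype_injective).symm.trans e⟩

end CfsgLib.AlmostCyclic
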